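import Mathlib
import Cfsg.Agent.Lib.Helper6.UniDefs
import Cfsg.Agent.Lib.Lead.ChevBruhat2
import Cfsg.Agent.Lib.Lead.ChevUw

/-!
# S2314 farm-out, piece UNI-WNEG (helper26): a word making all fundamental roots of `J` negative makes
all positive roots of `Φ_J` negative (linearity of words on the coroot coordinates).
-/

set_option autoImplicit false
set_option linter.unusedSectionVars false
set_option linter.unusedVariables false

namespace Cfsg.Agent.Helper6.Uni

open Cfsg Cfsg.Lie Cfsg.Agent.Lead.Chev

variable {F : Type*} [Field F] {D : ChevalleyDatum} (hF : ChevFacts D F)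

include hF

/-- PIECE UNI-WNEG: then all positive roots of `Φ_J` become negative (linearity `cv_reflWord`). -/
theorem reflWord_neg_of_inRootSub (hS : CorSize D) (J : Set ℕ) (w : List ℕ) (hw : ∀ i ∈ w, i < D.rank)
    (hneg : ∀ j ∈ J, j < D.rank → D.IsNegRoot (reflWord D w (D.simple j)))
    (r : ℕ) (hr : D.IsPosRoot r) (hrJ : D.InRootSub J r) : D.IsNegRoot (reflWord D w r) := by
  have hrlt : r < D.nroots := hrJ.1
  have hlt : reflWord D w r < D.nroots :=
    reflWord_lt D (etaOf D) (fun i hi => hF.facts i hi) w hw r hrlt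
  apply isNegRoot_of_cv D hS _ hlt
  intro k hk
  rw [cv_reflWord D (etaOf D) (fun i hi => hF.facts i hi) hF.refl (fun i hi => hF.simple_lt i hi)
    w hw r hrlt k hk]
  apply Finset.sum_nonpos
  intro j hj
  have hjr : j < D.rank := Finset.mem_range.mp hj
  by_cases hjJ : j ∈ J
  · have h1 : 0 ≤ cv D r j := cv_nonneg D r hr j
    have h2 : cv D (reflWord D w (D.simple j)) k ≤ 0 := cv_nonpos D _ (hneg j hjJ hjr) k
    exact mul_nonpos_of_nonneg_of_nonpos h1 h2
  · have h0 : cv D r j = 0 := hrJ.2 j hjr hjJ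
    rw [h0, zero_mul]

end Cfsg.Agent.Helper6.Uni
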