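import Mathlib
import Cfsg.Agent.Lib.Helper5.TLDefs

set_option autoImplicit false

/-!
# Piece R of S4441: Reiner splitting of a `ℤ_p[C_p]`-lattice
-/

namespace Cfsg.Agent.Helper26.TLR

open scoped Padic
open Polynomial

variable (p : ℕ) [hp : Fact p.Prime]

theorem C_dvd_of_map_eq_zero (f : ℤ[X]) (h1 : f.map (Int.castRingHom (ZMod p)) = 0) :
    C (p : ℤ) ∣ f := by
  rw [C_dvd_iff_dvd_coeff]
  intro i
  rw [← ZMod.intCast_zmod_eq_zero_iff_dvd]
  have h2 := congrArg (fun f => f.coeff i) h1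
  simp only [coeff_map, coeff_zero, eq_intCast] at h2
  exact h2

/-- `(T - 1)^p = T^p - 1 + p h` in `ℤ[T]`. -/
theorem poly_pow_p : ∃ h : ℤ[X], (X - 1 : ℤ[X]) ^ p = X ^ p - 1 + C (p : ℤ) * h := by
  have key : C (p : ℤ) ∣ (X - 1 : ℤ[X]) ^ p - (X ^ p - 1) := by
    apply C_dvd_of_map_eq_zero
    simp only [Polynomial.map_sub, Polynomial.map_pow, Polynomial.map_X, Polynomial.map_one]
    rw [sub_pow_char, one_pow, sub_self]
  obtain ⟨h, hh⟩ := key
  exact ⟨h, by rw [← hh]; ring⟩

/-- `(T - 1)^(p-1) = Σ_{i<p} T^i + p h` in `ℤ[T]`. -/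
theorem poly_pow_pred : ∃ h : ℤ[X],
    (X - 1 : ℤ[X]) ^ (p - 1) = (∑ i ∈ Finset.range p, X ^ i) + C (p : ℤ) * h := by
  have key : C (p : ℤ) ∣ (X - 1 : ℤ[X]) ^ (p - 1) - (∑ i ∈ Finset.range p, X ^ i) := by
    apply C_dvd_of_map_eq_zero
    have hc := cyclotomic_mul_prime_eq_pow_of_not_dvd (ZMod p) (p := p) (n := 1)
      (by rw [Nat.dvd_one]; exact (Nat.Prime.one_lt hp.out).ne')
    rw [one_mul, cyclotomic_one, cyclotomic_prime] at hc
    simp only [Polynomial.map_sub, Polynomial.map_pow, Polynomial.map_X, Polynomial.map_one,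
      Polynomial.map_sum]
    rw [hc, sub_self]
  obtain ⟨h, hh⟩ := key
  exact ⟨h, by rw [← hh]; ring⟩


section Ops

variable {p}
variable {L : Type*} [AddCommGroup L] [Module ℤ_[p] L]

theorem aeval_C_mul_apply (X : Module.End ℤ_[p] L) (h : ℤ[X]) (u : L) :
    (aeval X (C (p : ℤ) * h)) u = (p : ℤ_[p]) • (aeval X h) u := by
  rw [map_mul, aeval_C, Module.End.mul_apply]
  simp only [eq_intCast, Int.cast_natCast]
  rw [Module.End.natCast_apply]
  exact Eq.symm (Nat.cast_smul_eq_nsmul ℤ_[p] p _)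

/-- `(X - 1)^p u ∈ p L` when `X^p = 1`. -/
theorem N_pow_p (X : Module.End ℤ_[p] L) (hX : X ^ p = 1) (u : L) :
    ∃ w : L, ((X - 1) ^ p) u = (p : ℤ_[p]) • w := by
  obtain ⟨h, hh⟩ := poly_pow_p p
  have h1 := congrArg (fun f => (aeval X f) u) hh
  simp only [map_pow, map_sub, aeval_X, map_one, map_add, LinearMap.add_apply,
    LinearMap.sub_apply] at h1
  rw [aeval_C_mul_apply, hX] at h1
  refine ⟨(aeval X h) u, ?_⟩
  rw [h1]; simp

/-- `(X - 1)^(p-1) u ≡ σ u mod p L`. -/
theorem N_pow_pred (X : Module.End ℤ_[p] L) (u : L) :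
    ∃ w : L, ((X - 1) ^ (p - 1)) u = Cfsg.Agent.Helper5.TL.sig p X u + (p : ℤ_[p]) • w := by
  obtain ⟨h, hh⟩ := poly_pow_pred p
  have h1 := congrArg (fun f => (aeval X f) u) hh
  simp only [map_pow, map_sub, aeval_X, map_one, map_add, LinearMap.add_apply, map_sum] at h1
  rw [aeval_C_mul_apply] at h1
  exact ⟨(aeval X h) u, by rw [h1]; rfl⟩

end Ops


section ModP

variable {p}
variable {L : Type*} [AddCommGroup L] [Module ℤ_[p] L]

/-- `u ∈ p L`. -/
def InP (u : L) : Prop := ∃ w : L, u = (p : ℤ_[p]) • w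

theorem InP.zero : InP (p := p) (0 : L) := ⟨0, by simp⟩

theorem InP.add {u u' : L} (h : InP (p := p) u) (h' : InP (p := p) u') : InP (p := p) (u + u') := by
  obtain ⟨w, rfl⟩ := h; obtain ⟨w', rfl⟩ := h'
  exact ⟨w + w', by rw [smul_add]⟩

theorem InP.sub {u u' : L} (h : InP (p := p) u) (h' : InP (p := p) u') : InP (p := p) (u - u') := by
  obtain ⟨w, rfl⟩ := h; obtain ⟨w', rfl⟩ := h'
  exact ⟨w - w', by rw [smul_sub]⟩

theorem InP.smul {u : L} (h : InP (p := p) u) (c : ℤ_[p]) : InP (p := p) (c • u) := by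
  obtain ⟨w, rfl⟩ := h
  exact ⟨c • w, by rw [smul_comm]⟩

theorem InP.map {u : L} (h : InP (p := p) u) (A : Module.End ℤ_[p] L) : InP (p := p) (A u) := by
  obtain ⟨w, rfl⟩ := h
  exact ⟨A w, by rw [map_smul]⟩

theorem InP.sum {ι : Type*} (s : Finset ι) (f : ι → L) (h : ∀ i ∈ s, InP (p := p) (f i)) :
    InP (p := p) (∑ i ∈ s, f i) := by
  classical
  induction s using Finset.induction_on with
  | empty => simpa using InP.zero
  | insert a s ha ih =>
    rw [Finset.sum_insert ha]
    exact (h a (Finset.mem_insert_self a s)).add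
      (ih fun i hi => h i (Finset.mem_insert_of_mem hi))

theorem InP.of_dvd {c : ℤ_[p]} (hc : (p : ℤ_[p]) ∣ c) (u : L) : InP (p := p) (c • u) := by
  obtain ⟨c', rfl⟩ := hc
  exact ⟨c' • u, by rw [mul_smul]⟩

theorem isUnit_of_not_dvd {c : ℤ_[p]} (hc : ¬ (p : ℤ_[p]) ∣ c) : IsUnit c := by
  rw [PadicInt.isUnit_iff]
  rw [← PadicInt.norm_lt_one_iff_dvd] at hc
  exact le_antisymm (PadicInt.norm_le_one c) (not_lt.mp hc)

/-- the filtration argument: a relation mod `p` among `v, N v, …, N^(p-1) v` has all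
coefficients divisible by `p`, if `N^p ≡ 0` and `N^(p-1) v ≢ 0` mod `p`. -/
theorem dvd_of_relation (N : Module.End ℤ_[p] L) (hN : ∀ u, InP (p := p) ((N ^ p) u))
    (v : L) (hv : ¬ InP (p := p) ((N ^ (p - 1)) v)) (g : Fin p → ℤ_[p])
    (hg : InP (p := p) (∑ i : Fin p, g i • (N ^ (i : ℕ)) v)) :
    ∀ i : Fin p, (p : ℤ_[p]) ∣ g i := by
  have key : ∀ n : ℕ, ∀ i : Fin p, (i : ℕ) = n → (p : ℤ_[p]) ∣ g i := by
    intro n
    induction n using Nat.strong_induction_on with
    | _ n ih =>
      intro i hi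
      by_contra hnd
      have hu := isUnit_of_not_dvd hnd
      -- apply N^(p-1-i)
      have h1 := hg.map (N ^ (p - 1 - (i : ℕ)))
      rw [map_sum] at h1
      rw [← Finset.add_sum_erase Finset.univ _ (Finset.mem_univ i)] at h1
      have h2 : InP (p := p) (∑ j ∈ Finset.univ.erase i,
          (N ^ (p - 1 - (i : ℕ))) (g j • (N ^ (j : ℕ)) v)) := by
        apply InP.sum
        intro j hj
        have hji : j ≠ i := Finset.ne_of_mem_erase hj
        rw [map_smul]
        rcases lt_or_gt_of_ne (fun h => hji (Fin.ext h) : (j : ℕ) ≠ (i : ℕ)) with hlt | hgt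
        · exact InP.of_dvd (ih j (hi ▸ hlt) j rfl) _
        · apply InP.smul
          have hexp : p - 1 - (i : ℕ) + (j : ℕ) = ((j : ℕ) - (i : ℕ) - 1) + p := by
            have := i.isLt; have := j.isLt; omega
          rw [← Module.End.mul_apply, ← pow_add, hexp, pow_add, Module.End.mul_apply]
          exact (hN v).map _
      have h3 : InP (p := p) ((N ^ (p - 1 - (i : ℕ))) (g i • (N ^ (i : ℕ)) v)) := by
        have := h1.sub h2
        simpa using this
      rw [map_smul, ← Module.End.mul_apply, ← pow_add] at h3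
      have hexp : p - 1 - (i : ℕ) + (i : ℕ) = p - 1 := by
        have := i.isLt; omega
      rw [hexp] at h3
      apply hv
      obtain ⟨c, hc⟩ := hu
      have h4 := h3.smul (↑c⁻¹ : ℤ_[p])
      rw [← hc, smul_smul, Units.inv_mul, one_smul] at h4
      exact h4
  intro i
  exact key i i rfl

end ModP


section Indep

variable {p}
variable {L : Type*} [AddCommGroup L] [Module ℤ_[p] L] [Module.Free ℤ_[p] L]

theorem p_ne_zero' : (p : ℤ_[p]) ≠ 0 := by
  exact_mod_cast hp.out.ne_zero

theorem smul_p_cancel {u u' : L} (h : (p : ℤ_[p]) • u = (p : ℤ_[p]) • u') : u = u' :=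
  smul_right_injective L (p_ne_zero' (p := p)) h

/-- the family `N^i v`, `i < p`. -/
noncomputable def famN (N : Module.End ℤ_[p] L) (v : L) : Fin p → L := fun i => (N ^ (i : ℕ)) v

theorem linearIndependent_famN (N : Module.End ℤ_[p] L) (hN : ∀ u, InP (p := p) ((N ^ p) u))
    (v : L) (hv : ¬ InP (p := p) ((N ^ (p - 1)) v)) :
    LinearIndependent ℤ_[p] (famN N v) := by
  set T := Fintype.linearCombination ℤ_[p] (famN N v) with hT
  have hker : LinearMap.ker T = ⊥ := by
    apply Submodule.eq_bot_of_le_smul_of_le_jacobson_bot (Ideal.span {(p : ℤ_[p])})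
    · exact IsNoetherian.noetherian _
    · intro g hg
      have hg0 : ∑ i : Fin p, g i • (N ^ (i : ℕ)) v = 0 := by
        rw [LinearMap.mem_ker, hT, Fintype.linearCombination_apply] at hg
        exact hg
      have hd := dvd_of_relation N hN v hv g (by rw [hg0]; exact InP.zero)
      choose g' hg' using hd
      have hgg : g = (p : ℤ_[p]) • g' := funext fun i => by simp [hg']
      have hg'ker : g' ∈ LinearMap.ker T := by
        rw [LinearMap.mem_ker]
        apply smul_p_cancel (p := p)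
        rw [← map_smul, ← hgg, smul_zero]
        exact hg
      rw [hgg]
      exact Submodule.smul_mem_smul (Ideal.mem_span_singleton_self _) hg'ker
    · rw [IsLocalRing.jacobson_eq_maximalIdeal ⊥ bot_ne_top, PadicInt.maximalIdeal_eq_span_p]
  rw [Fintype.linearIndependent_iff]
  intro g hg i
  have hmem : g ∈ LinearMap.ker T := by
    rw [LinearMap.mem_ker, hT, Fintype.linearCombination_apply]; exact hg
  rw [hker] at hmem
  simpa using congrFun ((Submodule.mem_bot _).1 hmem) i

theorem saturated_famN (N : Module.End ℤ_[p] L) (hN : ∀ u, InP (p := p) ((N ^ p) u))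
    (v : L) (hv : ¬ InP (p := p) ((N ^ (p - 1)) v)) (u : L)
    (hu : (p : ℤ_[p]) • u ∈ Submodule.span ℤ_[p] (Set.range (famN N v))) :
    u ∈ Submodule.span ℤ_[p] (Set.range (famN N v)) := by
  rw [Submodule.mem_span_range_iff_exists_fun] at hu ⊢
  obtain ⟨g, hg⟩ := hu
  have hd := dvd_of_relation N hN v hv g ⟨u, hg⟩
  choose g' hg' using hd
  refine ⟨g', ?_⟩
  apply smul_p_cancel (p := p)
  rw [← hg, Finset.smul_sum]
  refine Finset.sum_congr rfl fun i _ => ?_
  rw [hg' i, mul_smul]

/-- the family `X^i v`, `i < p`. -/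
noncomputable def famX (X : Module.End ℤ_[p] L) (v : L) : Fin p → L := fun i => (X ^ (i : ℕ)) v

theorem X_mem_spanX (X : Module.End ℤ_[p] L) (hX : X ^ p = 1) (v : L) :
    ∀ u ∈ Submodule.span ℤ_[p] (Set.range (famX X v)),
      X u ∈ Submodule.span ℤ_[p] (Set.range (famX X v)) := by
  intro u hu
  induction hu using Submodule.span_induction with
  | mem x hx =>
    obtain ⟨i, rfl⟩ := hx
    by_cases hi : (i : ℕ) + 1 < p
    · refine Submodule.subset_span ⟨⟨(i : ℕ) + 1, hi⟩, ?_⟩
      simp only [famX]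
      rw [pow_succ', Module.End.mul_apply]
    · have hip : (i : ℕ) + 1 = p := by have := i.isLt; omega
      refine Submodule.subset_span ⟨⟨0, hp.out.pos⟩, ?_⟩
      simp only [famX]
      rw [← Module.End.mul_apply, ← pow_succ', hip, hX, pow_zero]
  | zero => simp
  | add x y _ _ hx hy => rw [map_add]; exact Submodule.add_mem _ hx hy
  | smul a x _ hx => rw [map_smul]; exact Submodule.smul_mem _ a hx

theorem pow_mem_spanX (X : Module.End ℤ_[p] L) (v : L) (A : Module.End ℤ_[p] L)
    (hA : ∀ u ∈ Submodule.span ℤ_[p] (Set.range (famX X v)),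
      A u ∈ Submodule.span ℤ_[p] (Set.range (famX X v))) (n : ℕ) :
    ∀ u ∈ Submodule.span ℤ_[p] (Set.range (famX X v)),
      (A ^ n) u ∈ Submodule.span ℤ_[p] (Set.range (famX X v)) := by
  induction n with
  | zero => intro u hu; simpa using hu
  | succ n ih =>
    intro u hu
    rw [pow_succ', Module.End.mul_apply]
    exact hA _ (ih u hu)

theorem v_mem_spanX (X : Module.End ℤ_[p] L) (v : L) :
    v ∈ Submodule.span ℤ_[p] (Set.range (famX X v)) :=
  Submodule.subset_span ⟨⟨0, hp.out.pos⟩, by simp [famX]⟩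

theorem span_famN_eq (X : Module.End ℤ_[p] L) (hX : X ^ p = 1) (v : L) :
    Submodule.span ℤ_[p] (Set.range (famN (X - 1) v)) =
      Submodule.span ℤ_[p] (Set.range (famX X v)) := by
  apply le_antisymm
  · rw [Submodule.span_le]
    rintro _ ⟨i, rfl⟩
    simp only [famN]
    apply pow_mem_spanX X v (X - 1) _ _ _ (v_mem_spanX X v)
    intro u hu
    rw [LinearMap.sub_apply]
    exact Submodule.sub_mem _ (X_mem_spanX X hX v u hu) (by simpa using hu)
  · rw [Submodule.span_le]
    rintro _ ⟨i, rfl⟩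
    simp only [famX]
    have hXN : X = (X - 1) + 1 := by abel
    have h1 : X ^ (i : ℕ) = ∑ m ∈ Finset.range ((i : ℕ) + 1),
        (X - 1) ^ m * 1 ^ ((i : ℕ) - m) * (((i : ℕ).choose m : ℕ) : Module.End ℤ_[p] L) := by
      conv_lhs => rw [hXN]
      exact (Commute.one_right (X - 1)).add_pow (i : ℕ)
    rw [h1, LinearMap.sum_apply]
    apply Submodule.sum_mem
    intro m hm
    rw [Finset.mem_range] at hm
    rw [one_pow, mul_one, Module.End.mul_apply, Module.End.natCast_apply, map_nsmul]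
    apply Submodule.smul_of_tower_mem
    exact Submodule.subset_span ⟨⟨m, by have := i.isLt; omega⟩, rfl⟩

theorem linearIndependent_famX (X : Module.End ℤ_[p] L) (hX : X ^ p = 1) (v : L)
    (hv : ¬ InP (p := p) (Cfsg.Agent.Helper5.TL.sig p X v)) :
    LinearIndependent ℤ_[p] (famX X v) := by
  have hN : ∀ u, InP (p := p) (((X - 1) ^ p) u) := fun u => N_pow_p X hX u
  have hv' : ¬ InP (p := p) (((X - 1) ^ (p - 1)) v) := by
    intro h
    obtain ⟨w, hw⟩ := N_pow_pred X v
    apply hv
    have : Cfsg.Agent.Helper5.TL.sig p X v = ((X - 1) ^ (p - 1)) v - (p : ℤ_[p]) • w := by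
      rw [hw]; abel
    rw [this]
    exact h.sub ⟨w, rfl⟩
  have hli := linearIndependent_famN (X - 1) hN v hv'
  rw [linearIndependent_iff_card_eq_finrank_span]
  rw [Set.finrank, ← span_famN_eq X hX v, finrank_span_eq_card hli]

theorem saturated_famX (X : Module.End ℤ_[p] L) (hX : X ^ p = 1) (v : L)
    (hv : ¬ InP (p := p) (Cfsg.Agent.Helper5.TL.sig p X v)) (u : L)
    (hu : (p : ℤ_[p]) • u ∈ Submodule.span ℤ_[p] (Set.range (famX X v))) :
    u ∈ Submodule.span ℤ_[p] (Set.range (famX X v)) := by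
  have hN : ∀ u, InP (p := p) (((X - 1) ^ p) u) := fun u => N_pow_p X hX u
  have hv' : ¬ InP (p := p) (((X - 1) ^ (p - 1)) v) := by
    intro h
    obtain ⟨w, hw⟩ := N_pow_pred X v
    apply hv
    have : Cfsg.Agent.Helper5.TL.sig p X v = ((X - 1) ^ (p - 1)) v - (p : ℤ_[p]) • w := by
      rw [hw]; abel
    rw [this]
    exact h.sub ⟨w, rfl⟩
  rw [← span_famN_eq X hX v] at hu ⊢
  exact saturated_famN (X - 1) hN v hv' u hu

end Indep


section Split

variable {p}
variable {L : Type*} [AddCommGroup L] [Module ℤ_[p] L] [Module.Free ℤ_[p] L]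
  [Module.Finite ℤ_[p] L]

/-- a functional which is the `0`-th coordinate on `span {X^i v}`. -/
theorem exists_functional (X : Module.End ℤ_[p] L) (hX : X ^ p = 1) (v : L)
    (hv : ¬ InP (p := p) (Cfsg.Agent.Helper5.TL.sig p X v)) :
    ∃ lam : L →ₗ[ℤ_[p]] ℤ_[p], ∀ i : Fin p, lam ((X ^ (i : ℕ)) v) = if (i : ℕ) = 0 then 1 else 0 := by
  set S := Submodule.span ℤ_[p] (Set.range (famX X v)) with hS
  have hsat : ∀ (k : ℕ) (u : L), ((p : ℤ_[p]) ^ k) • u ∈ S → u ∈ S := by
    intro k
    induction k with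
    | zero => intro u hu; simpa using hu
    | succ k ih =>
      intro u hu
      apply ih
      apply saturated_famX X hX v hv
      rw [smul_smul, ← pow_succ']
      exact hu
  haveI : Module.IsTorsionFree ℤ_[p] (L ⧸ S) := by
    apply Module.IsTorsionFree.of_smul_eq_zero
    intro r m hrm
    by_cases hr : r = 0
    · left; exact hr
    · right
      obtain ⟨u, rfl⟩ := Submodule.Quotient.mk_surjective S m
      rw [← Submodule.Quotient.mk_smul, Submodule.Quotient.mk_eq_zero] at hrm
      rw [Submodule.Quotient.mk_eq_zero]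
      obtain ⟨c, k, hck⟩ : ∃ (c : ℤ_[p]ˣ) (k : ℕ), r = (c : ℤ_[p]) * (p : ℤ_[p]) ^ k :=
        ⟨_, _, PadicInt.unitCoeff_spec hr⟩
      apply hsat k u
      have h1 : ((p : ℤ_[p]) ^ k) • u = ((c⁻¹ : ℤ_[p]ˣ) : ℤ_[p]) • (r • u) := by
        rw [hck, smul_smul, ← mul_assoc, Units.inv_mul, one_mul]
      rw [h1]
      exact Submodule.smul_mem _ _ hrm
  -- the quotient is free, hence projective: get a section
  obtain ⟨sec, hsec⟩ := Module.projective_lifting_property S.mkQ
    (LinearMap.id : (L ⧸ S) →ₗ[ℤ_[p]] (L ⧸ S)) (Submodule.mkQ_surjective S)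
  have hq : ∀ u : L, u - sec (S.mkQ u) ∈ S := by
    intro u
    rw [← Submodule.Quotient.mk_eq_zero, Submodule.Quotient.mk_sub]
    have := LinearMap.congr_fun hsec (S.mkQ u)
    simp only [LinearMap.comp_apply, LinearMap.id_apply] at this
    rw [← Submodule.mkQ_apply, ← Submodule.mkQ_apply, this, sub_self]
  let q : L →ₗ[ℤ_[p]] S := LinearMap.codRestrict S (LinearMap.id - sec.comp S.mkQ) (by
    intro u
    simpa using hq u)
  have hqS : ∀ (u : L) (hu : u ∈ S), q u = ⟨u, hu⟩ := by
    intro u hu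
    apply Subtype.ext
    simp only [q, LinearMap.codRestrict_apply, LinearMap.sub_apply, LinearMap.id_apply,
      LinearMap.comp_apply]
    rw [(Submodule.Quotient.mk_eq_zero S).2 hu |> fun h => (by simpa using h : S.mkQ u = 0)]
    simp
  have hli := linearIndependent_famX X hX v hv
  let B : Module.Basis (Fin p) ℤ_[p] S := Module.Basis.span hli
  refine ⟨(B.coord ⟨0, hp.out.pos⟩).comp q, ?_⟩
  intro i
  have hmem : (X ^ (i : ℕ)) v ∈ S := Submodule.subset_span ⟨i, rfl⟩
  rw [LinearMap.comp_apply, hqS _ hmem]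
  have hB : (⟨(X ^ (i : ℕ)) v, hmem⟩ : S) = B i := by
    apply Subtype.ext
    rw [Module.Basis.span_apply]
    rfl
  rw [hB, Module.Basis.coord_apply, Module.Basis.repr_self, Finsupp.single_apply]
  by_cases h0 : (i : ℕ) = 0
  · rw [if_pos h0, if_pos (Fin.ext h0)]
  · rw [if_neg h0, if_neg (fun h => h0 (by rw [h]))]

end Split


section Split2

variable {p}
variable {L : Type*} [AddCommGroup L] [Module ℤ_[p] L] [Module.Free ℤ_[p] L]
  [Module.Finite ℤ_[p] L]

/-- splitting off a free summand: `L = span {X^i v} ⊕ K` with `K` stable under `X`. -/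
theorem exists_split (X : Module.End ℤ_[p] L) (hX : X ^ p = 1) (v : L)
    (hv : ¬ InP (p := p) (Cfsg.Agent.Helper5.TL.sig p X v)) :
    ∃ K : Submodule ℤ_[p] L,
      IsCompl (Submodule.span ℤ_[p] (Set.range (famX X v))) K ∧ ∀ u ∈ K, X u ∈ K := by
  obtain ⟨lam, hlam⟩ := exists_functional X hX v hv
  set S := Submodule.span ℤ_[p] (Set.range (famX X v)) with hS
  let π : L →ₗ[ℤ_[p]] L :=
    ∑ i ∈ Finset.range p, (lam.comp (X ^ (p - i))).smulRight ((X ^ i) v)
  have hπ : ∀ u, π u = ∑ i ∈ Finset.range p, lam ((X ^ (p - i)) u) • (X ^ i) v := by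
    intro u
    simp [π, LinearMap.sum_apply, LinearMap.smulRight_apply]
  obtain ⟨n, hn⟩ : ∃ n, p = n + 1 := ⟨p - 1, by have := hp.out.pos; omega⟩
  have key : ∀ (m : ℕ) (a b : ℕ → L), m = n + 1 → (∀ i < n, a (i + 1) = b i) → a 0 = b n →
      ∑ i ∈ Finset.range m, a i = ∑ i ∈ Finset.range m, b i := by
    intro m a b hm h1 h2
    subst hm
    rw [Finset.sum_range_succ', Finset.sum_range_succ]
    congr 1
    exact Finset.sum_congr rfl fun i hi => h1 i (Finset.mem_range.1 hi)
  have hπX : ∀ u, π (X u) = X (π u) := by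
    intro u
    rw [hπ, hπ, map_sum]
    apply key p _ _ hn
    · intro i hi
      rw [map_smul, ← Module.End.mul_apply X, ← pow_succ']
      congr 2
      rw [← Module.End.mul_apply, ← pow_succ]
      congr 2
      omega
    · have h1 : p - n = 1 := by omega
      rw [map_smul, ← Module.End.mul_apply X, ← pow_succ', ← hn, hX, h1]
      simp only [Nat.sub_zero, pow_zero, pow_one]
      rw [hX]
      rfl
  have hπv : π v = v := by
    rw [hπ, Finset.sum_eq_single 0]
    · have := hlam ⟨0, hp.out.pos⟩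
      simp only [pow_zero, Module.End.one_apply, if_true] at this
      simp only [Nat.sub_zero, pow_zero, Module.End.one_apply]
      rw [hX, Module.End.one_apply, this, one_smul]
    · intro i hi hi0
      rw [Finset.mem_range] at hi
      have := hlam ⟨p - i, by omega⟩
      simp only at this
      rw [this, if_neg (by omega), zero_smul]
    · intro h
      exact absurd (Finset.mem_range.2 hp.out.pos) h
  have hπpow : ∀ j : ℕ, π ((X ^ j) v) = (X ^ j) v := by
    intro j
    induction j with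
    | zero => simpa using hπv
    | succ j ih => rw [pow_succ', Module.End.mul_apply, hπX, ih]
  have hπS : ∀ s ∈ S, π s = s := by
    intro s hs
    induction hs using Submodule.span_induction with
    | mem x hx => obtain ⟨i, rfl⟩ := hx; exact hπpow _
    | zero => simp
    | add x y _ _ hx hy => rw [map_add, hx, hy]
    | smul a x _ hx => rw [map_smul, hx]
  have hπrange : ∀ u, π u ∈ S := by
    intro u
    rw [hπ]
    apply Submodule.sum_mem
    intro i hi
    rw [Finset.mem_range] at hi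
    exact Submodule.smul_mem _ _ (Submodule.subset_span ⟨⟨i, hi⟩, rfl⟩)
  let f : L →ₗ[ℤ_[p]] S := LinearMap.codRestrict S π hπrange
  have hf : ∀ x : S, f x = x := by
    intro x
    apply Subtype.ext
    simp only [f, LinearMap.codRestrict_apply]
    exact hπS x x.2
  refine ⟨LinearMap.ker π, ?_, ?_⟩
  · have := LinearMap.isCompl_of_proj hf
    rwa [LinearMap.ker_codRestrict] at this
  · intro u hu
    rw [LinearMap.mem_ker] at hu ⊢
    rw [hπX, hu, map_zero]

end Split2


section Main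

variable {p}

open Cfsg.Agent.Helper5.TL

/-- the family `X^i (v j)`. -/
noncomputable def famI {L : Type*} [AddCommGroup L] [Module ℤ_[p] L] {ι : Type}
    (X : Module.End ℤ_[p] L) (v : ι → L) : Fin p × ι → L := fun ij => (X ^ (ij.1 : ℕ)) (v ij.2)

/-- the flexible form of the Reiner decomposition. -/
def Dec {L : Type*} [AddCommGroup L] [Module ℤ_[p] L] (X : Module.End ℤ_[p] L) : Prop :=
  ∃ (ι : Type) (_ : Fintype ι) (v : ι → L) (L₁ L₂ : Submodule ℤ_[p] L),
    Submodule.span ℤ_[p] (Set.range (famI X v)) ⊔ L₁ ⊔ L₂ = ⊤ ∧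
    Disjoint (Submodule.span ℤ_[p] (Set.range (famI X v))) (L₁ ⊔ L₂) ∧ Disjoint L₁ L₂ ∧
    (∀ u ∈ L₁, X u = u) ∧ (∀ u ∈ L₂, X u ∈ L₂) ∧ (∀ u ∈ L₂, sig p X u = 0) ∧
    LinearIndependent ℤ_[p] (famI X v)

variable {L : Type*} [AddCommGroup L] [Module ℤ_[p] L] [Module.Free ℤ_[p] L]
  [Module.Finite ℤ_[p] L]

theorem X_sig (X : Module.End ℤ_[p] L) (hX : X ^ p = 1) (u : L) :
    X (sig p X u) = sig p X u := by
  obtain ⟨n, hn⟩ : ∃ n, p = n + 1 := ⟨p - 1, by have := hp.out.pos; omega⟩
  have key : ∀ (m : ℕ), m = n + 1 → X ^ m = 1 →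
      X (∑ i ∈ Finset.range m, (X ^ i) u) = ∑ i ∈ Finset.range m, (X ^ i) u := by
    intro m hm hXm
    subst hm
    rw [map_sum]
    conv_rhs => rw [Finset.sum_range_succ']
    rw [Finset.sum_range_succ]
    congr 1
    · refine Finset.sum_congr rfl fun i _ => ?_
      rw [← Module.End.mul_apply, ← pow_succ']
    · rw [← Module.End.mul_apply, ← pow_succ', hXm, pow_zero]
  have := key p hn hX
  simpa [sig, LinearMap.sum_apply] using this

theorem sig_of_fixed (X : Module.End ℤ_[p] L) (w : L) (hw : X w = w) :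
    sig p X w = (p : ℤ_[p]) • w := by
  have h1 : ∀ i : ℕ, (X ^ i) w = w := by
    intro i
    induction i with
    | zero => simp
    | succ i ih => rw [pow_succ, Module.End.mul_apply, hw, ih]
  simp only [sig, LinearMap.sum_apply, h1, Finset.sum_const, Finset.card_range]
  exact (Nat.cast_smul_eq_nsmul ℤ_[p] p w).symm

/-- the case `σ L ⊆ p L`. -/
theorem dec_trivial (X : Module.End ℤ_[p] L) (hX : X ^ p = 1)
    (h : ∀ u, InP (p := p) (sig p X u)) : Dec X := by
  refine ⟨Empty, inferInstance, fun e => e.elim, LinearMap.ker (X - 1), LinearMap.ker (sig p X),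
    ?_, ?_, ?_, ?_, ?_, ?_, ?_⟩
  · rw [eq_top_iff]
    intro u _
    obtain ⟨w, hw⟩ := h u
    have hw1 : X w = w := by
      apply smul_p_cancel (p := p)
      rw [← map_smul, ← hw, X_sig X hX]
    have hw2 : sig p X w = (p : ℤ_[p]) • w := sig_of_fixed X w hw1
    have : u = w + (u - w) := by abel
    rw [this]
    apply Submodule.add_mem
    · apply Submodule.mem_sup_left
      apply Submodule.mem_sup_right
      rw [LinearMap.mem_ker, LinearMap.sub_apply, hw1]; simp
    · apply Submodule.mem_sup_right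
      rw [LinearMap.mem_ker, map_sub, hw, hw2, sub_self]
  · have : Set.range (famI X (fun e : Empty => (e.elim : L))) = ∅ := by
      rw [Set.range_eq_empty_iff]
      exact ⟨fun ij => ij.2.elim⟩
    rw [this, Submodule.span_empty]
    exact disjoint_bot_left
  · rw [Submodule.disjoint_def]
    intro u hu1 hu2
    rw [LinearMap.mem_ker, LinearMap.sub_apply, Module.End.one_apply, sub_eq_zero] at hu1
    rw [LinearMap.mem_ker, sig_of_fixed X u hu1] at hu2
    exact (smul_eq_zero.1 hu2).resolve_left (p_ne_zero' (p := p))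
  · intro u hu
    rw [LinearMap.mem_ker, LinearMap.sub_apply, Module.End.one_apply, sub_eq_zero] at hu
    exact hu
  · intro u hu
    rw [LinearMap.mem_ker] at hu ⊢
    have hcomm : sig p X (X u) = X (sig p X u) := by
      simp only [sig, LinearMap.sum_apply, map_sum]
      refine Finset.sum_congr rfl fun i _ => ?_
      rw [← Module.End.mul_apply, ← Module.End.mul_apply, ← pow_succ, ← pow_succ']
    rw [hcomm, hu, map_zero]
  · intro u hu
    exact hu
  · haveI : IsEmpty (Fin p × Empty) := ⟨fun ij => ij.2.elim⟩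
    exact linearIndependent_empty_type

end Main


section Transport

variable {p}

open Cfsg.Agent.Helper5.TL

variable {L : Type*} [AddCommGroup L] [Module ℤ_[p] L] [Module.Free ℤ_[p] L]
  [Module.Finite ℤ_[p] L]

theorem restrict_pow_coe (X : Module.End ℤ_[p] L) (K : Submodule ℤ_[p] L)
    (hK : ∀ u ∈ K, X u ∈ K) (n : ℕ) (u : K) :
    ((((X.restrict hK : Module.End ℤ_[p] K)) ^ n) u : L) = (X ^ n) (u : L) := by
  induction n generalizing u with
  | zero => simp
  | succ n ih =>
    rw [pow_succ, Module.End.mul_apply, ih, pow_succ, Module.End.mul_apply]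
    rfl

theorem restrict_sig_coe (X : Module.End ℤ_[p] L) (K : Submodule ℤ_[p] L)
    (hK : ∀ u ∈ K, X u ∈ K) (u : K) :
    ((sig p (X.restrict hK : Module.End ℤ_[p] K)) u : L) = sig p X (u : L) := by
  simp only [sig, LinearMap.sum_apply, AddSubmonoidClass.coe_finset_sum, restrict_pow_coe]

theorem dec_of_split (X : Module.End ℤ_[p] L) (v₀ : L)
    (hli₀ : LinearIndependent ℤ_[p] (famX X v₀)) (K : Submodule ℤ_[p] L)
    (hc : IsCompl (Submodule.span ℤ_[p] (Set.range (famX X v₀))) K)
    (hK : ∀ u ∈ K, X u ∈ K) (hdec : Dec (X.restrict hK : Module.End ℤ_[p] K)) : Dec X := by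
  obtain ⟨ι', _, v', L₁', L₂', h1, h2, h3, h4, h5, h6, h7⟩ := hdec
  set S := Submodule.span ℤ_[p] (Set.range (famX X v₀)) with hS
  set XK : Module.End ℤ_[p] K := X.restrict hK with hXK
  let famA : Fin p × ι' → L := fun ij => (X ^ (ij.1 : ℕ)) (v' ij.2 : L)
  let famB : Fin p × Unit → L := fun iu => famX X v₀ iu.1
  have hA : famA = K.subtype ∘ famI XK v' :=
    funext fun ij => (restrict_pow_coe X K hK (ij.1 : ℕ) (v' ij.2)).symm
  let v : ι' ⊕ Unit → L := Sum.elim (fun j => (v' j : L)) (fun _ => v₀)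
  have hfam : famI X v = Sum.elim famA famB ∘ (Equiv.prodSumDistrib (Fin p) ι' Unit) := by
    funext ⟨i, j⟩
    cases j <;> rfl
  set F'' := (Submodule.span ℤ_[p] (Set.range (famI XK v'))).map K.subtype with hF''
  have hspanA : Submodule.span ℤ_[p] (Set.range famA) = F'' := by
    rw [hA, Set.range_comp, hF'', Submodule.map_span]
  have hrangeB : Set.range famB = Set.range (famX X v₀) := by
    ext x
    constructor
    · rintro ⟨⟨i, _⟩, rfl⟩; exact ⟨i, rfl⟩
    · rintro ⟨i, rfl⟩; exact ⟨⟨i, ()⟩, rfl⟩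
  have hspan : Submodule.span ℤ_[p] (Set.range (famI X v)) = F'' ⊔ S := by
    rw [hfam, (Equiv.surjective _).range_comp, Set.Sum.elim_range, Submodule.span_union, hspanA,
      hrangeB]
  have hinj : Function.Injective K.subtype := Submodule.subtype_injective K
  have hF''K : F'' ≤ K := by
    rw [hF'']
    intro x hx
    obtain ⟨y, _, rfl⟩ := Submodule.mem_map.1 hx
    exact y.2
  have hKeq : F'' ⊔ L₁'.map K.subtype ⊔ L₂'.map K.subtype = K := by
    rw [hF'', ← Submodule.map_sup, ← Submodule.map_sup, h1, Submodule.map_subtype_top]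
  refine ⟨ι' ⊕ Unit, inferInstance, v, L₁'.map K.subtype, L₂'.map K.subtype, ?_, ?_, ?_, ?_, ?_,
    ?_, ?_⟩
  · rw [hspan]
    have : F'' ⊔ S ⊔ L₁'.map K.subtype ⊔ L₂'.map K.subtype =
        S ⊔ (F'' ⊔ L₁'.map K.subtype ⊔ L₂'.map K.subtype) := by
      ac_rfl
    rw [this, hKeq]
    exact hc.sup_eq_top
  · rw [hspan, sup_comm F'' S]
    apply Disjoint.disjoint_sup_left_of_disjoint_sup_right
    · rw [hF'', ← Submodule.map_sup]
      exact Submodule.disjoint_map hinj h2
    · apply hc.disjoint.mono_right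
      rw [← sup_assoc, hKeq]
  · exact Submodule.disjoint_map hinj h3
  · intro u hu
    obtain ⟨y, hy, rfl⟩ := Submodule.mem_map.1 hu
    have := h4 y hy
    exact congrArg (fun z : K => (z : L)) this
  · intro u hu
    obtain ⟨y, hy, rfl⟩ := Submodule.mem_map.1 hu
    exact Submodule.mem_map.2 ⟨XK y, h5 y hy, rfl⟩
  · intro u hu
    obtain ⟨y, hy, rfl⟩ := Submodule.mem_map.1 hu
    have := h6 y hy
    have h' := restrict_sig_coe X K hK y
    rw [← hXK, this] at h'
    exact h'.symm
  · rw [hfam]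
    apply LinearIndependent.comp _ _ (Equiv.injective _)
    apply LinearIndependent.sum_type
    · rw [hA]
      exact h7.map' K.subtype (Submodule.ker_subtype K)
    · have : famB = famX X v₀ ∘ (Equiv.prodPUnit (Fin p)) := by
        funext ⟨i, _⟩; rfl
      rw [this]
      exact hli₀.comp _ (Equiv.injective _)
    · rw [hspanA, hrangeB]
      exact (hc.disjoint.mono_right hF''K).symm

theorem dec_all (n : ℕ) : ∀ (L : Type u_1) [AddCommGroup L] [Module ℤ_[p] L]
    [Module.Free ℤ_[p] L] [Module.Finite ℤ_[p] L] (X : Module.End ℤ_[p] L),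
    X ^ p = 1 → Module.finrank ℤ_[p] L = n → Dec X := by
  induction n using Nat.strong_induction_on with
  | _ n ih =>
    intro L _ _ _ _ X hX hn
    by_cases h : ∀ u, InP (p := p) (sig p X u)
    · exact dec_trivial X hX h
    · push_neg at h
      obtain ⟨v₀, hv₀⟩ := h
      obtain ⟨K, hc, hK⟩ := exists_split X hX v₀ hv₀
      have hli₀ := linearIndependent_famX X hX v₀ hv₀
      apply dec_of_split X v₀ hli₀ K hc hK
      have hXK : (X.restrict hK : Module.End ℤ_[p] K) ^ p = 1 := by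
        apply LinearMap.ext
        intro u
        apply Subtype.ext
        rw [restrict_pow_coe, hX]
        rfl
      have hrank : Module.finrank ℤ_[p] K < n := by
        have e := Submodule.prodEquivOfIsCompl _ K hc
        have h1 := e.finrank_eq
        rw [Module.finrank_prod, finrank_span_eq_card hli₀, Fintype.card_fin, hn] at h1
        have := hp.out.pos
        omega
      exact ih _ hrank K (X.restrict hK) hXK rfl

end Transport


section Final

variable {p}

open Cfsg.Agent.Helper5.TL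

variable {L : Type*} [AddCommGroup L] [Module ℤ_[p] L]

theorem X_mem_spanI {ι : Type} (X : Module.End ℤ_[p] L) (hX : X ^ p = 1) (v : ι → L) :
    ∀ u ∈ Submodule.span ℤ_[p] (Set.range (famI X v)),
      X u ∈ Submodule.span ℤ_[p] (Set.range (famI X v)) := by
  intro u hu
  induction hu using Submodule.span_induction with
  | mem x hx =>
    obtain ⟨⟨i, j⟩, rfl⟩ := hx
    by_cases hi : (i : ℕ) + 1 < p
    · refine Submodule.subset_span ⟨(⟨(i : ℕ) + 1, hi⟩, j), ?_⟩
      simp only [famI]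
      rw [pow_succ', Module.End.mul_apply]
    · have hip : (i : ℕ) + 1 = p := by have := i.isLt; omega
      refine Submodule.subset_span ⟨(⟨0, hp.out.pos⟩, j), ?_⟩
      simp only [famI]
      rw [← Module.End.mul_apply, ← pow_succ', hip, hX, pow_zero]
  | zero => simp
  | add x y _ _ hx hy => rw [map_add]; exact Submodule.add_mem _ hx hy
  | smul a x _ hx => rw [map_smul]; exact Submodule.smul_mem _ a hx

end Final

end Cfsg.Agent.Helper26.TLR

namespace Cfsg.Agent.Helper5.TL

open scoped Padic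
open Cfsg.Agent.Helper26.TLR

variable (p : ℕ) [Fact p.Prime]

variable {L : Type*} [AddCommGroup L] [Module ℤ_[p] L] [Module.Free ℤ_[p] L]
  [Module.Finite ℤ_[p] L]

/-- PIECE R (Reiner splitting).  `L = F ⊕ L₁ ⊕ L₂`, `F` free over the group ring (basis `X^i v_j`),
`X = 1` on `L₁`, `σ = 0` on `L₂`. -/
theorem reiner_split (X : Module.End ℤ_[p] L) (hX : X ^ p = 1) :
    ∃ (F L₁ L₂ : Submodule ℤ_[p] L) (r : ℕ) (v : Fin r → L),
      F ⊔ L₁ ⊔ L₂ = ⊤ ∧ Disjoint F (L₁ ⊔ L₂) ∧ Disjoint L₁ L₂ ∧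
      (∀ u ∈ F, X u ∈ F) ∧ (∀ u ∈ L₁, X u = u) ∧ (∀ u ∈ L₂, X u ∈ L₂) ∧
      (∀ u ∈ L₂, sig p X u = 0) ∧
      LinearIndependent ℤ_[p] (fun ij : Fin p × Fin r => (X ^ (ij.1 : ℕ)) (v ij.2)) ∧
      Submodule.span ℤ_[p] (Set.range (fun ij : Fin p × Fin r => (X ^ (ij.1 : ℕ)) (v ij.2))) = F := by
  obtain ⟨ι, _, v, L₁, L₂, h1, h2, h3, h4, h5, h6, h7⟩ :=
    dec_all (p := p) (Module.finrank ℤ_[p] L) L X hX rfl
  let e : ι ≃ Fin (Fintype.card ι) := Fintype.equivFin ι
  have hfam : (fun ij : Fin p × Fin (Fintype.card ι) => (X ^ (ij.1 : ℕ)) ((v ∘ e.symm) ij.2)) =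
      famI X v ∘ (Equiv.prodCongr (Equiv.refl (Fin p)) e.symm) := by
    funext ⟨i, j⟩
    rfl
  refine ⟨Submodule.span ℤ_[p] (Set.range (famI X v)), L₁, L₂, Fintype.card ι, v ∘ e.symm,
    h1, h2, h3, X_mem_spanI X hX v, h4, h5, h6, ?_, ?_⟩
  · rw [hfam]
    exact h7.comp _ (Equiv.injective _)
  · rw [hfam, (Equiv.surjective _).range_comp]

end Cfsg.Agent.Helper5.TL

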