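import Mathlib
import Cfsg.Prelude.Def_FusionSystem
import Cfsg.Agent.S5082
import Cfsg.Agent.S5327
import Cfsg.Agent.Lib.Helper25.FusionSat4

set_option autoImplicit false

/-!
Downward induction over the essential subgroups of a saturated fusion system.
-/

namespace Cfsg.Agent.Helper26

open Cfsg Cfsg.FusionSystem Cfsg.Agent.Helper25

variable {Ω : Type*} [Group Ω] {S : Subgroup Ω}

/-- the system that is `F` on subgroups of order at most `n` and `F ∩ E` above -/
def truncSys [Finite S] (F E : FusionSystem S) (n : ℕ) : FusionSystem S :=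
  Cfsg.Agent.S5327.mixed F E (fun P => n < Nat.card P)
    (by
      intro P Q φ hC hφ hQS h
      haveI : Finite Q := finite_of_le_finite hQS
      have hinj := F.injective_of_mem hφ
      have hle : Nat.card P ≤ Nat.card Q :=
        Nat.card_le_card_of_injective (fun x => (⟨φ x, h x⟩ : Q))
          (fun a b hab => hinj (congrArg Subtype.val hab))
      exact lt_of_lt_of_le hC hle)
    (by
      intro P φ hφ hC
      have : Nat.card P = Nat.card φ.range :=
        Nat.card_congr (MonoidHom.ofInjective (F.injective_of_mem hφ)).toEquiv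
      show n < Nat.card P
      rw [this]; exact hC)

/-- **Induction over essential subgroups.** To show `F ≤ E` for a saturated `F` it suffices to treat
`Aut_F(S)` and, for each essential `P ≠ S`, to treat `Aut_F(P)` assuming that all maps of `F` defined on
strictly larger subgroups already lie in `E`. -/
theorem le_of_essential_induction [Finite S] (p : ℕ) [Fact p.Prime] (hS : IsPGroup p S)
    (F : FusionSystem S) (hF : F.IsSaturated p) (E : FusionSystem S)
    (htop : F.autGroup S ≤ E.autGroup S)
    (hstep : ∀ P : Subgroup Ω, F.IsEssential p P → P ≠ S →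
      (∀ (R : Subgroup Ω) (ψ : R →* Ω), ψ ∈ F.Hom R → Nat.card P < Nat.card R → ψ ∈ E.Hom R) →
      F.autGroup P ≤ E.autGroup P) : F ≤ E := by
  have claim : ∀ k n : ℕ, Nat.card S ≤ n + k → F ≤ truncSys F E n := by
    intro k
    induction k with
    | zero =>
      intro n hn P φ hφ
      refine ⟨hφ, fun hlt => ?_⟩
      have := Subgroup.card_le_of_le (F.le_of_mem hφ).1
      omega
    | succ k ih =>
      intro n hn
      have hIH : F ≤ truncSys F E (n + 1) := ih (n + 1) (by omega)
      apply Cfsg.Agent.S5082.result p hS F hF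
      intro P hP
      unfold FusionSystem.autGroup
      apply (Subgroup.closure_le _).2
      intro α hα
      apply Subgroup.subset_closure
      refine ⟨hα, fun hlt => ?_⟩
      have hPS : P ≤ S := (F.le_of_mem hα).1
      have hαA : α ∈ F.autGroup P := Subgroup.subset_closure hα
      by_cases hbig : n + 1 < Nat.card P
      · exact (hIH P hα).2 hbig
      · have hcard : Nat.card P = n + 1 := by
          have : n < Nat.card P := hlt
          omega
        by_cases hPeq : P = S
        · subst hPeq
          exact (mem_autGroup_iff E le_rfl α).1 (htop hαA)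
        · have hess : F.IsEssential p P := by
            rcases hP with h | h
            · exact absurd h hPeq
            · exact h
          have h1 := hstep P hess hPeq (fun R ψ hψ hlt' => (hIH R hψ).2 (by omega))
          exact (mem_autGroup_iff E hPS α).1 (h1 hαA)
  intro P φ hφ
  have hPS : P ≤ S := (F.le_of_mem hφ).1
  haveI : Finite P := finite_of_le_finite hPS
  exact (claim (Nat.card S) 0 (by omega) P hφ).2 Nat.card_pos

/-- **Frattini factorization** in `Aut_F(P)` for `P` fully normalized and `K` a subgroup of `Aut_F(P)`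
normalized by it: every `α` is `κ * ν` with `κ ∈ K` and `ν` extending to every `g ∈ N_S(P)` that induces an
element of `K`. -/
theorem exists_frattini_factor [Finite S] (p : ℕ) [Fact p.Prime] (hS : IsPGroup p S)
    (F : FusionSystem S) (hF : F.IsSaturated p) {P : Subgroup Ω} (hfn : F.IsFullyNormalized P)
    (K : Subgroup (MulAut P)) (hKA : K ≤ F.autGroup P)
    (hKn : ∀ α ∈ F.autGroup P, ∀ γ ∈ K, α * γ * α⁻¹ ∈ K) {α : MulAut P} (hα : α ∈ F.autGroup P) :
    ∃ κ ∈ K, ∃ ν ∈ F.autGroup P, α = κ * ν ∧
      ∀ (g : Ω) (hg : g ∈ normalizerIn S P), P.normalizerMonoidHom ⟨g, hg.2⟩ ∈ K →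
        g ∈ extender S P (P.subtype.comp ν.toMonoidHom) := by
  have hPS : P ≤ S := hfn.1
  haveI : Finite P := finite_of_le_finite hPS
  obtain ⟨-, hfa, -⟩ := of_fullyNormalized p hS F hF hfn
  have hsyl := (isFullyAutomized_iff F p hPS).1 hfa
  have hnorm : ∀ n ∈ F.autGroup P, Cfsg.conjBy K n = K := by
    intro n hn
    apply le_antisymm
    · intro x hx
      rw [mem_conjBy] at hx
      have := hKn n hn _ hx
      have e : n * (n⁻¹ * x * n) * n⁻¹ = x := by group
      rwa [e] at this
    · intro x hx
      rw [mem_conjBy]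
      have := hKn n⁻¹ (Subgroup.inv_mem _ hn) x hx
      rwa [inv_inv] at this
  have hsylK : IsSylowIn p (autInducedBy S P ⊓ K) K := hsyl.inf_of_normal hKA hnorm
  have hL : Cfsg.conjBy (autInducedBy S P ⊓ K) α ≤ K := by
    have := conjBy_mono (inf_le_right : autInducedBy S P ⊓ K ≤ K) α
    rwa [hnorm α hα] at this
  have hLp : IsPGroup p (Cfsg.conjBy (autInducedBy S P ⊓ K) α) := isPGroup_conjBy hsylK.2.1 α
  obtain ⟨k, hk, hkle⟩ := hsylK.exists_conj_le hL hLp
  rw [conjBy_conjBy] at hkle
  refine ⟨k⁻¹, Subgroup.inv_mem _ hk, k * α, Subgroup.mul_mem _ (hKA hk) hα, by group, ?_⟩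
  intro g hg hgK
  set ν : MulAut P := k * α with hν
  set τ : MulAut P := P.normalizerMonoidHom ⟨g, hg.2⟩ with hτ
  have hτT : τ ∈ autInducedBy S P := (mem_autInducedBy_iff τ).2 ⟨g, hg.1, fun x => rfl⟩
  have hmem : ν * τ * ν⁻¹ ∈ Cfsg.conjBy (autInducedBy S P ⊓ K) ν := by
    rw [mem_conjBy]
    have : ν⁻¹ * (ν * τ * ν⁻¹) * ν = τ := by group
    rw [this]; exact ⟨hτT, hgK⟩
  obtain ⟨h, hh, hhspec⟩ := (mem_autInducedBy_iff _).1 (hkle hmem).1
  rw [mem_extender_iff]
  refine ⟨hg.1, hg.2, h, hh, fun x hx => ?_⟩
  have := hhspec (ν x)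
  rw [MulAut.mul_apply, MulAut.mul_apply, MulAut.inv_apply_self] at this
  exact this

end Cfsg.Agent.Helper26
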