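import Mathlib
import Cfsg.Prelude.Def_FusionSystem
import Cfsg.Agent.Lib.Helper25.FusionHyp
import Cfsg.Agent.Lib.Helper26.FusionInduction

set_option autoImplicit false

/-!
The restriction of a fusion system over `U` to a subgroup `T ≤ U`, and a criterion for a saturated
system over `T` to be contained in a system over `U`.
-/

namespace Cfsg.Agent.Helper26

open Cfsg Cfsg.FusionSystem Cfsg.Agent.Helper25

variable {Ω : Type*} [Group Ω]

/-- the maps of `F₀` between subgroups of `T` -/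
def resSys {U : Subgroup Ω} (F₀ : FusionSystem U) (T : Subgroup Ω) (hTU : T ≤ U) : FusionSystem T where
  Hom P := {φ | φ ∈ F₀.Hom P ∧ P ≤ T ∧ ∀ x : P, φ x ∈ T}
  le_of_mem := fun h => ⟨h.2.1, h.2.2⟩
  injective_of_mem := fun h => F₀.injective_of_mem h.1
  conj_mem := by
    intro P g hPT hg
    refine ⟨F₀.conj_mem (hPT.trans hTU) (hTU hg), hPT, fun x => ?_⟩
    exact T.mul_mem (T.mul_mem hg (hPT x.2)) (T.inv_mem hg)
  comp_mem := by
    intro P Q φ ψ hφ hψ h
    exact ⟨F₀.comp_mem hφ.1 hψ.1 h, hφ.2.1, fun x => hψ.2.2 _⟩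
  inv_mem := by
    intro P φ hφ
    obtain ⟨ψ, hψ, hψφ⟩ := F₀.inv_mem hφ.1
    refine ⟨ψ, ⟨hψ, ?_, ?_⟩, hψφ⟩
    · rintro _ ⟨x, rfl⟩; exact hφ.2.2 x
    · rintro ⟨_, x, rfl⟩
      rw [hψφ x]; exact hφ.2.1 x.2

lemma mem_resSys {U : Subgroup Ω} (F₀ : FusionSystem U) (T : Subgroup Ω) (hTU : T ≤ U)
    {P : Subgroup Ω} (φ : P →* Ω) :
    φ ∈ (resSys F₀ T hTU).Hom P ↔ φ ∈ F₀.Hom P ∧ P ≤ T ∧ ∀ x : P, φ x ∈ T := Iff.rfl

/-- `T` is fully normalized in any system over `T` -/
lemma isFullyNormalized_self {T : Subgroup Ω} [Finite T] (E : FusionSystem T) :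
    E.IsFullyNormalized T := by
  refine ⟨le_rfl, fun R _ => ?_⟩
  have hNT : normalizerIn T T = T :=
    le_antisymm inf_le_left (fun s hs => ⟨hs, Subgroup.le_normalizer hs⟩)
  rw [hNT]
  exact Subgroup.card_le_of_le normalizerIn_le

/-- **Containment criterion.** A saturated system `E` over `T` lies in the system `F₀` over `U ≥ T` as
soon as `F₀` contains `O^p(Aut_E(P))` for all `P ≤ T`. -/
theorem le_resSys_of_pResidual {T U : Subgroup Ω} [Finite T] (p : ℕ) [Fact p.Prime]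
    (hTp : IsPGroup p T) (E : FusionSystem T) (hE : E.IsSaturated p) (F₀ : FusionSystem U)
    (hTU : T ≤ U)
    (h : ∀ P : Subgroup Ω, P ≤ T → ∀ ν : E.autGroup P, ν ∈ pResidual p (E.autGroup P) →
      (ν : MulAut P) ∈ F₀.autGroup P) :
    ∀ P : Subgroup Ω, E.Hom P ⊆ F₀.Hom P := by
  have key : ∀ P : Subgroup Ω, E.IsFullyNormalized P → E.autGroup P ≤ (resSys F₀ T hTU).autGroup P := by
    intro P hfn α hα
    have hPT : P ≤ T := hfn.1
    obtain ⟨-, hfa, -⟩ := of_fullyNormalized p hTp E hE hfn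
    obtain ⟨σ, hσ, ν, hν, rfl⟩ := exists_mul_autInducedBy_pResidual p E hfa hα
    apply Subgroup.mul_mem
    · obtain ⟨g, hg, hgσ⟩ := (mem_autInducedBy_iff σ).mp hσ
      rw [mem_autGroup_iff _ hPT]
      have e : P.subtype.comp σ.toMonoidHom = conjHom P g := by
        ext x; exact hgσ x
      rw [e]
      exact (resSys F₀ T hTU).conj_mem hPT hg
    · have h1 := h P hPT ν hν
      rw [mem_autGroup_iff _ hPT]
      exact ⟨(mem_autGroup_iff F₀ (hPT.trans hTU) _).mp h1, hPT, fun x => hPT ((ν : MulAut P) x).2⟩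
  have hle : E ≤ resSys F₀ T hTU := by
    apply le_of_essential_induction p hTp E hE
    · exact key T (isFullyNormalized_self E)
    · intro P hess _ _
      exact key P hess.2.1
  intro P φ hφ
  exact (hle P hφ).1

end Cfsg.Agent.Helper26
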