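import Mathlib
import Cfsg.Prelude.Def_FusionSystem
import Cfsg.Agent.Lib.Helper25.FusionAlperin2
import Cfsg.Agent.Lib.Helper25.FusionNormal3
import Cfsg.Agent.Lib.Helper26.FusionInduction

set_option autoImplicit false

/-!
Induction principle for a strongly closed subgroup `T` of a saturated fusion system: a property of maps
stable under composition and inverses holds for all maps as soon as it holds for the automorphisms of the
subgroups containing `T` and for the automorphisms moving every element inside its coset of `T`.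
-/

namespace Cfsg.Agent.Helper26

open Cfsg Cfsg.FusionSystem Cfsg.Agent.Helper25

variable {Ω : Type*} [Group Ω] {S : Subgroup Ω}

/-- the subgroup of `Aut_F(P)` of automorphisms moving every element inside its coset of `T` -/
def cosetAut (F : FusionSystem S) (T P : Subgroup Ω) : Subgroup (MulAut P) where
  carrier := {γ | γ ∈ F.autGroup P ∧ ∀ x : P, (x : Ω)⁻¹ * ((γ x : P) : Ω) ∈ T}
  one_mem' := ⟨Subgroup.one_mem _, fun x => by simp⟩
  mul_mem' := by
    rintro γ δ ⟨hγ, hγ'⟩ ⟨hδ, hδ'⟩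
    refine ⟨Subgroup.mul_mem _ hγ hδ, fun x => ?_⟩
    have h1 := hδ' x
    have h2 := hγ' (δ x)
    have := T.mul_mem h1 h2
    rw [MulAut.mul_apply]
    have e : (x : Ω)⁻¹ * ((γ (δ x) : P) : Ω)
        = (x : Ω)⁻¹ * ((δ x : P) : Ω) * (((δ x : P) : Ω)⁻¹ * ((γ (δ x) : P) : Ω)) := by group
    rw [e]; exact this
  inv_mem' := by
    rintro γ ⟨hγ, hγ'⟩
    refine ⟨Subgroup.inv_mem _ hγ, fun x => ?_⟩
    have h1 := hγ' (γ⁻¹ x)
    rw [MulAut.apply_inv_self] at h1
    have := T.inv_mem h1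
    have e : (x : Ω)⁻¹ * ((γ⁻¹ x : P) : Ω) = (((γ⁻¹ x : P) : Ω)⁻¹ * (x : Ω))⁻¹ := by group
    rw [e]; exact this

lemma mem_cosetAut (F : FusionSystem S) (T P : Subgroup Ω) (γ : MulAut P) :
    γ ∈ cosetAut F T P ↔ γ ∈ F.autGroup P ∧ ∀ x : P, (x : Ω)⁻¹ * ((γ x : P) : Ω) ∈ T := Iff.rfl

/-- `cosetAut` is normalized by `Aut_F(P)` when `T` is strongly closed -/
lemma cosetAut_conj_mem (F : FusionSystem S) {T P : Subgroup Ω} (hT : F.StronglyClosed T)
    (hPS : P ≤ S) {β : MulAut P} (hβ : β ∈ F.autGroup P) {γ : MulAut P}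
    (hγ : γ ∈ cosetAut F T P) : β * γ * β⁻¹ ∈ cosetAut F T P := by
  refine ⟨Subgroup.mul_mem _ (Subgroup.mul_mem _ hβ hγ.1) (Subgroup.inv_mem _ hβ), fun x => ?_⟩
  have h1 := hγ.2 (β⁻¹ x)
  have hmem : (((β⁻¹ x)⁻¹ * γ (β⁻¹ x) : P) : Ω) ∈ T := by
    simpa using h1
  have h2 := aut_mem_of_stronglyClosed F hT hPS hβ hmem
  rw [map_mul, map_inv, MulAut.apply_inv_self] at h2
  simpa [MulAut.mul_apply] using h2

/-- conjugation by an element of `T` normalizing `P` lies in `cosetAut` -/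
lemma normalizerMonoidHom_mem_cosetAut (F : FusionSystem S) {T P : Subgroup Ω}
    (hT : F.StronglyClosed T) (hPS : P ≤ S) {g : Ω} (hgT : g ∈ T)
    (hgN : g ∈ Subgroup.normalizer (P : Set Ω)) :
    P.normalizerMonoidHom ⟨g, hgN⟩ ∈ cosetAut F T P := by
  have hTS : T ≤ S := hT.1
  refine ⟨autInducedBy_le_autGroup F hPS
    ((mem_autInducedBy_iff _).2 ⟨g, hTS hgT, fun x => rfl⟩), fun x => ?_⟩
  show (x : Ω)⁻¹ * (g * (x : Ω) * g⁻¹) ∈ T
  have h1 := conj_mem_of_stronglyClosed' F hT (hPS x.2) hgT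
  have e : (x : Ω)⁻¹ * (g * (x : Ω) * g⁻¹) = (x : Ω)⁻¹ * g * (x : Ω) * g⁻¹ := by group
  rw [e]
  exact T.mul_mem h1 (T.inv_mem hgT)

/-- **Induction along a strongly closed subgroup.** -/
theorem stronglyClosed_induction [Finite S] (p : ℕ) [Fact p.Prime] (hS : IsPGroup p S)
    (F : FusionSystem S) (hF : F.IsSaturated p) {T : Subgroup Ω} (hT : F.StronglyClosed T)
    (Pr : ∀ P : Subgroup Ω, (P →* Ω) → Prop)
    (hconj : ∀ {P : Subgroup Ω} {g : Ω}, P ≤ S → g ∈ S → Pr P (conjHom P g))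
    (hcomp : ∀ {P Q : Subgroup Ω} {φ : P →* Ω} {ψ : Q →* Ω}, φ ∈ F.Hom P → ψ ∈ F.Hom Q → Pr P φ →
      Pr Q ψ → ∀ h : ∀ x : P, φ x ∈ Q, Pr P (ψ.comp (φ.codRestrict Q h)))
    (hinv : ∀ {P : Subgroup Ω} {φ : P →* Ω}, φ ∈ F.Hom P → Pr P φ → ∀ ψ ∈ F.Hom φ.range,
      (∀ x : P, ψ ⟨φ x, ⟨x, rfl⟩⟩ = (x : Ω)) → Pr φ.range ψ)
    (hbig : ∀ P : Subgroup Ω, P ≤ S → T ≤ P → ∀ α ∈ F.autGroup P,
      Pr P (P.subtype.comp α.toMonoidHom))
    (hcoset : ∀ P : Subgroup Ω, P ≤ S → ∀ γ ∈ cosetAut F T P, Pr P (P.subtype.comp γ.toMonoidHom))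
    {R : Subgroup Ω} {φ : R →* Ω} (hφ : φ ∈ F.Hom R) : Pr R φ := by
  have hTS : T ≤ S := hT.1
  have hTn : ∀ g ∈ S, ∀ v ∈ T, g⁻¹ * v * g ∈ T :=
    fun g hg v hv => conj_mem_of_stronglyClosed' F hT hg hv
  let E : FusionSystem S := predSub F Pr hconj hcomp hinv
  have hEmem : ∀ {P : Subgroup Ω} {φ : P →* Ω}, φ ∈ E.Hom P ↔ φ ∈ F.Hom P ∧ Pr P φ :=
    fun {P φ} => Iff.rfl
  have hle : F ≤ E := by
    apply le_of_essential_induction p hS F hF E
    · intro α hα
      rw [mem_autGroup_iff E le_rfl]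
      exact ⟨(mem_autGroup_iff F le_rfl α).mp hα, hbig S le_rfl hTS α hα⟩
    · intro P hess hPne IH α hα
      have hPS : P ≤ S := hess.1.1
      haveI : Finite P := finite_of_le_finite hPS
      rw [mem_autGroup_iff E hPS]
      refine ⟨(mem_autGroup_iff F hPS α).mp hα, ?_⟩
      by_cases hTP : T ≤ P
      · exact hbig P hPS hTP α hα
      · have hfn : F.IsFullyNormalized P := hess.2.1
        obtain ⟨κ, hκ, ν, hν, hακν, hext⟩ := exists_frattini_factor p hS F hF hfn
          (cosetAut F T P) (fun γ hγ => hγ.1)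
          (fun β hβ γ hγ => cosetAut_conj_mem F hT hPS hβ hγ) hα
        obtain ⟨g, hgT, hgN, hgP⟩ := exists_mem_normalizer_not_mem_of_not_le hS hPS hTS hTn hTP
        have hgNS : g ∈ normalizerIn S P := ⟨hTS hgT, hgN⟩
        have hgK : P.normalizerMonoidHom ⟨g, hgNS.2⟩ ∈ cosetAut F T P :=
          normalizerMonoidHom_mem_cosetAut F hT hPS hgT hgN
        have hgext := hext g hgNS hgK
        set ν' : P →* Ω := P.subtype.comp ν.toMonoidHom with hν'
        have hν'F : ν' ∈ F.Hom P := (mem_autGroup_iff F hPS ν).mp hν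
        have hrange : ν'.range = P := by
          ext y
          constructor
          · rintro ⟨x, rfl⟩; exact (ν x).2
          · intro hy
            refine ⟨ν⁻¹ ⟨y, hy⟩, ?_⟩
            show ((ν (ν⁻¹ ⟨y, hy⟩) : P) : Ω) = y
            rw [MulAut.apply_inv_self]
        obtain ⟨-, -, hrec⟩ := of_fullyNormalized p hS F hF hfn
        obtain ⟨ψ, hψ, hψP⟩ := hrec.2 P ν' hν'F hrange
        have hPext : P ≤ extender S P ν' := le_extender F hν'F
        haveI : Finite (extender S P ν') := finite_of_le_finite (extender_le S ν')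
        have hlt : Nat.card P < Nat.card (extender S P ν') := by
          have hfin : (extender S P ν' : Set Ω).Finite := Set.toFinite _
          have h1 := Set.ncard_lt_ncard (s := (P : Set Ω)) (t := (extender S P ν' : Set Ω))
            ⟨hPext, fun h => hgP (h hgext)⟩ hfin
          have e1 : Nat.card P = (P : Set Ω).ncard := _root_.Nat.card_coe_set_eq (P : Set Ω)
          have e2 : Nat.card (extender S P ν') = (extender S P ν' : Set Ω).ncard :=
            _root_.Nat.card_coe_set_eq (extender S P ν' : Set Ω)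
          rw [e1, e2]; exact h1
        have hψE := IH _ ψ hψ hlt
        have hPrψ : Pr _ ψ := (hEmem.mp hψE).2
        -- restrict to `P`
        have hsub : Pr P P.subtype := by
          rw [← conjHom_one]; exact hconj hPS S.one_mem
        have hPrν : Pr P ν' := by
          have h1 := hcomp (subtype_mem F hPS) hψ hsub hPrψ (fun x => hPext x.2)
          have e : ψ.comp (P.subtype.codRestrict (extender S P ν') fun x => hPext x.2) = ν' := by
            ext x
            exact hψP x x.2 (hPext x.2)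
          rwa [e] at h1
        have hPrκ : Pr P (P.subtype.comp κ.toMonoidHom) := hcoset P hPS κ hκ
        have hκF : P.subtype.comp κ.toMonoidHom ∈ F.Hom P := (mem_autGroup_iff F hPS κ).mp hκ.1
        have h2 := hcomp hν'F hκF hPrν hPrκ (fun x => (ν x).2)
        have e2 : (P.subtype.comp κ.toMonoidHom).comp (ν'.codRestrict P fun x => (ν x).2)
            = P.subtype.comp α.toMonoidHom := by
          ext x
          rw [hακν]
          rfl
        rwa [e2] at h2
  exact (hEmem.mp (hle R hφ)).2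

end Cfsg.Agent.Helper26
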