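import Mathlib
import Cfsg.Prelude.Def_FusionSystem
import Cfsg.Agent.Lib.Helper25.FusionNormal2
import Cfsg.Agent.Lib.Helper25.FusionSat3
import Cfsg.Agent.Lib.Helper25.FusionAlperin
import Cfsg.Agent.Lib.Helper25.StabChain
import Cfsg.Agent.Lib.Helper25.FusionSylow2
import Cfsg.Agent.Lib.Helper25.StronglyEmbedded
import Cfsg.Agent.Lib.Helper19.PGroupBasic

/-!
# Criteria against essentiality

* `not_essential_of_normal_pSubgroup`: a normal `p`-subgroup of `Aut_F(P)` containing `Aut_S(P)` rules out
  that `P` is essential.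
* `not_essential_of_chain`: an `Aut_F(P)`-invariant chain from `⊥` to `⊤` in `P` with steps of index `1` or `p`
  rules out that `P` is essential.
-/

set_option autoImplicit false

namespace Cfsg.Agent.Helper26

open Cfsg Cfsg.FusionSystem Cfsg.Agent.Helper25

/-- In a finite `p`-group, a section `V/U` of order `p` between normal subgroups is central. -/
theorem section_central {N : Type*} [Group N] [Finite N] {p : ℕ} [Fact p.Prime] (hN : IsPGroup p N)
    (U V : Subgroup N) [hU : U.Normal] [hV : V.Normal] (hUV : U ≤ V)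
    (hcard : Nat.card V = p * Nat.card U) : ∀ y ∈ V, ∀ s : N, y⁻¹ * (s * y * s⁻¹) ∈ U := by
  have hp : p.Prime := Fact.out
  intro y hy s
  have hQ : IsPGroup p (N ⧸ U) := hN.to_quotient U
  haveI : (V.map (QuotientGroup.mk' U)).Normal :=
    Subgroup.Normal.map hV _ (QuotientGroup.mk'_surjective U)
  have hc : Nat.card (V.map (QuotientGroup.mk' U)) = p := by
    have h1 : (V.map (QuotientGroup.mk' U)).index = V.index := by
      have h2 : (V.map (QuotientGroup.mk' U)).comap (QuotientGroup.mk' U) = V := by
        rw [Subgroup.comap_map_eq, QuotientGroup.ker_mk', sup_of_le_left hUV]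
      rw [← Subgroup.index_comap_of_surjective _ (QuotientGroup.mk'_surjective U), h2]
    have h3 := Subgroup.card_mul_index (V.map (QuotientGroup.mk' U))
    have h4 := Subgroup.card_mul_index V
    have h5 := Subgroup.card_mul_index U
    rw [h1] at h3
    have h6 : Nat.card (N ⧸ U) = U.index := (Subgroup.index_eq_card U).symm
    have hVpos : 0 < V.index := Nat.pos_of_ne_zero Subgroup.index_ne_zero_of_finite
    have hUpos : 0 < Nat.card U := Nat.card_pos
    -- card Q = index U; card N = card U * index U = card V * index V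
    have h7 : Nat.card U * (Nat.card (V.map (QuotientGroup.mk' U)) * V.index) =
        Nat.card U * (p * V.index) := by
      rw [h3, h6, h5, ← h4, hcard]
      ring
    have h8 := Nat.eq_of_mul_eq_mul_left hUpos h7
    exact Nat.eq_of_mul_eq_mul_right hVpos h8
  have hcen := Cfsg.Agent.Helper19.normal_card_prime_le_center hQ (V.map (QuotientGroup.mk' U)) hc
    (Subgroup.mem_map_of_mem _ hy)
  have h1 := Subgroup.mem_center_iff.mp hcen (QuotientGroup.mk' U s)
  -- mk s * mk y = mk y * mk s
  have h2 : QuotientGroup.mk' U (y⁻¹ * (s * y * s⁻¹)) = 1 := by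
    rw [map_mul, map_mul, map_mul, map_inv, map_inv, h1]
    group
  rwa [QuotientGroup.mk'_apply, QuotientGroup.eq_one_iff] at h2

variable {Ω : Type*} [Group Ω] {S : Subgroup Ω}

/-- A normal `p`-subgroup of `Aut_F(P)` containing `Aut_S(P)` contradicts essentiality of `P`. -/
theorem not_essential_of_normal_pSubgroup [Finite S] (p : ℕ) [Fact p.Prime] (hS : IsPGroup p S)
    (F : Cfsg.FusionSystem S) (hF : F.IsSaturated p) {P : Subgroup Ω} (hess : F.IsEssential p P)
    (C : Subgroup (MulAut P)) (hCA : C ≤ F.autGroup P)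
    (hCnormal : (C.subgroupOf (F.autGroup P)).Normal) (hCp : IsPGroup p C)
    (hRC : autInducedBy S P ≤ C) : False := by
  obtain ⟨hcen, hfn, hnormal, E, hE⟩ := hess
  have hPS : P ≤ S := hfn.1
  haveI : Finite P := finite_of_le_finite hPS
  haveI : Finite (MulAut P) :=
    Finite.of_injective (fun α : MulAut P => (α : P → P)) DFunLike.coe_injective
  obtain ⟨-, hfa, -⟩ := of_fullyNormalized p hS F hF hfn
  obtain ⟨-, R, hR⟩ := hfa
  haveI := hnormal
  have hC' : IsPGroup p (C.subgroupOf (F.autGroup P)) :=
    hCp.comap_of_injective (F.autGroup P).subtype (F.autGroup P).subtype_injective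
  have hmapN : ((C.subgroupOf (F.autGroup P)).map
      (QuotientGroup.mk' ((Inn P).subgroupOf (F.autGroup P)))).Normal :=
    Subgroup.Normal.map hCnormal _ (QuotientGroup.mk'_surjective _)
  have hmapP : IsPGroup p ((C.subgroupOf (F.autGroup P)).map
      (QuotientGroup.mk' ((Inn P).subgroupOf (F.autGroup P)))) := hC'.map _
  have hbot := eq_bot_of_normal_of_isStronglyPEmbedded p hE hmapP
  have hCInn : C ≤ Inn P := by
    intro c hc
    have hcA := hCA hc
    have h1 : QuotientGroup.mk' ((Inn P).subgroupOf (F.autGroup P)) ⟨c, hcA⟩ ∈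
        (C.subgroupOf (F.autGroup P)).map (QuotientGroup.mk' ((Inn P).subgroupOf (F.autGroup P))) :=
      ⟨⟨c, hcA⟩, Subgroup.mem_subgroupOf.mpr hc, rfl⟩
    rw [hbot, Subgroup.mem_bot, QuotientGroup.mk'_apply, QuotientGroup.eq_one_iff] at h1
    exact Subgroup.mem_subgroupOf.mp h1
  have hReq : (R : Subgroup (F.autGroup P)) = (Inn P).subgroupOf (F.autGroup P) := by
    rw [hR]
    apply le_antisymm
    · intro a ha
      exact Subgroup.mem_subgroupOf.mpr (hCInn (hRC (Subgroup.mem_subgroupOf.mp ha)))
    · intro a ha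
      exact Subgroup.mem_subgroupOf.mpr (inn_le_autInducedBy hPS (Subgroup.mem_subgroupOf.mp ha))
  have hdiv : p ∣ Nat.card (F.autGroup P ⧸ (Inn P).subgroupOf (F.autGroup P)) := hE.1
  rw [← Subgroup.index_eq_card, ← hReq] at hdiv
  exact R.not_dvd_index hdiv

/-- If `Aut_S(P) ≤ O_p(Aut_F(P))` then `P` is not essential. -/
theorem not_essential_of_autS_le_pCore [Finite S] (p : ℕ) [Fact p.Prime] (hS : IsPGroup p S)
    (F : Cfsg.FusionSystem S) (hF : F.IsSaturated p) {P : Subgroup Ω} (hess : F.IsEssential p P)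
    (h : autInducedBy S P ≤ (Cfsg.pCore p (F.autGroup P)).map (F.autGroup P).subtype) : False := by
  have hPS : P ≤ S := hess.2.1.1
  haveI : Finite P := finite_of_le_finite hPS
  haveI : Finite (MulAut P) :=
    Finite.of_injective (fun α : MulAut P => (α : P → P)) DFunLike.coe_injective
  have hn : (Cfsg.pCore p (F.autGroup P)).Normal :=
    Subgroup.sSup_normal _ (fun _ hH => hH.1)
  have hpg : IsPGroup p (Cfsg.pCore p (F.autGroup P)) :=
    Sylow.sSup_of_normal _ (fun _ h => h.2) (fun _ h => h.1)
  refine not_essential_of_normal_pSubgroup p hS F hF hess _ ?_ ?_ ?_ h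
  · rintro _ ⟨a, -, rfl⟩
    exact a.2
  · have : ((Cfsg.pCore p (F.autGroup P)).map (F.autGroup P).subtype).subgroupOf (F.autGroup P) =
        Cfsg.pCore p (F.autGroup P) := by
      ext a
      rw [Subgroup.mem_subgroupOf]
      constructor
      · rintro ⟨b, hb, hab⟩
        have : b = a := Subtype.ext hab
        rwa [← this]
      · intro ha
        exact ⟨a, ha, rfl⟩
    rw [this]
    exact hn
  · exact hpg.map _

/-- An `Aut_F(P)`-invariant chain from `⊥` to `⊤` in `P` whose steps have index `1` or `p` contradicts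
essentiality of `P`. -/
theorem not_essential_of_chain [Finite S] (p : ℕ) [Fact p.Prime] (hS : IsPGroup p S)
    (F : Cfsg.FusionSystem S) (hF : F.IsSaturated p) {P : Subgroup Ω} (hess : F.IsEssential p P)
    (c : ℕ → Subgroup P) (m : ℕ) (h0 : c 0 = ⊥) (hm : c m = ⊤) (hmono : ∀ i, c i ≤ c (i + 1))
    (hinv : ∀ i, ∀ α ∈ F.autGroup P, ∀ y ∈ c i, α y ∈ c i)
    (hcard : ∀ i, Nat.card (c (i + 1)) = Nat.card (c i) ∨ Nat.card (c (i + 1)) = p * Nat.card (c i)) :
    False := by
  have hPS : P ≤ S := hess.2.1.1
  haveI : Finite P := finite_of_le_finite hPS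
  have hPp : IsPGroup p P := hS.to_le hPS
  apply not_essential_of_autS_le_pCore p hS F hF hess
  intro β hβ
  obtain ⟨s, hsS, hsβ⟩ := (mem_autInducedBy_iff β).mp hβ
  have hβA : β ∈ F.autGroup P := autInducedBy_le_autGroup F hPS hβ
  have hsN : s ∈ Subgroup.normalizer (P : Set Ω) := mem_normalizer_of_aut β hsβ
  apply mem_pCore_of_stabilizesChain p hPp (F.autGroup P) c m hmono hm hinv
  · intro α _
    refine ⟨0, fun y hy => ?_⟩
    rw [h0, Subgroup.mem_bot] at hy
    rw [hy, map_one]
  · refine ⟨hβA, fun i y hy => ?_⟩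
    rcases hcard i with hc | hc
    · -- the step is trivial
      have heq : c i = c (i + 1) :=
        Subgroup.eq_of_le_of_card_ge (hmono i) hc.le
      rw [heq]
      exact Subgroup.mul_mem _ (Subgroup.inv_mem _ hy) (hinv (i + 1) β hβA y hy)
    · -- work in the normalizer of `P` in `S`
      obtain ⟨N, hNdef⟩ : ∃ N : Subgroup Ω, N = normalizerIn S P := ⟨_, rfl⟩
      have hNS : N ≤ S := hNdef ▸ normalizerIn_le
      have hPN : P ≤ N := hNdef ▸ le_normalizerIn hPS
      haveI : Finite N := finite_of_le_finite hNS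
      have hNp : IsPGroup p N := hS.to_le hNS
      -- the images of the chain terms in `N`
      let img : Subgroup P → Subgroup N := fun X => (X.map P.subtype).subgroupOf N
      have hmem_img : ∀ (X : Subgroup P) (n : N), n ∈ img X ↔ ∃ x ∈ X, (x : Ω) = n := by
        intro X n
        show (n : Ω) ∈ X.map P.subtype ↔ _
        constructor
        · rintro ⟨x, hx, hxn⟩; exact ⟨x, hx, hxn⟩
        · rintro ⟨x, hx, hxn⟩; exact ⟨x, hx, hxn⟩
      have himg_normal : ∀ j, (img (c j)).Normal := by
        intro j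
        constructor
        intro n hn g
        obtain ⟨x, hx, hxn⟩ := (hmem_img _ n).mp hn
        have hgN : (g : Ω) ∈ normalizerIn S P := hNdef ▸ g.2
        -- conjugation by `g` on `P`
        have hgα : P.normalizerMonoidHom ⟨g, hgN.2⟩ ∈ F.autGroup P := by
          apply autInducedBy_le_autGroup F hPS
          exact (mem_autInducedBy_iff _).mpr ⟨g, hgN.1, fun z => rfl⟩
        have h1 := hinv j _ hgα x hx
        rw [hmem_img]
        refine ⟨_, h1, ?_⟩
        rw [normalizerMonoidHom_apply_coe]
        simp [hxn]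
      have himg_card : ∀ X : Subgroup P, Nat.card (img X) = Nat.card X := by
        intro X
        have hle : X.map P.subtype ≤ N := by
          rintro _ ⟨x, -, rfl⟩
          exact hPN x.2
        have e1 : Nat.card (img X) = Nat.card (X.map P.subtype) :=
          Nat.card_congr (Subgroup.subgroupOfEquivOfLe hle).toEquiv
        rw [e1]
        exact Nat.card_congr (X.equivMapOfInjective P.subtype P.subtype_injective).symm.toEquiv
      haveI := himg_normal i
      haveI := himg_normal (i + 1)
      have hle : img (c i) ≤ img (c (i + 1)) := by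
        intro n hn
        obtain ⟨x, hx, hxn⟩ := (hmem_img _ n).mp hn
        exact (hmem_img _ n).mpr ⟨x, hmono i hx, hxn⟩
      have hcd : Nat.card (img (c (i + 1))) = p * Nat.card (img (c i)) := by
        rw [himg_card, himg_card, hc]
      have hsNN : s ∈ N := hNdef ▸ ⟨hsS, hsN⟩
      have key := section_central hNp (img (c i)) (img (c (i + 1))) hle hcd ⟨y, hPN y.2⟩
        ((hmem_img _ _).mpr ⟨y, hy, rfl⟩) ⟨s, hsNN⟩
      obtain ⟨x, hx, hxn⟩ := (hmem_img _ _).mp key
      have : x = y⁻¹ * β y := by
        apply Subtype.ext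
        rw [hxn]
        simp [hsβ]
      rw [← this]
      exact hx

end Cfsg.Agent.Helper26
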