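import Mathlib

/-!
# S4840 farm-out (helper14), PIECE Q8 (helper26)

`T ≃* Q₈` normal in `X`: the kernel `Y` of the action of `X` on the three pairs `{u, u⁻¹}` of elements
of order four of `T`.  Exact signature of `plans/GAG40_Skel.lean.txt`.
-/

set_option autoImplicit false

namespace Cfsg.Agent.Helper14.Gag40

open QuaternionGroup

theorem q8_f1 : ∀ t u : QuaternionGroup 2, t * u * t⁻¹ = u ∨ t * u * t⁻¹ = u⁻¹ := by decide

theorem q8_f2 : ∀ u : QuaternionGroup 2, u * u ≠ 1 →
    u = a 1 ∨ u = (a 1)⁻¹ ∨ u = xa 0 ∨ u = (xa 0)⁻¹ ∨ u = a 1 * xa 0 ∨ u = (a 1 * xa 0)⁻¹ := by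
  decide

theorem q8_f3 : (a 1 : QuaternionGroup 2) * a 1 = xa 0 * xa 0 ∧
    (a 1 : QuaternionGroup 2) * a 1 ≠ 1 ∧
    ((a 1 : QuaternionGroup 2) * a 1) * (a 1 * a 1) = 1 ∧
    (xa 0 : QuaternionGroup 2) * a 1 = (a 1 * a 1) * (a 1 * xa 0) := by decide

theorem q8_f4 : ∀ q : QuaternionGroup 2, ∃ m < 4, ∃ n < 2, q = a 1 ^ m * xa 0 ^ n := by decide

theorem q8_f5 : (xa 0 : QuaternionGroup 2) * xa 0 ≠ 1 ∧
    ((a 1 : QuaternionGroup 2) * xa 0) * (a 1 * xa 0) ≠ 1 ∧
    (xa 0 : QuaternionGroup 2) * a 1 * (xa 0)⁻¹ = (a 1)⁻¹ ∧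
    (a 1 : QuaternionGroup 2) * xa 0 * (a 1)⁻¹ = (xa 0)⁻¹ := by decide

section Q8
variable {X : Type*} [Group X]

/-- the pairs `{u, u⁻¹}` of elements of order four of `T` -/
def Q8Pair (T : Subgroup X) : Type _ :=
  {S : Set X // ∃ u ∈ T, u * u ≠ 1 ∧ S = {u, u⁻¹}}

theorem q8_conj_pair (x u : X) :
    (fun v => x * v * x⁻¹) '' ({u, u⁻¹} : Set X) = {x * u * x⁻¹, (x * u * x⁻¹)⁻¹} := by
  rw [Set.image_pair]
  congr 2
  group

noncomputable instance q8PairAction (T : Subgroup X) [hT : T.Normal] : MulAction X (Q8Pair T) where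
  smul x S := ⟨(fun v => x * v * x⁻¹) '' S.1, by
    obtain ⟨u, hu, hu2, hS⟩ := S.2
    refine ⟨x * u * x⁻¹, hT.conj_mem u hu x, ?_, ?_⟩
    · intro h
      apply hu2
      have : x * (u * u) * x⁻¹ = 1 := by
        rw [← h]; group
      have h2 : u * u = x⁻¹ * (x * (u * u) * x⁻¹) * x := by group
      rw [h2, this]; group
    · rw [hS, q8_conj_pair]⟩
  one_smul S := by
    apply Subtype.ext
    change (fun v => (1 : X) * v * (1 : X)⁻¹) '' S.1 = S.1
    simp
  mul_smul x y S := by
    apply Subtype.ext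
    change (fun v => (x * y) * v * (x * y)⁻¹) '' S.1 =
      (fun v => x * v * x⁻¹) '' ((fun v => y * v * y⁻¹) '' S.1)
    rw [Set.image_image]
    congr 1
    funext v
    group

theorem q8_smul_val (T : Subgroup X) [T.Normal] (x : X) (S : Q8Pair T) :
    (x • S).1 = (fun v => x * v * x⁻¹) '' S.1 := rfl

theorem q8_mem_pair_of_eq {u w : X} (h : ({w, w⁻¹} : Set X) = {u, u⁻¹}) : w = u ∨ w = u⁻¹ := by
  have : w ∈ ({u, u⁻¹} : Set X) := by
    rw [← h]; exact Set.mem_insert _ _
  simpa using this

theorem q8_chain [Finite X] (T : Subgroup X) [hTn : T.Normal] (e : T ≃* QuaternionGroup 2) :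
    ∃ Y : Subgroup X, Y.Normal ∧ T ≤ Y ∧ Subgroup.centralizer (T : Set X) ≤ Y ∧ Y.index ∣ 6 ∧
      (Subgroup.centralizer (T : Set X)).relIndex Y ∣ 4 ∧
      (∀ y ∈ Y, Odd (orderOf y) → y ∈ Subgroup.centralizer (T : Set X)) ∧
      ∃ i j : X, i ∈ T ∧ j ∈ T ∧ i * i = j * j ∧ i * i ≠ 1 ∧ (i * i) * (i * i) = 1 ∧
        j * i = (i * i) * (i * j) := by
  classical
  -- the generators
  obtain ⟨iT, hiT⟩ : ∃ iT : T, e iT = a 1 := ⟨e.symm (a 1), e.apply_symm_apply _⟩
  obtain ⟨jT, hjT⟩ : ∃ jT : T, e jT = xa 0 := ⟨e.symm (xa 0), e.apply_symm_apply _⟩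
  -- transported facts, inside `T`
  have F1 : ∀ t u : T, t * u * t⁻¹ = u ∨ t * u * t⁻¹ = u⁻¹ := by
    intro t u
    rcases q8_f1 (e t) (e u) with h | h
    · left
      apply e.injective
      rw [map_mul, map_mul, map_inv, h]
    · right
      apply e.injective
      rw [map_mul, map_mul, map_inv, map_inv, h]
  have F2 : ∀ u : T, u * u ≠ 1 → u = iT ∨ u = iT⁻¹ ∨ u = jT ∨ u = jT⁻¹ ∨ u = iT * jT ∨
      u = (iT * jT)⁻¹ := by
    intro u hu
    have hu' : e u * e u ≠ 1 := by
      intro h
      apply hu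
      apply e.injective
      rw [map_mul, h, map_one]
    rcases q8_f2 (e u) hu' with h | h | h | h | h | h
    · left; apply e.injective; rw [h, hiT]
    · right; left; apply e.injective; rw [h, map_inv, hiT]
    · right; right; left; apply e.injective; rw [h, hjT]
    · right; right; right; left; apply e.injective; rw [h, map_inv, hjT]
    · right; right; right; right; left; apply e.injective; rw [h, map_mul, hiT, hjT]
    · right; right; right; right; right; apply e.injective; rw [h, map_inv, map_mul, hiT, hjT]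
  obtain ⟨r1, r2, r3, r4⟩ := q8_f3
  obtain ⟨s1, s2, s3, s4⟩ := q8_f5
  have R1 : iT * iT = jT * jT := by
    apply e.injective; rw [map_mul, map_mul, hiT, hjT, r1]
  have R2 : iT * iT ≠ 1 := by
    intro h
    apply r2
    rw [← hiT, ← map_mul, h, map_one]
  have R3 : (iT * iT) * (iT * iT) = 1 := by
    apply e.injective; rw [map_mul, map_mul, hiT, r3, map_one]
  have R4 : jT * iT = (iT * iT) * (iT * jT) := by
    apply e.injective
    simp only [map_mul, hiT, hjT]
    exact r4
  have S1 : jT * jT ≠ 1 := by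
    intro h
    apply s1
    rw [← hjT, ← map_mul, h, map_one]
  have S2 : (iT * jT) * (iT * jT) ≠ 1 := by
    intro h
    apply s2
    rw [← hiT, ← hjT, ← map_mul, ← map_mul, h, map_one]
  have S3 : jT * iT * jT⁻¹ = iT⁻¹ := by
    apply e.injective
    simp only [map_mul, map_inv, hiT, hjT]
    exact s3
  have S4 : iT * jT * iT⁻¹ = jT⁻¹ := by
    apply e.injective
    simp only [map_mul, map_inv, hiT, hjT]
    exact s4
  have F4 : ∀ t : T, ∃ m n : ℕ, t = iT ^ m * jT ^ n := by
    intro t
    obtain ⟨m, _, n, _, h⟩ := q8_f4 (e t)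
    refine ⟨m, n, ?_⟩
    apply e.injective
    rw [h, map_mul, map_pow, map_pow, hiT, hjT]
  -- in `X`
  set i : X := (iT : X) with hi
  set j : X := (jT : X) with hj
  have hiTm : i ∈ T := iT.2
  have hjTm : j ∈ T := jT.2
  have X1 : i * i = j * j := by
    have := congrArg (Subtype.val) R1
    simpa using this
  have X2 : i * i ≠ 1 := by
    intro h
    apply R2
    apply Subtype.ext
    simpa using h
  have X3 : (i * i) * (i * i) = 1 := by
    have := congrArg (Subtype.val) R3
    simpa using this
  have X4 : j * i = (i * i) * (i * j) := by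
    have := congrArg (Subtype.val) R4
    simpa using this
  have XS1 : j * j ≠ 1 := by
    rw [← X1]; exact X2
  have XS2 : (i * j) * (i * j) ≠ 1 := by
    intro h
    apply S2
    apply Subtype.ext
    simpa using h
  have XS3 : j * i * j⁻¹ = i⁻¹ := by
    have := congrArg (Subtype.val) S3
    simpa using this
  have XS4 : i * j * i⁻¹ = j⁻¹ := by
    have := congrArg (Subtype.val) S4
    simpa using this
  have XF1 : ∀ t ∈ T, ∀ u ∈ T, t * u * t⁻¹ = u ∨ t * u * t⁻¹ = u⁻¹ := by
    intro t ht u hu
    rcases F1 ⟨t, ht⟩ ⟨u, hu⟩ with h | h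
    · left
      have := congrArg (Subtype.val) h
      simpa using this
    · right
      have := congrArg (Subtype.val) h
      simpa using this
  have XF2 : ∀ u ∈ T, u * u ≠ 1 → u = i ∨ u = i⁻¹ ∨ u = j ∨ u = j⁻¹ ∨ u = i * j ∨
      u = (i * j)⁻¹ := by
    intro u hu hu2
    have hu2' : (⟨u, hu⟩ : T) * ⟨u, hu⟩ ≠ 1 := by
      intro h
      apply hu2
      have := congrArg (Subtype.val) h
      simpa using this
    rcases F2 ⟨u, hu⟩ hu2' with h | h | h | h | h | h
    · left
      have := congrArg (Subtype.val) h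
      simpa using this
    · right; left
      have := congrArg (Subtype.val) h
      simpa using this
    · right; right; left
      have := congrArg (Subtype.val) h
      simpa using this
    · right; right; right; left
      have := congrArg (Subtype.val) h
      simpa using this
    · right; right; right; right; left
      have := congrArg (Subtype.val) h
      simpa using this
    · right; right; right; right; right
      have := congrArg (Subtype.val) h
      simpa using this
  have XF4 : ∀ t ∈ T, ∃ m n : ℕ, t = i ^ m * j ^ n := by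
    intro t ht
    obtain ⟨m, n, h⟩ := F4 ⟨t, ht⟩
    refine ⟨m, n, ?_⟩
    have := congrArg (Subtype.val) h
    simpa using this
  -- commuting with `i` and `j` means centralizing `T`
  have hcent : ∀ c : X, c * i = i * c → c * j = j * c →
      c ∈ Subgroup.centralizer (T : Set X) := by
    intro c hci hcj
    rw [Subgroup.mem_centralizer_iff]
    intro t ht
    obtain ⟨m, n, rfl⟩ := XF4 t ht
    have h1 : Commute c (i ^ m) := (show Commute c i from hci).pow_right m
    have h2 : Commute c (j ^ n) := (show Commute c j from hcj).pow_right n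
    exact ((h1.mul_right h2).eq).symm
  -- the three pairs
  let ωi : Q8Pair T := ⟨{i, i⁻¹}, i, hiTm, X2, rfl⟩
  let ωj : Q8Pair T := ⟨{j, j⁻¹}, j, hjTm, XS1, rfl⟩
  let ωk : Q8Pair T := ⟨{i * j, (i * j)⁻¹}, i * j, T.mul_mem hiTm hjTm, XS2, rfl⟩
  have hsurj : Function.Surjective (fun n : Fin 3 => if n = 0 then ωi else if n = 1 then ωj else ωk) := by
    intro ω
    obtain ⟨S, u, hu, hu2, hS⟩ := ω
    rcases XF2 u hu hu2 with h | h | h | h | h | h
    · refine ⟨0, Subtype.ext ?_⟩
      simp only [if_true]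
      rw [hS, h]
    · refine ⟨0, Subtype.ext ?_⟩
      simp only [if_true]
      rw [hS, h, inv_inv, Set.pair_comm]
    · refine ⟨1, Subtype.ext ?_⟩
      simp only [Fin.reduceEq, if_false, if_true]
      rw [hS, h]
    · refine ⟨1, Subtype.ext ?_⟩
      simp only [Fin.reduceEq, if_false, if_true]
      rw [hS, h, inv_inv, Set.pair_comm]
    · refine ⟨2, Subtype.ext ?_⟩
      simp only [Fin.reduceEq, if_false]
      rw [hS, h]
    · refine ⟨2, Subtype.ext ?_⟩
      simp only [Fin.reduceEq, if_false]
      rw [hS, h, inv_inv, Set.pair_comm]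
  have : Finite (Q8Pair T) := Finite.of_surjective _ hsurj
  have hcardΩ : Nat.card (Q8Pair T) ≤ 3 := by
    have := Nat.card_le_card_of_surjective _ hsurj
    simpa using this
  -- the kernel
  set Y : Subgroup X := (MulAction.toPermHom X (Q8Pair T)).ker with hY
  have hYmem : ∀ y : X, y ∈ Y ↔ ∀ ω : Q8Pair T, y • ω = ω := by
    intro y
    rw [hY, MonoidHom.mem_ker]
    constructor
    · intro h ω
      have := congrArg (fun σ : Equiv.Perm (Q8Pair T) => σ ω) h
      simpa using this
    · intro h
      exact Equiv.ext fun ω => h ω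
  have hYpair : ∀ y ∈ Y, ∀ u ∈ T, u * u ≠ 1 → y * u * y⁻¹ = u ∨ y * u * y⁻¹ = u⁻¹ := by
    intro y hy u hu hu2
    have h1 := (hYmem y).1 hy ⟨{u, u⁻¹}, u, hu, hu2, rfl⟩
    have h2 : (fun v => y * v * y⁻¹) '' ({u, u⁻¹} : Set X) = {u, u⁻¹} := congrArg Subtype.val h1
    rw [q8_conj_pair] at h2
    exact q8_mem_pair_of_eq h2
  have hTY : T ≤ Y := by
    intro t ht
    rw [hYmem]
    rintro ⟨S, u, hu, hu2, hS⟩
    apply Subtype.ext
    change (fun v => t * v * t⁻¹) '' S = S
    rw [hS, q8_conj_pair]
    rcases XF1 t ht u hu with h | h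
    · rw [h]
    · rw [h, inv_inv, Set.pair_comm]
  have hCY : Subgroup.centralizer (T : Set X) ≤ Y := by
    intro c hc
    rw [hYmem]
    rintro ⟨S, u, hu, hu2, hS⟩
    apply Subtype.ext
    change (fun v => c * v * c⁻¹) '' S = S
    rw [hS, q8_conj_pair]
    have : c * u * c⁻¹ = u := by
      rw [Subgroup.mem_centralizer_iff] at hc
      rw [← hc u hu]; group
    rw [this]
  have hidx : Y.index ∣ 6 := by
    rw [hY, Subgroup.index_ker]
    have h1 : Nat.card (MulAction.toPermHom X (Q8Pair T)).range ∣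
        Nat.card (Equiv.Perm (Q8Pair T)) := Subgroup.card_subgroup_dvd_card _
    rw [Nat.card_perm] at h1
    exact h1.trans (Nat.factorial_dvd_factorial hcardΩ)
  -- squares of elements of `Y` centralize `T`
  have hsq : ∀ y ∈ Y, y * y ∈ Subgroup.centralizer (T : Set X) := by
    intro y hy
    have key : ∀ u ∈ T, u * u ≠ 1 → (y * y) * u = u * (y * y) := by
      intro u hu hu2
      rcases hYpair y hy u hu hu2 with h | h
      · have h' : y * u = u * y := by
          have := congrArg (· * y) h
          simpa [mul_assoc] using this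
        calc y * y * u = y * (y * u) := by group
          _ = y * (u * y) := by rw [h']
          _ = (y * u) * y := by group
          _ = u * y * y := by rw [h']
          _ = u * (y * y) := by group
      · have h' : y * u = u⁻¹ * y := by
          have := congrArg (· * y) h
          simpa [mul_assoc] using this
        have h'' : y * u⁻¹ = u * y := by
          have : y * u⁻¹ * y⁻¹ = u := by
            have e1 : y * u⁻¹ * y⁻¹ = (y * u * y⁻¹)⁻¹ := by group
            rw [e1, h, inv_inv]
          have := congrArg (· * y) this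
          simpa [mul_assoc] using this
        calc y * y * u = y * (y * u) := by group
          _ = y * (u⁻¹ * y) := by rw [h']
          _ = (y * u⁻¹) * y := by group
          _ = u * y * y := by rw [h'']
          _ = u * (y * y) := by group
    exact hcent _ (key i hiTm X2) (key j hjTm XS1)
  have hodd : ∀ y ∈ Y, Odd (orderOf y) → y ∈ Subgroup.centralizer (T : Set X) := by
    intro y hy hoddy
    obtain ⟨k, hk⟩ := hoddy
    have h1 : y = (y * y) ^ (k + 1) := by
      rw [← pow_two, ← pow_mul]
      have : 2 * (k + 1) = orderOf y + 1 := by omega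
      rw [this, pow_succ, pow_orderOf_eq_one, one_mul]
    rw [h1]
    exact Subgroup.pow_mem _ (hsq y hy) _
  -- `Y ≤ T ⊔ C`
  have hYsup : Y ≤ T ⊔ Subgroup.centralizer (T : Set X) := by
    intro y hy
    have hyi := hYpair y hy i hiTm X2
    have hyj := hYpair y hy j hjTm XS1
    -- choose `t ∈ T` with the same sign pattern
    obtain ⟨t, htT, hti, htj⟩ : ∃ t ∈ T, t * i * t⁻¹ = y * i * y⁻¹ ∧ t * j * t⁻¹ = y * j * y⁻¹ := by
      rcases hyi with h1 | h1 <;> rcases hyj with h2 | h2
      · exact ⟨1, T.one_mem, by rw [h1]; group, by rw [h2]; group⟩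
      · refine ⟨i, hiTm, by rw [h1]; group, by rw [h2]; exact XS4⟩
      · refine ⟨j, hjTm, by rw [h1]; exact XS3, by rw [h2]; group⟩
      · refine ⟨i * j, T.mul_mem hiTm hjTm, ?_, ?_⟩
        · rw [h1]
          calc i * j * i * (i * j)⁻¹ = i * (j * i * j⁻¹) * i⁻¹ := by group
            _ = i * i⁻¹ * i⁻¹ := by rw [XS3]
            _ = i⁻¹ := by group
        · rw [h2]
          calc i * j * j * (i * j)⁻¹ = i * j * i⁻¹ := by group
            _ = j⁻¹ := XS4
    have hc : t⁻¹ * y ∈ Subgroup.centralizer (T : Set X) := by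
      apply hcent
      · have : t⁻¹ * y * i * (t⁻¹ * y)⁻¹ = i := by
          calc t⁻¹ * y * i * (t⁻¹ * y)⁻¹ = t⁻¹ * (y * i * y⁻¹) * t := by group
            _ = t⁻¹ * (t * i * t⁻¹) * t := by rw [hti]
            _ = i := by group
        have := congrArg (· * (t⁻¹ * y)) this
        simpa [mul_assoc] using this
      · have : t⁻¹ * y * j * (t⁻¹ * y)⁻¹ = j := by
          calc t⁻¹ * y * j * (t⁻¹ * y)⁻¹ = t⁻¹ * (y * j * y⁻¹) * t := by group
            _ = t⁻¹ * (t * j * t⁻¹) * t := by rw [htj]
            _ = j := by group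
        have := congrArg (· * (t⁻¹ * y)) this
        simpa [mul_assoc] using this
    have : y = t * (t⁻¹ * y) := by group
    rw [this]
    exact Subgroup.mul_mem_sup htT hc
  have hrel : (Subgroup.centralizer (T : Set X)).relIndex Y ∣ 4 := by
    have h1 := Subgroup.relIndex_mul_relIndex (Subgroup.centralizer (T : Set X)) Y
      (T ⊔ Subgroup.centralizer (T : Set X)) hCY hYsup
    have h2 : (Subgroup.centralizer (T : Set X)).relIndex (T ⊔ Subgroup.centralizer (T : Set X)) =
        (Subgroup.centralizer (T : Set X)).relIndex T := Subgroup.relIndex_sup_right _ _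
    have h3 : (Subgroup.centralizer (T : Set X)).relIndex T ∣ 4 := by
      rw [← Subgroup.inf_relIndex_right]
      have hle : Subgroup.centralizer (T : Set X) ⊓ T ≤ T := inf_le_right
      have h4 := Subgroup.relIndex_mul_relIndex ⊥ (Subgroup.centralizer (T : Set X) ⊓ T) T bot_le hle
      rw [Subgroup.relIndex_bot_left, Subgroup.relIndex_bot_left] at h4
      have hcardT : Nat.card T = 8 := by
        rw [Nat.card_congr e.toEquiv, Nat.card_eq_fintype_card, QuaternionGroup.card]
      rw [hcardT] at h4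
      -- the central involution
      have hz : i * i ∈ Subgroup.centralizer (T : Set X) ⊓ T := by
        refine ⟨?_, T.mul_mem hiTm hiTm⟩
        apply hcent
        · group
        · rw [X1]; group
      have h5 : 2 ∣ Nat.card (Subgroup.centralizer (T : Set X) ⊓ T : Subgroup X) := by
        have ho : orderOf (⟨i * i, hz⟩ : (Subgroup.centralizer (T : Set X) ⊓ T : Subgroup X)) = 2 := by
          apply orderOf_eq_prime
          · apply Subtype.ext
            rw [Subgroup.coe_pow, pow_two]
            exact X3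
          · intro h
            apply X2
            exact congrArg Subtype.val h
        rw [← ho]
        exact orderOf_dvd_natCard _
      obtain ⟨s, hs⟩ := h5
      rw [hs] at h4
      exact ⟨s, by nlinarith⟩
    rw [h2] at h1
    exact Dvd.dvd.trans ⟨_, h1.symm⟩ h3
  exact ⟨Y, MonoidHom.normal_ker _, hTY, hCY, hidx, hrel, hodd, i, j, hiTm, hjTm, X1, X2, X3, X4⟩

end Q8

end Cfsg.Agent.Helper14.Gag40
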