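import Mathlib
import Cfsg.Agent.Lib.Helper2.SL2Sylow
import Cfsg.Agent.Lib.Helper2.GL2Sylow

set_option autoImplicit false

/-!
Automorphisms of an elementary abelian group of order `p²` as `2 × 2` matrices, and the subgroup generated
by two distinct Sylow `p`-subgroups of a subgroup of `GL₂(p)`.
-/

namespace Cfsg.Agent.Helper26

open Matrix

/-- endomorphisms of a `ZMod p`-module of order `p ^ 2` as matrices -/
theorem exists_injective_matrix {W : Type*} [AddCommGroup W] (p : ℕ) [Fact p.Prime]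
    [Module (ZMod p) W] [Finite W] (hcard : Nat.card W = p ^ 2) :
    ∃ ρ : Module.End (ZMod p) W →* Matrix (Fin 2) (Fin 2) (ZMod p), Function.Injective ρ := by
  classical
  have hp : p.Prime := Fact.out
  haveI : Module.Finite (ZMod p) W := Module.Finite.of_finite
  have hfr : Module.finrank (ZMod p) W = 2 := by
    have h1 := Module.natCard_eq_pow_finrank (K := ZMod p) (V := W)
    rw [hcard, Nat.card_zmod] at h1
    exact (Nat.pow_right_injective hp.two_le h1).symm
  let B : Module.Basis (Fin 2) (ZMod p) W := Module.finBasisOfFinrankEq _ _ hfr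
  exact ⟨((LinearMap.toMatrixAlgEquiv B : Module.End (ZMod p) W ≃ₐ[ZMod p] _) :
      Module.End (ZMod p) W →* _), (LinearMap.toMatrixAlgEquiv B).injective⟩

/-- automorphisms as matrices, module version -/
theorem exists_injective_GL2_module {V : Type*} [CommGroup V] [Finite V] (p : ℕ) [Fact p.Prime]
    [Module (ZMod p) (Additive V)] (hcard : Nat.card V = p ^ 2) :
    ∃ ρ : MulAut V →* GL (Fin 2) (ZMod p), Function.Injective ρ := by
  classical
  haveI : Finite (Additive V) := inferInstanceAs (Finite V)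
  obtain ⟨ρ₁, hρ₁⟩ := exists_injective_matrix (W := Additive V) p hcard
  let linHom : MulAut V →* Module.End (ZMod p) (Additive V) :=
    { toFun := fun α => (MonoidHom.toAdditive α.toMonoidHom).toZModLinearMap p
      map_one' := LinearMap.ext fun v => by simp
      map_mul' := fun α β => LinearMap.ext fun v => by simp [Module.End.mul_apply] }
  refine ⟨(ρ₁.comp linHom).toHomUnits, ?_⟩
  intro α β hαβ
  have h1 : (ρ₁.comp linHom) α = (ρ₁.comp linHom) β := by
    have := congrArg (fun g : GL (Fin 2) (ZMod p) => (g : Matrix (Fin 2) (Fin 2) (ZMod p))) hαβ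
    simpa using this
  have h2 : linHom α = linHom β := hρ₁ h1
  ext v
  have := LinearMap.congr_fun h2 (Additive.ofMul v)
  exact this

/-- automorphisms as matrices, commutative version -/
theorem exists_injective_GL2_comm {V : Type*} [CommGroup V] [Finite V] (p : ℕ) [Fact p.Prime]
    (hexp : ∀ x : V, x ^ p = 1) (hcard : Nat.card V = p ^ 2) :
    ∃ ρ : MulAut V →* GL (Fin 2) (ZMod p), Function.Injective ρ := by
  letI : Module (ZMod p) (Additive V) := AddCommGroup.zmodModule (n := p) (fun v => by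
    show Additive.ofMul (Additive.toMul v ^ p) = 0
    rw [hexp]; rfl)
  exact exists_injective_GL2_module p hcard

/-- the automorphism group of an elementary abelian group of order `p ^ 2` embeds in `GL₂(p)` -/
theorem exists_injective_GL2 {V : Type*} [Group V] [Finite V] (p : ℕ) [Fact p.Prime]
    (hcomm : ∀ a b : V, a * b = b * a) (hexp : ∀ x : V, x ^ p = 1) (hcard : Nat.card V = p ^ 2) :
    ∃ ρ : MulAut V →* GL (Fin 2) (ZMod p), Function.Injective ρ := by
  letI : CommGroup V := { (inferInstance : Group V) with mul_comm := hcomm }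
  exact exists_injective_GL2_comm p hexp hcard

/-- the image of `SL₂` in `GL₂` consists of the matrices of determinant one -/
lemma mem_range_toGL {F : Type*} [Field F] (g : GL (Fin 2) F)
    (h : (g : Matrix (Fin 2) (Fin 2) F).det = 1) :
    g ∈ (Matrix.SpecialLinearGroup.toGL : Matrix.SpecialLinearGroup (Fin 2) F →* GL (Fin 2) F).range :=
  ⟨⟨(g : Matrix (Fin 2) (Fin 2) F), h⟩, Units.ext rfl⟩

/-- in a finite group with an injective map to `GL₂(p)`, two distinct Sylow `p`-subgroups generate a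
copy of `SL₂(p)` -/
theorem exists_SL2_of_two_sylow {A : Type*} [Group A] [Finite A] (p : ℕ) [Fact p.Prime]
    (f : A →* GL (Fin 2) (ZMod p)) (hf : Function.Injective f) (R₁ R₂ : Sylow p A) (hne : R₁ ≠ R₂) :
    Nonempty (↥((R₁ : Subgroup A) ⊔ (R₂ : Subgroup A)) ≃* Matrix.SpecialLinearGroup (Fin 2) (ZMod p)) := by
  classical
  have hp : p.Prime := Fact.out
  let toGL : Matrix.SpecialLinearGroup (Fin 2) (ZMod p) →* GL (Fin 2) (ZMod p) :=
    Matrix.SpecialLinearGroup.toGL
  have htoGL : Function.Injective toGL := by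
    intro a b hab
    apply Subtype.ext
    have := congrArg (fun g : GL (Fin 2) (ZMod p) => (g : Matrix (Fin 2) (Fin 2) (ZMod p))) hab
    exact this
  -- Sylow subgroups of `GL₂(p)` have order `p`
  have hcardGL : ∀ Q : Sylow p (GL (Fin 2) (ZMod p)), Nat.card Q = p := by
    intro Q
    obtain ⟨Q0, hQ0⟩ := Cfsg.Agent.Helper2.GL2.exists_sylow_eq_U (F := ZMod p) p
    have h1 : Nat.card Q = Nat.card Q0 := by
      rw [Sylow.card_eq_multiplicity, Sylow.card_eq_multiplicity]
    have h2 : Nat.card Q0 = Nat.card (Cfsg.Agent.Helper2.GL2.U (ZMod p)) := by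
      show Nat.card (Q0 : Subgroup (GL (Fin 2) (ZMod p))) = _
      rw [hQ0]
    rw [h1, h2, Cfsg.Agent.Helper2.GL2.card_U, ZMod.card]
  -- the two Sylow subgroups have the same order, not one
  have hcardR : Nat.card R₁ = Nat.card R₂ := by
    rw [Sylow.card_eq_multiplicity, Sylow.card_eq_multiplicity]
  have hR1 : Nat.card R₁ ≠ 1 := by
    intro h1
    apply hne
    apply Sylow.ext
    have e1 : (R₁ : Subgroup A) = ⊥ := Subgroup.card_eq_one.mp h1
    have e2 : (R₂ : Subgroup A) = ⊥ := Subgroup.card_eq_one.mp (hcardR ▸ h1)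
    rw [e1, e2]
  -- images in `GL₂(p)` are Sylow subgroups
  have key : ∀ R : Sylow p A, Nat.card R ≠ 1 →
      ∃ Q : Sylow p (GL (Fin 2) (ZMod p)), (Q : Subgroup _) = (R : Subgroup A).map f := by
    intro R hR
    have hpg : IsPGroup p ((R : Subgroup A).map f) := R.isPGroup'.map f
    obtain ⟨Q, hQ⟩ := hpg.exists_le_sylow
    refine ⟨Q, ?_⟩
    symm
    apply Subgroup.eq_of_le_of_card_ge hQ
    have hc : Nat.card ((R : Subgroup A).map f) = Nat.card R := Subgroup.card_map_of_injective hf
    have hdvd : Nat.card ((R : Subgroup A).map f) ∣ Nat.card Q := Subgroup.card_dvd_of_le hQ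
    rw [hcardGL Q] at hdvd ⊢
    rcases (Nat.dvd_prime hp).mp hdvd with h | h
    · rw [hc] at h; exact absurd h hR
    · rw [h]
  obtain ⟨Q₁, hQ₁⟩ := key R₁ hR1
  obtain ⟨Q₂, hQ₂⟩ := key R₂ (hcardR ▸ hR1)
  have hQne : Q₁ ≠ Q₂ := by
    intro h
    apply hne
    apply Sylow.ext
    apply Subgroup.map_injective hf
    rw [← hQ₁, ← hQ₂, h]
  -- Sylow subgroups of `GL₂(p)` lie in the image of `SL₂(p)`
  have hdet : ∀ Q : Sylow p (GL (Fin 2) (ZMod p)), (Q : Subgroup _) ≤ toGL.range := by
    intro Q x hx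
    obtain ⟨g, hg⟩ := Cfsg.Agent.Helper2.GL2.exists_conj_eq (F := ZMod p) p Q
    obtain ⟨b, rfl⟩ := (hg x).mp hx
    apply mem_range_toGL
    have h1 : ((g * Cfsg.Agent.Helper2.GL2.uGL b * g⁻¹ : GL (Fin 2) (ZMod p)) :
        Matrix (Fin 2) (Fin 2) (ZMod p)).det
        = Matrix.GeneralLinearGroup.det (g * Cfsg.Agent.Helper2.GL2.uGL b * g⁻¹) := rfl
    rw [h1, map_mul, map_mul, map_inv, mul_comm, ← mul_assoc, inv_mul_cancel, one_mul]
    show (Cfsg.Agent.Helper2.GL2.uGL b : Matrix (Fin 2) (Fin 2) (ZMod p)).det = 1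
    rw [Cfsg.Agent.Helper2.GL2.uGL_coe, Matrix.det_fin_two_of]
    ring
  -- pull back to `SL₂(p)`
  have key2 : ∀ Q : Sylow p (GL (Fin 2) (ZMod p)),
      ∃ P : Sylow p (Matrix.SpecialLinearGroup (Fin 2) (ZMod p)),
        (P : Subgroup _).map toGL = (Q : Subgroup _) := by
    intro Q
    have hmap : ((Q : Subgroup _).comap toGL).map toGL = (Q : Subgroup _) :=
      Subgroup.map_comap_eq_self (hdet Q)
    have hc : Nat.card ((Q : Subgroup _).comap toGL) = p := by
      rw [← Subgroup.card_map_of_injective htoGL, hmap]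
      exact hcardGL Q
    have hpg : IsPGroup p ((Q : Subgroup _).comap toGL) := IsPGroup.of_card (n := 1) (by rw [hc, pow_one])
    obtain ⟨P, hP⟩ := hpg.exists_le_sylow
    refine ⟨P, ?_⟩
    have hPeq : (Q : Subgroup _).comap toGL = (P : Subgroup _) := by
      apply Subgroup.eq_of_le_of_card_ge hP
      rw [hc]
      have := Cfsg.Agent.Helper2.SL2S.card_sylow_SL2 (F := ZMod p) p P
      rw [ZMod.card] at this
      exact this.le
    rw [← hPeq]
    exact hmap
  obtain ⟨P₁, hP₁⟩ := key2 Q₁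
  obtain ⟨P₂, hP₂⟩ := key2 Q₂
  have hPne : P₁ ≠ P₂ := by
    intro h
    apply hQne
    apply Sylow.ext
    rw [← hP₁, ← hP₂, h]
  have htop := Cfsg.Agent.Helper2.SL2S.sylow_sup_eq_top (F := ZMod p) p P₁ P₂ hPne
  have hrange : ((R₁ : Subgroup A) ⊔ (R₂ : Subgroup A)).map f = toGL.range := by
    rw [Subgroup.map_sup, ← hQ₁, ← hQ₂, ← hP₁, ← hP₂, ← Subgroup.map_sup, htop,
      MonoidHom.range_eq_map]
  exact ⟨((Subgroup.equivMapOfInjective _ f hf).trans (MulEquiv.subgroupCongr hrange)).trans
    (MonoidHom.ofInjective htoGL).symm⟩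

end Cfsg.Agent.Helper26
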