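import Mathlib
import Cfsg.Agent.Lib.Helper4.ThBField
import Cfsg.Agent.Lib.Helper20.HHQuadI
import Cfsg.Agent.Lib.Helper23.PSolvable

/-!
# S3786 piece Y, core form (helper26 for helper3)

`pow_comm_of_tight_of_lin`: piece Y with the linear statement X-LIN passed as a hypothesis
(`LinComm p V`), so that it does not depend on the X-LIN file.
-/

set_option autoImplicit false

namespace Cfsg.Agent.Helper3.HHX

open Cfsg Subgroup Cfsg.Agent.Helper4.ThB Cfsg.Agent.Helper20.HHQ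

/-- The statement of piece X-LIN over `ZMod p` on a fixed module `V`. -/
def LinComm (p : ℕ) [Fact p.Prime] (V : Type*) [AddCommGroup V] [Module (ZMod p) V] : Prop :=
  ∀ q : ℕ, q.Prime → p ≠ q → ∀ Q S : Subgroup (V ≃ₗ[ZMod p] V), IsPGroup q Q → IsPGroup p S →
    S ≤ normalizer (Q : Set (V ≃ₗ[ZMod p] V)) → ∀ z₁ z₂ : V ≃ₗ[ZMod p] V, z₁ ∈ S → z₂ ∈ S →
    ∀ k₁ k₂ : ℕ, 1 ≤ k₁ → 1 ≤ k₂ → (op z₁ - 1) ^ (p ^ k₁ - 1) = 0 →
    (op z₂ - 1) ^ (p ^ k₂ - 1) = 0 →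
    ∀ g ∈ Q, (z₁ ^ p ^ (k₁ - 1) * z₂ ^ p ^ (k₂ - 1) * (z₁ ^ p ^ (k₁ - 1))⁻¹ *
      (z₂ ^ p ^ (k₂ - 1))⁻¹) * g = g * (z₁ ^ p ^ (k₁ - 1) * z₂ ^ p ^ (k₂ - 1) *
      (z₁ ^ p ^ (k₁ - 1))⁻¹ * (z₂ ^ p ^ (k₂ - 1))⁻¹)

/-- Piece Y with X-LIN as a hypothesis. -/
theorem pow_comm_of_tight_of_lin {H : Type*} [Group H] [Finite H] {p : ℕ} [Fact p.Prime]
    (hsol : IsPSolvable p H) (hO : pCore p H = ⊥)
    {V : Type*} [AddCommGroup V] [Module (ZMod p) V]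
    (hlin : LinComm p V)
    (ρ : H →* (V ≃ₗ[ZMod p] V)) (hρ : Function.Injective ρ) (n : ℕ)
    (htight : ∀ h : H, (∃ k : ℕ, h ^ p ^ k = 1) → (op (ρ h) - 1) ^ (p ^ (n + 1) - 1) = 0)
    (S : Subgroup H) (hS : IsPGroup p ↥S) (s₁ s₂ : H) (hs₁ : s₁ ∈ S) (hs₂ : s₂ ∈ S) :
    s₁ ^ p ^ n * s₂ ^ p ^ n = s₂ ^ p ^ n * s₁ ^ p ^ n := by
  classical
  by_contra hne
  set a := s₁ ^ p ^ n with ha
  set b := s₂ ^ p ^ n with hb
  set c := a * b * a⁻¹ * b⁻¹ with hc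
  have hc1 : c ≠ 1 := by
    intro h1
    apply hne
    have : a * b = c * (b * a) := by rw [hc]; group
    rw [this, h1, one_mul]
  have haS : a ∈ S := S.pow_mem hs₁ _
  have hbS : b ∈ S := S.pow_mem hs₂ _
  have hcS : c ∈ S := S.mul_mem (S.mul_mem (S.mul_mem haS hbS) (S.inv_mem haS)) (S.inv_mem hbS)
  obtain ⟨q, hq, T, hqp, hT, hST, g, hgT, hg⟩ :=
    exists_invariant_qsubgroup_of_pgroup hsol hO S hS c hcS hc1
  -- map everything by ρ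
  have hTq : IsPGroup q ↥(T.map ρ) := hT.map ρ
  have hSp : IsPGroup p ↥(S.map ρ) := hS.map ρ
  have hnorm : S.map ρ ≤ normalizer ((T.map ρ : Subgroup (V ≃ₗ[ZMod p] V)) :
      Set (V ≃ₗ[ZMod p] V)) := by
    refine le_trans (Subgroup.map_mono hST) ?_
    exact Subgroup.le_normalizer_map ρ
  have hps : ∀ s ∈ S, ∃ k : ℕ, s ^ p ^ k = 1 := by
    intro s hs
    obtain ⟨k, hk⟩ := hS ⟨s, hs⟩
    exact ⟨k, by simpa using congrArg Subtype.val hk⟩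
  have key := hlin q hq.out (Ne.symm hqp) (T.map ρ) (S.map ρ) hTq hSp hnorm (ρ s₁) (ρ s₂)
    (Subgroup.mem_map_of_mem ρ hs₁) (Subgroup.mem_map_of_mem ρ hs₂) (n + 1) (n + 1)
    (Nat.succ_le_succ (Nat.zero_le n)) (Nat.succ_le_succ (Nat.zero_le n))
    (htight s₁ (hps s₁ hs₁)) (htight s₂ (hps s₂ hs₂)) (ρ g) (Subgroup.mem_map_of_mem ρ hgT)
  simp only [Nat.add_sub_cancel] at key
  have hρc : ρ c = ρ s₁ ^ p ^ n * ρ s₂ ^ p ^ n * (ρ s₁ ^ p ^ n)⁻¹ * (ρ s₂ ^ p ^ n)⁻¹ := by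
    simp only [hc, ha, hb, map_mul, map_inv, map_pow]
  have hfin : ρ (c * g) = ρ (g * c) := by
    rw [map_mul ρ c g, map_mul ρ g c, hρc]
    exact key
  exact hg (hρ hfin)

end Cfsg.Agent.Helper3.HHX
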