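import Mathlib
import Cfsg.Agent.Lib.Helper26.HHXY0
import Cfsg.Agent.Lib.Helper21.HHXLINW

/-!
# S3786 piece Y (helper26 for helper3): `pow_comm_of_tight`, exact Skel1 signature
-/

set_option autoImplicit false

namespace Cfsg.Agent.Helper3.HHX

open Cfsg Subgroup Cfsg.Agent.Helper4.ThB Cfsg.Agent.Helper20.HHQ

/-- X-LIN over `ZMod p` on a finite module. -/
theorem linComm_of_finite {p : ℕ} [Fact p.Prime] (V : Type*) [AddCommGroup V] [Module (ZMod p) V]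
    [Finite V] : LinComm p V := by
  intro q hq hpq Q S hQ hS hSQ z₁ z₂ hz₁ hz₂ k₁ k₂ hk₁ hk₂ h₁ h₂
  haveI : Fact q.Prime := ⟨hq⟩
  haveI : CharP (ZMod p) p := ZMod.charP p
  haveI : Finite (V ≃ₗ[ZMod p] V) :=
    Finite.of_injective (fun e : V ≃ₗ[ZMod p] V => (e : V → V)) DFunLike.coe_injective
  haveI : FiniteDimensional (ZMod p) V := Module.Finite.of_finite
  exact linear_comm hpq Q S hQ hS hSQ z₁ z₂ hz₁ hz₂ k₁ k₂ hk₁ hk₂ h₁ h₂

/-- PIECE Y: in a `p`-soluble group with `O_p = 1` acting faithfully in characteristic `p` with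
all `p`-elements tight for `n + 1`, the `p^n`-th powers in any `p`-subgroup commute. -/
theorem pow_comm_of_tight {H : Type*} [Group H] [Finite H] {p : ℕ} [Fact p.Prime]
    (hsol : IsPSolvable p H) (hO : pCore p H = ⊥)
    {V : Type*} [AddCommGroup V] [Module (ZMod p) V] [Finite V]
    (ρ : H →* (V ≃ₗ[ZMod p] V)) (hρ : Function.Injective ρ) (n : ℕ)
    (htight : ∀ h : H, (∃ k : ℕ, h ^ p ^ k = 1) → (op (ρ h) - 1) ^ (p ^ (n + 1) - 1) = 0)
    (S : Subgroup H) (hS : IsPGroup p ↥S) (s₁ s₂ : H) (hs₁ : s₁ ∈ S) (hs₂ : s₂ ∈ S) :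
    s₁ ^ p ^ n * s₂ ^ p ^ n = s₂ ^ p ^ n * s₁ ^ p ^ n :=
  pow_comm_of_tight_of_lin hsol hO (linComm_of_finite V) ρ hρ n htight S hS s₁ s₂ hs₁ hs₂

end Cfsg.Agent.Helper3.HHX
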