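import Mathlib
import Cfsg.Agent.Lib.Helper26.HHXY0
import Cfsg.Agent.Lib.Helper4.PLenExpD
import Cfsg.Agent.Lib.Helper20.HHQuadH
import Cfsg.Agent.Lib.Helper23.PSolvable

/-!
# S3786 piece YQ, core form (helper26 for helper3)

`quotient_pow_comm_of`: piece YQ with the statements of X-LIN and TIGHT passed as hypotheses.
-/

set_option autoImplicit false

namespace Cfsg.Agent.Helper3.HHX

open Cfsg Subgroup Cfsg.Agent.Helper4.ThB Cfsg.Agent.Helper4.PLenExp Cfsg.Agent.Helper20.HHQ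
  Cfsg.Agent.Helper8.SecRep

universe u

variable {G : Type u} [Group G] [Finite G] {p : ℕ} [hp : Fact p.Prime]

/-- Piece YQ with X-LIN and TIGHT as hypotheses. -/
theorem quotient_pow_comm_of (hsol : IsPSolvable p G) (hO : pPrimeCore p G = ⊥) (n : ℕ)
    (hlin : LinComm p (SecW (fsec (pCore p G) (Cfsg.Agent.Helper10.pCore_isPGroup p))))
    (htight : ∀ g : G, (∃ k : ℕ, g ^ p ^ k = 1) →
      (op (secRho (fsec (pCore p G) (Cfsg.Agent.Helper10.pCore_isPGroup p))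
        (ftop (pCore p G)) g) - 1) ^ (p ^ (n + 1) - 1) = 0)
    (S : Subgroup (G ⧸ pCore p G)) (hS : IsPGroup p ↥S) (s₁ s₂ : G ⧸ pCore p G)
    (hs₁ : s₁ ∈ S) (hs₂ : s₂ ∈ S) : s₁ ^ p ^ n * s₂ ^ p ^ n = s₂ ^ p ^ n * s₁ ^ p ^ n := by
  classical
  have hPp : IsPGroup p ↥(pCore p G) := Cfsg.Agent.Helper10.pCore_isPGroup p
  set ρ := secRho (fsec (pCore p G) hPp) (ftop (pCore p G)) with hρ
  have hle : pCore p G ≤ ρ.ker := le_ker_secRho (fsec (pCore p G) hPp) (ftop (pCore p G))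
  have hker : ρ.ker ≤ pCore p G := by
    refine ker_secRho_le (pCore p G) hPp (Cfsg.Agent.Helper23.PSolv.centralizer_pCore_le hsol hO) ?_
    intro N hN hNp
    exact le_sSup ⟨hN, hNp⟩
  set ρbar : (G ⧸ pCore p G) →* (SecW (fsec (pCore p G) hPp) ≃ₗ[ZMod p] SecW (fsec (pCore p G) hPp)) :=
    QuotientGroup.lift (pCore p G) ρ (fun x hx => hle hx) with hρbar
  have hinj : Function.Injective ρbar := by
    rw [injective_iff_map_eq_one]
    intro x hx
    obtain ⟨g, rfl⟩ := QuotientGroup.mk_surjective x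
    have h1 : ρ g = 1 := by simpa [hρbar] using hx
    have h2 : g ∈ pCore p G := hker h1
    exact (QuotientGroup.eq_one_iff g).mpr h2
  have hsolq : IsPSolvable p (G ⧸ pCore p G) :=
    Cfsg.Agent.Helper23.PSolv.isPSolvable_quotient (pCore p G) hsol
  have hOq : pCore p (G ⧸ pCore p G) = ⊥ := Cfsg.Agent.Helper18.PSolvLin.pCore_quotient_pCore_bot p
  refine pow_comm_of_tight_of_lin hsolq hOq hlin ρbar hinj n ?_ S hS s₁ s₂ hs₁ hs₂
  -- tightness of the p-elements of the quotient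
  intro h hh
  obtain ⟨k, hk⟩ := hh
  -- `h` lies in a Sylow `p`-subgroup of the quotient
  have hz : IsPGroup p ↥(Subgroup.zpowers h) := by
    rw [IsPGroup.iff_orderOf]
    intro x
    obtain ⟨x, hx⟩ := x
    obtain ⟨m, rfl⟩ := Subgroup.mem_zpowers_iff.mp hx
    have h3 : orderOf (h ^ m) ∣ p ^ k := by
      apply orderOf_dvd_of_pow_eq_one
      rw [← zpow_natCast, ← zpow_mul, mul_comm, zpow_mul, zpow_natCast, hk, one_zpow]
    obtain ⟨j, -, hj⟩ := (Nat.dvd_prime_pow hp.out).mp h3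
    refine ⟨j, ?_⟩
    have h4 : orderOf (⟨h ^ m, hx⟩ : Subgroup.zpowers h) = orderOf (h ^ m) := by
      rw [← Subgroup.orderOf_coe]
    rw [h4, hj]
  obtain ⟨Q', hQ'⟩ := hz.exists_le_sylow
  have hhQ : h ∈ Q' := hQ' (Subgroup.mem_zpowers h)
  obtain ⟨S₀⟩ : Nonempty (Sylow p G) := inferInstance
  obtain ⟨g', s, hs, hx'⟩ := sylow_quotient_elem (pCore p G) S₀ Q' h hhQ
  obtain ⟨g, rfl⟩ := QuotientGroup.mk_surjective g'
  have hsp : ∃ k : ℕ, (g * s * g⁻¹) ^ p ^ k = 1 := by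
    obtain ⟨k', hk'⟩ := S₀.2 ⟨s, hs⟩
    refine ⟨k', ?_⟩
    have h5 : s ^ p ^ k' = 1 := by simpa using congrArg Subtype.val hk'
    rw [conj_pow, h5]; group
  have h6 : ρbar h = ρ (g * s * g⁻¹) := by
    rw [hx']
    simp [hρbar]
  rw [h6]
  exact htight _ hsp

end Cfsg.Agent.Helper3.HHX
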