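import Mathlib
import Cfsg.Agent.Lib.Helper26.HHXYQ0
import Cfsg.Agent.Lib.Helper26.HHXY
import Cfsg.Agent.Lib.Helper2.HHXTIGHT

/-!
# S3786 piece YQ (helper26 for helper3): `quotient_pow_comm`, exact Skel1 signature
-/

set_option autoImplicit false

namespace Cfsg.Agent.Helper3.HHX

open Cfsg Subgroup Cfsg.Agent.Helper4.ThB Cfsg.Agent.Helper4.PLenExp Cfsg.Agent.Helper20.HHQ
  Cfsg.Agent.Helper8.SecRep

universe u

variable {G : Type u} [Group G] [Finite G] {p : ℕ} [hp : Fact p.Prime]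

/-- PIECE YQ: `p^n`-th powers commute in `p`-subgroups of `G / O_p(G)`. -/
theorem quotient_pow_comm (hsol : IsPSolvable p G) (hO : pPrimeCore p G = ⊥) (n : ℕ)
    (hexp : ∀ z : G, (∃ k : ℕ, z ^ p ^ k = 1) → z ^ p ^ (n + 1) = 1)
    (S : Subgroup (G ⧸ pCore p G)) (hS : IsPGroup p ↥S) (s₁ s₂ : G ⧸ pCore p G)
    (hs₁ : s₁ ∈ S) (hs₂ : s₂ ∈ S) : s₁ ^ p ^ n * s₂ ^ p ^ n = s₂ ^ p ^ n * s₁ ^ p ^ n :=
  quotient_pow_comm_of hsol hO n (linComm_of_finite _) (fun g hg => tight_of_exp n hexp g hg)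
    S hS s₁ s₂ hs₁ hs₂

end Cfsg.Agent.Helper3.HHX
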