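import Mathlib

/-!
# S3412 (helper26): `SL₃(3)` coded in `ℕ`.

A `3 × 3` matrix over `ZMod 3` with entries `a i j` is coded as `∑ a i j * 3 ^ (3 * i + j) < 19683`.
Everything here is computable in the kernel (`Nat` arithmetic on literals).
See plans/S3412_proof.md and plans/S3412_Skel.lean.txt.
-/

set_option autoImplicit false

namespace Cfsg.Agent.Helper26.CG3

/-- the `k`-th base-3 digit of `n` -/
def dig (n k : ℕ) : ℕ := n / 3 ^ k % 3

/-- entry `(i,j)` of the product of the matrices coded by `x`, `y`, as a residue mod 3 -/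
def ent (x y i j : ℕ) : ℕ :=
  (dig x (3 * i) * dig y j + dig x (3 * i + 1) * dig y (3 + j) + dig x (3 * i + 2) * dig y (6 + j)) % 3

/-- the determinant of the matrix coded by `x`, as a residue mod 3 -/
def cdet (x : ℕ) : ℕ :=
  (dig x 0 * (dig x 4 * dig x 8 + 2 * (dig x 5 * dig x 7))
    + 2 * (dig x 1 * (dig x 3 * dig x 8 + 2 * (dig x 5 * dig x 6)))
    + dig x 2 * (dig x 3 * dig x 7 + 2 * (dig x 4 * dig x 6))) % 3

/-- the matrices coded by `x` and `y` commute -/
def cb (x y : ℕ) : Bool :=
  ent x y 0 0 == ent y x 0 0 && ent x y 0 1 == ent y x 0 1 && ent x y 0 2 == ent y x 0 2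
    && ent x y 1 0 == ent y x 1 0 && ent x y 1 1 == ent y x 1 1 && ent x y 1 2 == ent y x 1 2
    && ent x y 2 0 == ent y x 2 0 && ent x y 2 1 == ent y x 2 1 && ent x y 2 2 == ent y x 2 2

/-- `n` codes an element of `SL₃(3)` commuting with `g` -/
def commB (g n : ℕ) : Bool := cdet n == 1 && cb g n

/-- the codes of the elements of `SL₃(3)` -/
abbrev Code : Type := {n : ℕ // n < 19683 ∧ cdet n = 1}

/-- the code of the identity matrix -/
def I0 : ℕ := 6643

/-- the code of `diag(2,2,1)` -/
def T0 : ℕ := 6725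

/-- the code of an element of order 13 -/
def X0 : ℕ := 10539

theorem I0_ok : I0 < 19683 ∧ cdet I0 = 1 := by decide

theorem T0_ok : T0 < 19683 ∧ cdet T0 = 1 := by decide

theorem X0_ok : X0 < 19683 ∧ cdet X0 = 1 := by decide

/-- the identity as a code -/
def e0 : Code := ⟨I0, I0_ok⟩

/-- `diag(2,2,1)` as a code -/
def t0 : Code := ⟨T0, T0_ok⟩

/-- the commutation relation on codes -/
def Rc (a b : Code) : Prop := cb a.1 b.1 = true

instance : DecidableRel Rc := fun a b => inferInstanceAs (Decidable (cb a.1 b.1 = true))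

end Cfsg.Agent.Helper26.CG3
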