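import Mathlib
import Cfsg.Agent.Lib.Helper26.CG3Code

/-!
# S3412 (helper26): definitions for "the commuting graph of `PSL₃(3)` determines the group".

* `LD R e t`: the local data of the commuting graph around an involution `t`, in terms of a relation `R` only
  (transferable along any bijection preserving the relation);
* `LG H t`: the same data for a group `H`, in group language;
* `decM`: the matrix coded by a natural number.

See plans/S3412_proof.md and plans/S3412_Skel.lean.txt.
-/

set_option autoImplicit false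

namespace Cfsg.Agent.Helper26.CG3

universe u

/-- the number of elements related to `g` -/
noncomputable def cR {α : Type u} (R : α → α → Prop) (g : α) : ℕ := Nat.card {h : α // R g h}

/-- the local data of the commuting graph of `PSL₃(3)` around an involution `t` (`e` is the identity), in terms of the
relation only -/
structure LD {α : Type u} (R : α → α → Prop) (e t : α) : Prop where
  t_ne : t ≠ e
  cct : cR R t = 48
  vals : ∀ g : α, R t g → g ≠ e → g ≠ t → cR R g = 48 ∨ cR R g = 54 ∨ cR R g = 6 ∨ cR R g = 8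
  s4 : ∀ g : α, R t g → g ≠ t → cR R g = 48 → Nat.card {h : α // R t h ∧ R g h} = 4
  scen : ∀ g : α, R t g → cR R g = 48 → ∀ y : α, R g y → (∀ h : α, R g h → R y h) → y = e ∨ y = g
  u6 : ∀ g : α, R t g → cR R g = 54 → Nat.card {h : α // R t h ∧ R g h} = 6
  ucen : ∀ g : α, R t g → cR R g = 54 → Nat.card {y : α // R g y ∧ ∀ h : α, R g h → R y h} = 3
  nU : Nat.card {g : α // R t g ∧ cR R g = 54} = 8
  nS : Nat.card {g : α // R t g ∧ cR R g = 48} = 13
  nY : Nat.card {g : α // R t g ∧ cR R g = 8} = 18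
  w2 : ∀ g : α, R t g → cR R g = 6 → Nat.card {h : α // R g h ∧ cR R h = 6} = 2
  yab : ∀ g : α, R t g → cR R g = 8 → ∀ h k : α, R g h → R g k → R h k
  yval : ∀ g : α, R t g → cR R g = 8 → ∀ h : α, R g h → h ≠ e → h ≠ t → cR R h = 8
  x13 : ∃ x : α, cR R x = 13

/-- the order of the centralizer of `g` -/
noncomputable abbrev cc {H : Type u} [Group H] (g : H) : ℕ := Nat.card (Subgroup.centralizer ({g} : Set H))

/-- the local data of `PSL₃(3)` around an involution `t`, for a group `H` -/
structure LG (H : Type u) [Group H] (t : H) : Prop where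
  card : Nat.card H = 5616
  t_ne : t ≠ 1
  cct : cc t = 48
  vals : ∀ g : H, t * g = g * t → g ≠ 1 → g ≠ t → cc g = 48 ∨ cc g = 54 ∨ cc g = 6 ∨ cc g = 8
  s4 : ∀ g : H, t * g = g * t → g ≠ t → cc g = 48 →
    Nat.card ↥(Subgroup.centralizer ({t} : Set H) ⊓ Subgroup.centralizer ({g} : Set H)) = 4
  scen : ∀ g : H, t * g = g * t → cc g = 48 → ∀ y : H, g * y = y * g →
    (∀ h : H, g * h = h * g → y * h = h * y) → y = 1 ∨ y = g
  u6 : ∀ g : H, t * g = g * t → cc g = 54 →
    Nat.card ↥(Subgroup.centralizer ({t} : Set H) ⊓ Subgroup.centralizer ({g} : Set H)) = 6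
  ucen : ∀ g : H, t * g = g * t → cc g = 54 →
    Nat.card {y : H // g * y = y * g ∧ ∀ h : H, g * h = h * g → y * h = h * y} = 3
  nU : Nat.card {g : H // t * g = g * t ∧ cc g = 54} = 8
  nS : Nat.card {g : H // t * g = g * t ∧ cc g = 48} = 13
  nY : Nat.card {g : H // t * g = g * t ∧ cc g = 8} = 18
  w2 : ∀ g : H, t * g = g * t → cc g = 6 → Nat.card {h : H // g * h = h * g ∧ cc h = 6} = 2
  yab : ∀ g : H, t * g = g * t → cc g = 8 → ∀ h k : H, g * h = h * g → g * k = k * g → h * k = k * h
  yval : ∀ g : H, t * g = g * t → cc g = 8 → ∀ h : H, g * h = h * g → h ≠ 1 → h ≠ t → cc h = 8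
  x13 : ∃ x : H, cc x = 13

/-- the matrix coded by `n` -/
def decM (n : ℕ) : Matrix (Fin 3) (Fin 3) (ZMod 3) :=
  Matrix.of fun i j => ((dig n (3 * i.val + j.val) : ℕ) : ZMod 3)

end Cfsg.Agent.Helper26.CG3
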