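import Mathlib
import Cfsg.Agent.Lib.Helper22.SharpFour

/-!
# S4221 (M. Hall: 4-transitive groups with 4-point stabilizers of odd order): definitions (helper26)

Abstract setting: a finite group `G` acting on a finite type `α`; `Hall G α` = faithful, 4-transitive
(elementwise form `Tr4` of helper22), all 4-point stabilizers `St4 G a b c d` of odd order.
Paper proof: `plans/S4221_proof.md`.
-/

set_option autoImplicit false

namespace Cfsg.Agent.Helper26.MH

open MulAction Cfsg.Agent.Helper22.SharpFour

variable (G : Type*) [Group G] {α : Type*} [MulAction G α]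

/-- pointwise stabilizer of four points -/
def St4 (a b c d : α) : Subgroup G :=
  stabilizer G a ⊓ stabilizer G b ⊓ stabilizer G c ⊓ stabilizer G d

variable {G}

theorem mem_St4 {a b c d : α} {g : G} :
    g ∈ St4 G a b c d ↔ g • a = a ∧ g • b = b ∧ g • c = c ∧ g • d = d := by
  simp only [St4, Subgroup.mem_inf, mem_stabilizer_iff, and_assoc]

/-- `K ∩ C(t)` -/
def cen (K : Subgroup G) (t : G) : Subgroup G := K ⊓ Subgroup.centralizer {t}

theorem mem_cen {K : Subgroup G} {t g : G} : g ∈ cen K t ↔ g ∈ K ∧ g * t = t * g := by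
  simp only [cen, Subgroup.mem_inf, Subgroup.mem_centralizer_iff, Set.mem_singleton_iff,
    forall_eq]
  constructor
  · rintro ⟨h1, h2⟩; exact ⟨h1, h2.symm⟩
  · rintro ⟨h1, h2⟩; exact ⟨h1, h2.symm⟩

/-- involution -/
def IsInv (t : G) : Prop := t * t = 1 ∧ t ≠ 1

/-- `t = (p q)(r)(s)…` -/
def TyA (t : G) (p q r s : α) : Prop := t • p = q ∧ t • q = p ∧ t • r = r ∧ t • s = s

/-- `t = (p q)(r s)…` -/
def TyC (t : G) (p q r s : α) : Prop := t • p = q ∧ t • q = p ∧ t • r = s ∧ t • s = r

variable (G α)

/-- The standing hypothesis of M. Hall's theorem (abstract form). -/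
structure Hall [Finite G] : Prop where
  faithful : ∀ g : G, (∀ x : α, g • x = x) → g = 1
  tr : Tr4 G α
  odd : ∀ a b c d : α, D4 a b c d → Odd (Nat.card (St4 G a b c d))

variable {G α}

section fin

/-- the fixed points of `t` (as a finset; `α` explicit) -/
def fixF (α : Type*) [Fintype α] [DecidableEq α] {G : Type*} [Group G] [MulAction G α] (t : G) : Finset α :=
  Finset.univ.filter (fun x => t • x = x)

theorem mem_fixF {α : Type*} [Fintype α] [DecidableEq α] {G : Type*} [Group G] [MulAction G α] {t : G}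
    {x : α} : x ∈ fixF α t ↔ t • x = x := by
  simp [fixF]

end fin

/-- the set of common fixed points of a subgroup `K` (`α` explicit) -/
def Phi (α : Type*) {G : Type*} [Group G] [MulAction G α] (K : Subgroup G) : Set α :=
  {x | ∀ g ∈ K, g • x = x}

theorem mem_Phi {α : Type*} {G : Type*} [Group G] [MulAction G α] {K : Subgroup G} {x : α} :
    x ∈ Phi α K ↔ ∀ g ∈ K, g • x = x := Iff.rfl

/-- the four-group data `V = {1, a, a*c, c}` on the 4-set `{p,q,r,s}`:
`a = (p q)(r)(s)`, `c = (p q)(r s)`, `a*c = (p)(q)(r s)`. -/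
structure VData (p q r s : α) (a c : G) : Prop where
  d : D4 p q r s
  ia : IsInv a
  ic : IsInv c
  comm : a * c = c * a
  ta : TyA a p q r s
  tc : TyC c p q r s

/-- the fixed-point configuration of `V` when involutions fix exactly 3 points:
`Fix a = {r,s,w}`, `Fix (a*c) = {p,q,w}`, `Fix c = {w,k,k'}`, `a` swaps `k,k'`. -/
structure Omega3 (p q r s : α) (a c : G) (w k k' : α) : Prop where
  aw : a • w = w
  cw : c • w = w
  ck : c • k = k
  ck' : c • k' = k'
  ak : a • k = k'
  kk' : k ≠ k'
  wk : w ≠ k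
  wk' : w ≠ k'
  fa : ∀ x : α, a • x = x → x = r ∨ x = s ∨ x = w
  fb : ∀ x : α, (a * c) • x = x → x = p ∨ x = q ∨ x = w
  fc : ∀ x : α, c • x = x → x = w ∨ x = k ∨ x = k'

end Cfsg.Agent.Helper26.MH
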