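import Mathlib

/-!
# S3805 piece TRI': Higman's (3,3,3) lemma for a Sylow 3-subgroup `T` with `C_G(t) ≤ N_G(T)` for `t ∈ T^#`

If `x`, `y` have order 3, `(x y)^3 = 1`, `x y ∈ T^#` and `x` is not conjugate to `y`, then `x, y ∈ T`.
No hypothesis on the orders of the centralizers is needed (the set-up of the abelian normal subgroup
`A = ⟨x y⁻¹, y⁻¹ x⟩` of `⟨x, y⟩` is copied from `Lib/Lead/SSCTRI.lean`).
-/

set_option autoImplicit false
set_option linter.unusedVariables false
set_option linter.unusedSectionVars false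

namespace Cfsg.Agent.Helper8.S3805

universe u

variable {G : Type u} [Group G] [Finite G] (T : Sylow 3 G)

namespace TRI

/-- a 3-element of `N_G(T)` lies in `T` -/
theorem mem_of_mem_normalizer {a : G} (ha3 : a ^ 3 = 1)
    (haN : a ∈ Subgroup.normalizer ((T : Subgroup G) : Set G)) : a ∈ (T : Subgroup G) := by
  have : Fact (Nat.Prime 3) := ⟨Nat.prime_three⟩
  have hp : IsPGroup 3 (Subgroup.zpowers a) := by
    have hd : orderOf a ∣ 3 := orderOf_dvd_of_pow_eq_one ha3
    rcases (Nat.dvd_prime Nat.prime_three).mp hd with h | h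
    · apply IsPGroup.of_card (n := 0)
      rw [Nat.card_zpowers, h, pow_zero]
    · apply IsPGroup.of_card (n := 1)
      rw [Nat.card_zpowers, h, pow_one]
  have hinf := hp.inf_normalizer_sylow T
  have hmem : a ∈ Subgroup.zpowers a ⊓ Subgroup.normalizer ((T : Subgroup G) : Set G) :=
    ⟨Subgroup.mem_zpowers a, haN⟩
  exact (hinf.le hmem).2

theorem cube_mul {u v : G} (huv : u * v = v * u) (hu : u ^ 3 = 1) (hv : v ^ 3 = 1) :
    (u * v) ^ 3 = 1 := by
  have hc : Commute u v := huv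
  rw [hc.mul_pow, hu, hv, one_mul]

theorem cube_conj {x b : G} (hb : b ^ 3 = 1) : (x * b * x⁻¹) ^ 3 = 1 := by
  rw [conj_pow, hb]; group

end TRI

open TRI in
/-- PIECE TRI' -/
theorem mem_of_mul_mem
    (hloc : ∀ t ∈ (T : Subgroup G), t ≠ 1 →
      Subgroup.centralizer ({t} : Set G) ≤ Subgroup.normalizer ((T : Subgroup G) : Set G))
    {x y : G} (hx : orderOf x = 3) (hy : orderOf y = 3) (hxy3 : (x * y) ^ 3 = 1)
    (hxy : x * y ∈ (T : Subgroup G)) (hxy1 : x * y ≠ 1) (hnc : ¬ IsConj x y) :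
    x ∈ (T : Subgroup G) ∧ y ∈ (T : Subgroup G) := by
  classical
  have hx3 : x ^ 3 = 1 := by rw [← hx]; exact pow_orderOf_eq_one x
  have hy3 : y ^ 3 = 1 := by rw [← hy]; exact pow_orderOf_eq_one y
  have hz3 : (x * y) ^ 3 = 1 := hxy3
  have hx1 : x ≠ 1 := by
    intro h; rw [h, orderOf_one] at hx; omega
  -- basic identities
  have hxxx : x * (x * x) = 1 := by rw [← hx3, pow_succ, pow_two, mul_assoc]
  have hyyy : y * (y * y) = 1 := by rw [← hy3, pow_succ, pow_two, mul_assoc]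
  have hxx : x * x = x⁻¹ := (inv_eq_of_mul_eq_one_right hxxx).symm
  have hyy : y * y = y⁻¹ := (inv_eq_of_mul_eq_one_right hyyy).symm
  have hxixi : x⁻¹ * x⁻¹ = x := by
    rw [← hxx]
    calc x * x * (x * x) = x * (x * x) * x := by group
      _ = x := by rw [hxxx, one_mul]
  have hyiyi : y⁻¹ * y⁻¹ = y := by
    rw [← hyy]
    calc y * y * (y * y) = y * (y * y) * y := by group
      _ = y := by rw [hyyy, one_mul]
  have hrel : x * y * x = y⁻¹ * x⁻¹ * y⁻¹ := by
    have h1 : (x * y * x) * (y * x * y) = 1 := by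
      rw [← hz3, pow_succ, pow_two]; simp only [mul_assoc]
    rw [eq_inv_of_mul_eq_one_left h1]; group
  -- the abelian subgroup A
  set p : G := x * y⁻¹ with hp_def
  set q : G := y⁻¹ * x with hq_def
  have hpq1 : p * q = x * y * x := by
    calc p * q = x * (y⁻¹ * y⁻¹) * x := by rw [hp_def, hq_def]; group
      _ = x * y * x := by rw [hyiyi]
  have hqp1 : q * p = y⁻¹ * x⁻¹ * y⁻¹ := by
    calc q * p = y⁻¹ * (x * x) * y⁻¹ := by rw [hp_def, hq_def]; group
      _ = y⁻¹ * x⁻¹ * y⁻¹ := by rw [hxx]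
  have hpq : p * q = q * p := by rw [hpq1, hqp1, hrel]
  set A : Subgroup G := Subgroup.closure ({p, q} : Set G) with hA_def
  have hpA : p ∈ A := Subgroup.subset_closure (by simp)
  have hqA : q ∈ A := Subgroup.subset_closure (by simp)
  have hAcomm : ∀ a ∈ A, ∀ b ∈ A, a * b = b * a := by
    have hsub : ({p, q} : Set G) ⊆ Subgroup.centralizer ({p, q} : Set G) := by
      intro a ha
      rw [SetLike.mem_coe, Subgroup.mem_centralizer_iff]
      intro b hb
      rcases ha with rfl | ha <;> rcases hb with rfl | hb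
      · rfl
      · rw [Set.mem_singleton_iff] at hb; subst hb; exact hpq.symm
      · rw [Set.mem_singleton_iff] at ha; subst ha; exact hpq
      · rw [Set.mem_singleton_iff] at ha hb; subst ha; subst hb; rfl
    have hle : A ≤ Subgroup.centralizer (A : Set G) := by
      rw [hA_def, Subgroup.centralizer_closure, Subgroup.closure_le]
      exact hsub
    intro a ha b hb
    have := hle hb
    rw [Subgroup.mem_centralizer_iff] at this
    exact this a ha
  have hxA' : ∀ b ∈ A, x⁻¹ * b * x ∈ A := by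
    intro b hb
    refine Subgroup.closure_induction (p := fun b _ => x⁻¹ * b * x ∈ A) ?_ ?_ ?_ ?_ hb
    · intro b hb
      rcases hb with rfl | hb
      · have : x⁻¹ * p * x = q := by rw [hp_def, hq_def]; group
        rw [this]; exact hqA
      · rw [Set.mem_singleton_iff] at hb; subst hb
        have : x⁻¹ * q * x = (p * q)⁻¹ := by
          rw [hpq1]
          calc x⁻¹ * q * x = x⁻¹ * y⁻¹ * (x * x) := by rw [hq_def]; group
            _ = x⁻¹ * y⁻¹ * x⁻¹ := by rw [hxx]
            _ = (x * y * x)⁻¹ := by group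
        rw [this]; exact A.inv_mem (A.mul_mem hpA hqA)
    · simp
    · intro a b _ _ iha ihb
      have : x⁻¹ * (a * b) * x = (x⁻¹ * a * x) * (x⁻¹ * b * x) := by group
      rw [this]; exact A.mul_mem iha ihb
    · intro a _ iha
      have : x⁻¹ * a⁻¹ * x = (x⁻¹ * a * x)⁻¹ := by group
      rw [this]; exact A.inv_mem iha
  have hxA : ∀ b ∈ A, x * b * x⁻¹ ∈ A := by
    intro b hb
    have h2 := hxA' _ (hxA' b hb)
    have e : x * b * x⁻¹ = x⁻¹ * (x⁻¹ * b * x) * x := by
      calc x * b * x⁻¹ = (x⁻¹ * x⁻¹) * b * (x * x) := by rw [hxixi, hxx]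
        _ = x⁻¹ * (x⁻¹ * b * x) * x := by group
    rw [e]; exact h2
  have hy_eq : y = p⁻¹ * x := by rw [hp_def]; group
  have hσ3 : ∀ b : G, x * (x * (x * b * x⁻¹) * x⁻¹) * x⁻¹ = b := by
    intro b
    calc x * (x * (x * b * x⁻¹) * x⁻¹) * x⁻¹ = (x * (x * x)) * b * (x * (x * x))⁻¹ := by group
      _ = b := by rw [hxxx]; group
  by_cases h3 : ∃ a ∈ A, orderOf a = 3
  · -- Case 1: A contains an element of order 3: find a nontrivial x-fixed 3-element of A
    obtain ⟨a, haA, ha3o⟩ := h3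
    have ha3 : a ^ 3 = 1 := by rw [← ha3o]; exact pow_orderOf_eq_one a
    have ha1 : a ≠ 1 := by
      intro h; rw [h, orderOf_one] at ha3o; omega
    have key : ∃ a₀ ∈ A, a₀ ≠ 1 ∧ a₀ ^ 3 = 1 ∧ x * a₀ = a₀ * x := by
      obtain ⟨s1, hs1⟩ : ∃ s1 : G, s1 = x * a * x⁻¹ := ⟨_, rfl⟩
      obtain ⟨s2, hs2⟩ : ∃ s2 : G, s2 = x * s1 * x⁻¹ := ⟨_, rfl⟩
      have hs1A : s1 ∈ A := by rw [hs1]; exact hxA a haA
      have hs2A : s2 ∈ A := by rw [hs2]; exact hxA s1 hs1A
      have hs1c : s1 ^ 3 = 1 := by rw [hs1]; exact cube_conj ha3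
      have hs2c : s2 ^ 3 = 1 := by rw [hs2]; exact cube_conj hs1c
      have hs3 : x * s2 * x⁻¹ = a := by rw [hs2, hs1]; exact hσ3 a
      by_cases hfix : s1 = a
      · refine ⟨a, haA, ha1, ha3, ?_⟩
        have : x * a * x⁻¹ = a := by rw [← hs1]; exact hfix
        calc x * a = (x * a * x⁻¹) * x := by group
          _ = a * x := by rw [this]
      · obtain ⟨a', ha'⟩ : ∃ a' : G, a' = a * s1 * s2 := ⟨_, rfl⟩
        have ha'A : a' ∈ A := by rw [ha']; exact A.mul_mem (A.mul_mem haA hs1A) hs2A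
        have hxa' : x * a' * x⁻¹ = a' := by
          calc x * a' * x⁻¹ = (x * a * x⁻¹) * (x * s1 * x⁻¹) * (x * s2 * x⁻¹) := by
                rw [ha']; group
            _ = s1 * s2 * a := by rw [hs3, ← hs1, ← hs2]
            _ = a * (s1 * s2) := hAcomm _ (A.mul_mem hs1A hs2A) _ haA
            _ = a' := by rw [ha']; group
        by_cases ha'1 : a' = 1
        · -- then b = s1 * a⁻¹ is fixed
          refine ⟨s1 * a⁻¹, A.mul_mem hs1A (A.inv_mem haA), ?_, ?_, ?_⟩
          · intro h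
            apply hfix
            exact mul_inv_eq_one.mp h
          · have hai : a⁻¹ ^ 3 = 1 := by rw [inv_pow, ha3, inv_one]
            exact cube_mul (hAcomm _ hs1A _ (A.inv_mem haA)) hs1c hai
          · -- x (s1 a⁻¹) x⁻¹ = s2 s1⁻¹ = s1 a⁻¹
            have h1 : s2 = s1⁻¹ * a⁻¹ := by
              have : a * s1 * s2 = 1 := by rw [← ha']; exact ha'1
              have h2 : s2 = (a * s1)⁻¹ := by
                apply eq_inv_of_mul_eq_one_left
                calc s2 * (a * s1) = (a * s1) * s2 :=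
                      hAcomm _ hs2A _ (A.mul_mem haA hs1A)
                  _ = 1 := this
              rw [h2]; group
            have h2 : s1⁻¹ * s1⁻¹ = s1 := by
              have : s1 * (s1 * s1) = 1 := by rw [← hs1c, pow_succ, pow_two, mul_assoc]
              calc s1⁻¹ * s1⁻¹ = s1⁻¹ * s1⁻¹ * (s1 * (s1 * s1)) := by rw [this, mul_one]
                _ = s1 := by group
            have h3 : x * (s1 * a⁻¹) * x⁻¹ = s1 * a⁻¹ := by
              calc x * (s1 * a⁻¹) * x⁻¹ = (x * s1 * x⁻¹) * (x * a * x⁻¹)⁻¹ := by group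
                _ = s1⁻¹ * a⁻¹ * s1⁻¹ := by rw [← hs1, ← hs2, h1]
                _ = s1⁻¹ * (a⁻¹ * s1⁻¹) := by group
                _ = s1⁻¹ * (s1⁻¹ * a⁻¹) := by
                    rw [hAcomm _ (A.inv_mem haA) _ (A.inv_mem hs1A)]
                _ = (s1⁻¹ * s1⁻¹) * a⁻¹ := by group
                _ = s1 * a⁻¹ := by rw [h2]
            calc x * (s1 * a⁻¹) = (x * (s1 * a⁻¹) * x⁻¹) * x := by group
              _ = s1 * a⁻¹ * x := by rw [h3]
        · refine ⟨a', ha'A, ha'1, ?_, ?_⟩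
          · have h12 : (a * s1) ^ 3 = 1 := cube_mul (hAcomm _ haA _ hs1A) ha3 hs1c
            rw [ha']
            exact cube_mul (hAcomm _ (A.mul_mem haA hs1A) _ hs2A) h12 hs2c
          · calc x * a' = (x * a' * x⁻¹) * x := by group
              _ = a' * x := by rw [hxa']
    obtain ⟨a₀, ha₀A, ha₀1, ha₀3, ha₀x⟩ := key
    -- a₀ commutes with y and with x * y
    have ha₀p : a₀ * p = p * a₀ := hAcomm _ ha₀A _ hpA
    have ha₀y : y * a₀ = a₀ * y := by
      rw [hy_eq]
      calc p⁻¹ * x * a₀ = p⁻¹ * (x * a₀) := by group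
        _ = p⁻¹ * (a₀ * x) := by rw [ha₀x]
        _ = p⁻¹ * (a₀ * p) * p⁻¹ * x := by group
        _ = p⁻¹ * (p * a₀) * p⁻¹ * x := by rw [ha₀p]
        _ = a₀ * (p⁻¹ * x) := by group
    have ha₀z : a₀ * (x * y) = (x * y) * a₀ := by
      calc a₀ * (x * y) = (a₀ * x) * y := by group
        _ = (x * a₀) * y := by rw [ha₀x]
        _ = x * (a₀ * y) := by group
        _ = x * (y * a₀) := by rw [ha₀y]
        _ = (x * y) * a₀ := by group
    have ha₀N : a₀ ∈ Subgroup.normalizer ((T : Subgroup G) : Set G) := by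
      apply hloc _ hxy hxy1
      rw [Subgroup.mem_centralizer_singleton_iff]
      exact ha₀z
    have ha₀T : a₀ ∈ (T : Subgroup G) := mem_of_mem_normalizer T ha₀3 ha₀N
    have hxN : x ∈ Subgroup.normalizer ((T : Subgroup G) : Set G) := by
      apply hloc _ ha₀T ha₀1
      rw [Subgroup.mem_centralizer_singleton_iff]
      exact ha₀x
    have hyN : y ∈ Subgroup.normalizer ((T : Subgroup G) : Set G) := by
      apply hloc _ ha₀T ha₀1
      rw [Subgroup.mem_centralizer_singleton_iff]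
      exact ha₀y
    exact ⟨mem_of_mem_normalizer T hx3 hxN, mem_of_mem_normalizer T hy3 hyN⟩
  · -- Case 2: A has no element of order 3: x is conjugate to y
    exfalso
    have h3' : ∀ a ∈ A, orderOf a ≠ 3 := fun a ha h => h3 ⟨a, ha, h⟩
    have hndvd : ∀ b ∈ A, ¬ 3 ∣ orderOf b := by
      intro b hb hd
      have h0 : orderOf b ≠ 0 := (orderOf_pos b).ne'
      have := orderOf_pow_orderOf_div h0 hd
      exact h3' _ (A.pow_mem hb _) this
    -- a cube root of p⁻¹ in A
    have hpiA : p⁻¹ ∈ A := A.inv_mem hpA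
    have hcop : Nat.Coprime 3 (orderOf p⁻¹) :=
      (Nat.Prime.coprime_iff_not_dvd Nat.prime_three).mpr (hndvd _ hpiA)
    obtain ⟨m, hm⟩ := exists_pow_eq_self_of_coprime hcop
    obtain ⟨b, hb⟩ : ∃ b : G, b = p⁻¹ ^ m := ⟨_, rfl⟩
    have hbA : b ∈ A := by rw [hb]; exact A.pow_mem hpiA m
    have hb3 : b * b * b = p⁻¹ := by
      have : b ^ 3 = p⁻¹ := by
        rw [hb, ← pow_mul, mul_comm, pow_mul]; exact hm
      rw [← this, pow_succ, pow_two]
    obtain ⟨σb, hσb⟩ : ∃ σb : G, σb = x * b * x⁻¹ := ⟨_, rfl⟩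
    obtain ⟨τb, hτb⟩ : ∃ τb : G, τb = x * σb * x⁻¹ := ⟨_, rfl⟩
    have hσbA : σb ∈ A := by rw [hσb]; exact hxA b hbA
    have hτbA : τb ∈ A := by rw [hτb]; exact hxA σb hσbA
    have hτ3 : x * τb * x⁻¹ = b := by rw [hτb, hσb]; exact hσ3 b
    obtain ⟨N, hN⟩ : ∃ N : G, N = b * σb * τb := ⟨_, rfl⟩
    have hNA : N ∈ A := by rw [hN]; exact A.mul_mem (A.mul_mem hbA hσbA) hτbA
    have hxN : x * N * x⁻¹ = N := by
      calc x * N * x⁻¹ = (x * b * x⁻¹) * (x * σb * x⁻¹) * (x * τb * x⁻¹) := by rw [hN]; group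
        _ = σb * τb * b := by rw [hτ3, ← hσb, ← hτb]
        _ = b * (σb * τb) := hAcomm _ (A.mul_mem hσbA hτbA) _ hbA
        _ = N := by rw [hN]; group
    have hNx : N * x = x * N := by
      calc N * x = (x * N * x⁻¹) * x := by rw [hxN]
        _ = x * N := by group
    obtain ⟨c, hc⟩ : ∃ c : G, c = b⁻¹ * τb := ⟨_, rfl⟩
    have hcA : c ∈ A := by rw [hc]; exact A.mul_mem (A.inv_mem hbA) hτbA
    have hxc : x * c * x⁻¹ = σb⁻¹ * b := by
      calc x * c * x⁻¹ = (x * b * x⁻¹)⁻¹ * (x * τb * x⁻¹) := by rw [hc]; group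
        _ = σb⁻¹ * b := by rw [hτ3, ← hσb]
    have hdecomp : p⁻¹ = N * c⁻¹ * (x * c * x⁻¹) := by
      rw [hxc, ← hb3]
      calc b * b * b = b * (b * σb) * σb⁻¹ * b := by group
        _ = b * (σb * b) * σb⁻¹ * b := by rw [hAcomm _ hbA _ hσbA]
        _ = N * c⁻¹ * (σb⁻¹ * b) := by rw [hN, hc]; group
    have hy' : y = c⁻¹ * (N * x) * c := by
      rw [hy_eq, hdecomp]
      calc N * c⁻¹ * (x * c * x⁻¹) * x = (N * c⁻¹) * x * c := by group
        _ = (c⁻¹ * N) * x * c := by rw [hAcomm _ hNA _ (A.inv_mem hcA)]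
        _ = c⁻¹ * (N * x) * c := by group
    have hNx3 : (N * x) ^ 3 = 1 := by
      have h1 : y ^ 3 = c⁻¹ * (N * x) ^ 3 * c := by
        rw [hy']
        have := conj_pow (a := c⁻¹) (b := N * x) (i := 3)
        rw [inv_inv] at this
        exact this
      rw [hy3] at h1
      have : (N * x) ^ 3 = c * 1 * c⁻¹ := by rw [h1]; group
      rw [this]; group
    have hN3 : N ^ 3 = 1 := by
      have hcm : Commute N x := hNx
      rw [hcm.mul_pow, hx3, mul_one] at hNx3
      exact hNx3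
    have hN1 : N = 1 := by
      by_contra hne
      exact h3' N hNA (orderOf_eq_prime hN3 hne)
    apply hnc
    rw [isConj_iff]
    refine ⟨c⁻¹, ?_⟩
    rw [hy', hN1, one_mul, inv_inv]

end Cfsg.Agent.Helper8.S3805
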