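import Cfsg.Agent.Lib.Helper26.TIDefs

/-!
# S1786: the chain of configurations used in the proof of GOAL B (`V ≤ PA`) by contradiction,
and the two-sided configuration `Cfg8`.  See `plans/S1786_proof.md` (G4, G5, G6).
`D := C_P(A)` is written `d ∈ P ∧ ∀ a ∈ A, d * a = a * d`; `E := C_PA(V)` is `e ∈ PA ∧ ∀ v ∈ V, e * v = v * e`.
-/

set_option autoImplicit false

namespace Cfsg.Agent.Helper26.TI

variable {G : Type*} [Group G]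

/-- `Cfg1` + the assumption `¬ V ≤ PA` + no twist (G5.1) + uniform centralizer (G4). -/
structure Cfg2 (V P A PA U : Subgroup G) : Prop extends Cfg1 V P A PA U where
  hn : ¬ V ≤ PA
  /-- G0 for `V`, `A`, `U`: the centralizer of a nontrivial element normalizes. -/
  normV : ∀ c : G, ∀ v ∈ V, v ≠ 1 → c * v = v * c → cj c V = V
  normA : ∀ c : G, ∀ a ∈ A, a ≠ 1 → c * a = a * c → cj c A = A
  normU : ∀ c : G, ∀ u ∈ U, u ≠ 1 → c * u = u * c → cj c U = U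
  /-- G3 -/
  dich : ∀ x ∈ P, ∀ a0 ∈ A, a0 ≠ 1 → x * a0 = a0 * x → ∀ a ∈ A, x * a = a * x
  surjU : ∀ a ∈ A, a ≠ 1 → ∀ v ∈ V, ∃ u ∈ U, u * a * u⁻¹ * a⁻¹ = v
  surjA : ∀ u ∈ U, u ≠ 1 → ∀ v ∈ V, ∃ a ∈ A, u * a * u⁻¹ * a⁻¹ = v
  decomp : ∀ x ∈ P, ∃ u ∈ U, ∀ a ∈ A, (u⁻¹ * x) * a = a * (u⁻¹ * x)
  partition : ∀ v ∈ V, ∀ a ∈ A, a ≠ 1 → ∃ u ∈ U, v * a ∈ cj u A
  unif : ∀ y ∈ PA, ∀ v ∈ V, v ≠ 1 → y * v = v * y → ∀ v' ∈ V, y * v' = v' * y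
  noTwist : ∀ y ∈ PA, ∀ v ∈ V, y * v * y⁻¹ * v⁻¹ ∈ A → y * v = v * y

/-- + G5.2: `[PA, V] ≤ E`, `V ⊓ PA = ⊥`, and `t ∈ V` acting trivially on `PA / A` is `1`. -/
structure Cfg3 (V P A PA U : Subgroup G) : Prop extends Cfg2 V P A PA U where
  quadV : ∀ y ∈ PA, ∀ v ∈ V, y * v * y⁻¹ * v⁻¹ ∈ PA ∧
    ∀ v' ∈ V, (y * v * y⁻¹ * v⁻¹) * v' = v' * (y * v * y⁻¹ * v⁻¹)
  interV : ∀ v ∈ V, v ∈ PA → v = 1
  trivV : ∀ t ∈ V, (∀ y ∈ PA, t * y * t⁻¹ * y⁻¹ ∈ A) → t = 1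

/-- + G5.3, G5.4: `Z(D) = V A`, `P ⊓ PA = A`, `[D, E] ≤ A`. -/
structure Cfg4 (V P A PA U : Subgroup G) : Prop extends Cfg3 V P A PA U where
  zD : ∀ x ∈ P, (∀ a ∈ A, x * a = a * x) →
    (∀ d ∈ P, (∀ a ∈ A, d * a = a * d) → x * d = d * x) → ∃ v ∈ V, ∃ a ∈ A, x = v * a
  inter : ∀ x ∈ P, x ∈ PA → x ∈ A
  commDE : ∀ d ∈ P, (∀ a ∈ A, d * a = a * d) → ∀ e ∈ PA, (∀ v ∈ V, e * v = v * e) →
    d * e * d⁻¹ * e⁻¹ ∈ A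

/-- + G5.5: `[PA, D] ≤ E`. -/
structure Cfg5 (V P A PA U : Subgroup G) : Prop extends Cfg4 V P A PA U where
  D1 : ∀ d ∈ P, (∀ a ∈ A, d * a = a * d) → ∀ y ∈ PA,
    d * y * d⁻¹ * y⁻¹ ∈ PA ∧ ∀ v ∈ V, (d * y * d⁻¹ * y⁻¹) * v = v * (d * y * d⁻¹ * y⁻¹)

/-- + G5.6: `D = V A`. -/
structure Cfg6 (V P A PA U : Subgroup G) : Prop extends Cfg5 V P A PA U where
  D_eq : ∀ d ∈ P, (∀ a ∈ A, d * a = a * d) → ∃ v ∈ V, ∃ a ∈ A, d = v * a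

/-- + G5.7: `E = A`. -/
structure Cfg7 (V P A PA U : Subgroup G) : Prop extends Cfg6 V P A PA U where
  E_eq : ∀ e ∈ PA, (∀ v ∈ V, e * v = v * e) → e ∈ A

/-- The two-sided configuration after GOAL B: `A ≤ P(V)`, `V ≤ P(A)`, with `U ≤ P`, `U' ≤ PA`. -/
structure Cfg8 (V P A PA U U' : Subgroup G) : Prop where
  left : Cfg1 V P A PA U
  right : Cfg1 A PA V P U'

end Cfsg.Agent.Helper26.TI
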