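import Mathlib
import Cfsg.Prelude.Def_FusionSystem
import Cfsg.Agent.Lib.Helper25.FusionRealized
import Cfsg.Agent.Lib.Helper25.FusionModel
import Cfsg.Agent.Lib.Helper25.NormalSubsys
import Cfsg.Agent.Lib.Helper25.FusionSubSys

/-!
# Normal subgroups of a realizing group give normal subsystems

For a fusion system `F` over `S ≤ Ω` realized by `ι : S →* G` on a Sylow subgroup, and `N ⊴ G`, the
system `pbSys ι N` over `pbSub ι N = S ∩ ι⁻¹(N)` of the maps induced by conjugation with elements of `N`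
is normal in `F`.
-/

set_option autoImplicit false

namespace Cfsg.Agent.Helper26

open Cfsg Cfsg.FusionSystem Cfsg.Agent.Helper25

variable {Ω : Type*} [Group Ω] {S : Subgroup Ω} {G : Type*} [Group G]

/-- The subgroup `S ∩ ι⁻¹(N)` of the ambient group. -/
def pbSub (ι : S →* G) (N : Subgroup G) : Subgroup Ω := (N.comap ι).map S.subtype

theorem mem_pbSub {ι : S →* G} {N : Subgroup G} {y : Ω} :
    y ∈ pbSub ι N ↔ ∃ h : y ∈ S, ι ⟨y, h⟩ ∈ N := by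
  unfold pbSub
  constructor
  · rintro ⟨s, hs, rfl⟩
    exact ⟨s.2, hs⟩
  · rintro ⟨h, hy⟩
    exact ⟨⟨y, h⟩, hy, rfl⟩

theorem pbSub_le (ι : S →* G) (N : Subgroup G) : pbSub ι N ≤ S :=
  fun _ hy => (mem_pbSub.mp hy).1

theorem map_mem_of_mem_pbSub {ι : S →* G} {N : Subgroup G} {y : Ω} (hy : y ∈ pbSub ι N)
    (h : y ∈ S) : ι ⟨y, h⟩ ∈ N :=
  (mem_pbSub.mp hy).2

/-- The fusion system over `S ∩ ι⁻¹(N)` of the maps that, read through `ι`, are conjugation by elements of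
`N`. -/
def pbSys (ι : S →* G) (hι : Function.Injective ι) (N : Subgroup G) : FusionSystem (pbSub ι N) where
  Hom P := {φ | P ≤ pbSub ι N ∧ (∀ x : P, φ x ∈ pbSub ι N) ∧
    ∃ n ∈ N, ∀ (x : P) (h1 : (x : Ω) ∈ S) (h2 : φ x ∈ S), ι ⟨φ x, h2⟩ = n * ι ⟨x, h1⟩ * n⁻¹}
  le_of_mem h := ⟨h.1, h.2.1⟩
  injective_of_mem := by
    rintro P φ ⟨hP, hφ, n, -, hn⟩ a b hab
    have ha := hn a (pbSub_le ι N (hP a.2)) (pbSub_le ι N (hφ a))
    have hb := hn b (pbSub_le ι N (hP b.2)) (pbSub_le ι N (hφ b))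
    have e : (⟨φ a, pbSub_le ι N (hφ a)⟩ : S) = ⟨φ b, pbSub_le ι N (hφ b)⟩ := Subtype.ext hab
    rw [e, hb] at ha
    have h3 : ι ⟨a, pbSub_le ι N (hP a.2)⟩ = ι ⟨b, pbSub_le ι N (hP b.2)⟩ :=
      (mul_left_cancel (mul_right_cancel ha)).symm
    have h4 := hι h3
    exact Subtype.ext (Subtype.mk.inj h4)
  conj_mem := by
    intro P g hP hg
    refine ⟨hP, fun x => ?_, ι ⟨g, pbSub_le ι N hg⟩, map_mem_of_mem_pbSub hg _, fun x h1 h2 => ?_⟩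
    · rw [conjHom_apply]
      exact Subgroup.mul_mem _ (Subgroup.mul_mem _ hg (hP x.2)) (Subgroup.inv_mem _ hg)
    · rw [← map_inv, ← map_mul, ← map_mul]
      congr 1
  comp_mem := by
    rintro P Q φ ψ ⟨hP, hφ, n, hn, hnx⟩ ⟨hQ, hψ, m, hm, hmx⟩ h
    refine ⟨hP, fun x => hψ _, m * n, Subgroup.mul_mem _ hm hn, fun x h1 h2 => ?_⟩
    have hφS : φ x ∈ S := pbSub_le ι N (hφ x)
    have e1 := hmx (φ.codRestrict Q h x) hφS h2
    have e2 := hnx x h1 hφS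
    have e3 : ι ⟨ψ (φ.codRestrict Q h x), h2⟩ = m * ι ⟨φ x, hφS⟩ * m⁻¹ := e1
    show ι ⟨ψ (φ.codRestrict Q h x), h2⟩ = _
    rw [e3, e2]
    group
  inv_mem := by
    rintro P φ ⟨hP, hφ, n, hn, hnx⟩
    have hinj : Function.Injective φ := by
      intro a b hab
      have ha := hnx a (pbSub_le ι N (hP a.2)) (pbSub_le ι N (hφ a))
      have hb := hnx b (pbSub_le ι N (hP b.2)) (pbSub_le ι N (hφ b))
      have e : (⟨φ a, pbSub_le ι N (hφ a)⟩ : S) = ⟨φ b, pbSub_le ι N (hφ b)⟩ := Subtype.ext hab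
      rw [e, hb] at ha
      have h3 : ι ⟨a, pbSub_le ι N (hP a.2)⟩ = ι ⟨b, pbSub_le ι N (hP b.2)⟩ :=
        (mul_left_cancel (mul_right_cancel ha)).symm
      exact Subtype.ext (Subtype.mk.inj (hι h3))
    obtain ⟨ψ, hψdef⟩ : ∃ ψ : φ.range →* Ω,
        ψ = P.subtype.comp (MonoidHom.ofInjective hinj).symm.toMonoidHom := ⟨_, rfl⟩
    have hψφ : ∀ x : P, ψ ⟨φ x, ⟨x, rfl⟩⟩ = (x : Ω) := by
      intro x
      rw [hψdef]
      show (((MonoidHom.ofInjective hinj).symm ⟨φ x, ⟨x, rfl⟩⟩ : P) : Ω) = x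
      congr 1
      rw [MulEquiv.symm_apply_eq]
      rfl
    refine ⟨ψ, ⟨?_, ?_, n⁻¹, Subgroup.inv_mem _ hn, ?_⟩, hψφ⟩
    · rintro _ ⟨x, rfl⟩
      exact hφ x
    · rintro ⟨_, x, rfl⟩
      rw [hψφ]
      exact hP x.2
    · rintro ⟨_, x, rfl⟩ h1 h2
      have e := hnx x (pbSub_le ι N (hP x.2)) h1
      have e' : (⟨ψ ⟨φ x, ⟨x, rfl⟩⟩, h2⟩ : S) = ⟨x, pbSub_le ι N (hP x.2)⟩ := Subtype.ext (hψφ x)
      rw [e', e]
      group

theorem mem_pbSys {ι : S →* G} {hι : Function.Injective ι} {N : Subgroup G} {P : Subgroup Ω}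
    {φ : P →* Ω} : φ ∈ (pbSys ι hι N).Hom P ↔ P ≤ pbSub ι N ∧ (∀ x : P, φ x ∈ pbSub ι N) ∧
    ∃ n ∈ N, ∀ (x : P) (h1 : (x : Ω) ∈ S) (h2 : φ x ∈ S), ι ⟨φ x, h2⟩ = n * ι ⟨x, h1⟩ * n⁻¹ :=
  Iff.rfl

/-- The image `ι(Q)` of a subgroup `Q` (cut down to `S`). -/
def imgSub (ι : S →* G) (Q : Subgroup Ω) : Subgroup G := (Q.subgroupOf S).map ι

theorem mem_imgSub {ι : S →* G} {Q : Subgroup Ω} {y : G} :
    y ∈ imgSub ι Q ↔ ∃ s : S, (s : Ω) ∈ Q ∧ ι s = y := by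
  unfold imgSub
  rw [Subgroup.mem_map]
  constructor
  · rintro ⟨s, hs, rfl⟩
    exact ⟨s, Subgroup.mem_subgroupOf.mp hs, rfl⟩
  · rintro ⟨s, hs, rfl⟩
    exact ⟨s, Subgroup.mem_subgroupOf.mpr hs, rfl⟩

theorem imgSub_le_range (ι : S →* G) (Q : Subgroup Ω) : imgSub ι Q ≤ ι.range := by
  intro y hy
  obtain ⟨s, -, rfl⟩ := mem_imgSub.mp hy
  exact ⟨s, rfl⟩

theorem imgSub_mono (ι : S →* G) {Q R : Subgroup Ω} (h : Q ≤ R) : imgSub ι Q ≤ imgSub ι R := by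
  intro y hy
  obtain ⟨s, hs, rfl⟩ := mem_imgSub.mp hy
  exact mem_imgSub.mpr ⟨s, h hs, rfl⟩

theorem imgSub_pbSub (ι : S →* G) (N : Subgroup G) : imgSub ι (pbSub ι N) = ι.range ⊓ N := by
  ext y
  rw [mem_imgSub]
  constructor
  · rintro ⟨s, hs, rfl⟩
    exact ⟨⟨s, rfl⟩, map_mem_of_mem_pbSub hs s.2⟩
  · rintro ⟨⟨s, rfl⟩, hy⟩
    exact ⟨s, mem_pbSub.mpr ⟨s.2, hy⟩, rfl⟩

theorem mem_of_map_mem_imgSub {ι : S →* G} (hι : Function.Injective ι) {Q : Subgroup Ω} {s : S}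
    (h : ι s ∈ imgSub ι Q) : (s : Ω) ∈ Q := by
  obtain ⟨s', hs', e⟩ := mem_imgSub.mp h
  rw [← hι e]
  exact hs'

theorem imgSub_sup (ι : S →* G) {Q R : Subgroup Ω} (hQ : Q ≤ S) (hR : R ≤ S) :
    imgSub ι (Q ⊔ R) = imgSub ι Q ⊔ imgSub ι R := by
  unfold imgSub
  rw [← Subgroup.map_sup, Subgroup.subgroupOf_sup hQ hR]

theorem imgSub_centralizerIn {ι : S →* G} (hι : Function.Injective ι) (Q : Subgroup Ω) (hQ : Q ≤ S) :
    imgSub ι (centralizerIn S Q) = centralizerIn ι.range (imgSub ι Q) := by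
  ext y
  rw [mem_imgSub]
  constructor
  · rintro ⟨s, hs, rfl⟩
    refine ⟨⟨s, rfl⟩, ?_⟩
    show ι s ∈ Subgroup.centralizer (imgSub ι Q : Set G)
    rw [Subgroup.mem_centralizer_iff]
    intro z hz
    obtain ⟨t, ht, rfl⟩ := mem_imgSub.mp hz
    have h1 : (t : Ω) * s = s * t := (Subgroup.mem_centralizer_iff.mp hs.2) t ht
    rw [← map_mul, ← map_mul]
    congr 1
    exact Subtype.ext h1
  · rintro ⟨⟨s, rfl⟩, hy⟩
    refine ⟨s, ⟨s.2, ?_⟩, rfl⟩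
    show (s : Ω) ∈ Subgroup.centralizer (Q : Set Ω)
    rw [Subgroup.mem_centralizer_iff]
    intro t ht
    have h1 := (Subgroup.mem_centralizer_iff.mp hy) (ι ⟨t, hQ ht⟩) (mem_imgSub.mpr ⟨⟨t, hQ ht⟩, ht, rfl⟩)
    rw [← map_mul, ← map_mul] at h1
    exact congrArg Subtype.val (hι h1)

/-- An element of `G` normalizing `ι(Q)` induces an element of `Aut_F(Q)`. -/
theorem exists_aut_of_normalizer (F : FusionSystem S) {ι : S →* G} (hreal : F.IsRealizedBy ι)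
    {Q : Subgroup Ω} (hQ : Q ≤ S) (h : G) (hh : h ∈ Subgroup.normalizer (imgSub ι Q : Set G)) :
    ∃ β ∈ F.autGroup Q, ∀ x : Q, ι ⟨((β x : Q) : Ω), hQ (β x).2⟩ = h * ι ⟨x, hQ x.2⟩ * h⁻¹ := by
  have hι := hreal.1
  have hmem : ∀ x : Q, h * ι ⟨x, hQ x.2⟩ * h⁻¹ ∈ imgSub ι Q := fun x =>
    (Subgroup.mem_normalizer_iff.mp hh _).mp (mem_imgSub.mpr ⟨⟨x, hQ x.2⟩, x.2, rfl⟩)
  obtain ⟨ψ, hψ, hψS, hιψ⟩ := exists_hom_of_conj F hreal hQ h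
    (fun x => imgSub_le_range ι Q (hmem x))
  have hψQ : ∀ x, ψ x ∈ Q := by
    intro x
    have h1 : ι ⟨ψ x, hψS x⟩ ∈ imgSub ι Q := by rw [hιψ]; exact hmem x
    exact mem_of_map_mem_imgSub hι h1
  have hr : ψ.range = Q := by
    apply le_antisymm
    · rintro _ ⟨x, rfl⟩
      exact hψQ x
    · intro y hy
      have h1 : h⁻¹ * ι ⟨y, hQ hy⟩ * h ∈ imgSub ι Q := by
        rw [Subgroup.mem_normalizer_iff.mp hh]
        have : h * (h⁻¹ * ι ⟨y, hQ hy⟩ * h) * h⁻¹ = ι ⟨y, hQ hy⟩ := by group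
        rw [this]
        exact mem_imgSub.mpr ⟨⟨y, hQ hy⟩, hy, rfl⟩
      obtain ⟨s, hs, e⟩ := mem_imgSub.mp h1
      refine ⟨⟨s, hs⟩, ?_⟩
      have h2 := hιψ ⟨s, hs⟩
      have h3 : ι ⟨ψ ⟨s, hs⟩, hψS _⟩ = ι ⟨y, hQ hy⟩ := by
        rw [h2]
        have : (⟨((⟨s, hs⟩ : Q) : Ω), hQ hs⟩ : S) = s := Subtype.ext rfl
        rw [this, e]
        group
      exact Subtype.mk.inj (hι h3)
  obtain ⟨β, hβ, hβx⟩ := aut_of_range_eq F hψ hr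
  refine ⟨β, hβ, fun x => ?_⟩
  rw [← hιψ x]
  congr 1
  exact Subtype.ext (hβx x)

/-- Conjugation by an element of `N` keeping the image of `P` inside `ι(S)` is a map of `pbSys`. -/
theorem exists_pbHom_of_conj (F : FusionSystem S) {ι : S →* G} (hreal : F.IsRealizedBy ι)
    (N : Subgroup G) {P : Subgroup Ω} (hP : P ≤ pbSub ι N) (n : G) (hn : n ∈ N)
    (hg : ∀ x : P, n * ι ⟨x, pbSub_le ι N (hP x.2)⟩ * n⁻¹ ∈ ι.range) :
    ∃ ψ ∈ (pbSys ι hreal.1 N).Hom P, ∃ hψS : ∀ x, ψ x ∈ S,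
      ∀ x : P, ι ⟨ψ x, hψS x⟩ = n * ι ⟨x, pbSub_le ι N (hP x.2)⟩ * n⁻¹ := by
  obtain ⟨ψ, -, hψS, hιψ⟩ := exists_hom_of_conj F hreal (hP.trans (pbSub_le ι N)) n hg
  refine ⟨ψ, ⟨hP, fun x => ?_, n, hn, fun x h1 h2 => hιψ x⟩, hψS, hιψ⟩
  refine mem_pbSub.mpr ⟨hψS x, ?_⟩
  rw [hιψ]
  exact N.mul_mem (N.mul_mem hn (map_mem_of_mem_pbSub (hP x.2) _)) (N.inv_mem hn)

end Cfsg.Agent.Helper26
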