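import Mathlib
import Cfsg.Agent.Lib.Helper12.SLGen2

/-!
# S2413 / S2414 / S2415 farm-out, PIECE SL (helper26)

Exact signatures of `plans/OGSkel.lean.txt`, section `SL`.
-/

set_option autoImplicit false
set_option linter.unusedSectionVars false
set_option linter.unusedVariables false

namespace Cfsg.Agent.Helper11.OG

section SL
open Cfsg.Agent.Helper12
variable {K : Type*} [Field K] {n : ℕ}

theorem sl_prod_epsW (n : ℕ) (K : Type*) [Field K] :
    ∏ a : Fin (n + 1), epsW n K a = (-1) ^ n := by
  rw [Fin.prod_univ_castSucc]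
  have h1 : ∀ i : Fin n, epsW n K (Fin.castSucc i) = 1 := by
    intro i
    unfold epsW
    rw [if_neg]
    rw [Fin.val_castSucc]
    exact i.2.ne
  simp only [h1, Finset.prod_const_one, one_mul]
  unfold epsW
  simp

theorem sl_coxMat_apply (n : ℕ) (K : Type*) [Field K] (a b : Fin (n + 1)) :
    (Matrix.diagonal (epsW n K) * (finRotate (n + 1)).permMatrix K) a b =
      if b = a + 1 then epsW n K a else 0 := by
  rw [Matrix.diagonal_mul]
  unfold Equiv.Perm.permMatrix
  rw [PEquiv.toMatrix_apply, Equiv.toPEquiv_apply, finRotate_apply]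
  by_cases hb : b = a + 1
  · subst hb
    simp
  · rw [if_neg hb]
    have : ¬ (b ∈ some (a + 1)) := by
      intro h
      rw [Option.mem_def, Option.some_inj] at h
      exact hb h.symm
    rw [if_neg this, mul_zero]

theorem sl_coxMat_det (n : ℕ) (K : Type*) [Field K] :
    (Matrix.diagonal (epsW n K) * (finRotate (n + 1)).permMatrix K).det = 1 := by
  rw [Matrix.det_mul, Matrix.det_diagonal, Matrix.det_permutation, sl_prod_epsW, sign_finRotate]
  push_cast
  rw [← mul_pow]
  simp

theorem exists_coxW (n : ℕ) (K : Type*) [Field K] :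
    ∃ w : Matrix.SpecialLinearGroup (Fin (n + 1)) K, IsCoxW w :=
  ⟨⟨_, sl_coxMat_det n K⟩, fun a b => sl_coxMat_apply n K a b⟩

/-- the inverse of the monomial matrix is its transpose -/
theorem coxW_inv_apply {w : Matrix.SpecialLinearGroup (Fin (n + 1)) K} (hw : IsCoxW w)
    (a b : Fin (n + 1)) :
    ((w⁻¹ : Matrix.SpecialLinearGroup (Fin (n + 1)) K) : Matrix (Fin (n + 1)) (Fin (n + 1)) K) a b
      = (w : Matrix (Fin (n + 1)) (Fin (n + 1)) K) b a := by
  have hdet : ((w : Matrix (Fin (n + 1)) (Fin (n + 1)) K).transpose).det = 1 := by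
    rw [Matrix.det_transpose]
    exact w.2
  obtain ⟨wT, hwT⟩ : ∃ wT : Matrix.SpecialLinearGroup (Fin (n + 1)) K,
      (wT : Matrix (Fin (n + 1)) (Fin (n + 1)) K) =
        (w : Matrix (Fin (n + 1)) (Fin (n + 1)) K).transpose := ⟨⟨_, hdet⟩, rfl⟩
  have hmul : w * wT = 1 := by
    apply Subtype.ext
    rw [Matrix.SpecialLinearGroup.coe_mul, Matrix.SpecialLinearGroup.coe_one, hwT]
    ext i j
    rw [Matrix.mul_apply]
    simp only [Matrix.transpose_apply, hw _ _]
    rw [Finset.sum_eq_single (i + 1)]
    · rw [if_pos rfl]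
      by_cases hij : i = j
      · subst hij
        rw [if_pos rfl, epsW_mul_self, Matrix.one_apply_eq]
      · rw [if_neg (fun h => hij (add_right_cancel h)), mul_zero, Matrix.one_apply_ne hij]
    · intro c _ hc
      rw [if_neg hc, zero_mul]
    · intro h
      exact absurd (Finset.mem_univ _) h
  rw [inv_eq_of_mul_eq_one_right hmul, hwT, Matrix.transpose_apply]

theorem sl_top_big [Fintype K] (hK : 3 < Fintype.card K) (hn : 1 ≤ n) (k : Kˣ)
    (hk : ∀ u : Kˣ, u ∈ Subgroup.zpowers k) (h01 : (0 : Fin (n + 1)) ≠ 1)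
    (w : Matrix.SpecialLinearGroup (Fin (n + 1)) K) (hw : IsCoxW w) :
    Subgroup.closure ({Matrix.SpecialLinearGroup.diag2n h01 (k : K) k.ne_zero,
      Matrix.SpecialLinearGroup.transvection h01 1 * w} :
        Set (Matrix.SpecialLinearGroup (Fin (n + 1)) K)) = ⊤ := by
  classical
  obtain ⟨h, hhdef⟩ : ∃ h : Matrix.SpecialLinearGroup (Fin (n + 1)) K,
      h = Matrix.SpecialLinearGroup.diag2n h01 (k : K) k.ne_zero := ⟨_, rfl⟩
  obtain ⟨x, hx'⟩ : ∃ x : Matrix.SpecialLinearGroup (Fin (n + 1)) K,
      x = Matrix.SpecialLinearGroup.transvection h01 1 := ⟨_, rfl⟩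
  rw [← hhdef, ← hx']
  set H := Subgroup.closure ({h, x * w} : Set (Matrix.SpecialLinearGroup (Fin (n + 1)) K)) with hH
  have hhH : h ∈ H := Subgroup.subset_closure (by simp)
  have hyH : x * w ∈ H := Subgroup.subset_closure (by simp)
  have hcox := hw
  have hval1 : (1 : Fin (n + 1)).val = 1 := by
    rw [Fin.val_one']
    exact Nat.mod_eq_of_lt (by omega)
  have hkinv : ((k⁻¹ : Kˣ) : K) = (k : K)⁻¹ := Units.val_inv_eq_inv_val k
  set d : Fin (n + 1) → K := fun i => if i.val = 0 then (k : K) else
    if i.val = 1 then ((k⁻¹ : Kˣ) : K) else 1 with hd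
  have hh : (h : Matrix (Fin (n + 1)) (Fin (n + 1)) K) = Matrix.diagonal d := by
    rw [hhdef, Matrix.SpecialLinearGroup.diag2n_coe]
    congr 1
    funext i
    simp only [hd, Fin.ext_iff, hval1, Fin.val_zero, hkinv]
  have hd0 : d 0 = (k : K) := by simp [hd]
  have hd1 : d 1 = ((k⁻¹ : Kˣ) : K) := by
    simp only [hd, hval1]
    simp
  have hk0 : (k : K) ≠ 0 := k.ne_zero
  -- the order of `k`
  have hord : orderOf k = Fintype.card K - 1 := by
    have h1 : Subgroup.zpowers k = ⊤ := by
      rw [eq_top_iff]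
      intro u _
      exact hk u
    rw [← Nat.card_zpowers, h1, Subgroup.card_top, Nat.card_eq_fintype_card, Fintype.card_units]
  have hk2 : (k : K) * (k : K) ≠ 1 := by
    intro h1
    have h2 : k ^ 2 = 1 := by
      apply Units.ext
      rw [Units.val_pow_eq_pow_val, pow_two, h1, Units.val_one]
    have h3 := orderOf_dvd_of_pow_eq_one h2
    have h4 := Nat.le_of_dvd (by norm_num) h3
    omega
  have hk1 : (k : K) ≠ 1 := by
    intro h1
    apply hk2
    rw [h1, mul_one]
  -- conjugation by `h`
  have hconj : ∀ c : K, h * Matrix.SpecialLinearGroup.transvection h01 c =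
      Matrix.SpecialLinearGroup.transvection h01 ((k : K) * (k : K) * c) * h := by
    intro c
    rw [diag_mul_transvection h d hh h01 (by rw [hd1, hkinv]; exact inv_ne_zero hk0) c]
    congr 2
    rw [hd0, hd1, hkinv]
    field_simp
  -- the additive subgroup of parameters
  let A : AddSubgroup K :=
    { carrier := {c | Matrix.SpecialLinearGroup.transvection h01 c ∈ H}
      zero_mem' := by
        change Matrix.SpecialLinearGroup.transvection h01 (0 : K) ∈ H
        rw [Matrix.SpecialLinearGroup.transvection_coeff_zero]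
        exact H.one_mem
      add_mem' := by
        intro a b ha hb
        change Matrix.SpecialLinearGroup.transvection h01 (a + b) ∈ H
        rw [Matrix.SpecialLinearGroup.transvection_add]
        exact H.mul_mem ha hb
      neg_mem' := by
        intro a ha
        change Matrix.SpecialLinearGroup.transvection h01 (-a) ∈ H
        rw [← Matrix.SpecialLinearGroup.transvection_inv]
        exact H.inv_mem ha }
  have hAmem : ∀ c : K, c ∈ A ↔ Matrix.SpecialLinearGroup.transvection h01 c ∈ H := fun c => Iff.rfl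
  have hA : ∀ c ∈ A, (k : K) * (k : K) * c ∈ A := by
    intro c hc
    rw [hAmem] at hc ⊢
    have : Matrix.SpecialLinearGroup.transvection h01 ((k : K) * (k : K) * c) =
        h * Matrix.SpecialLinearGroup.transvection h01 c * h⁻¹ := by
      rw [hconj, mul_inv_cancel_right]
    rw [this]
    exact H.mul_mem (H.mul_mem hhH hc) (H.inv_mem hhH)
  -- a non-trivial element of the root subgroup
  obtain ⟨D', hD'def⟩ : ∃ D' : Matrix.SpecialLinearGroup (Fin (n + 1)) K, D' = w * h * w⁻¹ :=
    ⟨_, rfl⟩
  have hD' : (D' : Matrix (Fin (n + 1)) (Fin (n + 1)) K) =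
      Matrix.diagonal (fun a => d (a + 1)) := by
    rw [hD'def]
    exact coxW_mul_diag hcox h d hh
  have hd'0 : d (0 + 1) = (k : K)⁻¹ := by rw [zero_add, hd1, hkinv]
  -- the value `e`
  obtain ⟨e, he1, hde⟩ : ∃ e : K, e ≠ 1 ∧ d (1 + 1) * (k : K) = e := by
    refine ⟨d (1 + 1) * (k : K), ?_, rfl⟩
    by_cases hn1 : n = 1
    · subst hn1
      have : (1 + 1 : Fin 2) = 0 := by decide
      rw [this, hd0]
      exact hk2
    · have hv : (1 + 1 : Fin (n + 1)).val = 2 := by
        rw [Fin.val_add, hval1]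
        exact Nat.mod_eq_of_lt (by omega)
      have : d (1 + 1) = 1 := by
        simp only [hd, hv]
        simp
      rw [this, one_mul]
      exact hk1
  have hd'1 : d (1 + 1) ≠ 0 := by
    intro h0
    rw [h0, zero_mul] at hde
    by_cases hn1 : n = 1
    · subst hn1
      have : (1 + 1 : Fin 2) = 0 := by decide
      rw [this, hd0] at h0
      exact hk0 h0
    · have hv : (1 + 1 : Fin (n + 1)).val = 2 := by
        rw [Fin.val_add, hval1]
        exact Nat.mod_eq_of_lt (by omega)
      have : d (1 + 1) = 1 := by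
        simp only [hd, hv]
        simp
      rw [this] at h0
      exact one_ne_zero h0
  have hxD : x * D' = D' * Matrix.SpecialLinearGroup.transvection h01 e := by
    rw [diag_mul_transvection D' _ hD' h01 hd'1 e, hx']
    congr 2
    rw [hd'0, ← hde]
    field_simp
  obtain ⟨z, hz⟩ : ∃ z : Matrix.SpecialLinearGroup (Fin (n + 1)) K,
      z = (x * w) * h * (x * w)⁻¹ := ⟨_, rfl⟩
  have hzH : z ∈ H := by
    rw [hz]
    exact H.mul_mem (H.mul_mem hyH hhH) (H.inv_mem hyH)
  have hz1 : z = D' * Matrix.SpecialLinearGroup.transvection h01 (e - 1) := by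
    have e1 : z = x * D' * x⁻¹ := by
      rw [hz, hD'def]
      group
    rw [e1, hxD, hx', Matrix.SpecialLinearGroup.transvection_inv, mul_assoc,
      ← Matrix.SpecialLinearGroup.transvection_add, sub_eq_add_neg]
  have hcomm : h * D' = D' * h := by
    apply Subtype.ext
    rw [Matrix.SpecialLinearGroup.coe_mul, Matrix.SpecialLinearGroup.coe_mul, hh, hD',
      Matrix.diagonal_mul_diagonal, Matrix.diagonal_mul_diagonal]
    congr 1
    funext a
    exact mul_comm _ _
  have hc₀ : Matrix.SpecialLinearGroup.transvection h01 (((k : K) * (k : K) - 1) * (e - 1)) ∈ H := by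
    have h1 : h * z * h⁻¹ = D' * Matrix.SpecialLinearGroup.transvection h01
        ((k : K) * (k : K) * (e - 1)) := by
      rw [hz1, ← mul_assoc, hcomm, mul_assoc D', hconj, ← mul_assoc, mul_inv_cancel_right]
    have h2 : Matrix.SpecialLinearGroup.transvection h01 (((k : K) * (k : K) - 1) * (e - 1)) =
        z⁻¹ * (h * z * h⁻¹) := by
      rw [h1, hz1, _root_.mul_inv_rev, mul_assoc, inv_mul_cancel_left,
        Matrix.SpecialLinearGroup.transvection_inv,
        ← Matrix.SpecialLinearGroup.transvection_add]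
      congr 1
      ring
    rw [h2]
    exact H.mul_mem (H.inv_mem hzH) (H.mul_mem (H.mul_mem hhH hzH) (H.inv_mem hhH))
  have hne : ((k : K) * (k : K) - 1) * (e - 1) ≠ 0 :=
    mul_ne_zero (sub_ne_zero.2 hk2) (sub_ne_zero.2 he1)
  have hAtop := addSubgroup_eq_top_of_sq_closed hK k hk A hA _ ((hAmem _).2 hc₀) hne
  have hgood : TvGood H 0 1 := by
    intro _ c
    have : c ∈ A := by
      rw [hAtop]
      exact AddSubgroup.mem_top c
    exact this
  have hxH : x ∈ H := by
    rw [hx']
    exact hgood h01 1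
  have hwH : w ∈ H := by
    have : w = x⁻¹ * (x * w) := by group
    rw [this]
    exact H.mul_mem (H.inv_mem hxH) hyH
  exact eq_top_of_tvGood hn H hcox hwH hgood

/-- over a prime field the first transvection generates its root subgroup -/
theorem sl_tvGood_of_prime [Fintype K] (hK : Fintype.card K ≤ 3)
    (hn : 1 ≤ n) (H : Subgroup (Matrix.SpecialLinearGroup (Fin (n + 1)) K))
    (h01 : (0 : Fin (n + 1)) ≠ 1)
    (hxH : Matrix.SpecialLinearGroup.transvection h01 (1 : K) ∈ H) : TvGood H 0 1 := by
  intro h01' c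
  obtain ⟨p, hp⟩ := CharP.exists K
  have := hp
  obtain ⟨f, hpp, hq⟩ := FiniteField.card K p
  have : Fact p.Prime := ⟨hpp⟩
  have hcard : Fintype.card K = p := by
    have hf : (f : ℕ) = 1 := by
      by_contra hne
      have h2 : 2 ≤ (f : ℕ) := by
        have := f.pos
        omega
      have : p ^ 2 ≤ p ^ (f : ℕ) := Nat.pow_le_pow_right hpp.pos h2
      have h4 : 2 ^ 2 ≤ p ^ 2 := Nat.pow_le_pow_left hpp.two_le 2
      omega
    rw [hq, hf, pow_one]
  -- every element is a natural number
  obtain ⟨m, rfl⟩ : ∃ m : ℕ, c = (m : K) := by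
    let e := ZMod.ringEquivOfPrime K hpp hcard
    refine ⟨(e.symm c).val, ?_⟩
    have h1 : e (e.symm c) = c := e.apply_symm_apply c
    have h2 : (((e.symm c).val : ℕ) : ZMod p) = e.symm c := ZMod.natCast_zmod_val _
    calc c = e (e.symm c) := h1.symm
      _ = e ((((e.symm c).val : ℕ) : ZMod p)) := by rw [h2]
      _ = (((e.symm c).val : ℕ) : K) := map_natCast e _
  have hpow : ∀ m : ℕ, Matrix.SpecialLinearGroup.transvection h01' ((m : ℕ) : K) =
      (Matrix.SpecialLinearGroup.transvection h01 (1 : K)) ^ m := by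
    intro m
    induction m with
    | zero => simp
    | succ m ih =>
      rw [Nat.cast_succ, Matrix.SpecialLinearGroup.transvection_add, ih, pow_succ]
  rw [hpow]
  exact pow_mem hxH m

theorem sl_top_small [Fintype K] (hK : Fintype.card K ≤ 3) (hn : 1 ≤ n)
    (h01 : (0 : Fin (n + 1)) ≠ 1)
    (w : Matrix.SpecialLinearGroup (Fin (n + 1)) K) (hw : IsCoxW w) :
    Subgroup.closure ({Matrix.SpecialLinearGroup.transvection h01 1, w} :
        Set (Matrix.SpecialLinearGroup (Fin (n + 1)) K)) = ⊤ := by
  have hxH : Matrix.SpecialLinearGroup.transvection h01 (1 : K) ∈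
      Subgroup.closure ({Matrix.SpecialLinearGroup.transvection h01 1, w} :
        Set (Matrix.SpecialLinearGroup (Fin (n + 1)) K)) :=
    Subgroup.subset_closure (by simp)
  have hwH : w ∈ Subgroup.closure ({Matrix.SpecialLinearGroup.transvection h01 1, w} :
        Set (Matrix.SpecialLinearGroup (Fin (n + 1)) K)) :=
    Subgroup.subset_closure (by simp)
  exact eq_top_of_tvGood hn _ hw hwH (sl_tvGood_of_prime hK hn _ h01 hxH)

theorem diag2n_pow_card [Fintype K] (h01 : (0 : Fin (n + 1)) ≠ 1) (k : K) (hk : k ≠ 0) :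
    (Matrix.SpecialLinearGroup.diag2n h01 k hk) ^ (Fintype.card K - 1) = 1 := by
  apply Subtype.ext
  rw [Matrix.SpecialLinearGroup.coe_pow, Matrix.SpecialLinearGroup.diag2n_coe,
    Matrix.diagonal_pow, Matrix.SpecialLinearGroup.coe_one, ← Matrix.diagonal_one]
  congr 1
  funext i
  rw [Pi.pow_apply]
  split_ifs
  · exact FiniteField.pow_card_sub_one_eq_one k hk
  · exact FiniteField.pow_card_sub_one_eq_one _ (inv_ne_zero hk)
  · exact one_pow _

theorem sl_transvection_pow {i j : Fin (n + 1)} (hij : i ≠ j) (c : K) (m : ℕ) :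
    (Matrix.SpecialLinearGroup.transvection hij c) ^ m =
      Matrix.SpecialLinearGroup.transvection hij ((m : K) * c) := by
  induction m with
  | zero =>
    rw [pow_zero, Nat.cast_zero, zero_mul, Matrix.SpecialLinearGroup.transvection_coeff_zero]
  | succ m ih =>
    rw [pow_succ, ih, ← Matrix.SpecialLinearGroup.transvection_add, Nat.cast_succ, add_mul,
      one_mul]

theorem transvection_pow_char (p : ℕ) [CharP K p] {i j : Fin (n + 1)} (hij : i ≠ j) (c : K) :
    (Matrix.SpecialLinearGroup.transvection hij c) ^ p = 1 := by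
  rw [sl_transvection_pow, CharP.cast_eq_zero, zero_mul,
    Matrix.SpecialLinearGroup.transvection_coeff_zero]

end SL

end Cfsg.Agent.Helper11.OG
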