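import Mathlib
import Cfsg.Prelude.Def_Local
import Cfsg.Prelude.Def_Transfer
import Cfsg.Agent.Lib.Helper26.TIDefs2

/-!
# S1786: the subgroups `Q = O_2(N_G(V))` and `P = C_Q(V)` of `G` (abbrevs: definitionally the frozen expressions)
-/

set_option autoImplicit false

namespace Cfsg.Agent.Helper26.TI

variable {G : Type*} [Group G]

/-- `Q = O_2(N_G(V))` as a subgroup of `G`. -/
abbrev Qs (V : Subgroup G) : Subgroup G :=
  (Cfsg.pCore 2 ↥(Subgroup.normalizer (V : Set G))).map (Subgroup.normalizer (V : Set G)).subtype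

/-- `P = C_Q(V)`. -/
abbrev Ps (V : Subgroup G) : Subgroup G := Qs V ⊓ Subgroup.centralizer (V : Set G)

end Cfsg.Agent.Helper26.TI
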