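import Mathlib

set_option autoImplicit false
set_option linter.style.haveILetI false
set_option linter.unusedVariables false

open Equiv Equiv.Perm MulAction Subgroup

namespace Cfsg.Agent.Helper2.AG

section general

variable {β : Type*} [Fintype β] [DecidableEq β]

/-- aux: a permutation with at most two moved points and sign `1` is trivial -/
theorem CENT.eq_one_of_support_le_two {d : Perm β} (hd : d.support.card ≤ 2)
    (hs : Perm.sign d = 1) : d = 1 := by
  by_contra hne
  have h1 : d.support.card ≠ 1 := Perm.card_support_ne_one d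
  have h0 : d.support.card ≠ 0 := by
    intro h0
    exact hne (Perm.card_support_eq_zero.mp h0)
  have h2 : d.support.card = 2 := by omega
  have hsw : d.IsSwap := Perm.card_support_eq_two.mp h2
  have hsg : Perm.sign d = -1 := hsw.sign_eq
  rw [hs] at hsg
  exact absurd hsg (by decide)

/-- CENT -/
theorem mem_zpowers_of_commute_of_even {g : Perm β} (hgc : g.IsCycle)
    (hcard : g.support.card + 2 = Fintype.card β) (hodd : Odd g.support.card)
    {c : Perm β} (hc : Commute c g) (hceven : Perm.sign c = 1) : c ∈ zpowers g := by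
  obtain ⟨hc', hmem⟩ := hgc.commute_iff.mp hc
  obtain ⟨k, hk⟩ := Subgroup.mem_zpowers_iff.mp hmem
  -- sign of g is 1
  have hsg : Perm.sign g = 1 := by
    rw [hgc.sign]
    rw [hodd.neg_one_pow]
    simp
  -- d := (g^k)⁻¹ * c
  have hgk_in : ∀ x ∈ g.support, (g ^ k) x = c x := by
    intro x hx
    rw [hk]
    exact ofSubtype_subtypePerm_of_mem hc' hx
  have hgk_out : ∀ x, x ∉ g.support → (g ^ k) x = x := by
    intro x hx
    rw [hk]
    exact ofSubtype_apply_of_not_mem _ hx
  have hd_fix : ∀ x ∈ g.support, ((g ^ k)⁻¹ * c) x = x := by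
    intro x hx
    rw [Perm.mul_apply, ← hgk_in x hx]
    simp
  have hsupp : ((g ^ k)⁻¹ * c).support ⊆ Finset.univ \ g.support := by
    intro x hx
    rw [Finset.mem_sdiff]
    refine ⟨Finset.mem_univ _, fun hxg => ?_⟩
    exact (Perm.mem_support.mp hx) (hd_fix x hxg)
  have hcardle : ((g ^ k)⁻¹ * c).support.card ≤ 2 := by
    refine (Finset.card_le_card hsupp).trans ?_
    rw [Finset.card_sdiff_of_subset (Finset.subset_univ _), Finset.card_univ]
    omega
  have hsd : Perm.sign ((g ^ k)⁻¹ * c) = 1 := by
    rw [Perm.sign_mul, Perm.sign_inv, map_zpow, hsg, hceven]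
    simp
  have hd1 : (g ^ k)⁻¹ * c = 1 := CENT.eq_one_of_support_le_two hcardle hsd
  have hcg : c = g ^ k := by
    have := congrArg (fun t => g ^ k * t) hd1
    simpa using this
  rw [hcg]
  exact Subgroup.zpow_mem_zpowers g k

end general

end Cfsg.Agent.Helper2.AG
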