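import Mathlib
import Cfsg.Agent.S0680

set_option autoImplicit false
set_option linter.style.haveILetI false
set_option linter.unusedVariables false

open Equiv Equiv.Perm MulAction Subgroup

namespace Cfsg.Agent.Helper2.AG

section general

variable {β : Type*} [Fintype β] [DecidableEq β]

omit [DecidableEq β] in
/-- aux: a 2-transitive group of order `n (n - 1)` is sharply 2-transitive -/
theorem SHARP2.stabilizer_eq_bot (G : Subgroup (Perm β)) [IsMultiplyPretransitive G β 2]
    (h2 : 2 ≤ Fintype.card β)
    (hcard : Nat.card G = Fintype.card β * (Fintype.card β - 1)) (x : Fin 2 ↪ β) :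
    MulAction.stabilizer G x = ⊥ := by
  have hidx : (MulAction.stabilizer G x).index = Nat.card (Fin 2 ↪ β) :=
    @MulAction.index_stabilizer_of_transitive G (Fin 2 ↪ β) _ _ x
      ‹IsMultiplyPretransitive G β 2›
  have hemb : Nat.card (Fin 2 ↪ β) = Fintype.card β * (Fintype.card β - 1) := by
    rw [Nat.card_eq_fintype_card, Fintype.card_embedding_eq, Fintype.card_fin]
    simp [Nat.descFactorial, mul_comm]
  have hmul := Subgroup.card_mul_index (MulAction.stabilizer G x)
  rw [hidx, hemb, hcard] at hmul
  have hpos : 0 < Fintype.card β * (Fintype.card β - 1) := by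
    apply Nat.mul_pos <;> omega
  have h1 : Nat.card (MulAction.stabilizer G x) = 1 := by
    have : Nat.card (MulAction.stabilizer G x) * (Fintype.card β * (Fintype.card β - 1))
        = 1 * (Fintype.card β * (Fintype.card β - 1)) := by rw [hmul, one_mul]
    exact Nat.eq_of_mul_eq_mul_right hpos this
  exact Subgroup.card_eq_one.mp h1

/-- SHARP2 -/
theorem isPrimePow_card_of_sharp2 (G : Subgroup (Perm β)) [IsMultiplyPretransitive G β 2]
    (h2 : 2 ≤ Fintype.card β)
    (hcard : Nat.card G = Fintype.card β * (Fintype.card β - 1)) :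
    IsPrimePow (Fintype.card β) := by
  obtain ⟨p, j, hp, hj, hpj, -⟩ :=
    Cfsg.Agent.S0680.result G (SHARP2.stabilizer_eq_bot G h2 hcard) h2
  rw [isPrimePow_nat_iff]
  exact ⟨p, j, hp, hj, hpj.symm⟩

end general

end Cfsg.Agent.Helper2.AG
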