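import Mathlib
import Cfsg.Agent.Lib.Helper13.G2IDefs
import Cfsg.Agent.Lib.Lead.ChevCells

/-!
# S4278 / S4279 (helper13's farm-out), PIECE N11 (helper26)

`n_{[1,0,1,0,1]} = n_{11} τ` with `τ ∈ T` (indeed `τ = n_{[1,0,0,1]}`, because
`n_{[1,0]} n_6 n_{[1,0]}⁻¹ = n_{11}` on the nose), and `n_{[0]} = n_7`.
-/

set_option autoImplicit false

namespace Cfsg.Agent.Helper13.G2I

open Cfsg Cfsg.Lie Cfsg.Agent.Lead.Chev Cfsg.Agent.Helper11.G2T Cfsg.Agent.Helper6.SL2Hom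
  Cfsg.Agent.Helper6.ChevL Matrix

variable {F : Type*} [Field F]

theorem n11_aux_simple0 : chevG2.simple 0 = 7 := by decide
theorem n11_aux_simple1 : chevG2.simple 1 = 6 := by decide
theorem n11_aux_neg6 : chevG2.neg 6 = 5 := by decide
theorem n11_aux_neg11 : chevG2.neg 11 = 0 := by decide
theorem n11_aux_refl6 : reflWord chevG2 [1, 0] 6 = 11 := by decide
theorem n11_aux_refl5 : reflWord chevG2 [1, 0] 5 = 0 := by decide
theorem n11_aux_sign6 : signWord chevG2 (etaOf chevG2) [1, 0] 6 = 1 := by decide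
theorem n11_aux_sign5 : signWord chevG2 (etaOf chevG2) [1, 0] 5 = 1 := by decide
theorem n11_aux_triv : ∀ r < chevG2.nroots, reflWord chevG2 [] r = reflWord chevG2 [1, 0, 0, 1] r := by
  decide

/-- `n_{[1,0]} n_6 n_{[1,0]}⁻¹ = n_{11}` -/
theorem n11_aux_conj :
    nWordGL chevG2 (g2F F).xadd [1, 0] * nGL chevG2 (g2F F).xadd 6 * (nWordGL chevG2 (g2F F).xadd [1, 0])⁻¹ =
      nGL chevG2 (g2F F).xadd 11 := by
  have hw : ∀ i ∈ [1, 0], i < chevG2.rank := by decide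
  have hc : ∀ (s : ℕ) (hs : s < chevG2.nroots) (t : F),
      nWordGL chevG2 (g2F F).xadd [1, 0] * xGL chevG2 (g2F F).xadd s t *
        (nWordGL chevG2 (g2F F).xadd [1, 0])⁻¹ =
      xGL chevG2 (g2F F).xadd (reflWord chevG2 [1, 0] s)
        (((signWord chevG2 (etaOf chevG2) [1, 0] s : ℤ) : F) * t) := fun s hs t =>
    nWordGL_conj chevG2 (g2F F).xadd (etaOf chevG2) (g2F F).nsimple [1, 0] hw s hs t
  have h6 := hc 6 (by decide) 1
  have h5 := hc 5 (by decide) (-(1 : F)⁻¹)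
  rw [n11_aux_refl6, n11_aux_sign6] at h6
  rw [n11_aux_refl5, n11_aux_sign5] at h5
  rw [nGL_eq_nGLt, nGL_eq_nGLt, nGLt_eq, nGLt_eq, n11_aux_neg6, n11_aux_neg11]
  set n := nWordGL chevG2 (g2F F).xadd [1, 0] with hn
  have e : n * (xGL chevG2 (g2F F).xadd 6 1 * xGL chevG2 (g2F F).xadd 5 (-(1 : F)⁻¹) *
        xGL chevG2 (g2F F).xadd 6 1) * n⁻¹ =
      (n * xGL chevG2 (g2F F).xadd 6 1 * n⁻¹) * (n * xGL chevG2 (g2F F).xadd 5 (-(1 : F)⁻¹) * n⁻¹) *
        (n * xGL chevG2 (g2F F).xadd 6 1 * n⁻¹) := by group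
  rw [e, h6, h5]
  simp

/-- `n_{[1,0,1,0,1]}` and `n_{11} = x_{11}(1) x_0(-1) x_{11}(1)` differ by an element of `T` -/
theorem n11_word : ∃ τ ∈ TT F, nWordGL chevG2 (g2F F).xadd [1, 0, 1, 0, 1] = nGL chevG2 (g2F F).xadd 11 * τ := by
  refine ⟨nWordGL chevG2 (g2F F).xadd [1, 0, 0, 1], ?_, ?_⟩
  · have h := (g2F F).nWordGL_inv_mul_mem_diagonal [] [1, 0, 0, 1] (by decide) (by decide) n11_aux_triv
    rwa [nWordGL_nil, inv_one, one_mul] at h
  · rw [← n11_aux_conj]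
    have e1 : nWordGL chevG2 (g2F F).xadd [1, 0, 1, 0, 1] =
        nWordGL chevG2 (g2F F).xadd [1, 0] * nGL chevG2 (g2F F).xadd 6 *
          nWordGL chevG2 (g2F F).xadd [0, 1] := by
      have : ([1, 0, 1, 0, 1] : List ℕ) = [1, 0] ++ ([1] ++ [0, 1]) := rfl
      rw [this, nWordGL_append, nWordGL_append, nWordGL_cons chevG2 _ 1 [], nWordGL_nil, mul_one,
        n11_aux_simple1, mul_assoc]
    have e2 : nWordGL chevG2 (g2F F).xadd [1, 0, 0, 1] =
        nWordGL chevG2 (g2F F).xadd [1, 0] * nWordGL chevG2 (g2F F).xadd [0, 1] := by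
      have : ([1, 0, 0, 1] : List ℕ) = [1, 0] ++ [0, 1] := rfl
      rw [this, nWordGL_append]
    rw [e1, e2]
    group

theorem n7_word : nWordGL chevG2 (g2F F).xadd [0] = nGL chevG2 (g2F F).xadd 7 := by
  rw [nWordGL_cons, nWordGL_nil, mul_one, n11_aux_simple0]

end Cfsg.Agent.Helper13.G2I
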