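import Mathlib
import Cfsg.Agent.Lib.Helper26.MHDefs

/-!
# S4221: common utilities for the pieces (helper26)
-/

set_option autoImplicit false

namespace Cfsg.Agent.Helper26.MH

open MulAction Cfsg.Agent.Helper22.SharpFour

variable {G : Type*} [Group G] {α : Type*} [MulAction G α]

theorem IsInv.inv_eq {t : G} (ht : IsInv t) : t⁻¹ = t := inv_eq_of_mul_eq_one_left ht.1

theorem IsInv.smul_smul {t : G} (ht : IsInv t) (x : α) : t • t • x = x := by
  rw [← mul_smul, ht.1, one_smul]

theorem IsInv.smul_eq_iff {t : G} (ht : IsInv t) {x y : α} : t • x = y ↔ t • y = x := by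
  constructor <;> (intro h; rw [← h, ht.smul_smul])

theorem IsInv.conj {t : G} (ht : IsInv t) (g : G) : IsInv (g * t * g⁻¹) := by
  refine ⟨?_, ?_⟩
  · rw [show g * t * g⁻¹ * (g * t * g⁻¹) = g * (t * t) * g⁻¹ by group, ht.1]; group
  · intro h
    apply ht.2
    have h2 : t = g⁻¹ * (g * t * g⁻¹) * g := by group
    rw [h2, h]; group

theorem IsInv.orderOf_eq {t : G} (ht : IsInv t) : orderOf t = 2 := by
  apply orderOf_eq_prime
  · rw [sq]; exact ht.1
  · exact ht.2

/-- an involution does not lie in a subgroup of odd order -/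
theorem IsInv.not_mem_of_odd {t : G} (ht : IsInv t) {K : Subgroup G} (hK : Odd (Nat.card K)) : t ∉ K := by
  intro hmem
  have h1 : orderOf t ∣ Nat.card K := Subgroup.orderOf_dvd_natCard K hmem
  rw [ht.orderOf_eq] at h1
  exact (Nat.not_even_iff_odd.mpr hK) (even_iff_two_dvd.mpr h1)

theorem conj_mem_St4 {a b c d : α} {x : G} (g : G) (hx : x ∈ St4 G a b c d) :
    g * x * g⁻¹ ∈ St4 G (g • a) (g • b) (g • c) (g • d) := by
  rw [mem_St4] at hx ⊢
  obtain ⟨h1, h2, h3, h4⟩ := hx
  simp only [mul_smul, inv_smul_smul, h1, h2, h3, h4, and_self]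

theorem conj_mem_St4_iff {a b c d : α} {x : G} (g : G) :
    g * x * g⁻¹ ∈ St4 G (g • a) (g • b) (g • c) (g • d) ↔ x ∈ St4 G a b c d := by
  constructor
  · intro hx
    have h := conj_mem_St4 g⁻¹ hx
    simp only [inv_smul_smul] at h
    rwa [show g⁻¹ * (g * x * g⁻¹) * g⁻¹⁻¹ = x by group] at h
  · exact conj_mem_St4 g

/-- the cardinalities of conjugate 4-point stabilizers agree -/
theorem card_St4_smul [Finite G] (g : G) (a b c d : α) :
    Nat.card (St4 G (g • a) (g • b) (g • c) (g • d)) = Nat.card (St4 G a b c d) := by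
  apply Nat.card_congr
  refine ⟨fun x => ⟨g⁻¹ * x.1 * g, ?_⟩, fun x => ⟨g * x.1 * g⁻¹, conj_mem_St4 g x.2⟩, ?_, ?_⟩
  · have h := conj_mem_St4 g⁻¹ x.2
    simp only [inv_smul_smul, inv_inv] at h
    exact h
  · intro x; apply Subtype.ext; simp only; group
  · intro x; apply Subtype.ext; simp only; group

theorem St4_swap12 (a b c d : α) : St4 G a b c d = St4 G b a c d := by
  ext x; simp only [mem_St4]; tauto

theorem St4_swap34 (a b c d : α) : St4 G a b c d = St4 G a b d c := by
  ext x; simp only [mem_St4]; tauto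

theorem St4_swap_pairs (a b c d : α) : St4 G a b c d = St4 G c d a b := by
  ext x; simp only [mem_St4]; tauto

/-- an involution of type a on `(p,q,r,s)` normalizes the 4-point stabilizer -/
theorem TyA.mem_normalizer {t : G} {p q r s : α} (ht : IsInv t) (hA : TyA t p q r s) :
    t ∈ Subgroup.normalizer (St4 G p q r s : Set G) := by
  have key : ∀ x : G, x ∈ St4 G p q r s → t * x * t⁻¹ ∈ St4 G p q r s := by
    intro x hx
    have h := conj_mem_St4 t hx
    rw [hA.1, hA.2.1, hA.2.2.1, hA.2.2.2, ← St4_swap12] at h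
    exact h
  rw [Subgroup.mem_normalizer_iff]
  intro x
  refine ⟨key x, fun hx => ?_⟩
  have h := key _ hx
  rwa [show t * (t * x * t⁻¹) * t⁻¹ = (t * t) * x * (t * t)⁻¹ by group, ht.1, one_mul, inv_one,
    mul_one] at h

/-- an involution of type c on `(p,q,r,s)` normalizes the 4-point stabilizer -/
theorem TyC.mem_normalizer {t : G} {p q r s : α} (ht : IsInv t) (hC : TyC t p q r s) :
    t ∈ Subgroup.normalizer (St4 G p q r s : Set G) := by
  have key : ∀ x : G, x ∈ St4 G p q r s → t * x * t⁻¹ ∈ St4 G p q r s := by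
    intro x hx
    have h := conj_mem_St4 t hx
    rw [hC.1, hC.2.1, hC.2.2.1, hC.2.2.2, ← St4_swap12, ← St4_swap34] at h
    exact h
  rw [Subgroup.mem_normalizer_iff]
  intro x
  refine ⟨key x, fun hx => ?_⟩
  have h := key _ hx
  rwa [show t * (t * x * t⁻¹) * t⁻¹ = (t * t) * x * (t * t)⁻¹ by group, ht.1, one_mul, inv_one,
    mul_one] at h

/-- elements of the normalizer of `K` permute the fixed points of `K` -/
theorem smul_mem_Phi {K : Subgroup G} {t : G} (ht : t ∈ Subgroup.normalizer (K : Set G)) {x : α}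
    (hx : x ∈ Phi α K) : t • x ∈ Phi α K := by
  intro g hg
  have h1 : t⁻¹ * g * t ∈ K := by
    have := (Subgroup.mem_normalizer_iff.mp (inv_mem ht) g).mp hg
    simpa using this
  have h2 := hx _ h1
  calc g • t • x = t • (t⁻¹ * g * t) • x := by simp only [mul_smul, smul_inv_smul]
    _ = t • x := by rw [h2]

theorem smul_mem_Phi_iff {K : Subgroup G} {t : G} (ht : t ∈ Subgroup.normalizer (K : Set G)) {x : α} :
    t • x ∈ Phi α K ↔ x ∈ Phi α K := by
  refine ⟨fun h => ?_, smul_mem_Phi ht⟩
  have := smul_mem_Phi (inv_mem ht) h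
  rwa [inv_smul_smul] at this

/-- the four points are fixed points of their stabilizer -/
theorem mem_Phi_St4 (p q r s : α) :
    p ∈ Phi α (St4 G p q r s) ∧ q ∈ Phi α (St4 G p q r s) ∧ r ∈ Phi α (St4 G p q r s) ∧
      s ∈ Phi α (St4 G p q r s) :=
  ⟨fun _ hg => (mem_St4.mp hg).1, fun _ hg => (mem_St4.mp hg).2.1, fun _ hg => (mem_St4.mp hg).2.2.1,
    fun _ hg => (mem_St4.mp hg).2.2.2⟩

/-- an element of odd order cannot swap two distinct points -/
theorem eq_of_swap_of_odd {K : Subgroup G} (hK : Odd (Nat.card K)) {g : G} (hg : g ∈ K) {x y : α}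
    (h1 : g • x = y) (h2 : g • y = x) : x = y := by
  have hd : orderOf g ∣ Nat.card K := Subgroup.orderOf_dvd_natCard K hg
  have hodd : Odd (orderOf g) := hK.of_dvd_nat hd
  obtain ⟨j, hj⟩ := hodd
  have hsq : ∀ i : ℕ, (g ^ (2 * i)) • x = x := by
    intro i
    induction i with
    | zero => simp
    | succ i ih =>
      rw [show 2 * (i + 1) = 2 * i + 2 by ring, pow_add, mul_smul, pow_two, mul_smul, h1, h2, ih]
  have h3 : (g ^ (2 * j + 1)) • x = x := by rw [← hj, pow_orderOf_eq_one, one_smul]
  rw [pow_succ', mul_smul, hsq j, h1] at h3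
  exact h3.symm

/-- an element of odd order permuting a 3-set `{w,k,k'}` and fixing `w` fixes `k` -/
theorem fix_of_odd_three {K : Subgroup G} (hK : Odd (Nat.card K)) {g : G} (hg : g ∈ K) {w k k' : α}
    (hw : g • w = w) (hwk : w ≠ k) (hwk' : w ≠ k')
    (hk : g • k = w ∨ g • k = k ∨ g • k = k') (hk' : g • k' = w ∨ g • k' = k ∨ g • k' = k') :
    g • k = k ∧ g • k' = k' := by
  have inj : ∀ {x y : α}, g • x = g • y → x = y := fun h => MulAction.injective g h
  have hk1 : g • k ≠ w := fun h => hwk (inj (hw.trans h.symm))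
  have hk1' : g • k' ≠ w := fun h => hwk' (inj (hw.trans h.symm))
  rcases hk with h | h | h
  · exact absurd h hk1
  · refine ⟨h, ?_⟩
    rcases hk' with h' | h' | h'
    · exact absurd h' hk1'
    · have := inj (h'.trans h.symm); rw [this]; exact h
    · exact h'
  · rcases hk' with h' | h' | h'
    · exact absurd h' hk1'
    · have := eq_of_swap_of_odd hK hg h h'
      subst this
      exact ⟨h, h⟩
    · have := inj (h.trans h'.symm); subst this; exact ⟨h, h⟩

section parity

variable [Fintype α] [DecidableEq α]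

/-- parity of the fixed points of an involution on an invariant finset -/
theorem card_mod_two_of_invol {t : G} (ht : t * t = 1) (S : Finset α) (hS : ∀ x ∈ S, t • x ∈ S) :
    S.card % 2 = (S.filter (fun x => t • x = x)).card % 2 := by
  let f : Function.End S := fun x => ⟨t • x.1, hS x.1 x.2⟩
  have hf : f ^ 2 ^ 1 = 1 := by
    rw [pow_one, sq]
    funext x
    apply Subtype.ext
    show t • t • x.1 = x.1
    rw [← mul_smul, ht, one_smul]
  have : Fact (Nat.Prime 2) := ⟨Nat.prime_two⟩
  have hmod := Equiv.Perm.card_fixedPoints_modEq (α := S) hf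
  have hcard : Fintype.card (Function.fixedPoints f) = (S.filter (fun x => t • x = x)).card := by
    rw [← Fintype.card_coe]
    apply Fintype.card_congr
    refine ⟨fun x => ⟨x.1.1, ?_⟩, fun x => ⟨⟨x.1, (Finset.mem_filter.mp x.2).1⟩, ?_⟩, ?_, ?_⟩
    · rw [Finset.mem_filter]
      refine ⟨x.1.2, ?_⟩
      have h := x.2
      rw [Function.mem_fixedPoints, Function.IsFixedPt] at h
      exact congrArg Subtype.val h
    · rw [Function.mem_fixedPoints, Function.IsFixedPt]
      apply Subtype.ext
      exact (Finset.mem_filter.mp x.2).2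
    · intro x; rfl
    · intro x; rfl
  rw [← hcard, ← Fintype.card_coe]
  exact hmod

end parity

end Cfsg.Agent.Helper26.MH
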