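import Mathlib
import Cfsg.Agent.Lib.Helper20.OrderCount

/-!
# S3431 (groups with the same order-class sizes as `A₄`, `A₅`, `A₆`): definitions (helper26)

Paper proof: `plans/S3431_proof.md`.  `Ctx N s np` is the arithmetic shadow of a finite group `G`:
`N = |G|`, `s m` = number of elements of order `m`, `np p` = number of Sylow `p`-subgroups.
-/

set_option autoImplicit false

namespace Cfsg.Agent.Helper26.NSE

/-- the arithmetic shadow of a finite group -/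
structure Ctx (N : ℕ) (s np : ℕ → ℕ) : Prop where
  pos : 0 < N
  s_one : s 1 = 1
  tot : ∀ m, Nat.totient m ∣ s m
  dvd : ∀ m, s m ≠ 0 → m ∣ N
  down : ∀ m d, d ∣ m → s m ≠ 0 → s d ≠ 0
  cauchy : ∀ p, p.Prime → p ∣ N → s p ≠ 0
  total : ∀ T : Finset ℕ, (∀ m, s m ≠ 0 → m ∈ T) → N = ∑ m ∈ T, s m
  frob : ∀ d, d ∣ N → d ∣ ∑ e ∈ d.divisors, s e
  np_mod : ∀ p, p.Prime → np p % p = 1
  np_dvd : ∀ p k, p.Prime → p ^ k ∣ N → ¬ p ^ (k + 1) ∣ N → np p * p ^ k ∣ N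
  cyc : ∀ p k, p.Prime → 0 < k → p ^ k ∣ N → ¬ p ^ (k + 1) ∣ N → s (p ^ k) ≠ 0 →
      s (p ^ k) = Nat.totient (p ^ k) * np p ∧ s p ≤ (p - 1) * np p
  weakB : ∀ p m, p.Prime → p ∣ N → ¬ p ^ 2 ∣ N → ¬ p ∣ m → np p ∣ s (p * m)

/-- `S` is the set of the nonzero values of `s` -/
def IsNse (s : ℕ → ℕ) (S : Finset ℕ) : Prop :=
  (∀ m, s m = 0 ∨ s m ∈ S) ∧ ∀ v ∈ S, ∃ m, s m = v

namespace Ctx

variable {N : ℕ} {s np : ℕ → ℕ}

theorem s_zero (C : Ctx N s np) : s 0 = 0 := by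
  by_contra h
  have h0 := C.dvd 0 h
  rw [zero_dvd_iff] at h0
  exact C.pos.ne' h0

theorem even_of_three_le (C : Ctx N s np) {m : ℕ} (hm : 3 ≤ m) : 2 ∣ s m :=
  dvd_trans (Nat.totient_even (by omega)).two_dvd (C.tot m)

theorem down_zero (C : Ctx N s np) {m d : ℕ} (hd : d ∣ m) (h : s d = 0) : s m = 0 := by
  by_contra h'
  exact C.down m d hd h' h

theorem eq_zero_of_not_dvd (C : Ctx N s np) {m : ℕ} (h : ¬ m ∣ N) : s m = 0 := by
  by_contra h'
  exact h (C.dvd m h')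

theorem sum_le (C : Ctx N s np) (T : Finset ℕ) : ∑ m ∈ T, s m ≤ N := by
  classical
  have h := C.total (T ∪ N.divisors) (fun m hm =>
    Finset.mem_union_right _ (Nat.mem_divisors.2 ⟨C.dvd m hm, C.pos.ne'⟩))
  calc ∑ m ∈ T, s m ≤ ∑ m ∈ T ∪ N.divisors, s m :=
        Finset.sum_le_sum_of_subset Finset.subset_union_left
    _ = N := h.symm

/-- all the values of an nse-set occur for different `m`, so their sum is at most `N` -/
theorem sum_values_le (C : Ctx N s np) {S : Finset ℕ} (h : IsNse s S) : ∑ v ∈ S, v ≤ N := by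
  classical
  choose f hf using h.2
  have hinj : ∀ v ∈ S.attach, ∀ w ∈ S.attach, f v.1 v.2 = f w.1 w.2 → v = w := by
    intro v _ w _ hvw
    apply Subtype.ext
    rw [← hf v.1 v.2, ← hf w.1 w.2, hvw]
  have h1 : ∑ v ∈ S, v = ∑ m ∈ S.attach.image (fun v => f v.1 v.2), s m := by
    rw [Finset.sum_image hinj, ← Finset.sum_attach]
    exact Finset.sum_congr rfl fun v _ => (hf v.1 v.2).symm
  rw [h1]
  exact C.sum_le _

/-- the odd value other than `1` is taken at `2` (all `s m` with `3 ≤ m` are even) -/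
theorem s_two_of_odd (C : Ctx N s np) {S : Finset ℕ} (h : IsNse s S) {v : ℕ} (hv : v ∈ S)
    (hodd : ¬ 2 ∣ v) (h1 : v ≠ 1) : s 2 = v := by
  obtain ⟨m, hm⟩ := h.2 v hv
  have hm3 : ¬ 3 ≤ m := fun h3 => hodd (hm ▸ C.even_of_three_le h3)
  have hm0 : m ≠ 0 := by
    rintro rfl
    rw [C.s_zero] at hm
    exact hodd (hm ▸ dvd_zero 2)
  have hm1 : m ≠ 1 := by
    rintro rfl
    rw [C.s_one] at hm
    exact h1 hm.symm
  have : m = 2 := by omega
  rw [← this]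
  exact hm

end Ctx

end Cfsg.Agent.Helper26.NSE
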