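import Mathlib
import Cfsg.Prelude.Def_JComponents
import Cfsg.Agent.Lib.Helper13.JCFFDefs
import Cfsg.Agent.Lib.Helper13.JCF1
import Cfsg.Agent.Lib.Helper13.JCF2
import Cfsg.Agent.Lib.Helper3.Thompson
import Cfsg.Agent.Lib.Helper4.ZJElementary
import Cfsg.Agent.Lib.Helper25.JCSyl

/-!
# KS12 / JCFF, piece F4B (helper26): `V ≤ J(T)` and every `t_i` lies in `J(T)`
-/

set_option autoImplicit false
open scoped commutatorElement
set_option linter.unusedVariables false
set_option linter.unusedSectionVars false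
set_option linter.style.haveILetI false

namespace Cfsg.Agent.Helper13.JCFF

open Cfsg Cfsg.Agent.Helper3 Cfsg.Agent.Helper4.ZJ Cfsg.Agent.Helper25.JC

variable {X : Type*} [Group X] [Finite X]

/-- `|H ⊔ N| * |H ⊓ N| = |H| * |N|` when `H` normalizes `N`. -/
theorem f4b_card_sup (H N : Subgroup X) (hLE : H ≤ Subgroup.normalizer (N : Set X)) :
    Nat.card (H ⊔ N : Subgroup X) * Nat.card (H ⊓ N : Subgroup X) = Nat.card H * Nat.card N := by
  have hcm : ∀ {A B : Subgroup X}, A ≤ B → A.relIndex B * Nat.card A = Nat.card B := by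
    intro A B hAB
    have := Subgroup.relIndex_mul_relIndex (⊥ : Subgroup X) A B bot_le hAB
    rw [Subgroup.relIndex_bot_left, Subgroup.relIndex_bot_left] at this
    rw [mul_comm]; exact this
  have h1 : N.relIndex H = N.relIndex (H ⊔ N) := by
    have i1 := Subgroup.normal_subgroupOf_of_le_normalizer hLE
    have i2 := Subgroup.normal_subgroupOf_sup_of_le_normalizer hLE
    rw [Subgroup.relIndex, Subgroup.relIndex, Subgroup.index_eq_card, Subgroup.index_eq_card]
    exact Nat.card_congr (QuotientGroup.quotientInfEquivProdNormalizerQuotient H N hLE).toEquiv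
  have h2 : N.relIndex (H ⊔ N) * Nat.card N = Nat.card (H ⊔ N : Subgroup X) :=
    hcm le_sup_right
  have h3 : (H ⊓ N).relIndex H * Nat.card (H ⊓ N : Subgroup X) = Nat.card H :=
    hcm inf_le_left
  have h4 : (H ⊓ N).relIndex H = N.relIndex H := Subgroup.inf_relIndex_left H N
  rw [← h2, ← h1, ← h3, h4]; ring

theorem f4b_relIndex_mul_card {A B : Subgroup X} (hAB : A ≤ B) :
    A.relIndex B * Nat.card A = Nat.card B := by
  have := Subgroup.relIndex_mul_relIndex (⊥ : Subgroup X) A B bot_le hAB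
  rw [Subgroup.relIndex_bot_left, Subgroup.relIndex_bot_left] at this
  rw [mul_comm]; exact this

/-- `𝒜(T) ⊆ 𝒜(X)` for a Sylow 2-subgroup `T` -/
theorem f4b_mem_max_of_famE {T A : Subgroup X} (hT : IsSylowTwoIn T ⊤) (hA : A ∈ famE 2 T) :
    A ∈ maxElementaryAbelianSubgroups 2 X := by
  obtain ⟨hAT, hAe, hAmax⟩ := mem_famE.1 hA
  refine ⟨hAe, fun B hB => ?_⟩
  obtain ⟨S, hBS, hS⟩ := exists_isSylowTwoIn_of_le (P := B) (L := ⊤) le_top
    (IsElementaryAbelian.isPGroup hB)
  obtain ⟨n, -, hn⟩ := isSylowTwoIn_conj hT hS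
  have hB' : B.map (MulAut.conj n⁻¹).toMonoidHom ≤ T := by
    rintro _ ⟨b, hb, rfl⟩
    have h1 := hBS hb
    rw [hn] at h1
    obtain ⟨t, ht, htb⟩ := h1
    have htb' : n * t * n⁻¹ = b := htb
    show n⁻¹ * b * n⁻¹⁻¹ ∈ T
    rw [← htb']
    have e : n⁻¹ * (n * t * n⁻¹) * n⁻¹⁻¹ = t := by group
    rw [e]; exact ht
  have h1 := hAmax _ hB' (isElementaryAbelian_map _ hB)
  have hinj : Function.Injective (MulAut.conj n⁻¹).toMonoidHom := (MulAut.conj n⁻¹).injective
  rwa [Subgroup.card_map_of_injective hinj] at h1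

/-- a member of `𝒜(X)` inside `T` is in `𝒜(T)` -/
theorem f4b_famE_of_mem_max {T A : Subgroup X} (hA : A ∈ maxElementaryAbelianSubgroups 2 X)
    (hAT : A ≤ T) : A ∈ famE 2 T :=
  mem_famE.2 ⟨hAT, hA.1, fun A' _ hA' => hA.2 A' hA'⟩

/-- an elementary abelian subgroup of `T` at least as large as a member of `𝒜(X)` is in `𝒜(T)` -/
theorem f4b_famE_of_card_ge {T A B : Subgroup X} (hA : A ∈ maxElementaryAbelianSubgroups 2 X)
    (hBT : B ≤ T) (hB : IsElementaryAbelian 2 B) (hcard : Nat.card A ≤ Nat.card B) : B ∈ famE 2 T :=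
  mem_famE.2 ⟨hBT, hB, fun A' _ hA' => (hA.2 A' hA').trans hcard⟩

theorem f4b_pCore_le {T : Subgroup X} (h : KS X T) : pCore 2 X ≤ T := by
  rw [← h.T_inf_C]; exact inf_le_left

theorem f4b_VX_le {T : Subgroup X} (h : KS X T) : VX X ≤ T :=
  (VX_le_pCore h.hQ).trans (f4b_pCore_le h)

/-- `A ⊓ V ≤ C_V(A)` -/
theorem f4b_inf_le_cent {A V : Subgroup X} (hA : IsElementaryAbelian 2 A) :
    A ⊓ V ≤ V ⊓ Subgroup.centralizer (A : Set X) := by
  intro x hx
  refine Subgroup.mem_inf.2 ⟨hx.2, ?_⟩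
  rw [Subgroup.mem_centralizer_iff]
  intro y hy
  exact IsElementaryAbelian.commute hA hy hx.1

theorem KS.VX_le_JT {T : Subgroup X} (h : KS X T) (F : FFData X (VX X)) :
    VX X ≤ thompsonSubgroupOf 2 T := by
  obtain ⟨A, hA⟩ := famE_nonempty (p := 2) T
  obtain ⟨hAT, hAe, hAmax⟩ := mem_famE.1 hA
  have hAX := f4b_mem_max_of_famE h.syl hA
  have hVe := VX_elem h.hQ
  have hVT : VX X ≤ T := f4b_VX_le h
  have hBe : IsElementaryAbelian 2 (A ⊓ Subgroup.centralizer (VX X : Set X)) :=
    isElementaryAbelian_mono inf_le_left hAe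
  have hVcB : VX X ≤ Subgroup.centralizer
      ((A ⊓ Subgroup.centralizer (VX X : Set X) : Subgroup X) : Set X) := by
    intro v hv
    rw [Subgroup.mem_centralizer_iff]
    intro b hb
    exact ((Subgroup.mem_centralizer_iff.1 hb.2) v hv).symm
  have hBVe := isElementaryAbelian_sup hBe hVe hVcB
  have hBVT : (A ⊓ Subgroup.centralizer (VX X : Set X)) ⊔ VX X ≤ T :=
    sup_le (inf_le_left.trans hAT) hVT
  haveI hVn : (VX X).Normal := VX_normal h.hQ
  have hprod := f4b_card_sup (A ⊓ Subgroup.centralizer (VX X : Set X)) (VX X)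
    (by rw [Subgroup.normalizer_eq_top]; exact le_top)
  have hoff := F.off_card A hAX
  have hidx := f4b_relIndex_mul_card
    (inf_le_left : A ⊓ Subgroup.centralizer (VX X : Set X) ≤ A)
  have hle : Nat.card ↥((A ⊓ Subgroup.centralizer (VX X : Set X)) ⊓ VX X : Subgroup X) ≤
      Nat.card ↥(VX X ⊓ Subgroup.centralizer (A : Set X) : Subgroup X) := by
    apply Subgroup.card_le_of_le
    refine le_trans ?_ (f4b_inf_le_cent (V := VX X) hAe)
    exact le_inf (inf_le_left.trans inf_le_left) inf_le_right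
  have hpos : 0 < Nat.card ↥((A ⊓ Subgroup.centralizer (VX X : Set X)) ⊓ VX X : Subgroup X) :=
    Nat.card_pos
  have hcard : Nat.card A ≤
      Nat.card ↥((A ⊓ Subgroup.centralizer (VX X : Set X)) ⊔ VX X : Subgroup X) := by
    have h1 : Nat.card A * Nat.card ↥((A ⊓ Subgroup.centralizer (VX X : Set X)) ⊓ VX X : Subgroup X) ≤
        Nat.card ↥((A ⊓ Subgroup.centralizer (VX X : Set X)) ⊔ VX X : Subgroup X) *
          Nat.card ↥((A ⊓ Subgroup.centralizer (VX X : Set X)) ⊓ VX X : Subgroup X) := by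
      rw [hprod, ← hoff, ← hidx]
      calc _ ≤ (A ⊓ Subgroup.centralizer (VX X : Set X)).relIndex A *
            Nat.card ↥(A ⊓ Subgroup.centralizer (VX X : Set X) : Subgroup X) *
            Nat.card ↥(VX X ⊓ Subgroup.centralizer (A : Set X) : Subgroup X) :=
              Nat.mul_le_mul_left _ hle
        _ = _ := by ring
    exact Nat.le_of_mul_le_mul_right h1 hpos
  have hmem := f4b_famE_of_card_ge hAX hBVT hBVe hcard
  exact le_sup_right.trans (le_thompsonSubgroupOf hmem)


/-! ### second part: `exists_inv` -/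

/-- some `A ∈ 𝒜(X)` has a nontrivial `i`-th component -/
theorem f4b_exists_offender {V : Subgroup X} (F : FFData X V) (i : Fin F.r) :
    ∃ A ∈ maxElementaryAbelianSubgroups 2 X,
      ¬ A ⊓ F.D i ≤ Subgroup.centralizer (V : Set X) := by
  by_contra hcon
  push Not at hcon
  have hJ : thompsonSubgroup 2 X ≤
      Subgroup.centralizer (V : Set X) ⊔ ⨆ j : {j : Fin F.r // j ≠ i}, F.D j := by
    apply sSup_le
    intro A hA
    have h1 : A ≤ A ⊔ Subgroup.centralizer (V : Set X) := le_sup_left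
    rw [F.off_split A hA] at h1
    refine h1.trans (sup_le le_sup_left (iSup_le fun j => ?_))
    by_cases hj : j = i
    · subst hj; exact (hcon A hA).trans le_sup_left
    · exact inf_le_right.trans
        ((le_iSup (fun j : {j : Fin F.r // j ≠ i} => F.D j) ⟨j, hj⟩).trans le_sup_right)
  have hD : F.D i ≤
      Subgroup.centralizer (V : Set X) ⊔ ⨆ j : {j : Fin F.r // j ≠ i}, F.D j := by
    have h0 : F.D i ≤ ⨆ j, F.D j := le_iSup F.D i
    rw [F.sup_D] at h0
    exact h0.trans (sup_le hJ le_sup_left)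
  have h2 := F.indep i
  rw [inf_of_le_left hD] at h2
  have h4 : F.O i = Subgroup.centralizer (V : Set X) :=
    le_antisymm ((F.O_le_D i).trans h2.le) (F.C_le_O i)
  have h5 := F.relIndex_O i
  rw [h4, Subgroup.relIndex_self] at h5
  omega

/-- `T ⊓ N` is a Sylow 2-subgroup of the normal subgroup `N` -/
theorem f4b_sylow_inf {T N : Subgroup X} (hT : IsSylowTwoIn T ⊤) (hN : N.Normal) :
    IsSylowTwoIn (T ⊓ N) N := by
  have hp : IsPGroup 2 ↥(T ⊓ N : Subgroup X) := hT.2.1.to_le inf_le_left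
  obtain ⟨S, hTS, hS⟩ := exists_isSylowTwoIn_of_le (P := T ⊓ N) (L := N) inf_le_right hp
  obtain ⟨S', hSS', hS'⟩ := exists_isSylowTwoIn_of_le (P := S) (L := ⊤) le_top hS.2.1
  obtain ⟨n, -, hn⟩ := isSylowTwoIn_conj hT hS'
  have h1 : S ≤ (T ⊓ N).map (MulAut.conj n).toMonoidHom := by
    intro s hs
    have hsN := hS.1 hs
    have h2 := hSS' hs
    rw [hn] at h2
    obtain ⟨t, ht, hts⟩ := h2
    have hts' : n * t * n⁻¹ = s := hts
    refine ⟨t, ⟨ht, ?_⟩, hts⟩
    have h3 := hN.conj_mem s hsN n⁻¹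
    rw [← hts'] at h3
    have e : n⁻¹ * (n * t * n⁻¹) * n⁻¹⁻¹ = t := by group
    rwa [e] at h3
  have hinj : Function.Injective (MulAut.conj n).toMonoidHom := (MulAut.conj n).injective
  have h2 : Nat.card S ≤ Nat.card ↥(T ⊓ N : Subgroup X) := by
    calc Nat.card S ≤ Nat.card ↥((T ⊓ N).map (MulAut.conj n).toMonoidHom) :=
          Subgroup.card_le_of_le h1
      _ = _ := Subgroup.card_map_of_injective hinj
  have h3 : T ⊓ N = S := Subgroup.eq_of_le_of_card_ge hTS h2
  rw [h3]; exact hS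

/-- `C_X(V)` is normal -/
theorem f4b_C_normal {T : Subgroup X} (h : KS X T) :
    (Subgroup.centralizer (VX X : Set X)).Normal := by
  haveI hVn : (VX X).Normal := VX_normal h.hQ
  infer_instance

theorem f4b_J_normal : (thompsonSubgroup 2 X).Normal := by
  haveI := thompsonSubgroup_characteristic (G := X) 2
  infer_instance

/-- the offender can be taken inside `T` -/
theorem f4b_exists_offender_le {T : Subgroup X} (h : KS X T) (F : FFData X (VX X)) (i : Fin F.r) :
    ∃ A ∈ maxElementaryAbelianSubgroups 2 X, A ≤ T ∧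
      ¬ A ⊓ F.D i ≤ Subgroup.centralizer (VX X : Set X) := by
  obtain ⟨A, hA, hAi⟩ := f4b_exists_offender F i
  haveI hCn := f4b_C_normal h
  haveI hJn : (thompsonSubgroup 2 X).Normal := f4b_J_normal
  have hNn : (thompsonSubgroup 2 X ⊔ Subgroup.centralizer (VX X : Set X)).Normal := inferInstance
  have hAN : A ≤ thompsonSubgroup 2 X ⊔ Subgroup.centralizer (VX X : Set X) :=
    (le_thompsonSubgroup hA).trans le_sup_left
  have hsyl := f4b_sylow_inf h.syl hNn
  obtain ⟨S, hAS, hS⟩ := exists_isSylowTwoIn_of_le hAN (IsElementaryAbelian.isPGroup hA.1)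
  obtain ⟨n, hnN, hn⟩ := isSylowTwoIn_conj hsyl hS
  have hn' : n⁻¹ ∈ thompsonSubgroup 2 X ⊔ Subgroup.centralizer (VX X : Set X) :=
    Subgroup.inv_mem _ hnN
  have hinj : Function.Injective (MulAut.conj n⁻¹).toMonoidHom := (MulAut.conj n⁻¹).injective
  refine ⟨A.map (MulAut.conj n⁻¹).toMonoidHom,
    map_mem_maxElementaryAbelianSubgroups (MulAut.conj n⁻¹) hA, ?_, ?_⟩
  · rintro _ ⟨b, hb, rfl⟩
    have h1 := hAS hb
    rw [hn] at h1
    obtain ⟨t, ht, htb⟩ := h1
    have htb' : n * t * n⁻¹ = b := htb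
    show n⁻¹ * b * n⁻¹⁻¹ ∈ T
    rw [← htb']
    have e : n⁻¹ * (n * t * n⁻¹) * n⁻¹⁻¹ = t := by group
    rw [e]; exact ht.1
  · intro hcon
    apply hAi
    have hD := (F.conj_J n⁻¹ hn' i).1
    have hCmap : (Subgroup.centralizer (VX X : Set X)).map (MulAut.conj n⁻¹).toMonoidHom =
        Subgroup.centralizer (VX X : Set X) :=
      map_conj_eq_of_mem_normalizer (by rw [Subgroup.normalizer_eq_top]; exact Subgroup.mem_top _)
    have h2 : (A ⊓ F.D i).map (MulAut.conj n⁻¹).toMonoidHom ≤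
        (Subgroup.centralizer (VX X : Set X)).map (MulAut.conj n⁻¹).toMonoidHom := by
      rw [hCmap]
      refine le_trans ?_ hcon
      refine le_inf (Subgroup.map_mono inf_le_left) ?_
      calc (A ⊓ F.D i).map (MulAut.conj n⁻¹).toMonoidHom
          ≤ (F.D i).map (MulAut.conj n⁻¹).toMonoidHom := Subgroup.map_mono inf_le_right
        _ = F.D i := hD
    exact (Subgroup.map_le_map_iff_of_injective hinj).1 h2

/-- an involution `a` of `D_i` outside `C` has `|V : C_V(a)| ≤ 2` -/
theorem f4b_half {T : Subgroup X} (h : KS X T) (F : FFData X (VX X)) (i : Fin F.r)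
    {a : X} (haD : a ∈ F.D i) (haC : a ∉ Subgroup.centralizer (VX X : Set X)) (ha2 : a ^ 2 = 1) :
    Nat.card ↥(VX X) ≤
      2 * Nat.card ↥(VX X ⊓ Subgroup.centralizer ({a} : Set X) : Subgroup X) := by
  haveI hVn : (VX X).Normal := VX_normal h.hQ
  have hVe := VX_elem h.hQ
  have hainv : a⁻¹ = a := by
    rw [inv_eq_iff_mul_eq_one, ← sq]; exact ha2
  -- the commutator map
  let ψ : ↥(VX X) →* X :=
    { toFun := fun v => (v : X) * (a * v * a⁻¹)
      map_one' := by simp
      map_mul' := by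
        intro v w
        have hw' : a * (w : X) * a⁻¹ ∈ VX X := hVn.conj_mem _ w.2 a
        have hv' : a * (v : X) * a⁻¹ ∈ VX X := hVn.conj_mem _ v.2 a
        have c1 : (a * (v : X) * a⁻¹) * (w : X) = (w : X) * (a * (v : X) * a⁻¹) :=
          IsElementaryAbelian.commute hVe hv' w.2
        calc ((v * w : ↥(VX X)) : X) * (a * ((v * w : ↥(VX X)) : X) * a⁻¹)
            = (v : X) * (w : X) * ((a * (v : X) * a⁻¹) * (a * (w : X) * a⁻¹)) := by
              simp only [Subgroup.coe_mul]; group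
          _ = (v : X) * ((w : X) * (a * (v : X) * a⁻¹)) * (a * (w : X) * a⁻¹) := by group
          _ = (v : X) * ((a * (v : X) * a⁻¹) * (w : X)) * (a * (w : X) * a⁻¹) := by rw [c1]
          _ = _ := by group }
  have hψ : ∀ v : ↥(VX X), ψ v = (v : X) * (a * v * a⁻¹) := fun v => rfl
  have haa : a * a = 1 := by rw [← sq]; exact ha2
  have hvinv : ∀ v : ↥(VX X), (v : X)⁻¹ = v := by
    intro v
    have h1 := hVe.2 v v.2
    rw [sq] at h1
    exact inv_eq_of_mul_eq_one_right h1
  -- the kernel is `C_V(a)`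
  have hker : ψ.ker = (VX X ⊓ Subgroup.centralizer ({a} : Set X)).subgroupOf (VX X) := by
    ext v
    rw [MonoidHom.mem_ker, hψ, Subgroup.mem_subgroupOf, Subgroup.mem_inf,
      Subgroup.mem_centralizer_singleton_iff]
    constructor
    · intro h1
      refine ⟨v.2, ?_⟩
      have h3 : a * (v : X) * a⁻¹ = (v : X) := by
        rw [eq_inv_of_mul_eq_one_right h1, hvinv]
      calc (v : X) * a = (a * (v : X) * a⁻¹) * a := by rw [h3]
        _ = a * (v : X) := by group
    · rintro ⟨-, h1⟩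
      have h2 : a * (v : X) * a⁻¹ = (v : X) := by
        rw [← h1]; group
      rw [h2]
      have := hVe.2 v v.2
      rwa [sq] at this
  have hrange : ψ.range ≤ ⁅VX X, F.D i⁆ ⊓ Subgroup.centralizer ({a} : Set X) := by
    rintro _ ⟨v, rfl⟩
    rw [hψ]
    refine Subgroup.mem_inf.2 ⟨?_, ?_⟩
    · have e : (v : X) * (a * v * a⁻¹) = ⁅(v : X), a⁆ := by
        rw [commutatorElement_def, hvinv]; group
      rw [e]
      exact Subgroup.commutator_mem_commutator v.2 haD
    · rw [Subgroup.mem_centralizer_singleton_iff, hainv]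
      have hw' : a * (v : X) * a ∈ VX X := by
        have := hVn.conj_mem _ v.2 a
        rwa [hainv] at this
      have c1 : (a * (v : X) * a) * (v : X) = (v : X) * (a * (v : X) * a) :=
        IsElementaryAbelian.commute hVe hw' v.2
      have hw : a * (a * (v : X) * a) * a = v := by
        calc a * (a * (v : X) * a) * a = (a * a) * v * (a * a) := by group
          _ = v := by rw [haa]; group
      calc (v : X) * (a * v * a) * a = (a * v * a) * v * a := by rw [c1]
        _ = (a * v * a) * (a * (a * v * a) * a) * a := by rw [hw]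
        _ = a * v * (a * a) * (a * v * a) * (a * a) := by group
        _ = a * (v * (a * v * a)) := by rw [haa]; group
  -- `|W_i ∩ C(a)| ≤ 2`
  have hWa : Nat.card ↥(⁅VX X, F.D i⁆ ⊓ Subgroup.centralizer ({a} : Set X) : Subgroup X) ≤ 2 := by
    have hle : ⁅VX X, F.D i⁆ ⊓ Subgroup.centralizer ({a} : Set X) ≤ ⁅VX X, F.D i⁆ := inf_le_left
    have hdvd := Subgroup.card_dvd_of_le hle
    rw [F.card_W i] at hdvd
    have hne : Nat.card ↥(⁅VX X, F.D i⁆ ⊓ Subgroup.centralizer ({a} : Set X) : Subgroup X) ≠ 4 := by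
      intro h4
      have heq : ⁅VX X, F.D i⁆ ⊓ Subgroup.centralizer ({a} : Set X) = ⁅VX X, F.D i⁆ :=
        Subgroup.eq_of_le_of_card_ge hle (by rw [h4, F.card_W i])
      apply haC
      have hmem : a ∈ F.D i ⊓ Subgroup.centralizer ((⁅VX X, F.D i⁆ : Subgroup X) : Set X) := by
        refine Subgroup.mem_inf.2 ⟨haD, ?_⟩
        rw [Subgroup.mem_centralizer_iff]
        intro w hw
        have hw2 : w ∈ ⁅VX X, F.D i⁆ ⊓ Subgroup.centralizer ({a} : Set X) := by rw [heq]; exact hw
        exact (Subgroup.mem_centralizer_singleton_iff.1 (Subgroup.mem_inf.1 hw2).2)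
      rw [F.cent_W i] at hmem
      exact hmem
    have hle4 := Nat.le_of_dvd (by norm_num) hdvd
    have hpos : 0 < Nat.card ↥(⁅VX X, F.D i⁆ ⊓ Subgroup.centralizer ({a} : Set X) : Subgroup X) :=
      Nat.card_pos
    interval_cases hc : Nat.card ↥(⁅VX X, F.D i⁆ ⊓ Subgroup.centralizer ({a} : Set X) : Subgroup X)
    · norm_num
    · norm_num
    · norm_num at hdvd
    · exact absurd rfl hne
  have hcount : Nat.card ↥(VX X) = Nat.card ↥ψ.ker * Nat.card ↥ψ.range := by
    rw [← Subgroup.index_ker, Subgroup.card_mul_index]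
  have hk : Nat.card ↥ψ.ker =
      Nat.card ↥(VX X ⊓ Subgroup.centralizer ({a} : Set X) : Subgroup X) := by
    rw [hker]; exact card_subgroupOf_of_le inf_le_left
  rw [hcount, hk, mul_comm]
  exact Nat.mul_le_mul_right _ ((Subgroup.card_le_of_le hrange).trans hWa)

theorem KS.exists_inv {T : Subgroup X} (h : KS X T) (F : FFData X (VX X)) (i : Fin F.r) :
    ∃ a ∈ thompsonSubgroupOf 2 T, a ∈ F.D i ∧ a ∉ F.O i := by
  obtain ⟨A, hA, hAT, hAi⟩ := f4b_exists_offender_le h F i
  obtain ⟨a, haAD, haC⟩ := SetLike.not_le_iff_exists.1 hAi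
  have haA : a ∈ A := (Subgroup.mem_inf.1 haAD).1
  have haD : a ∈ F.D i := (Subgroup.mem_inf.1 haAD).2
  have ha2 : a ^ 2 = 1 := hA.1.2 a haA
  haveI hCn := f4b_C_normal h
  have haO : a ∉ F.O i := by
    intro haO
    apply haC
    haveI : ((Subgroup.centralizer (VX X : Set X)).subgroupOf (F.O i)).Normal := inferInstance
    have h3 := Subgroup.pow_index_mem
      ((Subgroup.centralizer (VX X : Set X)).subgroupOf (F.O i)) (⟨a, haO⟩ : ↥(F.O i))
    have hidx : ((Subgroup.centralizer (VX X : Set X)).subgroupOf (F.O i)).index = 3 :=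
      F.relIndex_O i
    rw [hidx, Subgroup.mem_subgroupOf] at h3
    have h4 : a ^ 3 ∈ Subgroup.centralizer (VX X : Set X) := by simpa using h3
    have e : a ^ 3 = a := by rw [pow_succ, ha2, one_mul]
    rwa [e] at h4
  refine ⟨a, ?_, haD, haO⟩
  have hVe := VX_elem h.hQ
  have hAiA : (A ⊓ Subgroup.centralizer (VX X : Set X)) ⊔ Subgroup.zpowers a ≤ A :=
    sup_le inf_le_left (by rw [Subgroup.zpowers_le]; exact haA)
  have hAie := isElementaryAbelian_mono hAiA hA.1
  have hUe : IsElementaryAbelian 2 (VX X ⊓ Subgroup.centralizer ({a} : Set X)) :=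
    isElementaryAbelian_mono inf_le_left hVe
  have hUc : VX X ⊓ Subgroup.centralizer ({a} : Set X) ≤ Subgroup.centralizer
      (((A ⊓ Subgroup.centralizer (VX X : Set X)) ⊔ Subgroup.zpowers a : Subgroup X) : Set X) := by
    intro u hu
    have hu1 := (Subgroup.mem_inf.1 hu).1
    have hu2 := Subgroup.mem_centralizer_singleton_iff.1 (Subgroup.mem_inf.1 hu).2
    have hle : (A ⊓ Subgroup.centralizer (VX X : Set X)) ⊔ Subgroup.zpowers a ≤
        Subgroup.centralizer ({u} : Set X) := by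
      refine sup_le ?_ ?_
      · intro b hb
        rw [Subgroup.mem_centralizer_singleton_iff]
        exact ((Subgroup.mem_centralizer_iff.1 (Subgroup.mem_inf.1 hb).2) u hu1).symm
      · rw [Subgroup.zpowers_le, Subgroup.mem_centralizer_singleton_iff]
        exact hu2.symm
    rw [Subgroup.mem_centralizer_iff]
    intro x hx
    exact (Subgroup.mem_centralizer_singleton_iff.1 (hle hx))
  have hstar := isElementaryAbelian_sup hAie hUe hUc
  have hstarT : ((A ⊓ Subgroup.centralizer (VX X : Set X)) ⊔ Subgroup.zpowers a) ⊔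
      (VX X ⊓ Subgroup.centralizer ({a} : Set X)) ≤ T :=
    sup_le (hAiA.trans hAT) (inf_le_left.trans (f4b_VX_le h))
  -- the order
  have hprod := f4b_card_sup (VX X ⊓ Subgroup.centralizer ({a} : Set X))
    ((A ⊓ Subgroup.centralizer (VX X : Set X)) ⊔ Subgroup.zpowers a)
    (hUc.trans (Subgroup.centralizer_le_normalizer _))
  have hhalf := f4b_half h F i haD haC ha2
  have hoff := F.off_card A hA
  have hidxA := f4b_relIndex_mul_card
    (inf_le_left : A ⊓ Subgroup.centralizer (VX X : Set X) ≤ A)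
  have hidxAi := f4b_relIndex_mul_card
    (le_sup_left : A ⊓ Subgroup.centralizer (VX X : Set X) ≤
      (A ⊓ Subgroup.centralizer (VX X : Set X)) ⊔ Subgroup.zpowers a)
  have hr2 : 2 ≤ (A ⊓ Subgroup.centralizer (VX X : Set X)).relIndex
      ((A ⊓ Subgroup.centralizer (VX X : Set X)) ⊔ Subgroup.zpowers a) := by
    have h0 : (A ⊓ Subgroup.centralizer (VX X : Set X)).relIndex
        ((A ⊓ Subgroup.centralizer (VX X : Set X)) ⊔ Subgroup.zpowers a) ≠ 0 := by
      intro h0
      rw [h0, zero_mul] at hidxAi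
      exact absurd hidxAi.symm (Nat.card_pos.ne')
    have h1 : (A ⊓ Subgroup.centralizer (VX X : Set X)).relIndex
        ((A ⊓ Subgroup.centralizer (VX X : Set X)) ⊔ Subgroup.zpowers a) ≠ 1 := by
      intro h1
      rw [Subgroup.relIndex_eq_one] at h1
      exact haC (Subgroup.mem_inf.1 (h1 (le_sup_right (a := A ⊓ Subgroup.centralizer (VX X : Set X))
        (Subgroup.mem_zpowers a)))).2
    omega
  have hinf : Nat.card ↥((VX X ⊓ Subgroup.centralizer ({a} : Set X)) ⊓
      ((A ⊓ Subgroup.centralizer (VX X : Set X)) ⊔ Subgroup.zpowers a) : Subgroup X) ≤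
      Nat.card ↥(VX X ⊓ Subgroup.centralizer (A : Set X) : Subgroup X) := by
    apply Subgroup.card_le_of_le
    refine le_trans ?_ (f4b_inf_le_cent (V := VX X) hA.1)
    exact le_inf (inf_le_right.trans hAiA) (inf_le_left.trans inf_le_left)
  have hpos : 0 < Nat.card ↥(VX X ⊓ Subgroup.centralizer (A : Set X) : Subgroup X) := Nat.card_pos
  have hcard : Nat.card A ≤ Nat.card ↥((VX X ⊓ Subgroup.centralizer ({a} : Set X)) ⊔
      ((A ⊓ Subgroup.centralizer (VX X : Set X)) ⊔ Subgroup.zpowers a) : Subgroup X) := by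
    apply Nat.le_of_mul_le_mul_right _ hpos
    generalize Nat.card ↥((VX X ⊓ Subgroup.centralizer ({a} : Set X)) ⊔
      ((A ⊓ Subgroup.centralizer (VX X : Set X)) ⊔ Subgroup.zpowers a) : Subgroup X) = s at *
    generalize Nat.card ↥((VX X ⊓ Subgroup.centralizer ({a} : Set X)) ⊓
      ((A ⊓ Subgroup.centralizer (VX X : Set X)) ⊔ Subgroup.zpowers a) : Subgroup X) = m at *
    generalize Nat.card ↥(VX X ⊓ Subgroup.centralizer ({a} : Set X) : Subgroup X) = u at *
    generalize Nat.card ↥((A ⊓ Subgroup.centralizer (VX X : Set X)) ⊔ Subgroup.zpowers a :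
      Subgroup X) = ai at *
    generalize Nat.card ↥(VX X ⊓ Subgroup.centralizer (A : Set X) : Subgroup X) = cv at *
    generalize Nat.card ↥(A ⊓ Subgroup.centralizer (VX X : Set X) : Subgroup X) = b at *
    generalize (A ⊓ Subgroup.centralizer (VX X : Set X)).relIndex
      ((A ⊓ Subgroup.centralizer (VX X : Set X)) ⊔ Subgroup.zpowers a) = r' at *
    generalize (A ⊓ Subgroup.centralizer (VX X : Set X)).relIndex A = r at *
    generalize Nat.card ↥(VX X) = v at *
    generalize Nat.card ↥A = ca at *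
    -- s * m = u * ai ; v ≤ 2u ; r * cv = v ; r * b = ca ; r' * b = ai ; 2 ≤ r' ; m ≤ cv
    have h1 : s * m ≤ s * cv := Nat.mul_le_mul_left _ hinf
    have h2 : 2 * b ≤ ai := by rw [← hidxAi]; exact Nat.mul_le_mul_right _ hr2
    have h3 : v * b ≤ u * ai := by
      calc v * b ≤ (2 * u) * b := Nat.mul_le_mul_right _ hhalf
        _ = u * (2 * b) := by ring
        _ ≤ u * ai := Nat.mul_le_mul_left _ h2
    calc ca * cv = (r * cv) * b := by rw [← hidxA]; ring
      _ = v * b := by rw [hoff]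
      _ ≤ u * ai := h3
      _ = s * m := hprod.symm
      _ ≤ s * cv := h1
  have hmem := f4b_famE_of_card_ge (T := T) hA (by rw [sup_comm]; exact hstarT)
    (by rw [sup_comm]; exact hstar) hcard
  have haS : a ∈ (VX X ⊓ Subgroup.centralizer ({a} : Set X)) ⊔
      ((A ⊓ Subgroup.centralizer (VX X : Set X)) ⊔ Subgroup.zpowers a) :=
    le_sup_right (a := VX X ⊓ Subgroup.centralizer ({a} : Set X))
      (le_sup_right (a := A ⊓ Subgroup.centralizer (VX X : Set X)) (Subgroup.mem_zpowers a))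
  exact le_thompsonSubgroupOf hmem haS

end Cfsg.Agent.Helper13.JCFF
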