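import Mathlib
import Cfsg.Prelude.Def_JComponents
import Cfsg.Agent.Lib.Helper13.JCFFDefs
import Cfsg.Agent.Lib.Helper13.JCF1
import Cfsg.Agent.Lib.Helper13.JCF2
import Cfsg.Agent.Lib.Helper26.JCF4B
import Cfsg.Agent.Lib.Helper7.JC48A

/-!
# KS12 / JCFF, piece FRAT (helper26), CORE with F4 (`J ⊓ C ≤ Q`) as a hypothesis: Frattini argument, `X = JQ · N_X(J(T))`, `JQ = ⟨K_i, J(T)⟩ Q`
-/

set_option autoImplicit false
open scoped commutatorElement
set_option linter.unusedVariables false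
set_option linter.unusedSectionVars false
set_option linter.style.haveILetI false

namespace Cfsg.Agent.Helper13.JCFF

open Cfsg Cfsg.Agent.Helper3 Cfsg.Agent.Helper4.ZJ Cfsg.Agent.Helper25.JC Cfsg.Agent.Helper7.JC48

variable {X : Type*} [Group X] [Finite X]

/-- prime relative index: `K` is generated over `H` by any element outside `H` -/
theorem frat_le_sup_zpowers {H K : Subgroup X} (hHK : H ≤ K) {p : ℕ} (hp : p.Prime)
    (hidx : H.relIndex K = p) {x : X} (hxK : x ∈ K) (hx : x ∉ H) :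
    K ≤ H ⊔ Subgroup.zpowers x := by
  have hMK : H ⊔ Subgroup.zpowers x ≤ K := sup_le hHK (by rw [Subgroup.zpowers_le]; exact hxK)
  have h1 := Subgroup.relIndex_mul_relIndex H (H ⊔ Subgroup.zpowers x) K le_sup_left hMK
  rw [hidx] at h1
  have h2 : H.relIndex (H ⊔ Subgroup.zpowers x) ≠ 1 := by
    intro h2
    rw [Subgroup.relIndex_eq_one] at h2
    exact hx (h2 (le_sup_right (a := H) (Subgroup.mem_zpowers x)))
  have h3 : H.relIndex (H ⊔ Subgroup.zpowers x) ∣ p := Dvd.intro _ h1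
  rcases (Nat.dvd_prime hp).1 h3 with h4 | h4
  · exact absurd h4 h2
  · rw [h4] at h1
    have h5 : (H ⊔ Subgroup.zpowers x).relIndex K = 1 :=
      Nat.eq_of_mul_eq_mul_left hp.pos (by rw [h1, mul_one])
    exact Subgroup.relIndex_eq_one.1 h5

/-- `JQ ⊓ C ≤ Q` -/
theorem frat_JQ_inf_C {T : Subgroup X} (h : KS X T)
    (hF4 : thompsonSubgroup 2 X ⊓ Subgroup.centralizer (VX X : Set X) ≤ pCore 2 X) :
    (thompsonSubgroup 2 X ⊔ pCore 2 X) ⊓ Subgroup.centralizer (VX X : Set X) ≤ pCore 2 X := by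
  haveI hQn : (pCore 2 X).Normal := Cfsg.Agent.Helper27.pCore_normal 2
  intro z hz
  obtain ⟨hz1, hz2⟩ := Subgroup.mem_inf.1 hz
  rw [← SetLike.mem_coe, Subgroup.mul_normal, Set.mem_mul] at hz1
  obtain ⟨j, hj, q, hq, rfl⟩ := hz1
  have hqC : q ∈ Subgroup.centralizer (VX X : Set X) := pCore_le_centralizer_VX h.hQ hq
  have hjC : j ∈ Subgroup.centralizer (VX X : Set X) := by
    have e : j = j * q * q⁻¹ := by group
    rw [e]; exact Subgroup.mul_mem _ hz2 (Subgroup.inv_mem _ hqC)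
  exact Subgroup.mul_mem _ (hF4 (Subgroup.mem_inf.2 ⟨hj, hjC⟩)) hq

/-- an element of `K_i` of odd order outside `C` -/
theorem frat_exists_odd {T : Subgroup X} (h : KS X T) (F : FFData X (VX X)) (i : Fin F.r) :
    ∃ y ∈ Kc F i, y ∈ F.O i ∧ y ∈ thompsonSubgroup 2 X ⊔ pCore 2 X ∧
      y ∉ Subgroup.centralizer (VX X : Set X) := by
  haveI hCn := f4b_C_normal h
  -- an element of `O_i` outside `C`
  have hne : ¬ F.O i ≤ Subgroup.centralizer (VX X : Set X) := by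
    intro hle
    have h1 := F.relIndex_O i
    rw [Subgroup.relIndex_eq_one.2 hle] at h1
    omega
  obtain ⟨z, hzO, hzC⟩ := SetLike.not_le_iff_exists.1 hne
  have hzJC : z ∈ thompsonSubgroup 2 X ⊔ Subgroup.centralizer (VX X : Set X) :=
    F.D_le i (F.O_le_D i hzO)
  rw [← SetLike.mem_coe, Subgroup.mul_normal, Set.mem_mul] at hzJC
  obtain ⟨j, hj, c, hc, rfl⟩ := hzJC
  have hjO : j ∈ F.O i := by
    have e : j = j * c * c⁻¹ := by group
    rw [e]; exact Subgroup.mul_mem _ hzO (Subgroup.inv_mem _ (F.C_le_O i hc))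
  have hjC : j ∉ Subgroup.centralizer (VX X : Set X) := fun hjC => hzC (Subgroup.mul_mem _ hjC hc)
  -- its odd part
  have hn0 : orderOf j ≠ 0 := (orderOf_pos j).ne'
  obtain ⟨a, b, hb, hab⟩ := Nat.exists_eq_two_pow_mul_odd hn0
  have hdvd : 2 ^ a ∣ orderOf j := ⟨b, hab⟩
  have hord : orderOf (j ^ 2 ^ a) = b := by
    rw [orderOf_pow_of_dvd (pow_ne_zero a (by norm_num)) hdvd, hab,
      Nat.mul_div_cancel_left _ (pow_pos (by norm_num) a)]
  -- `j ^ 3 ∈ C`
  have hj3 : j ^ 3 ∈ Subgroup.centralizer (VX X : Set X) := by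
    haveI : ((Subgroup.centralizer (VX X : Set X)).subgroupOf (F.O i)).Normal := inferInstance
    have h3 := Subgroup.pow_index_mem
      ((Subgroup.centralizer (VX X : Set X)).subgroupOf (F.O i)) (⟨j, hjO⟩ : ↥(F.O i))
    have hidx : ((Subgroup.centralizer (VX X : Set X)).subgroupOf (F.O i)).index = 3 :=
      F.relIndex_O i
    rw [hidx, Subgroup.mem_subgroupOf] at h3
    simpa using h3
  refine ⟨j ^ 2 ^ a, ?_, Subgroup.pow_mem _ hjO _,
    Subgroup.pow_mem _ (Subgroup.mem_sup_left hj) _, ?_⟩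
  · apply Subgroup.subset_closure
    exact ⟨Subgroup.pow_mem _ hjO _, Subgroup.pow_mem _ (Subgroup.mem_sup_left hj) _, by
      rw [hord]; exact hb⟩
  · intro hy
    apply hjC
    have hcop : Nat.Coprime (2 ^ a) 3 := Nat.Coprime.pow_left a (by norm_num)
    have hbez := Nat.gcd_eq_gcd_ab (2 ^ a) 3
    rw [hcop.gcd_eq_one] at hbez
    have e : j = (j ^ 2 ^ a) ^ (Nat.gcdA (2 ^ a) 3) * (j ^ 3) ^ (Nat.gcdB (2 ^ a) 3) := by
      rw [← zpow_natCast j (2 ^ a), ← zpow_natCast j 3, ← zpow_mul, ← zpow_mul, ← zpow_add]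
      have : ((2 ^ a : ℕ) : ℤ) * Nat.gcdA (2 ^ a) 3 + ((3 : ℕ) : ℤ) * Nat.gcdB (2 ^ a) 3 = 1 := by
        rw [← hbez]; simp
      rw [this, zpow_one]
    rw [e]
    exact Subgroup.mul_mem _ (Subgroup.zpow_mem _ hy _) (Subgroup.zpow_mem _ hj3 _)

theorem frat_core {T : Subgroup X} (h : KS X T) (F : FFData X (VX X))
    (hF4 : thompsonSubgroup 2 X ⊓ Subgroup.centralizer (VX X : Set X) ≤ pCore 2 X) (Y : Subgroup X)
    (hTY : T ≤ Y) (hNY : Subgroup.normalizer (thompsonSubgroupOf 2 T : Set X) ≤ Y)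
    (hKY : ∀ i, Kc F i ≤ Y) : Y = ⊤ := by
  haveI hCn := f4b_C_normal h
  haveI hJn : (thompsonSubgroup 2 X).Normal := f4b_J_normal
  haveI hQn : (pCore 2 X).Normal := Cfsg.Agent.Helper27.pCore_normal 2
  have hQT : pCore 2 X ≤ T := f4b_pCore_le h
  have hJTJ := h.JT_le_J
  -- (1) every `D_i` lies in `(Y ⊓ JQ) C`
  have hD : ∀ i, F.D i ≤ (Y ⊓ (thompsonSubgroup 2 X ⊔ pCore 2 X)) ⊔
      Subgroup.centralizer (VX X : Set X) := by
    intro i
    obtain ⟨y, hyK, hyO, hyJQ, hyC⟩ := frat_exists_odd h F i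
    obtain ⟨a, haJT, haD, haO⟩ := h.exists_inv F i
    have hO : F.O i ≤ (Y ⊓ (thompsonSubgroup 2 X ⊔ pCore 2 X)) ⊔
        Subgroup.centralizer (VX X : Set X) := by
      refine (frat_le_sup_zpowers (F.C_le_O i) Nat.prime_three (F.relIndex_O i) hyO hyC).trans ?_
      refine sup_le le_sup_right ?_
      rw [Subgroup.zpowers_le]
      exact Subgroup.mem_sup_left (Subgroup.mem_inf.2 ⟨hKY i hyK, hyJQ⟩)
    refine (frat_le_sup_zpowers (F.O_le_D i) Nat.prime_two (F.relIndex_D i) haD haO).trans ?_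
    refine sup_le hO ?_
    rw [Subgroup.zpowers_le]
    exact Subgroup.mem_sup_left (Subgroup.mem_inf.2
      ⟨hTY (thompsonSubgroupOf_le_self T haJT), Subgroup.mem_sup_left (hJTJ haJT)⟩)
  -- (2) `J ≤ Y`
  have hJY : thompsonSubgroup 2 X ≤ Y := by
    intro x hx
    have hx1 : x ∈ ⨆ i, F.D i := by rw [F.sup_D]; exact Subgroup.mem_sup_left hx
    have hx2 := (iSup_le hD) hx1
    rw [← SetLike.mem_coe, Subgroup.mul_normal, Set.mem_mul] at hx2
    obtain ⟨y, hy, c, hc, rfl⟩ := hx2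
    obtain ⟨hyY, hyJQ⟩ := Subgroup.mem_inf.1 hy
    have hcJQ : c ∈ thompsonSubgroup 2 X ⊔ pCore 2 X := by
      have e : c = y⁻¹ * (y * c) := by group
      rw [e]; exact Subgroup.mul_mem _ (Subgroup.inv_mem _ hyJQ) (Subgroup.mem_sup_left hx)
    have hcQ : c ∈ pCore 2 X := frat_JQ_inf_C h hF4 (Subgroup.mem_inf.2 ⟨hcJQ, hc⟩)
    exact Y.mul_mem hyY (hTY (hQT hcQ))
  -- (3) Frattini
  have hN : (thompsonSubgroup 2 X ⊔ pCore 2 X).Normal := inferInstance
  have hsyl := f4b_sylow_inf h.syl hN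
  obtain ⟨P, hP⟩ := exists_sylow_of_isSylowTwoIn hsyl
  haveI : Fact (Nat.Prime 2) := ⟨Nat.prime_two⟩
  have hfr := Sylow.normalizer_sup_eq_top P
  rw [hP, map_subtype_subgroupOf inf_le_right] at hfr
  have hJeq : thompsonSubgroupOf 2 (T ⊓ (thompsonSubgroup 2 X ⊔ pCore 2 X)) =
      thompsonSubgroupOf 2 T :=
    J_eq_of_between (le_inf (thompsonSubgroupOf_le_self T) (hJTJ.trans le_sup_left)) inf_le_left
  have h1 : Subgroup.normalizer ((T ⊓ (thompsonSubgroup 2 X ⊔ pCore 2 X) : Subgroup X) : Set X)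
      ≤ Y := by
    refine (normalizer_le_normalizer_J _).trans ?_
    rw [hJeq]; exact hNY
  rw [eq_top_iff, ← hfr]
  exact sup_le h1 (sup_le hJY (hQT.trans hTY))

end Cfsg.Agent.Helper13.JCFF
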