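import Mathlib
import Cfsg.Prelude
import Cfsg.Agent.Lib.Helper13.SdBN1

/-!
# S2548 piece TRANSPORTD (helper26)

`soq (2m) F` (the determinant one isometries of the split quadratic form in Witt coordinates) is mapped
isomorphically onto the determinant one part of the isometry group of `quadFormPlus m F` by reindexing
along `eD m`.
-/

set_option autoImplicit false
set_option linter.unusedSectionVars false
set_option linter.unusedVariables false

namespace Cfsg.Agent.Helper26.SdTr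

open Matrix Cfsg.Agent.Helper13.SuBN Cfsg.Agent.Helper13.SdBN

variable {F : Type*} [Field F] (m : ℕ)

/-- transported matrix -/
def jmat (M : Matrix (Fin (2 * m)) (Fin (2 * m)) F) :
    Matrix (Fin m ⊕ Fin m) (Fin m ⊕ Fin m) F :=
  Matrix.of fun a b => M (eD m a) (eD m b)

theorem jmat_apply (M : Matrix (Fin (2 * m)) (Fin (2 * m)) F) (a b) :
    jmat m M a b = M (eD m a) (eD m b) := rfl

theorem jmat_one : jmat m (1 : Matrix (Fin (2 * m)) (Fin (2 * m)) F) = 1 := by
  ext a b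
  rw [jmat_apply, Matrix.one_apply, Matrix.one_apply]
  by_cases h : a = b
  · subst h
    rw [if_pos rfl, if_pos rfl]
  · rw [if_neg h, if_neg (fun e => h ((eD m).injective e))]

theorem jmat_mul (M N : Matrix (Fin (2 * m)) (Fin (2 * m)) F) :
    jmat m (M * N) = jmat m M * jmat m N := by
  ext a b
  rw [jmat_apply, Matrix.mul_apply, Matrix.mul_apply, ← Equiv.sum_comp (eD m)]
  apply Finset.sum_congr rfl
  intro c _
  rw [jmat_apply, jmat_apply]

theorem jmat_injective : Function.Injective (jmat (F := F) m) := by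
  intro M N h
  ext c c'
  have h1 := congrFun (congrFun h ((eD m).symm c)) ((eD m).symm c')
  rw [jmat_apply, jmat_apply, Equiv.apply_symm_apply, Equiv.apply_symm_apply] at h1
  exact h1

/-- inverse transport -/
def kmat (X : Matrix (Fin m ⊕ Fin m) (Fin m ⊕ Fin m) F) :
    Matrix (Fin (2 * m)) (Fin (2 * m)) F :=
  X.submatrix (eD m).symm (eD m).symm

theorem jmat_kmat (X : Matrix (Fin m ⊕ Fin m) (Fin m ⊕ Fin m) F) : jmat m (kmat m X) = X := by
  ext a b
  rw [jmat_apply]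
  show X ((eD m).symm (eD m a)) ((eD m).symm (eD m b)) = X a b
  rw [Equiv.symm_apply_apply, Equiv.symm_apply_apply]

theorem det_kmat (X : Matrix (Fin m ⊕ Fin m) (Fin m ⊕ Fin m) F) : (kmat m X).det = X.det :=
  Matrix.det_submatrix_equiv_self (eD m).symm X

/-- the vector transport -/
def Lv (v : Fin m ⊕ Fin m → F) : Fin (2 * m) → F := fun c => v ((eD m).symm c)

theorem Lv_eD (v : Fin m ⊕ Fin m → F) (b) : Lv m v (eD m b) = v b := by
  unfold Lv
  rw [Equiv.symm_apply_apply]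

theorem Lv_mulVec (M : Matrix (Fin (2 * m)) (Fin (2 * m)) F) (v : Fin m ⊕ Fin m → F) :
    Lv m (jmat m M *ᵥ v) = M *ᵥ Lv m v := by
  funext c
  obtain ⟨a, rfl⟩ := (eD m).surjective c
  rw [Lv_eD, Matrix.mulVec, Matrix.mulVec, dotProduct, dotProduct, ← Equiv.sum_comp (eD m)]
  apply Finset.sum_congr rfl
  intro b _
  rw [Lv_eD, jmat_apply]

theorem Lv_surjective (w : Fin (2 * m) → F) : ∃ v : Fin m ⊕ Fin m → F, Lv m v = w := by
  refine ⟨fun b => w (eD m b), ?_⟩
  funext c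
  obtain ⟨a, rfl⟩ := (eD m).surjective c
  rw [Lv_eD]

theorem quadFormPlus_eq_qf (v : Fin m ⊕ Fin m → F) :
    Cfsg.quadFormPlus m F v = qf (Lv m v) := by
  unfold Cfsg.quadFormPlus qf
  have hm : 2 * m / 2 = m := by omega
  refine (Fintype.sum_equiv (finCongr hm) _ _ (fun i => ?_)).symm
  have h1 : ix (2 * m) i = eD m (Sum.inl (finCongr hm i)) := Fin.ext rfl
  rw [h1, rev_eD_inl, Lv_eD, Lv_eD]

/-- the monoid hom on matrices -/
def jm : Matrix (Fin (2 * m)) (Fin (2 * m)) F →* Matrix (Fin m ⊕ Fin m) (Fin m ⊕ Fin m) F where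
  toFun := jmat m
  map_one' := jmat_one m
  map_mul' := jmat_mul m

/-- the hom into the general linear group -/
def jGL : ↥(soq (2 * m) F) →* Matrix.GeneralLinearGroup (Fin m ⊕ Fin m) F :=
  (((Units.map (jm (F := F) m)).comp Matrix.SpecialLinearGroup.toGL).comp
    (WSU (2 * m) (RingHom.id F)).subtype).comp (soq (2 * m) F).subtype

theorem jGL_val (g : ↥(soq (2 * m) F)) :
    ((jGL m g : Matrix.GeneralLinearGroup (Fin m ⊕ Fin m) F) :
      Matrix (Fin m ⊕ Fin m) (Fin m ⊕ Fin m) F) = jmat m (mt (g : WSU (2 * m) (RingHom.id F))) := rfl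

theorem mem_iso_iff (x : Matrix.GeneralLinearGroup (Fin m ⊕ Fin m) F) :
    x ∈ Cfsg.isometryGroup F (Cfsg.quadFormPlus m F) ↔
      ∀ u, Cfsg.quadFormPlus m F ((x : Matrix _ _ F) *ᵥ u) = Cfsg.quadFormPlus m F u := by
  constructor
  · intro h u
    exact h u u
  · intro h u v
    exact h u

theorem jGL_mem (g : ↥(soq (2 * m) F)) :
    jGL m g ∈ Cfsg.isometryGroup F (Cfsg.quadFormPlus m F) := by
  rw [mem_iso_iff]
  intro u
  rw [jGL_val, quadFormPlus_eq_qf, quadFormPlus_eq_qf, Lv_mulVec]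
  exact g.2 (Lv m u)

/-- the transport hom -/
def jHom : ↥(soq (2 * m) F) →* Cfsg.isometryGroup F (Cfsg.quadFormPlus m F) :=
  (jGL m).codRestrict _ (jGL_mem m)

theorem jHom_val (g : ↥(soq (2 * m) F)) :
    (((jHom m g : Cfsg.isometryGroup F (Cfsg.quadFormPlus m F)) :
      Matrix.GeneralLinearGroup (Fin m ⊕ Fin m) F) :
      Matrix (Fin m ⊕ Fin m) (Fin m ⊕ Fin m) F) = jmat m (mt (g : WSU (2 * m) (RingHom.id F))) := rfl

theorem jHom_injective : Function.Injective (jHom (F := F) m) := by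
  intro g g' h
  apply Subtype.ext
  apply mt_injective
  apply jmat_injective m
  rw [← jHom_val m g, ← jHom_val m g', h]

theorem mem_range_of (x : Cfsg.isometryGroup F (Cfsg.quadFormPlus m F))
    (hd : ((x : Matrix.GeneralLinearGroup (Fin m ⊕ Fin m) F) :
      Matrix (Fin m ⊕ Fin m) (Fin m ⊕ Fin m) F).det = 1) :
    x ∈ (jHom (F := F) m).range := by
  have hn : (2 * m) % 2 = 0 := by omega
  set X : Matrix (Fin m ⊕ Fin m) (Fin m ⊕ Fin m) F := x.1.1 with hX
  have hxm := (mem_iso_iff m x.1).1 x.2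
  have hjk : jmat m (kmat m X) = X := jmat_kmat m X
  have hQ : ∀ w, qf (kmat m X *ᵥ w) = qf w := by
    intro w
    obtain ⟨v, rfl⟩ := Lv_surjective m w
    rw [← Lv_mulVec, ← quadFormPlus_eq_qf, ← quadFormPlus_eq_qf, hjk]
    exact hxm v
  have hdet : (kmat m X).det = 1 := by rw [det_kmat]; exact hd
  refine ⟨⟨mkSoq hn (kmat m X) hdet hQ, mkSoq_mem hn (kmat m X) hdet hQ⟩, ?_⟩
  apply Subtype.ext
  apply Units.ext
  rw [jHom_val]
  show jmat m (mt (mkSoq hn (kmat m X) hdet hQ)) = X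
  rw [mt_mkSoq, hjk]

end Cfsg.Agent.Helper26.SdTr

namespace Cfsg.Agent.Helper13.SdP

open Matrix Cfsg.Agent.Helper13.SuBN Cfsg.Agent.Helper13.SdBN Cfsg.Agent.Helper26.SdTr

/-! PIECE TRANSPORTD -/
theorem exists_hom_plus {F : Type*} [Field F] (m : ℕ) :
    ∃ j : ↥(soq (2 * m) F) →* Cfsg.isometryGroup F (Cfsg.quadFormPlus m F),
      Function.Injective j ∧
      (∀ (x : ↥(soq (2 * m) F)) (a b : Fin m ⊕ Fin m),
        (((j x : Cfsg.isometryGroup F (Cfsg.quadFormPlus m F)) : GL (Fin m ⊕ Fin m) F) :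
          Matrix (Fin m ⊕ Fin m) (Fin m ⊕ Fin m) F) a b = mt (x : WSU (2 * m) (RingHom.id F)) (eD m a) (eD m b)) ∧
      ∀ g : Cfsg.isometryGroup F (Cfsg.quadFormPlus m F),
        ((g : GL (Fin m ⊕ Fin m) F) : Matrix (Fin m ⊕ Fin m) (Fin m ⊕ Fin m) F).det = 1 → g ∈ j.range := by
  refine ⟨jHom m, jHom_injective m, ?_, ?_⟩
  · intro x a b
    rfl
  · intro g hg
    exact mem_range_of m g hg

end Cfsg.Agent.Helper13.SdP
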