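import Mathlib
import Cfsg.Prelude

import Cfsg.Agent.Lib.Helper13.StBN1
import Cfsg.Agent.Lib.Helper13.StTr0

/-!
# S2549 piece TRANSPORTM (helper26)

The twisted group `gT (2m+2) φ` is mapped isomorphically onto the determinant one part of the isometry
group of `quadFormMinus m F a b`.
-/

set_option autoImplicit false
set_option linter.unusedSectionVars false
set_option linter.unusedVariables false

namespace Cfsg.Agent.Helper26.StTr

open Matrix Cfsg.Agent.Helper13.SuBN Cfsg.Agent.Helper13.SdBN Cfsg.Agent.Helper13.StBN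

section Basic

variable {F K : Type*} [Field F] [Field K] (m : ℕ) (ι : F →+* K) (ω ω' : K)

/-- the index type of the `F`-vectors -/
abbrev JJ (m : ℕ) := (Fin m ⊕ Fin m) ⊕ Fin 2

theorem tauP_dI : tauP (2 * m + 2) (dI m) = cI m := by
  rw [← tauP_cI, tauP_tauP]

theorem tauP_fI (i : Fin m) : tauP (2 * m + 2) (fI m i) = fI m i := by
  rw [← rev_eI, tauP_rev (by omega), tauP_eI]

theorem Lm_add (u v : JJ m → F) : Lm m ι ω ω' (u + v) = Lm m ι ω ω' u + Lm m ι ω ω' v := by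
  funext x
  rcases index_cases m x with ⟨i, rfl⟩ | ⟨i, rfl⟩ | rfl | rfl
  · simp only [Pi.add_apply, Lm_eI, map_add]
  · simp only [Pi.add_apply, Lm_fI, map_add]
  · simp only [Pi.add_apply, Lm_cI, map_add]; ring
  · simp only [Pi.add_apply, Lm_dI, map_add]; ring

theorem Lm_smul (c : F) (v : JJ m → F) : Lm m ι ω ω' (c • v) = ι c • Lm m ι ω ω' v := by
  funext x
  rcases index_cases m x with ⟨i, rfl⟩ | ⟨i, rfl⟩ | rfl | rfl
  · simp only [Pi.smul_apply, smul_eq_mul, Lm_eI, map_mul]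
  · simp only [Pi.smul_apply, smul_eq_mul, Lm_fI, map_mul]
  · simp only [Pi.smul_apply, smul_eq_mul, Lm_cI, map_mul]; ring
  · simp only [Pi.smul_apply, smul_eq_mul, Lm_dI, map_mul]; ring

theorem Lm_injective (hω : ω' ≠ ω) : Function.Injective (Lm m ι ω ω') := by
  intro u v h
  have hι := ι.injective
  have hc := congrFun h (cI m)
  have hd := congrFun h (dI m)
  rw [Lm_cI, Lm_cI] at hc
  rw [Lm_dI, Lm_dI] at hd
  have h1 : ι (u (Sum.inr 1)) = ι (v (Sum.inr 1)) := by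
    have h3 : (ω' - ω) * (ι (u (Sum.inr 1)) - ι (v (Sum.inr 1))) = 0 := by
      linear_combination hc - hd
    rcases mul_eq_zero.1 h3 with h4 | h4
    · exact absurd (sub_eq_zero.1 h4) hω
    · exact sub_eq_zero.1 h4
  have h0 : ι (u (Sum.inr 0)) = ι (v (Sum.inr 0)) := by
    rw [h1] at hc
    linear_combination hc
  funext b
  rcases b with (i | i) | k
  · have := congrFun h (eI m i)
    rw [Lm_eI, Lm_eI] at this
    exact hι this
  · have := congrFun h (fI m i)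
    rw [Lm_fI, Lm_fI] at this
    exact hι this
  · fin_cases k
    · exact hι h0
    · exact hι h1

/-- the value of the split form on the transported vector -/
theorem qf_Lm (a b : F) (hω1 : ω + ω' = - ι a) (hω2 : ω * ω' = ι b) (v : JJ m → F) :
    qf (Lm m ι ω ω' v) = ι (Cfsg.quadFormMinus m F a b v) := by
  unfold Cfsg.quadFormMinus qf
  have hm : (2 * m + 2) / 2 = m + 1 := by omega
  rw [← Fintype.sum_equiv (finCongr hm.symm) (fun i : Fin (m + 1) =>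
    Lm m ι ω ω' v (ix (2 * m + 2) (finCongr hm.symm i)) *
      Lm m ι ω ω' v (Fin.rev (ix (2 * m + 2) (finCongr hm.symm i)))) _ (fun i => rfl)]
  rw [Fin.sum_univ_castSucc, map_add, map_sum]
  congr 1
  · apply Finset.sum_congr rfl
    intro i _
    have h1 : ix (2 * m + 2) (finCongr hm.symm (Fin.castSucc i)) = eI m i := Fin.ext rfl
    rw [h1, rev_eI, Lm_eI, Lm_fI, map_mul]
  · have h1 : ix (2 * m + 2) (finCongr hm.symm (Fin.last m)) = cI m := Fin.ext rfl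
    rw [h1, rev_cI, Lm_cI, Lm_dI]
    simp only [map_add, map_mul, map_pow]
    linear_combination (-(ι (v (Sum.inr 0)) * ι (v (Sum.inr 1)))) * hω1 +
      (ι (v (Sum.inr 1)) ^ 2) * hω2

end Basic


section Twist

variable {F K : Type*} [Field F] [Field K] (m : ℕ) (ι : F →+* K) (φ : K →+* K) (ω : K)

/-- twist-fixed vectors -/
def TwFix (w : Fin (2 * m + 2) → K) : Prop := ∀ a, φ (w (tauP (2 * m + 2) a)) = w a

variable {m ι φ ω}

theorem twFix_Lm (hφφ : ∀ x, φ (φ x) = x) (hfix : ∀ x, φ x = x ↔ x ∈ ι.range) (v : JJ m → F) :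
    TwFix m φ (Lm m ι ω (φ ω) v) := by
  intro x
  have hι : ∀ f : F, φ (ι f) = ι f := fun f => (hfix _).2 ⟨f, rfl⟩
  rcases index_cases m x with ⟨i, rfl⟩ | ⟨i, rfl⟩ | rfl | rfl
  · rw [tauP_eI, Lm_eI, hι]
  · rw [tauP_fI, Lm_fI, hι]
  · rw [tauP_cI, Lm_dI, Lm_cI, map_sub, map_mul, hι, hι, hφφ]
  · rw [tauP_dI, Lm_cI, Lm_dI, map_sub, map_mul, hι, hι]

variable (m ι φ ω)

/-- the inverse of `Lm` on the twist-fixed vectors -/
noncomputable def Minv (w : Fin (2 * m + 2) → K) : JJ m → F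
  | Sum.inl (Sum.inl i) => Function.invFun ι (w (eI m i))
  | Sum.inl (Sum.inr i) => Function.invFun ι (w (fI m i))
  | Sum.inr k =>
    if k = 0 then Function.invFun ι (w (cI m) + ω * ((w (cI m) - w (dI m)) / (φ ω - ω)))
    else Function.invFun ι ((w (cI m) - w (dI m)) / (φ ω - ω))

variable {m ι φ ω}

theorem iota_invFun (hfix : ∀ x, φ x = x ↔ x ∈ ι.range) {y : K} (hy : φ y = y) :
    ι (Function.invFun ι y) = y :=
  Function.invFun_eq ((hfix y).1 hy)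

theorem Lm_Minv (hφφ : ∀ x, φ (φ x) = x) (hfix : ∀ x, φ x = x ↔ x ∈ ι.range) (hω3 : φ ω ≠ ω)
    {w : Fin (2 * m + 2) → K} (hw : TwFix m φ w) : Lm m ι ω (φ ω) (Minv m ι φ ω w) = w := by
  have hne : φ ω - ω ≠ 0 := sub_ne_zero.2 hω3
  have hne' : ω - φ ω ≠ 0 := sub_ne_zero.2 (Ne.symm hω3)
  have hcd : φ (w (cI m)) = w (dI m) := by
    have := hw (dI m)
    rwa [tauP_dI] at this
  have hdc : φ (w (dI m)) = w (cI m) := by
    have := hw (cI m)
    rwa [tauP_cI] at this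
  have hy2 : φ ((w (cI m) - w (dI m)) / (φ ω - ω)) = (w (cI m) - w (dI m)) / (φ ω - ω) := by
    rw [map_div₀, map_sub, map_sub, hcd, hdc, hφφ]
    rw [div_eq_div_iff hne' hne]
    ring
  have hy1 : φ (w (cI m) + ω * ((w (cI m) - w (dI m)) / (φ ω - ω))) =
      w (cI m) + ω * ((w (cI m) - w (dI m)) / (φ ω - ω)) := by
    rw [map_add, map_mul, hy2, hcd]
    field_simp
    ring
  funext x
  rcases index_cases m x with ⟨i, rfl⟩ | ⟨i, rfl⟩ | rfl | rfl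
  · rw [Lm_eI]
    show ι (Function.invFun ι (w (eI m i))) = _
    apply iota_invFun hfix
    have := hw (eI m i)
    rwa [tauP_eI] at this
  · rw [Lm_fI]
    show ι (Function.invFun ι (w (fI m i))) = _
    apply iota_invFun hfix
    have := hw (fI m i)
    rwa [tauP_fI] at this
  · rw [Lm_cI]
    show ι (Function.invFun ι (w (cI m) + ω * ((w (cI m) - w (dI m)) / (φ ω - ω)))) -
      ω * ι (Function.invFun ι ((w (cI m) - w (dI m)) / (φ ω - ω))) = _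
    rw [iota_invFun hfix hy1, iota_invFun hfix hy2]
    ring
  · rw [Lm_dI]
    show ι (Function.invFun ι (w (cI m) + ω * ((w (cI m) - w (dI m)) / (φ ω - ω)))) -
      φ ω * ι (Function.invFun ι ((w (cI m) - w (dI m)) / (φ ω - ω))) = _
    rw [iota_invFun hfix hy1, iota_invFun hfix hy2]
    field_simp
    ring

/-- every vector is `w₁ + ω w₂` with `w₁`, `w₂` coming from `F`-vectors -/
theorem exists_decomp (hφφ : ∀ x, φ (φ x) = x) (hfix : ∀ x, φ x = x ↔ x ∈ ι.range) (hω3 : φ ω ≠ ω)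
    (w : Fin (2 * m + 2) → K) :
    ∃ v₁ v₂ : JJ m → F, w = Lm m ι ω (φ ω) v₁ + ω • Lm m ι ω (φ ω) v₂ := by
  have hne : φ ω - ω ≠ 0 := sub_ne_zero.2 hω3
  have hne' : ω - φ ω ≠ 0 := sub_ne_zero.2 (Ne.symm hω3)
  set w₂ : Fin (2 * m + 2) → K := fun a => (w a - φ (w (tauP (2 * m + 2) a))) / (ω - φ ω) with hw₂
  set w₁ : Fin (2 * m + 2) → K := fun a => w a - ω * w₂ a with hw₁
  have h2 : TwFix m φ w₂ := by
    intro a
    simp only [hw₂]
    rw [map_div₀, map_sub, map_sub, hφφ, hφφ, tauP_tauP, div_eq_div_iff hne hne']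
    ring
  have h1 : TwFix m φ w₁ := by
    intro a
    have := h2 a
    simp only [hw₁]
    rw [map_sub, map_mul, this]
    simp only [hw₂]
    field_simp
    ring
  refine ⟨Minv m ι φ ω w₁, Minv m ι φ ω w₂, ?_⟩
  rw [Lm_Minv hφφ hfix hω3 h1, Lm_Minv hφφ hfix hω3 h2]
  funext a
  simp only [Pi.add_apply, Pi.smul_apply, smul_eq_mul, hw₁]
  ring

theorem twFix_mulVec {x : WSU (2 * m + 2) (RingHom.id K)} (hx : x ∈ twG (2 * m + 2) φ)
    {w : Fin (2 * m + 2) → K} (hw : TwFix m φ w) : TwFix m φ (mt x *ᵥ w) := by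
  intro a
  simp only [Matrix.mulVec, dotProduct]
  rw [map_sum, ← Equiv.sum_comp (tauP (2 * m + 2))]
  apply Finset.sum_congr rfl
  intro b _
  rw [map_mul, twG_apply hx, hw]

end Twist


section Hom

variable {F K : Type*} [Field F] [Field K] {m : ℕ} {ι : F →+* K} {φ : K →+* K} {ω : K}

/-- the action on `F`-vectors -/
noncomputable def jFun (m : ℕ) (ι : F →+* K) (φ : K →+* K) (ω : K) (x : ↥(gT (2 * m + 2) φ))
    (v : JJ m → F) : JJ m → F :=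
  Minv m ι φ ω (mt (x : WSU (2 * m + 2) (RingHom.id K)) *ᵥ Lm m ι ω (φ ω) v)

theorem Lm_jFun (hφφ : ∀ x, φ (φ x) = x) (hfix : ∀ x, φ x = x ↔ x ∈ ι.range) (hω3 : φ ω ≠ ω)
    (x : ↥(gT (2 * m + 2) φ)) (v : JJ m → F) :
    Lm m ι ω (φ ω) (jFun m ι φ ω x v) =
      mt (x : WSU (2 * m + 2) (RingHom.id K)) *ᵥ Lm m ι ω (φ ω) v :=
  Lm_Minv hφφ hfix hω3 (twFix_mulVec x.2.2 (twFix_Lm hφφ hfix v))

/-- the action as a linear map -/
noncomputable def jLin (hφφ : ∀ x, φ (φ x) = x) (hfix : ∀ x, φ x = x ↔ x ∈ ι.range) (hω3 : φ ω ≠ ω)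
    (x : ↥(gT (2 * m + 2) φ)) : (JJ m → F) →ₗ[F] (JJ m → F) where
  toFun := jFun m ι φ ω x
  map_add' u v := by
    apply Lm_injective m ι ω (φ ω) hω3
    rw [Lm_add, Lm_jFun hφφ hfix hω3, Lm_jFun hφφ hfix hω3, Lm_jFun hφφ hfix hω3, Lm_add,
      Matrix.mulVec_add]
  map_smul' c v := by
    apply Lm_injective m ι ω (φ ω) hω3
    rw [RingHom.id_apply, Lm_smul, Lm_jFun hφφ hfix hω3, Lm_jFun hφφ hfix hω3, Lm_smul,
      Matrix.mulVec_smul]

theorem jLin_apply (hφφ : ∀ x, φ (φ x) = x) (hfix : ∀ x, φ x = x ↔ x ∈ ι.range) (hω3 : φ ω ≠ ω)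
    (x : ↥(gT (2 * m + 2) φ)) (v : JJ m → F) : jLin hφφ hfix hω3 x v = jFun m ι φ ω x v := rfl

/-- the monoid hom to matrices -/
noncomputable def jM (hφφ : ∀ x, φ (φ x) = x) (hfix : ∀ x, φ x = x ↔ x ∈ ι.range) (hω3 : φ ω ≠ ω) :
    ↥(gT (2 * m + 2) φ) →* Matrix (JJ m) (JJ m) F where
  toFun x := LinearMap.toMatrix' (jLin hφφ hfix hω3 x)
  map_one' := by
    have : jLin hφφ hfix hω3 (1 : ↥(gT (2 * m + 2) φ)) = LinearMap.id := by
      apply LinearMap.ext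
      intro v
      apply Lm_injective m ι ω (φ ω) hω3
      rw [jLin_apply, Lm_jFun hφφ hfix hω3, Subgroup.coe_one, mt_one, Matrix.one_mulVec]
      rfl
    rw [this, LinearMap.toMatrix'_id]
  map_mul' x y := by
    have : jLin hφφ hfix hω3 (x * y) = (jLin hφφ hfix hω3 x).comp (jLin hφφ hfix hω3 y) := by
      apply LinearMap.ext
      intro v
      apply Lm_injective m ι ω (φ ω) hω3
      rw [LinearMap.comp_apply, jLin_apply, jLin_apply, jLin_apply, Lm_jFun hφφ hfix hω3,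
        Lm_jFun hφφ hfix hω3, Lm_jFun hφφ hfix hω3, Subgroup.coe_mul, mt_mul, Matrix.mulVec_mulVec]
    rw [this, LinearMap.toMatrix'_comp]

theorem jM_mulVec (hφφ : ∀ x, φ (φ x) = x) (hfix : ∀ x, φ x = x ↔ x ∈ ι.range) (hω3 : φ ω ≠ ω)
    (x : ↥(gT (2 * m + 2) φ)) (v : JJ m → F) :
    jM hφφ hfix hω3 x *ᵥ v = jFun m ι φ ω x v := by
  show LinearMap.toMatrix' (jLin hφφ hfix hω3 x) *ᵥ v = _
  rw [LinearMap.toMatrix'_mulVec, jLin_apply]

theorem mem_iso_iff {a b : F} (x : Matrix.GeneralLinearGroup (JJ m) F) :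
    x ∈ Cfsg.isometryGroup F (Cfsg.quadFormMinus m F a b) ↔
      ∀ u, Cfsg.quadFormMinus m F a b ((x : Matrix _ _ F) *ᵥ u) = Cfsg.quadFormMinus m F a b u := by
  constructor
  · intro h u
    exact h u u
  · intro h u v
    exact h u

/-- the hom into the general linear group -/
noncomputable def jGL (hφφ : ∀ x, φ (φ x) = x) (hfix : ∀ x, φ x = x ↔ x ∈ ι.range) (hω3 : φ ω ≠ ω) :
    ↥(gT (2 * m + 2) φ) →* Matrix.GeneralLinearGroup (JJ m) F :=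
  (jM hφφ hfix hω3).toHomUnits

theorem jGL_val (hφφ : ∀ x, φ (φ x) = x) (hfix : ∀ x, φ x = x ↔ x ∈ ι.range) (hω3 : φ ω ≠ ω)
    (x : ↥(gT (2 * m + 2) φ)) :
    ((jGL hφφ hfix hω3 x : Matrix.GeneralLinearGroup (JJ m) F) : Matrix (JJ m) (JJ m) F) =
      jM hφφ hfix hω3 x := rfl

theorem jGL_mem (hφφ : ∀ x, φ (φ x) = x) (hfix : ∀ x, φ x = x ↔ x ∈ ι.range) (hω3 : φ ω ≠ ω)
    {a b : F} (hω1 : ω + φ ω = - ι a) (hω2 : ω * φ ω = ι b) (x : ↥(gT (2 * m + 2) φ)) :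
    jGL hφφ hfix hω3 x ∈ Cfsg.isometryGroup F (Cfsg.quadFormMinus m F a b) := by
  rw [mem_iso_iff]
  intro u
  apply ι.injective
  rw [jGL_val, jM_mulVec, ← qf_Lm m ι ω (φ ω) a b hω1 hω2, ← qf_Lm m ι ω (φ ω) a b hω1 hω2,
    Lm_jFun hφφ hfix hω3]
  exact x.2.1 _

/-- the transport hom -/
noncomputable def jHom (hφφ : ∀ x, φ (φ x) = x) (hfix : ∀ x, φ x = x ↔ x ∈ ι.range) (hω3 : φ ω ≠ ω)
    {a b : F} (hω1 : ω + φ ω = - ι a) (hω2 : ω * φ ω = ι b) :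
    ↥(gT (2 * m + 2) φ) →* Cfsg.isometryGroup F (Cfsg.quadFormMinus m F a b) :=
  (jGL hφφ hfix hω3).codRestrict _ (jGL_mem hφφ hfix hω3 hω1 hω2)

theorem jHom_val (hφφ : ∀ x, φ (φ x) = x) (hfix : ∀ x, φ x = x ↔ x ∈ ι.range) (hω3 : φ ω ≠ ω)
    {a b : F} (hω1 : ω + φ ω = - ι a) (hω2 : ω * φ ω = ι b) (x : ↥(gT (2 * m + 2) φ)) :
    (((jHom hφφ hfix hω3 hω1 hω2 x : Cfsg.isometryGroup F (Cfsg.quadFormMinus m F a b)) :
      Matrix.GeneralLinearGroup (JJ m) F) : Matrix (JJ m) (JJ m) F) = jM hφφ hfix hω3 x := rfl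

theorem mulVec_ext {R : Type*} [CommRing R] {n : Type*} [Fintype n] [DecidableEq n]
    {A B : Matrix n n R} (h : ∀ w, A *ᵥ w = B *ᵥ w) : A = B := by
  apply Matrix.toLin'.injective
  apply LinearMap.ext
  intro w
  rw [Matrix.toLin'_apply, Matrix.toLin'_apply]
  exact h w

theorem jHom_injective (hφφ : ∀ x, φ (φ x) = x) (hfix : ∀ x, φ x = x ↔ x ∈ ι.range) (hω3 : φ ω ≠ ω)
    {a b : F} (hω1 : ω + φ ω = - ι a) (hω2 : ω * φ ω = ι b) :
    Function.Injective (jHom (m := m) hφφ hfix hω3 hω1 hω2) := by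
  intro x y h
  apply Subtype.ext
  apply mt_injective
  apply mulVec_ext
  have hv : ∀ v : JJ m → F, mt (x : WSU (2 * m + 2) (RingHom.id K)) *ᵥ Lm m ι ω (φ ω) v =
      mt (y : WSU (2 * m + 2) (RingHom.id K)) *ᵥ Lm m ι ω (φ ω) v := by
    intro v
    rw [← Lm_jFun hφφ hfix hω3, ← Lm_jFun hφφ hfix hω3, ← jM_mulVec hφφ hfix hω3,
      ← jM_mulVec hφφ hfix hω3, ← jHom_val hφφ hfix hω3 hω1 hω2, ← jHom_val hφφ hfix hω3 hω1 hω2, h]
  intro w
  obtain ⟨v₁, v₂, rfl⟩ := exists_decomp hφφ hfix hω3 w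
  rw [Matrix.mulVec_add, Matrix.mulVec_add, Matrix.mulVec_smul, Matrix.mulVec_smul, hv, hv]

end Hom


section Surj

variable {F K : Type*} [Field F] [Field K] {m : ℕ} {ι : F →+* K} {φ : K →+* K} {ω : K}

/-- the `K`-linear version of `Lm` -/
noncomputable def Lam (m : ℕ) (ω ω' : K) : (JJ m → K) →ₗ[K] (Fin (2 * m + 2) → K) where
  toFun u := Lm m (RingHom.id K) ω ω' u
  map_add' u v := Lm_add m (RingHom.id K) ω ω' u v
  map_smul' c u := Lm_smul m (RingHom.id K) ω ω' c u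

theorem Lam_comp (ω ω' : K) (v : JJ m → F) : Lam m ω ω' (ι ∘ v) = Lm m ι ω ω' v := rfl

theorem Lam_injective {ω ω' : K} (h : ω' ≠ ω) : Function.Injective (Lam m ω ω') :=
  Lm_injective m (RingHom.id K) ω ω' h

theorem finrank_eq : Module.finrank K (JJ m → K) = Module.finrank K (Fin (2 * m + 2) → K) := by
  rw [Module.finrank_fintype_fun_eq_card, Module.finrank_fintype_fun_eq_card]
  simp only [Fintype.card_sum, Fintype.card_fin]
  omega

/-- `Lam` as a linear equivalence -/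
noncomputable def LamE (m : ℕ) {ω ω' : K} (h : ω' ≠ ω) :
    (JJ m → K) ≃ₗ[K] (Fin (2 * m + 2) → K) :=
  LinearMap.linearEquivOfInjective (Lam m ω ω') (Lam_injective h) finrank_eq

theorem LamE_apply {ω ω' : K} (h : ω' ≠ ω) (u : JJ m → K) : LamE m h u = Lam m ω ω' u := rfl

/-- the transported matrix -/
noncomputable def Xmat (m : ℕ) (ι : F →+* K) {ω ω' : K} (h : ω' ≠ ω)
    (G : Matrix (JJ m) (JJ m) F) : Matrix (Fin (2 * m + 2)) (Fin (2 * m + 2)) K :=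
  LinearMap.toMatrix' (((LamE m h : (JJ m → K) →ₗ[K] (Fin (2 * m + 2) → K)).comp
    (Matrix.toLin' (G.map ι))).comp ((LamE m h).symm : (Fin (2 * m + 2) → K) →ₗ[K] (JJ m → K)))

theorem det_Xmat {ω ω' : K} (h : ω' ≠ ω) (G : Matrix (JJ m) (JJ m) F) :
    (Xmat m ι h G).det = ι G.det := by
  unfold Xmat
  rw [LinearMap.det_toMatrix', LinearMap.comp_assoc, LinearMap.det_conj, LinearMap.det_toLin',
    RingHom.map_det]
  rfl

theorem Xmat_mulVec {ω ω' : K} (h : ω' ≠ ω) (G : Matrix (JJ m) (JJ m) F) (v : JJ m → F) :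
    Xmat m ι h G *ᵥ Lm m ι ω ω' v = Lm m ι ω ω' (G *ᵥ v) := by
  unfold Xmat
  rw [LinearMap.toMatrix'_mulVec, LinearMap.comp_apply, LinearMap.comp_apply, ← Lam_comp,
    ← LamE_apply h, LinearEquiv.coe_coe, LinearEquiv.coe_coe, LinearEquiv.symm_apply_apply,
    Matrix.toLin'_apply, LamE_apply, ← Lam_comp]
  congr 1
  funext i
  exact (RingHom.map_mulVec ι G v i).symm

theorem qf_Xmat (hφφ : ∀ x, φ (φ x) = x) (hfix : ∀ x, φ x = x ↔ x ∈ ι.range) (hω3 : φ ω ≠ ω)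
    {a b : F} (hω1 : ω + φ ω = - ι a) (hω2 : ω * φ ω = ι b) (G : Matrix (JJ m) (JJ m) F)
    (hG : ∀ u, Cfsg.quadFormMinus m F a b (G *ᵥ u) = Cfsg.quadFormMinus m F a b u)
    (w : Fin (2 * m + 2) → K) : qf (Xmat m ι hω3 G *ᵥ w) = qf w := by
  have hn : (2 * m + 2) % 2 = 0 := by omega
  obtain ⟨v₁, v₂, rfl⟩ := exists_decomp hφφ hfix hω3 w
  have hq : ∀ v : JJ m → F, qf (Lm m ι ω (φ ω) (G *ᵥ v)) = qf (Lm m ι ω (φ ω) v) := by
    intro v
    rw [qf_Lm m ι ω (φ ω) a b hω1 hω2, qf_Lm m ι ω (φ ω) a b hω1 hω2, hG]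
  have hb : bl (Lm m ι ω (φ ω) (G *ᵥ v₁)) (Lm m ι ω (φ ω) (G *ᵥ v₂)) =
      bl (Lm m ι ω (φ ω) v₁) (Lm m ι ω (φ ω) v₂) := by
    have h1 := qf_add hn (Lm m ι ω (φ ω) (G *ᵥ v₁)) (Lm m ι ω (φ ω) (G *ᵥ v₂))
    have h2 := qf_add hn (Lm m ι ω (φ ω) v₁) (Lm m ι ω (φ ω) v₂)
    rw [← Lm_add, ← Matrix.mulVec_add, hq, hq, hq] at h1
    rw [← Lm_add] at h2
    have := h1.symm.trans h2
    exact add_left_cancel this
  rw [Matrix.mulVec_add, Matrix.mulVec_smul, Xmat_mulVec, Xmat_mulVec, qf_add hn, qf_add hn,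
    qf_smul, qf_smul, bl_smul_right, bl_smul_right, hq, hq, hb]

theorem sig_Xmat (hφφ : ∀ x, φ (φ x) = x) (hfix : ∀ x, φ x = x ↔ x ∈ ι.range) (hω3 : φ ω ≠ ω)
    (G : Matrix (JJ m) (JJ m) F) : sig φ (Xmat m ι hω3 G) = Xmat m ι hω3 G := by
  apply mulVec_ext
  have hv : ∀ v : JJ m → F, sig φ (Xmat m ι hω3 G) *ᵥ Lm m ι ω (φ ω) v =
      Xmat m ι hω3 G *ᵥ Lm m ι ω (φ ω) v := by
    intro v
    have h1 : TwFix m φ (Xmat m ι hω3 G *ᵥ Lm m ι ω (φ ω) v) := by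
      rw [Xmat_mulVec]
      exact twFix_Lm hφφ hfix _
    have h2 : TwFix m φ (Lm m ι ω (φ ω) v) := twFix_Lm hφφ hfix v
    funext c
    rw [← h1 c]
    simp only [Matrix.mulVec, dotProduct]
    rw [map_sum, ← Equiv.sum_comp (tauP (2 * m + 2))
      (fun b => φ (Xmat m ι hω3 G (tauP (2 * m + 2) c) b * Lm m ι ω (φ ω) v b))]
    apply Finset.sum_congr rfl
    intro b _
    rw [map_mul, h2 b, sig_apply]
  intro w
  obtain ⟨v₁, v₂, rfl⟩ := exists_decomp hφφ hfix hω3 w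
  rw [Matrix.mulVec_add, Matrix.mulVec_add, Matrix.mulVec_smul, Matrix.mulVec_smul, hv, hv]

theorem mem_range_of (hφφ : ∀ x, φ (φ x) = x) (hfix : ∀ x, φ x = x ↔ x ∈ ι.range) (hω3 : φ ω ≠ ω)
    {a b : F} (hω1 : ω + φ ω = - ι a) (hω2 : ω * φ ω = ι b)
    (g : Cfsg.isometryGroup F (Cfsg.quadFormMinus m F a b))
    (hd : ((g : Matrix.GeneralLinearGroup (JJ m) F) : Matrix (JJ m) (JJ m) F).det = 1) :
    g ∈ (jHom (m := m) hφφ hfix hω3 hω1 hω2).range := by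
  have hn : (2 * m + 2) % 2 = 0 := by omega
  set G : Matrix (JJ m) (JJ m) F := g.1.1 with hGdef
  have hG := (mem_iso_iff g.1).1 g.2
  have hdet : (Xmat m ι hω3 G).det = 1 := by rw [det_Xmat, hd, map_one]
  have hQ := qf_Xmat hφφ hfix hω3 hω1 hω2 G hG
  set x₀ := mkSoq hn (Xmat m ι hω3 G) hdet hQ with hx₀
  have hx₀s : x₀ ∈ soq (2 * m + 2) K := mkSoq_mem hn _ hdet hQ
  have hx₀t : x₀ ∈ twG (2 * m + 2) φ := by
    rw [mem_twG_iff hn]
    show sig φ (Xmat m ι hω3 G) = Xmat m ι hω3 G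
    exact sig_Xmat hφφ hfix hω3 G
  refine ⟨⟨x₀, hx₀s, hx₀t⟩, ?_⟩
  apply Subtype.ext
  apply Units.ext
  rw [jHom_val]
  apply mulVec_ext
  intro v
  rw [jM_mulVec]
  apply Lm_injective m ι ω (φ ω) hω3
  rw [Lm_jFun hφφ hfix hω3]
  show Xmat m ι hω3 G *ᵥ Lm m ι ω (φ ω) v = _
  rw [Xmat_mulVec]

end Surj

end Cfsg.Agent.Helper26.StTr

namespace Cfsg.Agent.Helper13.StP

open Matrix Cfsg.Agent.Helper13.SuBN Cfsg.Agent.Helper13.SdBN Cfsg.Agent.Helper13.StBN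
  Cfsg.Agent.Helper26.StTr

/-! PIECE TRANSPORTM -/
theorem exists_hom_minus {F K : Type*} [Field F] [Fintype F] [Field K] (m : ℕ) (a b : F)
    (ι : F →+* K) (φ : K →+* K) (ω : K) (hφφ : ∀ x, φ (φ x) = x) (hfix : ∀ x, φ x = x ↔ x ∈ ι.range)
    (hω1 : ω + φ ω = - ι a) (hω2 : ω * φ ω = ι b) (hω3 : φ ω ≠ ω) :
    ∃ j : ↥(gT (2 * m + 2) φ) →* Cfsg.isometryGroup F (Cfsg.quadFormMinus m F a b),
      Function.Injective j ∧
      (∀ (x : ↥(gT (2 * m + 2) φ)) (v : (Fin m ⊕ Fin m) ⊕ Fin 2 → F),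
        Lm m ι ω (φ ω) ((((j x : Cfsg.isometryGroup F (Cfsg.quadFormMinus m F a b)) :
          GL ((Fin m ⊕ Fin m) ⊕ Fin 2) F) : Matrix ((Fin m ⊕ Fin m) ⊕ Fin 2) ((Fin m ⊕ Fin m) ⊕ Fin 2) F) *ᵥ v) =
        mt (x : WSU (2 * m + 2) (RingHom.id K)) *ᵥ Lm m ι ω (φ ω) v) ∧
      ∀ g : Cfsg.isometryGroup F (Cfsg.quadFormMinus m F a b),
        ((g : GL ((Fin m ⊕ Fin m) ⊕ Fin 2) F) :
          Matrix ((Fin m ⊕ Fin m) ⊕ Fin 2) ((Fin m ⊕ Fin m) ⊕ Fin 2) F).det = 1 → g ∈ j.range := by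
  refine ⟨jHom hφφ hfix hω3 hω1 hω2, jHom_injective hφφ hfix hω3 hω1 hω2, ?_, ?_⟩
  · intro x v
    rw [jHom_val, jM_mulVec, Lm_jFun hφφ hfix hω3]
  · intro g hg
    exact mem_range_of hφφ hfix hω3 hω1 hω2 g hg

end Cfsg.Agent.Helper13.StP
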