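import Mathlib

/-!
# S2916 (helper26): definitions for `G = O²(G)`, `C(t) ≅ GL(2,3)` ⟹ `G ≅ L₃(3)` or `M₁₁`.

See plans/S2916_proof.md and plans/S2916_Skel.lean.txt.
-/

set_option autoImplicit false

namespace Cfsg.Agent.Helper26.L33

universe u

/-- the projective plane of order `3` on `Fin 13`: the translates of the perfect difference set `{0, 1, 3, 9}` -/
def L0 : Set (Finset (Fin 13)) := {b | ∃ i : Fin 13, b = {i, i + 1, i + 3, i + 9}}

/-- further isomorphism-invariant facts about `H = GL(2,3)` -/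
structure HFacts (H : Type u) [Group H] : Prop where
  /-- a normal subgroup of index 2 (`SL(2,3)`) -/
  index_two : ∃ M : Subgroup H, M.Normal ∧ M.index = 2
  /-- `O(H) = 1` -/
  odd_normal : ∀ M : Subgroup H, M.Normal → Odd (Nat.card M) → M = ⊥
  /-- `H` is generated by its involutions -/
  gen_invol : Subgroup.closure {x : H | orderOf x = 2} = ⊤
  /-- one class of elements of order 3, with centralizer of order 6, inverted by an involution -/
  three : ∃ u : H, orderOf u = 3 ∧ (∀ x : H, orderOf x = 3 → IsConj u x) ∧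
    Nat.card (Subgroup.centralizer ({u} : Set H)) = 6 ∧ ∃ s : H, orderOf s = 2 ∧ s * u * s⁻¹ = u⁻¹

section

variable (G : Type u) [Group G]

/-- the configuration in a simple group of order `5616`: an involution `t` (one class, `|C(t)| = 48`), `u ∈ C(t)` of
order 3 with `|C(t) ∩ C(u)| = 6`, all elements of order 3 of `C(t)` conjugate to `u` inside `C(t)`, and an involution
`s ∈ C(t)` inverting `u`. -/
structure Cfg (t u s : G) : Prop where
  card : Nat.card G = 5616
  ot : orderOf t = 2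
  ou : orderOf u = 3
  os : orderOf s = 2
  tu : t * u = u * t
  ts : t * s = s * t
  su : s * u * s⁻¹ = u⁻¹
  cardC : Nat.card (Subgroup.centralizer ({t} : Set G)) = 48
  cardCu : Nat.card ↥(Subgroup.centralizer ({t} : Set G) ⊓ Subgroup.centralizer ({u} : Set G)) = 6
  one_class : ∀ x : G, orderOf x = 2 → IsConj t x
  three : ∀ x : G, orderOf x = 3 → t * x = x * t → ∃ c : G, c * t = t * c ∧ c * u * c⁻¹ = x

/-- `Cfg` together with the normal 2-complement `K` of `C(u)` (a 3-group) -/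
structure Cfg1 (t u s : G) (K : Subgroup G) : Prop extends Cfg G t u s where
  K_le : K ≤ Subgroup.centralizer ({u} : Set G)
  cardK : ∃ j : ℕ, Nat.card K = 3 ^ j
  cardCentU : Nat.card (Subgroup.centralizer ({u} : Set G)) = 2 * Nat.card K
  uK : u ∈ K
  normK : ∀ r ∈ Subgroup.centralizer ({u} : Set G), ∀ x ∈ K, r * x * r⁻¹ ∈ K
  sK : ∀ x ∈ K, s * x * s⁻¹ ∈ K
  fixt : ∀ x ∈ K, t * x = x * t → x ∈ Subgroup.zpowers u

/-- `Cfg` together with `P = O₃(C(u))` of order 27 (a Sylow 3-subgroup of `G`) -/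
structure Cfg2 (t u s : G) (P : Subgroup G) : Prop extends Cfg1 G t u s P where
  cardP : Nat.card P = 27

/-- `Cfg2` together with `a ∈ C_P(s)`, `b ∈ C_P(ts)` outside `⟨u⟩` -/
structure Cfg3 (t u s : G) (P : Subgroup G) (a b : G) : Prop extends Cfg2 G t u s P where
  aP : a ∈ P
  bP : b ∈ P
  au : a ∉ Subgroup.zpowers u
  bu : b ∉ Subgroup.zpowers u
  oa : orderOf a = 3
  ob : orderOf b = 3
  sa : s * a * s⁻¹ = a
  sb : s * b * s⁻¹ = b⁻¹
  ta : t * a * t⁻¹ = a⁻¹
  tb : t * b * t⁻¹ = b⁻¹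

/-- the common hypotheses on `a' ∈ {a, b}` used for `E = ⟨u, a'⟩` -/
structure Good (t u s : G) (P : Subgroup G) (a' : G) : Prop where
  mem : a' ∈ P
  nmem : a' ∉ Subgroup.zpowers u
  ord : orderOf a' = 3
  inv_t : t * a' * t⁻¹ = a'⁻¹
  s_act : s * a' * s⁻¹ = a' ∨ s * a' * s⁻¹ = a'⁻¹

end

end Cfsg.Agent.Helper26.L33
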