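import Mathlib
import Cfsg.Agent.Lib.Lead.M11T5

/-!
# S3805, counting cores for the class multiplication constants

`card_pairs_eq`: if the only pair of conjugates `(x', y')` of `(x, y)` with `x' y' = z` is `(x₀, y₀)`, then the number
of conjugating pairs `(c₁, c₂)` is `|C(x)| |C(y)|`.  `card_pairs_zero`: if there is no such pair, the number is `0`.
-/

set_option autoImplicit false
set_option linter.unusedSectionVars false

namespace Cfsg.Agent.Helper8.S3805

universe u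

namespace CC

variable {G : Type u} [Group G] [Finite G]

theorem card_pairs_eq (x y z x₀ y₀ : G) (hx₀ : ∃ c : G, c * x * c⁻¹ = x₀)
    (hy₀ : ∃ c : G, c * y * c⁻¹ = y₀)
    (h : ∀ c : G × G, (c.1 * x * c.1⁻¹) * (c.2 * y * c.2⁻¹) = z ↔
      (c.1 * x * c.1⁻¹ = x₀ ∧ c.2 * y * c.2⁻¹ = y₀)) :
    Nat.card {c : G × G // (c.1 * x * c.1⁻¹) * (c.2 * y * c.2⁻¹) = z} =
      Nat.card (Subgroup.centralizer ({x} : Set G)) *
        Nat.card (Subgroup.centralizer ({y} : Set G)) := by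
  rw [← Cfsg.Agent.Helper17.M11.T5.card_fib x x₀ hx₀, ← Cfsg.Agent.Helper17.M11.T5.card_fib y y₀ hy₀,
    ← Nat.card_prod]
  refine Nat.card_congr
    { toFun := fun c => (⟨c.1.1, ((h c.1).mp c.2).1⟩, ⟨c.1.2, ((h c.1).mp c.2).2⟩)
      invFun := fun d => ⟨(d.1.1, d.2.1), (h (d.1.1, d.2.1)).mpr ⟨d.1.2, d.2.2⟩⟩
      left_inv := fun c => by rfl
      right_inv := fun d => by rfl }

theorem card_pairs_zero (x y z : G)
    (h : ∀ c : G × G, (c.1 * x * c.1⁻¹) * (c.2 * y * c.2⁻¹) ≠ z) :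
    Nat.card {c : G × G // (c.1 * x * c.1⁻¹) * (c.2 * y * c.2⁻¹) = z} = 0 := by
  have : IsEmpty {c : G × G // (c.1 * x * c.1⁻¹) * (c.2 * y * c.2⁻¹) = z} :=
    ⟨fun c => h c.1 c.2⟩
  exact Nat.card_of_isEmpty

end CC

end Cfsg.Agent.Helper8.S3805
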