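import Mathlib
import Cfsg.Agent.Lib.Helper26.MHDefs
import Cfsg.Agent.Lib.Helper19.BW4

/-!
# S4221 pieces BW + BWCOR: the Brauer–Wielandt corollaries in the `cen` notation (helper26)

Thin wrappers of helper19's `Cfsg.Agent.Helper19.BW4` (`bw_gen`, `bw_ratio`).
-/

set_option autoImplicit false

namespace Cfsg.Agent.Helper26.MH

open MulAction

section BW

variable {Γ : Type*} [Group Γ] [Finite Γ]

namespace BWaux

theorem norm_forall {K : Subgroup Γ} {t : Γ} (h : t ∈ Subgroup.normalizer (K : Set Γ)) :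
    ∀ k ∈ K, t * k * t⁻¹ ∈ K := by
  intro k hk
  exact (Subgroup.mem_normalizer_iff.mp h k).mp hk

theorem mul_self_mul {a c : Γ} (ha : a * a = 1) : a * (a * c) = c := by
  rw [← mul_assoc, ha, one_mul]

end BWaux

/-- GEN: `K` is generated by the three centralizers. -/
theorem bw_gen (K : Subgroup Γ) (hK : Odd (Nat.card K)) (a c : Γ) (ha : IsInv a) (hc : IsInv c)
    (hac : a * c = c * a) (hne : a ≠ c)
    (hKa : a ∈ Subgroup.normalizer (K : Set Γ)) (hKc : c ∈ Subgroup.normalizer (K : Set Γ)) :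
    cen K a ⊔ cen K (a * c) ⊔ cen K c = K := by
  have h := Cfsg.Agent.Helper19.BW4.bw_gen K a c ha.1 hc.1 hac (BWaux.norm_forall hKa)
    (BWaux.norm_forall hKc) hK
  unfold cen
  calc K ⊓ Subgroup.centralizer {a} ⊔ K ⊓ Subgroup.centralizer {a * c} ⊔ K ⊓ Subgroup.centralizer {c}
      = K ⊓ Subgroup.centralizer {a} ⊔ K ⊓ Subgroup.centralizer {c} ⊔
          K ⊓ Subgroup.centralizer {a * c} := by
        rw [sup_assoc, sup_assoc, sup_comm (K ⊓ Subgroup.centralizer {a * c})]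
    _ = K := h

/-- RATIO: if `K₁ ≤ K` is `V`-invariant and contains `C_K(a)`, `C_K(ac)` then `|K : K₁| = |C_K(c) : C_{K₁}(c)|`. -/
theorem bw_ratio (K K₁ : Subgroup Γ) (hK : Odd (Nat.card K)) (hle : K₁ ≤ K) (a c : Γ) (ha : IsInv a)
    (hc : IsInv c) (hac : a * c = c * a) (hne : a ≠ c)
    (hKa : a ∈ Subgroup.normalizer (K : Set Γ)) (hKc : c ∈ Subgroup.normalizer (K : Set Γ))
    (hK₁a : a ∈ Subgroup.normalizer (K₁ : Set Γ)) (hK₁c : c ∈ Subgroup.normalizer (K₁ : Set Γ))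
    (h1 : cen K a ≤ K₁) (h2 : cen K (a * c) ≤ K₁) :
    Nat.card K * Nat.card (cen K₁ c) = Nat.card K₁ * Nat.card (cen K c) := by
  have hb : (a * c) * (a * c) = 1 := by
    rw [show a * c * (a * c) = a * (c * a) * c by group, ← hac,
      show a * (a * c) * c = (a * a) * (c * c) by group, ha.1, hc.1, one_mul]
  have hab : a * (a * c) = (a * c) * a := by
    rw [BWaux.mul_self_mul ha.1, hac, mul_assoc, ha.1, mul_one]
  have hKb : ∀ k ∈ K, (a * c) * k * (a * c)⁻¹ ∈ K := by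
    intro k hk
    have h1 := BWaux.norm_forall hKc k hk
    have h2 := BWaux.norm_forall hKa _ h1
    rw [show (a * c) * k * (a * c)⁻¹ = a * (c * k * c⁻¹) * a⁻¹ by group]
    exact h2
  have hK₁b : ∀ k ∈ K₁, (a * c) * k * (a * c)⁻¹ ∈ K₁ := by
    intro k hk
    have h1 := BWaux.norm_forall hK₁c k hk
    have h2 := BWaux.norm_forall hK₁a _ h1
    rw [show (a * c) * k * (a * c)⁻¹ = a * (c * k * c⁻¹) * a⁻¹ by group]
    exact h2
  have h := Cfsg.Agent.Helper19.BW4.bw_ratio K a (a * c) ha.1 hb hab (BWaux.norm_forall hKa) hKb hK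
    K₁ hle (BWaux.norm_forall hK₁a) hK₁b h1 h2
  rw [BWaux.mul_self_mul ha.1] at h
  exact h

end BW

end Cfsg.Agent.Helper26.MH
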