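import Mathlib
import Cfsg.Agent.Lib.Helper15.S74Defs

/-!
# S2474 piece S74-NXBFORM (helper26)

`N = u - 1`, `N^j ≠ 0 = N^(j+1)`, `M = range (N^j)`: `M` is `y`-invariant, nonzero,
`2 dim M ≤ dim W`, and `M` carries a left-nondegenerate `y`-invariant form.
-/

set_option autoImplicit false

namespace Cfsg.Agent.Helper15.S74

universe u

variable {F : Type u} [Field F]

/-- adjoint of `u - 1` is `v - 1`, `v` the inverse of the isometry `u`; iterated. -/
theorem s74_nxbform_adj {W : Type u} [AddCommGroup W] [Module F W]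
    (B : LinearMap.BilinForm F W) (u v : Module.End F W) (hu : Isom B u) (huv : u * v = 1)
    (j : ℕ) : ∀ a b : W, B (((u - 1) ^ j) a) b = B a (((v - 1) ^ j) b) := by
  have h1 : ∀ a b : W, B ((u - 1) a) b = B a ((v - 1) b) := by
    intro a b
    have huvb : u (v b) = b := by
      have := congrArg (fun f : Module.End F W => f b) huv
      simpa using this
    have : B (u a) b = B a (v b) := by
      have h := hu a (v b)
      rw [huvb] at h
      exact h
    simp only [LinearMap.sub_apply, Module.End.one_apply, map_sub, LinearMap.sub_apply]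
    rw [this]
  induction j with
  | zero => intro a b; simp
  | succ j ih =>
    intro a b
    rw [pow_succ, Module.End.mul_apply, ih, h1, pow_succ', Module.End.mul_apply]

/-- key fact: `B (N^j a) b = 0` when `N^j b = 0`. -/
theorem s74_nxbform_key {W : Type u} [AddCommGroup W] [Module F W]
    (B : LinearMap.BilinForm F W) (u : Module.End F W) (hu : Isom B u) (k : ℕ) (hk : 0 < k)
    (huk : u ^ k = 1) (j : ℕ) (a b : W) (hb : ((u - 1) ^ j) b = 0) :
    B (((u - 1) ^ j) a) b = 0 := by
  set v : Module.End F W := u ^ (k - 1) with hv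
  have huv : u * v = 1 := by
    rw [hv, ← pow_succ', Nat.sub_add_cancel hk, huk]
  have hvu : v * u = 1 := by
    rw [hv, ← pow_succ, Nat.sub_add_cancel hk, huk]
  have hcomm : Commute (-v) (u - 1) := by
    have h1 : Commute v u := by rw [hv]; exact (Commute.refl u).pow_left _
    exact ((h1.sub_right (Commute.one_right v))).neg_left
  have hv1 : v - 1 = (-v) * (u - 1) := by
    rw [neg_mul, mul_sub, hvu, mul_one]; abel
  rw [s74_nxbform_adj B u v hu huv j a b, hv1, hcomm.mul_pow, Module.End.mul_apply, hb, map_zero,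
    map_zero]

theorem nxB_form {W : Type u} [AddCommGroup W] [Module F W] [FiniteDimensional F W]
    (B : LinearMap.BilinForm F W) (hnd : LND B) (y u : Module.End F W) (hy : Isom B y)
    (hu : Isom B u) (hcomm : Commute y u) (k : ℕ) (hk : 0 < k) (huk : u ^ k = 1) (j : ℕ)
    (hj : 1 ≤ j) (hNj : (u - 1) ^ j ≠ 0) (hNj1 : (u - 1) ^ (j + 1) = 0) :
    ∃ (hM : Invar y (LinearMap.range ((u - 1) ^ j)))
      (β : LinearMap.BilinForm F (LinearMap.range ((u - 1) ^ j))),
      LND β ∧ Isom β (y.restrict hM) ∧ LinearMap.range ((u - 1) ^ j) ≠ ⊥ ∧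
      2 * Module.finrank F (LinearMap.range ((u - 1) ^ j)) ≤ Module.finrank F W := by
  set Nj : Module.End F W := (u - 1) ^ j with hNjdef
  have hyN : Commute y Nj := by
    rw [hNjdef]
    exact ((hcomm.sub_right (Commute.one_right y))).pow_right j
  have hyNa : ∀ a : W, y (Nj a) = Nj (y a) := by
    intro a
    have := congrArg (fun f : Module.End F W => f a) hyN.eq
    simpa [Module.End.mul_apply] using this
  have hM : Invar y (LinearMap.range Nj) := by
    rintro _ ⟨a, rfl⟩
    exact ⟨y a, (hyNa a).symm⟩
  -- `Nj * Nj = 0`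
  have hsq : ∀ a : W, Nj (Nj a) = 0 := by
    intro a
    have h2 : Nj * Nj = 0 := by
      rw [hNjdef, ← pow_add]
      have : j + j = (j + 1) + (j - 1) := by omega
      rw [this, pow_add, hNj1, zero_mul]
    have := congrArg (fun f : Module.End F W => f a) h2
    simpa [Module.End.mul_apply] using this
  -- a section of `Nj`
  obtain ⟨s, hs⟩ := LinearMap.exists_rightInverse_of_surjective Nj.rangeRestrict
    (LinearMap.range_rangeRestrict Nj)
  have hs' : ∀ m : LinearMap.range Nj, Nj (s m) = (m : W) := by
    intro m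
    have := congrArg (fun f => ((f m : LinearMap.range Nj) : W)) hs
    simpa using this
  have key : ∀ a b : W, Nj b = 0 → B (Nj a) b = 0 := fun a b hb =>
    s74_nxbform_key B u hu k hk huk j a b hb
  have keyM : ∀ (m : LinearMap.range Nj) (b : W), Nj b = 0 → B (m : W) b = 0 := by
    rintro ⟨_, a, rfl⟩ b hb
    exact key a b hb
  refine ⟨hM, B.compl₁₂ (LinearMap.range Nj).subtype s, ?_, ?_, ?_, ?_⟩
  · -- LND
    intro m hm
    have hm0 : (m : W) = 0 := by
      apply hnd
      intro w
      have h1 : Nj (w - s (Nj.rangeRestrict w)) = 0 := by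
        rw [map_sub, hs']; simp
      have h2 := keyM m _ h1
      have h3 := hm (Nj.rangeRestrict w)
      simp only [LinearMap.compl₁₂_apply, Submodule.subtype_apply] at h3
      rw [map_sub, h3, sub_zero] at h2
      exact h2
    exact Subtype.ext hm0
  · -- Isom
    intro m₁ m₂
    simp only [LinearMap.compl₁₂_apply, Submodule.subtype_apply, LinearMap.coe_restrict_apply]
    have h1 : Nj (s ((y.restrict hM) m₂) - y (s m₂)) = 0 := by
      rw [map_sub, hs', ← hyNa, hs']; simp
    have hym₁ : y (m₁ : W) ∈ LinearMap.range Nj := hM _ m₁.2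
    have h2 := keyM ⟨y (m₁ : W), hym₁⟩ _ h1
    simp only [map_sub] at h2
    rw [sub_eq_zero] at h2
    rw [h2, hy]
  · -- nonzero
    intro h
    apply hNj
    rw [LinearMap.range_eq_bot] at h
    exact h
  · -- dimension
    have hle : LinearMap.range Nj ≤ LinearMap.ker Nj := by
      rintro _ ⟨a, rfl⟩
      exact hsq a
    have h1 := LinearMap.finrank_range_add_finrank_ker Nj
    have h2 := Submodule.finrank_mono hle
    omega

end Cfsg.Agent.Helper15.S74
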