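import Mathlib
import Cfsg.Agent.Lib.Helper15.S74Defs

/-!
# S2474 piece S74-SPLITCOUNT (helper26)

Level sets of `B w w` on a `2n`-space with a Lagrangian `M = M^⊥`.
-/

set_option autoImplicit false

namespace Cfsg.Agent.Helper15.S74

universe u

variable {F : Type u} [Field F]

/-- fibres of a nonzero functional on an `n`-dimensional space over a finite field. -/
theorem s74_splitcount_fibre [Fintype F] {M : Type u} [AddCommGroup M] [Module F M]
    [FiniteDimensional F M] (n : ℕ) (hdim : Module.finrank F M = n) (f : M →ₗ[F] F)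
    (hf : f ≠ 0) (c : F) :
    Nat.card {a : M // f a = c} = Fintype.card F ^ (n - 1) := by
  classical
  have hsurj : Function.Surjective f := by
    obtain ⟨x, hx⟩ : ∃ x, f x ≠ 0 := by
      by_contra h
      exact hf (LinearMap.ext fun x => by_contra fun hx => h ⟨x, hx⟩)
    intro d
    refine ⟨(d / f x) • x, ?_⟩
    rw [map_smul, smul_eq_mul, div_mul_cancel₀ _ hx]
  obtain ⟨a₀, ha₀⟩ := hsurj c
  have e : {a : M // f a = c} ≃ LinearMap.ker f :=
    { toFun := fun a => ⟨a.1 - a₀, by rw [LinearMap.mem_ker, map_sub, a.2, ha₀, sub_self]⟩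
      invFun := fun k => ⟨k.1 + a₀, by
        have := k.2
        rw [LinearMap.mem_ker] at this
        rw [map_add, this, ha₀, zero_add]⟩
      left_inv := fun a => by ext; simp
      right_inv := fun k => by ext; simp }
  rw [Nat.card_congr e, Module.natCard_eq_pow_finrank (K := F), Nat.card_eq_fintype_card]
  congr 1
  have h1 := LinearMap.finrank_range_add_finrank_ker f
  have h2 : Module.finrank F (LinearMap.range f) = 1 := by
    rw [LinearMap.range_eq_top.2 hsurj, finrank_top, Module.finrank_self]
  omega

/-- the count for every value `c`. -/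
theorem s74_splitcount_all [Fintype F] [DecidableEq F] {W : Type u} [AddCommGroup W] [Module F W]
    [FiniteDimensional F W]
    (h2 : (2 : F) ≠ 0) (B : LinearMap.BilinForm F W) (hsymm : ∀ a b, B a b = B b a)
    (n : ℕ) (hdim : Module.finrank F W = 2 * n) (M : Submodule F W)
    (hMdim : Module.finrank F M = n) (hM : ∀ x, x ∈ M ↔ ∀ a ∈ M, B a x = 0) (c : F) :
    Nat.card {w : W // B w w = c} =
      (if c = 0 then Fintype.card F ^ n else 0) +
        (Fintype.card F ^ n - 1) * Fintype.card F ^ (n - 1) := by
  classical
  have : Finite W := Module.finite_of_finite F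
  let : Fintype W := Fintype.ofFinite W
  obtain ⟨M', hcompl⟩ := Submodule.exists_isCompl M
  have : Finite M := Module.finite_of_finite F
  have : Finite M' := Module.finite_of_finite F
  let : Fintype M := Fintype.ofFinite M
  let : Fintype M' := Fintype.ofFinite M'
  have hM'dim : Module.finrank F M' = n := by
    have := Submodule.finrank_add_eq_of_isCompl hcompl
    omega
  have hcardM : Fintype.card M = Fintype.card F ^ n := by
    rw [← Nat.card_eq_fintype_card, Module.natCard_eq_pow_finrank (K := F), hMdim,
      Nat.card_eq_fintype_card]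
  have hcardM' : Fintype.card M' = Fintype.card F ^ n := by
    rw [← Nat.card_eq_fintype_card, Module.natCard_eq_pow_finrank (K := F), hM'dim,
      Nat.card_eq_fintype_card]
  set e := Submodule.prodEquivOfIsCompl M M' hcompl with he
  have heap : ∀ p : M × M', e p = (p.1 : W) + (p.2 : W) := fun p =>
    Submodule.coe_prodEquivOfIsCompl' M M' hcompl p
  have hMM : ∀ a a' : M, B (a : W) (a' : W) = 0 := fun a a' => (hM a'.1).1 a'.2 a.1 a.2
  have hval : ∀ (a : M) (b : M'), B ((a : W) + b) ((a : W) + b) = 2 * B (a : W) (b : W) + B (b : W) b := by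
    intro a b
    simp only [map_add, LinearMap.add_apply]
    rw [hMM a a, hsymm (b : W) (a : W)]
    ring
  -- the functional attached to `b`
  let fb : M' → (M →ₗ[F] F) := fun b => (2 : F) • ((B.flip (b : W)).domRestrict M)
  have hfb : ∀ (b : M') (a : M), fb b a = 2 * B (a : W) (b : W) := by
    intro b a
    simp [fb, LinearMap.domRestrict_apply]
  have hfb0 : ∀ b : M', b ≠ 0 → fb b ≠ 0 := by
    intro b hb h
    apply hb
    have hbM : (b : W) ∈ M := by
      rw [hM]
      intro a ha
      have := congrArg (fun g : M →ₗ[F] F => g ⟨a, ha⟩) h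
      simp only [hfb, LinearMap.zero_apply] at this
      exact (mul_eq_zero.1 this).resolve_left h2
    have : (b : W) ∈ M ⊓ M' := ⟨hbM, b.2⟩
    rw [hcompl.inf_eq_bot, Submodule.mem_bot] at this
    exact Subtype.ext this
  -- inner count
  have hinner : ∀ b : M', (∑ a : M, if B (e (a, b)) (e (a, b)) = c then 1 else 0) =
      if b = 0 then (if c = 0 then Fintype.card F ^ n else 0) else Fintype.card F ^ (n - 1) := by
    intro b
    by_cases hb : b = 0
    · subst hb
      simp only [if_true]
      have : ∀ a : M, B (e (a, 0)) (e (a, 0)) = 0 := by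
        intro a
        rw [heap]
        simp [hMM a a]
      simp only [this]
      by_cases hc : c = 0
      · subst hc; simp [hcardM]
      · have : ¬ (0 : F) = c := fun h => hc h.symm
        simp [hc, this]
    · rw [if_neg hb]
      have h1 := s74_splitcount_fibre n hMdim (fb b) (hfb0 b hb) (c - B (b : W) b)
      rw [← h1, Nat.card_eq_fintype_card, Fintype.card_subtype, Finset.card_filter]
      apply Finset.sum_congr rfl
      intro a _
      have : (B (e (a, b)) (e (a, b)) = c) ↔ (fb b a = c - B (b : W) b) := by
        rw [heap, hval, hfb]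
        constructor
        · intro h; rw [← h]; ring
        · intro h; rw [h]; ring
      simp only [this]
  rw [Nat.card_eq_fintype_card, Fintype.card_subtype, Finset.card_filter,
    ← Equiv.sum_comp e.toEquiv, Fintype.sum_prod_type_right]
  simp only [LinearEquiv.coe_toEquiv]
  rw [Finset.sum_congr rfl (fun b _ => hinner b)]
  rw [← Finset.add_sum_erase Finset.univ _ (Finset.mem_univ (0 : M'))]
  simp only [if_true]
  congr 1
  rw [Finset.sum_congr rfl (fun b hb => if_neg (Finset.ne_of_mem_erase hb))]
  rw [Finset.sum_const, Finset.card_erase_of_mem (Finset.mem_univ _), Finset.card_univ, hcardM',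
    smul_eq_mul]

theorem split_count [Fintype F] {W : Type u} [AddCommGroup W] [Module F W] [FiniteDimensional F W]
    (h2 : (2 : F) ≠ 0) (B : LinearMap.BilinForm F W) (hsymm : ∀ a b, B a b = B b a) (hnd : LND B)
    (n : ℕ) (hn : 1 ≤ n) (hdim : Module.finrank F W = 2 * n) (M : Submodule F W)
    (hMdim : Module.finrank F M = n) (hM : ∀ x, x ∈ M ↔ ∀ a ∈ M, B a x = 0) :
    (∀ c : F, c ≠ 0 →
        Nat.card {w : W // B w w = c} = (Fintype.card F ^ n - 1) * Fintype.card F ^ (n - 1)) ∧
      Nat.card {w : W // w ≠ 0 ∧ B w w = 0} =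
        (Fintype.card F ^ n - 1) * (Fintype.card F ^ (n - 1) + 1) := by
  classical
  have hall := fun c => s74_splitcount_all h2 B hsymm n hdim M hMdim hM c
  refine ⟨fun c hc => ?_, ?_⟩
  · rw [hall c, if_neg hc, zero_add]
  · have : Finite W := Module.finite_of_finite F
    let : Fintype W := Fintype.ofFinite W
    have h0 := hall 0
    rw [if_pos rfl, Nat.card_eq_fintype_card, Fintype.card_subtype] at h0
    rw [Nat.card_eq_fintype_card, Fintype.card_subtype]
    have hsub : (Finset.univ.filter fun w : W => w ≠ 0 ∧ B w w = 0) =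
        (Finset.univ.filter fun w : W => B w w = 0).erase 0 := by
      ext w
      simp
    have hmem : (0 : W) ∈ Finset.univ.filter fun w : W => B w w = 0 := by simp
    rw [hsub, Finset.card_erase_of_mem hmem, h0]
    have hq : 1 ≤ Fintype.card F ^ n := Nat.one_le_pow _ _ Fintype.card_pos
    set Q := Fintype.card F ^ n with hQ
    set t := Fintype.card F ^ (n - 1) with ht
    have : Q = (Q - 1) + 1 := by omega
    rw [mul_add, mul_one]
    omega

end Cfsg.Agent.Helper15.S74
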