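import Mathlib

/-!
# A computable field with four elements, and its embedding in any field of order four
-/

set_option autoImplicit false

namespace Cfsg.Agent.Helper26

/-- The field with four elements: `a + b ω` with `ω ^ 2 = ω + 1`, coefficients modulo `2`. -/
structure F4 where
  a : Fin 2
  b : Fin 2
deriving DecidableEq, Fintype

namespace F4

instance instZeroF4 : Zero F4 := ⟨⟨0, 0⟩⟩
instance instOneF4 : One F4 := ⟨⟨1, 0⟩⟩
instance instAddF4 : Add F4 := ⟨fun x y => ⟨x.a + y.a, x.b + y.b⟩⟩
instance instNegF4 : Neg F4 := ⟨fun x => x⟩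
instance instMulF4 : Mul F4 :=
  ⟨fun x y => ⟨x.a * y.a + x.b * y.b, x.a * y.b + x.b * y.a + x.b * y.b⟩⟩
instance instInvF4 : Inv F4 := ⟨fun x => x * x⟩

instance instFieldF4 : Field F4 where
  add := (· + ·)
  zero := 0
  neg := Neg.neg
  mul := (· * ·)
  one := 1
  inv := Inv.inv
  add_assoc := by decide
  zero_add := by decide
  add_zero := by decide
  add_comm := by decide
  neg_add_cancel := by decide
  mul_assoc := by decide
  one_mul := by decide
  mul_one := by decide
  left_distrib := by decide
  right_distrib := by decide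
  mul_comm := by decide
  zero_mul := by decide
  mul_zero := by decide
  exists_pair_ne := ⟨0, 1, by decide⟩
  mul_inv_cancel := by decide
  inv_zero := by decide
  nsmul := nsmulRec
  zsmul := zsmulRec
  nnqsmul := _
  qsmul := _

theorem card_F4 : Fintype.card F4 = 4 := by decide

/-- The chosen primitive cube root of unity. -/
def w : F4 := ⟨0, 1⟩

theorem w_root : w ^ 2 + w + 1 = 0 := by decide

end F4

end Cfsg.Agent.Helper26

namespace Cfsg.Agent.Helper26

namespace F4

variable {F : Type*} [Field F]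

theorem two_eq_zero_of_card [Fintype F] (hF : Fintype.card F = 4) : (2 : F) = 0 := by
  have h4 : ((Fintype.card F : ℕ) : F) = 0 := Nat.cast_card_eq_zero F
  rw [hF] at h4
  have : (2 : F) * 2 = 0 := by
    have e : ((4 : ℕ) : F) = 2 * 2 := by norm_num
    rw [← e]; exact h4
  exact mul_self_eq_zero.mp this

theorem cast_add_val (h2 : (2 : F) = 0) (a b : Fin 2) :
    (((a + b : Fin 2).val : ℕ) : F) = (a.val : F) + (b.val : F) := by
  fin_cases a <;> fin_cases b <;> simp
  · rw [one_add_one_eq_two, h2]

theorem cast_mul_val (a b : Fin 2) :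
    (((a * b : Fin 2).val : ℕ) : F) = (a.val : F) * (b.val : F) := by
  fin_cases a <;> fin_cases b <;> simp

/-- The map `a + b w ↦ a + b ω`. -/
def toF (ω : F) (x : F4) : F := (x.a.val : F) + (x.b.val : F) * ω

theorem toF_add (h2 : (2 : F) = 0) (ω : F) (x y : F4) : toF ω (x + y) = toF ω x + toF ω y := by
  show (((x.a + y.a : Fin 2).val : ℕ) : F) + (((x.b + y.b : Fin 2).val : ℕ) : F) * ω = _
  rw [cast_add_val h2, cast_add_val h2]
  unfold toF
  ring

theorem toF_mul (h2 : (2 : F) = 0) (ω : F) (hω : ω ^ 2 + ω + 1 = 0) (x y : F4) :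
    toF ω (x * y) = toF ω x * toF ω y := by
  show (((x.a * y.a + x.b * y.b : Fin 2).val : ℕ) : F) +
    (((x.a * y.b + x.b * y.a + x.b * y.b : Fin 2).val : ℕ) : F) * ω = _
  simp only [cast_add_val h2, cast_mul_val]
  unfold toF
  linear_combination (-((x.b.val : F) * (y.b.val : F))) * hω +
    ((x.b.val : F) * (y.b.val : F) * (1 + ω)) * h2

/-- The ring homomorphism from `F4` to a field of characteristic two with a root of `x ^ 2 + x + 1`. -/
def toFHom (h2 : (2 : F) = 0) (ω : F) (hω : ω ^ 2 + ω + 1 = 0) : F4 →+* F where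
  toFun := toF ω
  map_one' := by simp [toF, show (1 : F4) = ⟨1, 0⟩ from rfl]
  map_mul' := toF_mul h2 ω hω
  map_zero' := by simp [toF, show (0 : F4) = ⟨0, 0⟩ from rfl]
  map_add' := toF_add h2 ω

/-- The isomorphism from `F4` onto any field of order four. -/
noncomputable def toFEquiv [Fintype F] (hF : Fintype.card F = 4) (ω : F) (hω : ω ^ 2 + ω + 1 = 0) :
    F4 ≃+* F :=
  RingEquiv.ofBijective (toFHom (two_eq_zero_of_card hF) ω hω) (by
    rw [Fintype.bijective_iff_injective_and_card]
    exact ⟨RingHom.injective _, by rw [card_F4, hF]⟩)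

theorem toFEquiv_w [Fintype F] (hF : Fintype.card F = 4) (ω : F) (hω : ω ^ 2 + ω + 1 = 0) :
    toFEquiv hF ω hω w = ω := by
  show toF ω w = ω
  simp [toF, w]

end F4

end Cfsg.Agent.Helper26
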