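import Mathlib
import Cfsg.Agent.Lib.Helper22.W2PDefs
import Cfsg.Agent.Lib.Helper20.W2PINVF
import Cfsg.Agent.Lib.Helper24.CharOrtho
import Cfsg.Agent.Lib.Helper24.CharBasic

/-!
# S0720, PIECE DECA (helper26): eigenvalue multiplicities of a fixed point free element of order `p`
in the permutation module of degree `2p`
-/

set_option autoImplicit false

namespace Cfsg.Agent.Helper22.W2P

open Cfsg Cfsg.Agent.Helper22.PermCent Cfsg.Agent.Helper24

open scoped ComplexConjugate

universe u v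

variable {G : Type u} [Group G] [Fintype G] {Ω : Type v} [Fintype Ω] [DecidableEq Ω]
  [MulAction G Ω]

namespace DECA

omit [Fintype G] [DecidableEq Ω] in
/-- the permutation character is a character -/
theorem isCharacter_theta : IsCharacter G (theta G Ω) := by
  have h : (Cfsg.permRep ℂ G Ω).character = theta G Ω := by
    funext g
    rw [permRep_character]
    rfl
  rw [← h]
  exact isCharacter_of_rep _

omit [Fintype G] [Fintype Ω] [DecidableEq Ω] in
/-- powers of a fixed point free element of prime order are fixed point free -/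
theorem pow_fpf (p : ℕ) [Fact p.Prime] (π : G) (hπ : orderOf π = p)
    (hfix : ∀ x : Ω, π • x ≠ x) (k : ℕ) (hk : ¬ p ∣ k) (x : Ω) : π ^ k • x ≠ x := by
  intro hx
  have hp : p.Prime := Fact.out
  have hcop : Nat.Coprime k p := ((Nat.Prime.coprime_iff_not_dvd hp).2 hk).symm
  obtain ⟨l, -, hl⟩ := Nat.exists_mul_mod_eq_one_of_coprime hcop hp.one_lt
  have hpow : (π ^ k) ^ l = π := by
    rw [← pow_mul, ← pow_mod_orderOf, hπ, hl, pow_one]
  apply hfix x
  have hmem : π ^ k ∈ MulAction.stabilizer G x := MulAction.mem_stabilizer_iff.2 hx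
  have hmem' : (π ^ k) ^ l ∈ MulAction.stabilizer G x := Subgroup.pow_mem _ hmem l
  rw [hpow] at hmem'
  exact MulAction.mem_stabilizer_iff.1 hmem'

omit [Fintype G] [Fintype Ω] [DecidableEq Ω] in
theorem theta_eq_zero (g : G) (h : ∀ x : Ω, g • x ≠ x) : theta G Ω g = 0 := by
  unfold theta
  have : IsEmpty (MulAction.fixedBy Ω g) := by
    rw [Set.isEmpty_coe_sort, Set.eq_empty_iff_forall_notMem]
    intro x hx
    exact h x (MulAction.mem_fixedBy.1 hx)
  rw [Nat.card_of_isEmpty, Nat.cast_zero]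

omit [Fintype G] [DecidableEq Ω] in
theorem theta_one : theta G Ω 1 = (Fintype.card Ω : ℂ) := by
  unfold theta
  congr 1
  rw [← Nat.card_eq_fintype_card]
  exact Nat.card_congr (Equiv.subtypeUnivEquiv fun x => by simp)

end DECA

/-- PIECE DECA: the multiplicities of the eigenvalues of a fixed point free element `π` of order
`p` in the permutation module of degree `2p` are all `2`. -/
theorem coef_sum [Fintype (IrrCharacter G)] (p : ℕ) [Fact p.Prime]
    (hΩ : Fintype.card Ω = 2 * p) (π : G) (hπ : orderOf π = p) (hfix : ∀ x : Ω, π • x ≠ x)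
    (ω : ℂ) (hω : IsPrimitiveRoot ω p) (c : IrrCharacter G → ℕ → ℕ)
    (hc : ∀ (χ : IrrCharacter G) (k : ℕ),
      (χ : G → ℂ) (π ^ k) = ∑ j ∈ Finset.range p, (c χ j : ℂ) * ω ^ (j * k))
    (m : IrrCharacter G → ℕ) (hm : ∀ χ : IrrCharacter G, classInner (theta G Ω) (χ : G → ℂ) = m χ)
    (j : ℕ) (hj : j < p) : ∑ χ : IrrCharacter G, m χ * c χ j = 2 := by
  classical
  have hp : p.Prime := Fact.out
  have hp0 : 0 < p := hp.pos
  obtain ⟨_, hdec⟩ := isCharacter_decomp (DECA.isCharacter_theta (G := G) (Ω := Ω))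
  have hval : ∀ k : ℕ, (fun k => theta G Ω (π ^ k)) k = ∑ j ∈ Finset.range p,
      (fun j => ∑ χ : IrrCharacter G, (m χ : ℂ) * (c χ j : ℂ)) j * ω ^ (j * k) := by
    intro k
    have h1 : theta G Ω (π ^ k) = ∑ χ : IrrCharacter G, (m χ : ℂ) * (χ : G → ℂ) (π ^ k) := by
      calc theta G Ω (π ^ k)
          = (∑ χ : IrrCharacter G, classInner (theta G Ω) (χ : G → ℂ) • (χ : G → ℂ)) (π ^ k) :=
            congrFun hdec _
        _ = ∑ χ : IrrCharacter G, (m χ : ℂ) * (χ : G → ℂ) (π ^ k) := by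
            rw [Finset.sum_apply]
            refine Finset.sum_congr rfl fun χ _ => ?_
            rw [Pi.smul_apply, smul_eq_mul, hm χ]
    show theta G Ω (π ^ k) = _
    rw [h1]
    simp_rw [hc, Finset.mul_sum, Finset.sum_mul]
    rw [Finset.sum_comm]
    refine Finset.sum_congr rfl fun j _ => Finset.sum_congr rfl fun χ _ => by ring
  have hF := fourier_inv p hp0 ω hω (fun j => ∑ χ : IrrCharacter G, (m χ : ℂ) * (c χ j : ℂ))
    (fun k => theta G Ω (π ^ k)) hval j hj
  have hsum : ∑ k ∈ Finset.range p, (fun k => theta G Ω (π ^ k)) k * (ω⁻¹) ^ (j * k) =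
      2 * (p : ℂ) := by
    rw [Finset.sum_eq_single 0]
    · show theta G Ω (π ^ 0) * (ω⁻¹) ^ (j * 0) = _
      rw [pow_zero, mul_zero, pow_zero, mul_one, DECA.theta_one, hΩ]
      push_cast
      ring
    · intro k hk hk0
      have hkp : ¬ p ∣ k := fun hd =>
        absurd (Nat.le_of_dvd (Nat.pos_of_ne_zero hk0) hd) (not_le.2 (Finset.mem_range.1 hk))
      show theta G Ω (π ^ k) * _ = 0
      rw [DECA.theta_eq_zero _ (DECA.pow_fpf p π hπ hfix k hkp), zero_mul]
    · intro h
      exact absurd (Finset.mem_range.2 hp0) h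
  rw [hsum] at hF
  have hpc : (p : ℂ) ≠ 0 := Nat.cast_ne_zero.2 hp0.ne'
  have h2 : (∑ χ : IrrCharacter G, (m χ : ℂ) * (c χ j : ℂ)) = 2 := by
    apply mul_left_cancel₀ hpc
    rw [hF]
    ring
  exact_mod_cast h2

end Cfsg.Agent.Helper22.W2P
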