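import Mathlib
import Cfsg.Agent.Lib.Helper22.W2PDefs
import Cfsg.Agent.Lib.Helper20.W2PINVF
import Cfsg.Agent.Lib.Helper24.CharOrtho
import Cfsg.Agent.Lib.Helper14.BRBGALIRR
import Cfsg.Agent.Lib.Helper12.TLGEXTPOW

/-!
# S0720, PIECE DECGAL (helper26), core: the Galois group of `ℚ(ζ_p)` fixes the unique constituent
`χ₁`, so its eigenvalue multiplicities on `⟨π⟩` at the nontrivial eigenvalues all coincide.
The piece GALINN (`galois_inner`) enters as a hypothesis here.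
-/

set_option autoImplicit false

namespace Cfsg.Agent.Helper22.W2P

open Cfsg Cfsg.Agent.Helper22.PermCent Cfsg.Agent.Helper24

open scoped ComplexConjugate

universe u v

variable {G : Type u} [Group G] [Fintype G] {Ω : Type v} [Fintype Ω] [DecidableEq Ω]
  [MulAction G Ω]

namespace DECGAL

theorem core
    (hGI : ∀ (σ : ℂ ≃+* ℂ) (χ : G → ℂ), IsIrrCharacter G χ →
      classInner (theta G Ω) (fun g => σ (χ g)) = classInner (theta G Ω) χ)
    (p : ℕ) [Fact p.Prime] (π : G) (ω : ℂ)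
    (hω : IsPrimitiveRoot ω p) {χ₁ : G → ℂ} (hχ₁ : IsIrrCharacter G χ₁) (c : ℕ → ℕ)
    (hc : ∀ k : ℕ, χ₁ (π ^ k) = ∑ j ∈ Finset.range p, (c j : ℂ) * ω ^ (j * k))
    (hne : χ₁ ≠ fun _ => 1) (hm : classInner (theta G Ω) χ₁ = 1)
    (huniq : ∀ χ : G → ℂ, IsIrrCharacter G χ → χ ≠ (fun _ => 1) →
      classInner (theta G Ω) χ = 1 →
      ∑ k ∈ Finset.range p, χ (π ^ k) = ∑ k ∈ Finset.range p, χ₁ (π ^ k) → χ = χ₁) :
    ∀ j : ℕ, 1 ≤ j → j < p → c j = c 1 := by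
  intro j hj1 hjp
  have hp : p.Prime := Fact.out
  have hp0 : 0 < p := hp.pos
  have hp1 : 1 < p := hp.one_lt
  have hnd : ¬ p ∣ 1 := fun h => by
    have := Nat.le_of_dvd one_pos h
    omega
  obtain ⟨σ, -, hσ⟩ := Cfsg.Agent.Helper5.TLG.exists_ringEquiv_pow p 1 one_pos hnd j hj1 hjp
  have hF : ∀ i, i < p →
      (p : ℂ) * (c i : ℂ) = ∑ k ∈ Finset.range p, χ₁ (π ^ k) * (ω⁻¹) ^ (i * k) :=
    fun i hi => fourier_inv p hp0 ω hω (fun j => (c j : ℂ)) (fun k => χ₁ (π ^ k)) hc i hi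
  have hsum0 : ∑ k ∈ Finset.range p, χ₁ (π ^ k) = (p : ℂ) * (c 0 : ℂ) := by
    rw [hF 0 hp0]
    refine Finset.sum_congr rfl fun k _ => ?_
    rw [zero_mul, pow_zero, mul_one]
  have hirr' : IsIrrCharacter G (fun g => σ (χ₁ g)) :=
    Cfsg.Agent.Helper14.BRB.isIrrCharacter_ringEquiv σ hχ₁
  have hne' : (fun g => σ (χ₁ g)) ≠ fun _ => 1 := by
    intro h
    apply hne
    funext g
    have h1 : σ (χ₁ g) = 1 := congrFun h g
    have h2 : σ (χ₁ g) = σ 1 := by rw [h1, map_one]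
    exact σ.injective h2
  have hm' : classInner (theta G Ω) (fun g => σ (χ₁ g)) = 1 := by rw [hGI σ χ₁ hχ₁, hm]
  have hsum' : ∑ k ∈ Finset.range p, (fun g => σ (χ₁ g)) (π ^ k) =
      ∑ k ∈ Finset.range p, χ₁ (π ^ k) := by
    have h1 : ∑ k ∈ Finset.range p, (fun g => σ (χ₁ g)) (π ^ k) =
        σ (∑ k ∈ Finset.range p, χ₁ (π ^ k)) := by
      rw [map_sum]
    rw [h1, hsum0, map_mul, map_natCast, map_natCast]
  have heq : (fun g => σ (χ₁ g)) = χ₁ := huniq _ hirr' hne' hm' hsum'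
  have hfix : ∀ g, σ (χ₁ g) = χ₁ g := fun g => congrFun heq g
  have h2 := congrArg σ (hF 1 hp1)
  rw [map_mul, map_natCast, map_natCast, map_sum] at h2
  have hωinv : (ω⁻¹) ^ p = 1 := by rw [inv_pow, hω.pow_eq_one, inv_one]
  have h3 : ∑ k ∈ Finset.range p, σ (χ₁ (π ^ k) * (ω⁻¹) ^ (1 * k)) =
      ∑ k ∈ Finset.range p, χ₁ (π ^ k) * (ω⁻¹) ^ (j * k) := by
    refine Finset.sum_congr rfl fun k _ => ?_
    rw [map_mul, hfix, map_pow, hσ _ hωinv, one_mul, ← pow_mul]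
  rw [h3, ← hF j hjp] at h2
  have hpc : (p : ℂ) ≠ 0 := Nat.cast_ne_zero.2 hp0.ne'
  have h4 := mul_left_cancel₀ hpc h2
  exact_mod_cast h4.symm

end DECGAL

end Cfsg.Agent.Helper22.W2P
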