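import Mathlib
import Cfsg.Agent.Lib.Helper26.W2PDECGALCore
import Cfsg.Agent.Lib.Helper24.W2PGALINN

/-!
# S0720, PIECE DECGAL (helper26): `DECGAL.core` with helper24's `galois_inner` plugged in.
-/

set_option autoImplicit false

namespace Cfsg.Agent.Helper22.W2P

open Cfsg Cfsg.Agent.Helper22.PermCent Cfsg.Agent.Helper24

open scoped ComplexConjugate

universe u v

variable {G : Type u} [Group G] [Fintype G] {Ω : Type v} [Fintype Ω] [DecidableEq Ω]
  [MulAction G Ω]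

/-- PIECE DECGAL: the Galois group of `ℚ(ζ_p)` fixes the unique constituent `χ₁`, hence permutes
its eigenvalue multiplicities on `⟨π⟩` transitively. -/
theorem galois_const (p : ℕ) [Fact p.Prime] (π : G) (hπ : π ^ p = 1) (ω : ℂ)
    (hω : IsPrimitiveRoot ω p) {χ₁ : G → ℂ} (hχ₁ : IsIrrCharacter G χ₁) (c : ℕ → ℕ)
    (hc : ∀ k : ℕ, χ₁ (π ^ k) = ∑ j ∈ Finset.range p, (c j : ℂ) * ω ^ (j * k))
    (hne : χ₁ ≠ fun _ => 1) (hm : classInner (theta G Ω) χ₁ = 1)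
    (huniq : ∀ χ : G → ℂ, IsIrrCharacter G χ → χ ≠ (fun _ => 1) →
      classInner (theta G Ω) χ = 1 → ∑ k ∈ Finset.range p, χ (π ^ k) = ∑ k ∈ Finset.range p, χ₁ (π ^ k) →
      χ = χ₁) :
    ∀ j : ℕ, 1 ≤ j → j < p → c j = c 1 :=
  DECGAL.core (fun σ _ hχ => galois_inner σ hχ) p π ω hω hχ₁ c hc hne hm huniq

end Cfsg.Agent.Helper22.W2P
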