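import Mathlib
import Cfsg.Agent.Lib.Helper16.KF9Defs

/-!
# S3805 (helper16's skeleton): piece CENT, the orders of the centralizers of `t1`, `t2`, `t3`
-/

set_option autoImplicit false
set_option linter.unusedSectionVars false
set_option linter.unusedVariables false

namespace Cfsg.Agent.Helper16.KF9

open Cfsg

universe u

section Grp

variable {G : Type u} [Group G] [Finite G] {T : Sylow 3 G}

/-- an element of order 3 is not its own inverse -/
theorem cent_inv_ne {t : G} (ht : orderOf t = 3) : t⁻¹ ≠ t := by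
  intro h
  have h2 : t ^ 2 = 1 := by
    rw [pow_two]
    calc t * t = t⁻¹ * t := by rw [h]
      _ = 1 := inv_mul_cancel t
  have := orderOf_dvd_of_pow_eq_one h2
  rw [ht] at this
  omega

/-- a subgroup between `T` and `N_G(T)` that contains an element outside `T` and misses an element of `N_G(T)`
has order 18 -/
theorem cent_card_eighteen (h : Hyp T) (C : Subgroup G) (hTC : (T : Subgroup G) ≤ C)
    (hCN : C ≤ Subgroup.normalizer ((T : Subgroup G) : Set G)) {x y : G} (hx : x ∈ C)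
    (hxT : x ∉ (T : Subgroup G)) (hy : y ∈ Subgroup.normalizer ((T : Subgroup G) : Set G))
    (hyC : y ∉ C) : Nat.card C = 18 := by
  have h1 : 9 ∣ Nat.card C := by
    have := Subgroup.card_dvd_of_le hTC
    rwa [h.card] at this
  have h2 : Nat.card C ∣ 36 := by
    have := Subgroup.card_dvd_of_le hCN
    rwa [h.cardN] at this
  have h9 : Nat.card C ≠ 9 := by
    intro h9
    have : (T : Subgroup G) = C := Subgroup.eq_of_le_of_card_ge hTC (by rw [h9, h.card])
    exact hxT (this ▸ hx)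
  have h36 : Nat.card C ≠ 36 := by
    intro h36
    have : C = Subgroup.normalizer ((T : Subgroup G) : Set G) :=
      Subgroup.eq_of_le_of_card_ge hCN (by rw [h36, h.cardN])
    exact hyC (this ▸ hy)
  obtain ⟨k, hk⟩ := h1
  rw [hk] at h2 h9 h36 ⊢
  have hk4 : k ∣ 4 := Nat.dvd_of_mul_dvd_mul_left (by norm_num : 0 < 9) (by simpa using h2)
  have hk_le : k ≤ 4 := Nat.le_of_dvd (by norm_num) hk4
  interval_cases k <;> simp_all

theorem cent_T_le (h : Hyp T) {t : G} (ht : t ∈ (T : Subgroup G)) :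
    (T : Subgroup G) ≤ Subgroup.centralizer ({t} : Set G) := by
  intro u hu
  rw [Subgroup.mem_centralizer_singleton_iff]
  exact h.comm u hu t ht

/-- PIECE CENT: centralizer orders of `t1`, `t2`, `t3` -/
theorem card_centralizer_t1 (h : Hyp T) (c : Cfg T) :
    Nat.card (Subgroup.centralizer ({c.t1} : Set G)) = 18 := by
  have h11 : c.t1 ≠ 1 := by
    intro h1; have := c.o1; rw [h1, orderOf_one] at this; omega
  refine cent_card_eighteen h _ (cent_T_le h c.ht1) (h.loc _ c.ht1 h11) (x := c.b) (y := c.a) ?_ ?_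
    c.ha ?_
  · rw [Subgroup.mem_centralizer_singleton_iff]
    calc c.b * c.t1 = (c.b * c.t1 * c.b⁻¹) * c.b := by group
      _ = c.t1 * c.b := by rw [c.b1]
  · intro hbT
    have hc : c.b * c.t2 = c.t2 * c.b := h.comm _ hbT _ c.ht2
    have : c.t2⁻¹ = c.t2 := by
      rw [← c.b2, hc]; group
    exact cent_inv_ne c.o2 this
  · intro haC
    rw [Subgroup.mem_centralizer_singleton_iff] at haC
    have : c.t1⁻¹ = c.t1 := by
      rw [← c.a1, haC]; group
    exact cent_inv_ne c.o1 this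

/-- PIECE CENT -/
theorem card_centralizer_t2 (h : Hyp T) (c : Cfg T) :
    Nat.card (Subgroup.centralizer ({c.t2} : Set G)) = 18 := by
  have h21 : c.t2 ≠ 1 := by
    intro h1; have := c.o2; rw [h1, orderOf_one] at this; omega
  refine cent_card_eighteen h _ (cent_T_le h c.ht2) (h.loc _ c.ht2 h21) (x := c.a) (y := c.b) ?_ ?_
    c.hb ?_
  · rw [Subgroup.mem_centralizer_singleton_iff]
    calc c.a * c.t2 = (c.a * c.t2 * c.a⁻¹) * c.a := by group
      _ = c.t2 * c.a := by rw [c.a2]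
  · intro haT
    have hc : c.a * c.t1 = c.t1 * c.a := h.comm _ haT _ c.ht1
    have : c.t1⁻¹ = c.t1 := by
      rw [← c.a1, hc]; group
    exact cent_inv_ne c.o1 this
  · intro hbC
    rw [Subgroup.mem_centralizer_singleton_iff] at hbC
    have : c.t2⁻¹ = c.t2 := by
      rw [← c.b2, hbC]; group
    exact cent_inv_ne c.o2 this

/-- PIECE CENT -/
theorem card_centralizer_t3 (h : Hyp T) (c : Cfg T) :
    Nat.card (Subgroup.centralizer ({c.t3} : Set G)) = 9 := by
  have h31 : c.t3 ≠ 1 := by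
    intro h1
    apply c.ind
    have : c.t2 = c.t1⁻¹ := by
      have : c.t1 * c.t2 = 1 := h1
      exact (eq_inv_of_mul_eq_one_right this)
    rw [this]
    exact (Subgroup.zpowers c.t1).inv_mem (Subgroup.mem_zpowers c.t1)
  have h3T : c.t3 ∈ (T : Subgroup G) := (T : Subgroup G).mul_mem c.ht1 c.ht2
  have hTC := cent_T_le h h3T
  have hCN := h.loc _ h3T h31
  -- conjugates of t3 under a, b
  have ha3 : c.a * c.t3 * c.a⁻¹ = c.t1⁻¹ * c.t2 := by
    calc c.a * c.t3 * c.a⁻¹ = (c.a * c.t1 * c.a⁻¹) * (c.a * c.t2 * c.a⁻¹) := by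
          unfold Cfg.t3; group
      _ = c.t1⁻¹ * c.t2 := by rw [c.a1, c.a2]
  have hb3 : c.b * c.t3 * c.b⁻¹ = c.t1 * c.t2⁻¹ := by
    calc c.b * c.t3 * c.b⁻¹ = (c.b * c.t1 * c.b⁻¹) * (c.b * c.t2 * c.b⁻¹) := by
          unfold Cfg.t3; group
      _ = c.t1 * c.t2⁻¹ := by rw [c.b1, c.b2]
  have haC : c.a ∉ Subgroup.centralizer ({c.t3} : Set G) := by
    intro hmem
    rw [Subgroup.mem_centralizer_singleton_iff] at hmem
    have e : c.a * c.t3 * c.a⁻¹ = c.t3 := by rw [hmem]; group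
    rw [ha3] at e
    have : c.t1⁻¹ = c.t1 := mul_right_cancel (e.trans rfl)
    exact cent_inv_ne c.o1 this
  have hbC : c.b ∉ Subgroup.centralizer ({c.t3} : Set G) := by
    intro hmem
    rw [Subgroup.mem_centralizer_singleton_iff] at hmem
    have e : c.b * c.t3 * c.b⁻¹ = c.t3 := by rw [hmem]; group
    rw [hb3] at e
    have : c.t2⁻¹ = c.t2 := mul_left_cancel (e.trans rfl)
    exact cent_inv_ne c.o2 this
  have habC : c.a * c.b ∉ Subgroup.centralizer ({c.t3} : Set G) := by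
    intro hmem
    rw [Subgroup.mem_centralizer_singleton_iff] at hmem
    have e : (c.a * c.b) * c.t3 * (c.a * c.b)⁻¹ = c.t3 := by rw [hmem]; group
    have e2 : (c.a * c.b) * c.t3 * (c.a * c.b)⁻¹ = c.t1⁻¹ * c.t2⁻¹ := by
      calc (c.a * c.b) * c.t3 * (c.a * c.b)⁻¹ = c.a * (c.b * c.t3 * c.b⁻¹) * c.a⁻¹ := by group
        _ = (c.a * c.t1 * c.a⁻¹) * (c.a * c.t2 * c.a⁻¹)⁻¹ := by rw [hb3]; group
        _ = c.t1⁻¹ * c.t2⁻¹ := by rw [c.a1, c.a2]
    rw [e2] at e
    -- t1⁻¹ t2⁻¹ = t1 t2  ⇒  (t1 t2)² = 1 (T abelian) ⇒ t3 = 1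
    have hcomm : c.t1 * c.t2 = c.t2 * c.t1 := h.comm _ c.ht1 _ c.ht2
    have hsq : c.t3 * c.t3 = 1 := by
      have : c.t3⁻¹ = c.t3 := by
        calc c.t3⁻¹ = (c.t1 * c.t2)⁻¹ := rfl
          _ = (c.t2 * c.t1)⁻¹ := by rw [hcomm]
          _ = c.t1⁻¹ * c.t2⁻¹ := mul_inv_rev _ _
          _ = c.t3 := e
      calc c.t3 * c.t3 = c.t3⁻¹ * c.t3 := by rw [this]
        _ = 1 := inv_mul_cancel _
    have h3 : c.t3 ^ 3 = 1 := h.exp _ h3T
    apply h31
    calc c.t3 = c.t3 ^ 3 * (c.t3 * c.t3)⁻¹ := by group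
      _ = 1 := by rw [h3, hsq]; group
  -- Lagrange
  have h1 : 9 ∣ Nat.card (Subgroup.centralizer ({c.t3} : Set G)) := by
    have := Subgroup.card_dvd_of_le hTC
    rwa [h.card] at this
  have h2 : Nat.card (Subgroup.centralizer ({c.t3} : Set G)) ∣ 36 := by
    have := Subgroup.card_dvd_of_le hCN
    rwa [h.cardN] at this
  have h36 : Nat.card (Subgroup.centralizer ({c.t3} : Set G)) ≠ 36 := by
    intro h36
    have : Subgroup.centralizer ({c.t3} : Set G) = Subgroup.normalizer ((T : Subgroup G) : Set G) :=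
      Subgroup.eq_of_le_of_card_ge hCN (by rw [h36, h.cardN])
    exact haC (this ▸ c.ha)
  have h18 : Nat.card (Subgroup.centralizer ({c.t3} : Set G)) ≠ 18 := by
    intro h18
    -- index 2 in N: a, b ∉ C ⇒ a b ∈ C
    set N := Subgroup.normalizer ((T : Subgroup G) : Set G) with hN
    set K : Subgroup N := (Subgroup.centralizer ({c.t3} : Set G)).subgroupOf N with hK
    have hidx : K.index = 2 := by
      have hm := K.card_mul_index
      have hKc : Nat.card K = 18 := by
        rw [hK, ← h18]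
        exact Nat.card_congr (Subgroup.subgroupOfEquivOfLe hCN).toEquiv
      rw [hKc, h.cardN] at hm
      omega
    have hiff := Subgroup.mul_mem_iff_of_index_two hidx (a := (⟨c.a, c.ha⟩ : N))
      (b := (⟨c.b, c.hb⟩ : N))
    have ha' : (⟨c.a, c.ha⟩ : N) ∉ K := by
      rw [hK, Subgroup.mem_subgroupOf]; exact haC
    have hb' : (⟨c.b, c.hb⟩ : N) ∉ K := by
      rw [hK, Subgroup.mem_subgroupOf]; exact hbC
    have hab' : (⟨c.a, c.ha⟩ : N) * ⟨c.b, c.hb⟩ ∈ K := hiff.mpr ⟨fun h => (ha' h).elim, fun h => (hb' h).elim⟩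
    rw [hK, Subgroup.mem_subgroupOf] at hab'
    exact habC hab'
  obtain ⟨k, hk⟩ := h1
  rw [hk] at h2 h18 h36 ⊢
  have hk4 : k ∣ 4 := Nat.dvd_of_mul_dvd_mul_left (by norm_num : 0 < 9) (by simpa using h2)
  have hk_le : k ≤ 4 := Nat.le_of_dvd (by norm_num) hk4
  interval_cases k <;> simp_all

end Grp

end Cfsg.Agent.Helper16.KF9
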