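import Mathlib
import Cfsg.Agent.Lib.Helper16.KF9Defs
import Cfsg.Agent.Lib.Lead.M11T5

/-!
# S3805 (helper16's skeleton): piece COUNT, the class constants from the solutions inside `T`
-/

set_option autoImplicit false
set_option linter.unusedSectionVars false
set_option linter.unusedVariables false

namespace Cfsg.Agent.Helper16.KF9

open Cfsg

universe u

section Grp

variable {G : Type u} [Group G] [Finite G] {T : Sylow 3 G}

theorem count_orderOf_conj (g x : G) : orderOf (g * x * g⁻¹) = orderOf x :=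
  (MulAut.conj g).orderOf_eq x

/-- PIECE COUNT (generic): the class constant is the number of solutions inside `T` times the centralizer orders -/
theorem count_generic (h : Hyp T)
    (tri : ∀ {x y : G}, orderOf x = 3 → orderOf y = 3 → x * y ∈ (T : Subgroup G) → x * y ≠ 1 →
      ¬ IsConj x y → x ∈ (T : Subgroup G) ∧ y ∈ (T : Subgroup G))
    {x' y' z : G} (ox : orderOf x' = 3) (oy : orderOf y' = 3) (hz : z ∈ (T : Subgroup G)) (hz1 : z ≠ 1)
    (hnc : ¬ IsConj x' y') [DecidableEq G] (S : Finset (G × G))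
    (hS : ∀ x y : G, (x, y) ∈ S ↔
      (x ∈ (T : Subgroup G) ∧ y ∈ (T : Subgroup G) ∧ IsConj x' x ∧ IsConj y' y ∧ x * y = z)) :
    Nat.card {c : G × G // (c.1 * x' * c.1⁻¹) * (c.2 * y' * c.2⁻¹) = z} =
      S.card * (Nat.card (Subgroup.centralizer ({x'} : Set G)) *
        Nat.card (Subgroup.centralizer ({y'} : Set G))) := by
  classical
  have : Fintype G := Fintype.ofFinite G
  let F : G → G → Finset G := fun a b => Finset.univ.filter (fun c => c * a * c⁻¹ = b)
  have hF : ∀ a b, (∃ c : G, c * a * c⁻¹ = b) →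
      (F a b).card = Nat.card (Subgroup.centralizer ({a} : Set G)) := by
    intro a b hab
    have := Cfsg.Agent.Helper17.M11.T5.card_fib a b hab
    rwa [Nat.card_eq_fintype_card, Fintype.card_subtype] at this
  rw [Nat.card_eq_fintype_card, Fintype.card_subtype]
  have hset : Finset.univ.filter (fun c : G × G => (c.1 * x' * c.1⁻¹) * (c.2 * y' * c.2⁻¹) = z) =
      S.biUnion (fun k => F x' k.1 ×ˢ F y' k.2) := by
    ext c
    simp only [Finset.mem_filter, Finset.mem_univ, true_and, Finset.mem_biUnion, Finset.mem_product,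
      F]
    constructor
    · intro hc
      refine ⟨(c.1 * x' * c.1⁻¹, c.2 * y' * c.2⁻¹), ?_, rfl, rfl⟩
      rw [hS]
      have o1 : orderOf (c.1 * x' * c.1⁻¹) = 3 := by rw [count_orderOf_conj, ox]
      have o2 : orderOf (c.2 * y' * c.2⁻¹) = 3 := by rw [count_orderOf_conj, oy]
      have hc1 : IsConj x' (c.1 * x' * c.1⁻¹) := isConj_iff.mpr ⟨c.1, rfl⟩
      have hc2 : IsConj y' (c.2 * y' * c.2⁻¹) := isConj_iff.mpr ⟨c.2, rfl⟩
      have hnc' : ¬ IsConj (c.1 * x' * c.1⁻¹) (c.2 * y' * c.2⁻¹) := by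
        intro hcon
        exact hnc ((hc1.trans hcon).trans hc2.symm)
      obtain ⟨m1, m2⟩ := tri o1 o2 (hc ▸ hz) (hc ▸ hz1) hnc'
      exact ⟨m1, m2, hc1, hc2, hc⟩
    · rintro ⟨k, hk, h1, h2⟩
      rw [h1, h2]
      have := (hS k.1 k.2).mp (by simpa using hk)
      exact this.2.2.2.2
  rw [hset, Finset.card_biUnion]
  · have hconst : ∀ k ∈ S, (F x' k.1 ×ˢ F y' k.2).card =
        Nat.card (Subgroup.centralizer ({x'} : Set G)) *
          Nat.card (Subgroup.centralizer ({y'} : Set G)) := by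
      intro k hk
      have hk' := (hS k.1 k.2).mp (by simpa using hk)
      rw [Finset.card_product, hF x' k.1 (isConj_iff.mp hk'.2.2.1),
        hF y' k.2 (isConj_iff.mp hk'.2.2.2.1)]
    rw [Finset.sum_congr rfl hconst, Finset.sum_const, smul_eq_mul]
  · intro k hk k' hk' hne
    show Disjoint (F x' k.1 ×ˢ F y' k.2) (F x' k'.1 ×ˢ F y' k'.2)
    rw [Finset.disjoint_left]
    intro c hc hc'
    simp only [Finset.mem_product, Finset.mem_filter, Finset.mem_univ, true_and, F] at hc hc'
    apply hne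
    exact Prod.ext (hc.1.symm.trans hc'.1) (hc.2.symm.trans hc'.2)

end Grp

end Cfsg.Agent.Helper16.KF9
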