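import Mathlib
import Cfsg.Agent.Lib.Helper16.KF9Defs
import Cfsg.Agent.Lib.Helper26.S3805TRI

/-!
# S3805 (helper16's skeleton): pieces TRI and FUS
-/

set_option autoImplicit false
set_option linter.unusedSectionVars false
set_option linter.unusedVariables false

namespace Cfsg.Agent.Helper16.KF9

open Cfsg

universe u

section Grp

variable {G : Type u} [Group G] [Finite G] {T : Sylow 3 G}

/-- PIECE TRI (Higman's (3,3,3) lemma; `hdiv` is not needed) -/
theorem mem_of_mul_mem (h : Hyp T)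
    (hdiv : ∀ t ∈ (T : Subgroup G), t ≠ 1 → Nat.card (Subgroup.centralizer ({t} : Set G)) ∣ 18)
    {x y : G} (hx : orderOf x = 3) (hy : orderOf y = 3)
    (hxy : x * y ∈ (T : Subgroup G)) (hxy1 : x * y ≠ 1) (hnc : ¬ IsConj x y) :
    x ∈ (T : Subgroup G) ∧ y ∈ (T : Subgroup G) :=
  Cfsg.Agent.Helper8.S3805.mem_of_mul_mem T h.loc hx hy (h.exp _ hxy) hxy hxy1 hnc

/-- PIECE FUS: `N_G(T)` controls fusion in `T` -/
theorem mem_normalizer_of_conj (h : Hyp T) {t : G} (ht : t ∈ (T : Subgroup G)) (ht1 : t ≠ 1) {g : G}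
    (hg : g * t * g⁻¹ ∈ (T : Subgroup G)) :
    g ∈ Subgroup.normalizer ((T : Subgroup G) : Set G) := by
  have : Fact (Nat.Prime 3) := ⟨Nat.prime_three⟩
  have hs1 : g * t * g⁻¹ ≠ 1 := by
    intro h1
    apply ht1
    have e : t = g⁻¹ * (g * t * g⁻¹) * g := by group
    rw [e, h1]; group
  -- every conjugate `g u g⁻¹`, `u ∈ T`, lies in `T`
  have hconj : ∀ u ∈ (T : Subgroup G), g * u * g⁻¹ ∈ (T : Subgroup G) := by
    intro u hu
    have hN : g * u * g⁻¹ ∈ Subgroup.normalizer ((T : Subgroup G) : Set G) := by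
      apply h.loc _ hg hs1
      rw [Subgroup.mem_centralizer_singleton_iff]
      have hc : u * t = t * u := h.comm u hu t ht
      calc g * u * g⁻¹ * (g * t * g⁻¹) = g * (u * t) * g⁻¹ := by group
        _ = g * (t * u) * g⁻¹ := by rw [hc]
        _ = g * t * g⁻¹ * (g * u * g⁻¹) := by group
    have h3 : (g * u * g⁻¹) ^ 3 = 1 := by
      rw [conj_pow, h.exp u hu]; group
    exact Cfsg.Agent.Helper8.S3805.TRI.mem_of_mem_normalizer T h3 hN
  have hle : ((g • T : Sylow 3 G) : Subgroup G) ≤ (T : Subgroup G) := by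
    intro x hx
    rw [Sylow.coe_subgroup_smul] at hx
    obtain ⟨u, hu, rfl⟩ := (Subgroup.mem_smul_pointwise_iff_exists _ _ _).mp hx
    exact hconj u hu
  have heq : (T : Subgroup G) = ((g • T : Sylow 3 G) : Subgroup G) :=
    (g • T).is_maximal' T.isPGroup' hle
  exact Sylow.smul_eq_iff_mem_normalizer.mp (Sylow.ext heq.symm)

end Grp

end Cfsg.Agent.Helper16.KF9
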