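import Mathlib

/-!
# S3341 piece GRPA: `C_G(P) = P`
-/

set_option autoImplicit false
set_option linter.unusedSectionVars false
set_option linter.unusedVariables false

namespace Cfsg.Agent.Helper16.SSC

universe u

section Grp

variable {G : Type u} [Group G] [Finite G] (P : Sylow 3 G)

/-- a nontrivial element of a subgroup of order 9 -/
theorem GRPA.exists_ne_one (hcard : Nat.card (P : Subgroup G) = 9) :
    ∃ s ∈ (P : Subgroup G), s ≠ 1 := by
  have hnt : (P : Subgroup G) ≠ ⊥ := by
    intro h
    rw [h, Subgroup.card_bot] at hcard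
    omega
  obtain ⟨s, hs1⟩ := (Subgroup.ne_bot_iff_exists_ne_one).mp hnt
  exact ⟨s.1, s.2, fun h => hs1 (Subtype.ext h)⟩

/-- PIECE GRPA -/
theorem centralizer_eq
    (hcomm : ∀ x y : (P : Subgroup G), x * y = y * x)
    (hcard : Nat.card (P : Subgroup G) = 9)
    (hcent : ∀ s ∈ (P : Subgroup G), s ≠ 1 →
      Subgroup.centralizer ({s} : Set G) = (P : Subgroup G)) :
    Subgroup.centralizer ((P : Subgroup G) : Set G) = (P : Subgroup G) := by
  apply le_antisymm
  · obtain ⟨s, hs, hs1⟩ := GRPA.exists_ne_one P hcard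
    exact (Subgroup.centralizer_le (Set.singleton_subset_iff.mpr hs)).trans (hcent s hs hs1).le
  · intro x hx
    rw [Subgroup.mem_centralizer_iff]
    intro y hy
    exact congrArg Subtype.val (hcomm ⟨y, hy⟩ ⟨x, hx⟩)

end Grp

end Cfsg.Agent.Helper16.SSC
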