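import Mathlib

/-!
# S3341 piece GRPC: `N_G(P) = P` is impossible in a simple group (Burnside transfer)
-/

set_option autoImplicit false
set_option linter.unusedSectionVars false
set_option linter.unusedVariables false

namespace Cfsg.Agent.Helper16.SSC

universe u

section Grp

variable {G : Type u} [Group G] [Finite G] (P : Sylow 3 G)

/-- a simple group in which all elements commute does not have order 9 -/
theorem GRPC.not_card_nine [IsSimpleGroup G] (hc : ∀ x y : G, x * y = y * x)
    (h9 : Nat.card G = 9) : False := by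
  have : Fact (Nat.Prime 3) := ⟨Nat.prime_three⟩
  obtain ⟨g, hg⟩ := exists_prime_orderOf_dvd_card' (G := G) 3 (by rw [h9]; norm_num)
  have hn : (Subgroup.zpowers g).Normal :=
    ⟨fun n hn h => by rw [hc h n, mul_inv_cancel_right]; exact hn⟩
  rcases hn.eq_bot_or_eq_top with h | h
  · rw [Subgroup.zpowers_eq_bot] at h
    rw [h, orderOf_one] at hg
    omega
  · have h1 : Nat.card (Subgroup.zpowers g) = 3 := by rw [Nat.card_zpowers, hg]
    rw [h, Subgroup.card_top, h9] at h1
    omega

/-- PIECE GRPC -/
theorem relIndex_ne_one [IsSimpleGroup G]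
    (hcomm : ∀ x y : (P : Subgroup G), x * y = y * x)
    (hcard : Nat.card (P : Subgroup G) = 9) :
    (P : Subgroup G).relIndex (Subgroup.normalizer ((P : Subgroup G) : Set G)) ≠ 1 := by
  intro he
  have : Fact (Nat.Prime 3) := ⟨Nat.prime_three⟩
  have hNP : Subgroup.normalizer ((P : Subgroup G) : Set G) ≤ (P : Subgroup G) :=
    Subgroup.relIndex_eq_one.mp he
  have hPC : (P : Subgroup G) ≤ Subgroup.centralizer ((P : Subgroup G) : Set G) := by
    intro x hx
    rw [Subgroup.mem_centralizer_iff]
    intro y hy
    exact congrArg Subtype.val (hcomm ⟨y, hy⟩ ⟨x, hx⟩)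
  have hP : Subgroup.normalizer ((P : Subgroup G) : Set G) ≤
      Subgroup.centralizer ((P : Subgroup G) : Set G) := hNP.trans hPC
  have hcompl := MonoidHom.ker_transferSylow_isComplement' P hP
  have hnt : (P : Subgroup G) ≠ ⊥ := by
    intro h
    rw [h, Subgroup.card_bot] at hcard
    omega
  rcases (MonoidHom.normal_ker (MonoidHom.transferSylow P hP)).eq_bot_or_eq_top with h | h
  · rw [h, Subgroup.isComplement'_bot_left] at hcompl
    have h9 : Nat.card G = 9 := by
      rw [hcompl, Subgroup.card_top] at hcard
      exact hcard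
    refine GRPC.not_card_nine (G := G) (fun x y => ?_) h9
    have hx : x ∈ (P : Subgroup G) := by rw [hcompl]; exact Subgroup.mem_top x
    have hy : y ∈ (P : Subgroup G) := by rw [hcompl]; exact Subgroup.mem_top y
    exact congrArg Subtype.val (hcomm ⟨x, hx⟩ ⟨y, hy⟩)
  · rw [h, Subgroup.isComplement'_top_left] at hcompl
    exact hnt hcompl

end Grp

end Cfsg.Agent.Helper16.SSC
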