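import Mathlib

/-!
# S3341 piece GRPD: `|N_G(P) : P| = 8` forces a single class of elements of order 3
-/

set_option autoImplicit false
set_option linter.unusedSectionVars false
set_option linter.unusedVariables false

namespace Cfsg.Agent.Helper16.SSC

universe u

section Grp

variable {G : Type u} [Group G] [Finite G] (P : Sylow 3 G)

/-- every element of order 3 is conjugate into `P` -/
theorem GRPD.conj_mem_sylow {a : G} (ha : orderOf a = 3) :
    ∃ g : G, g * a * g⁻¹ ∈ (P : Subgroup G) ∧ g * a * g⁻¹ ≠ 1 := by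
  have : Fact (Nat.Prime 3) := ⟨Nat.prime_three⟩
  have hp : IsPGroup 3 (Subgroup.zpowers a) := by
    apply IsPGroup.of_card (n := 1)
    rw [Nat.card_zpowers, ha, pow_one]
  obtain ⟨R, hR⟩ := hp.exists_le_sylow
  obtain ⟨g, hg⟩ := MulAction.exists_smul_eq G R P
  have h1 : a ∈ (R : Subgroup G) := hR (Subgroup.mem_zpowers a)
  have h2 : g * a * g⁻¹ ∈ ((g • R : Sylow 3 G) : Subgroup G) := by
    rw [Sylow.coe_subgroup_smul]
    exact Subgroup.smul_mem_pointwise_smul a (MulAut.conj g) _ h1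
  rw [hg] at h2
  refine ⟨g, h2, fun h => ?_⟩
  have ha1 : a = 1 := by
    have := congrArg (fun z => g⁻¹ * z * g) h
    simpa [mul_assoc] using this
  rw [ha1, orderOf_one] at ha
  omega

/-- if `|N(P) : P| = 8` then `N(P)` is transitive on `P^#` -/
theorem GRPD.transitive
    (hcomm : ∀ x y : (P : Subgroup G), x * y = y * x)
    (hcard : Nat.card (P : Subgroup G) = 9)
    (hcent : ∀ s ∈ (P : Subgroup G), s ≠ 1 →
      Subgroup.centralizer ({s} : Set G) = (P : Subgroup G))
    (he : (P : Subgroup G).relIndex (Subgroup.normalizer ((P : Subgroup G) : Set G)) = 8)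
    {s t : G} (hs : s ∈ (P : Subgroup G)) (hs1 : s ≠ 1) (ht : t ∈ (P : Subgroup G))
    (ht1 : t ≠ 1) : ∃ n : G, n * s * n⁻¹ = t := by
  classical
  have hidx : ((P : Subgroup G).subgroupOf
      (Subgroup.normalizer ((P : Subgroup G) : Set G))).index = 8 := he
  let ψ₀ : (Subgroup.normalizer ((P : Subgroup G) : Set G)) → (P : Subgroup G) := fun n =>
    ⟨(n : G) * s * (n : G)⁻¹, (Subgroup.mem_normalizer_iff.mp n.2 s).mp hs⟩
  have hψ₀ : ∀ n m : (Subgroup.normalizer ((P : Subgroup G) : Set G)),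
      QuotientGroup.leftRel ((P : Subgroup G).subgroupOf
        (Subgroup.normalizer ((P : Subgroup G) : Set G))) n m → ψ₀ n = ψ₀ m := by
    intro n m hnm
    rw [QuotientGroup.leftRel_apply, Subgroup.mem_subgroupOf] at hnm
    have hnm' : (n : G)⁻¹ * (m : G) ∈ (P : Subgroup G) := by simpa using hnm
    have hc : ((n : G)⁻¹ * (m : G)) * s = s * ((n : G)⁻¹ * (m : G)) :=
      congrArg Subtype.val (hcomm ⟨_, hnm'⟩ ⟨s, hs⟩)
    apply Subtype.ext
    show (n : G) * s * (n : G)⁻¹ = (m : G) * s * (m : G)⁻¹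
    calc (n : G) * s * (n : G)⁻¹ = (n : G) * (s * ((n : G)⁻¹ * (m : G))) * (m : G)⁻¹ := by group
      _ = (n : G) * (((n : G)⁻¹ * (m : G)) * s) * (m : G)⁻¹ := by rw [hc]
      _ = (m : G) * s * (m : G)⁻¹ := by group
  let ψ : (Subgroup.normalizer ((P : Subgroup G) : Set G)) ⧸ ((P : Subgroup G).subgroupOf
      (Subgroup.normalizer ((P : Subgroup G) : Set G))) → (P : Subgroup G) :=
    fun q => Quotient.liftOn' q ψ₀ hψ₀
  have hψinj : Function.Injective ψ := by
    intro q₁ q₂
    refine Quotient.inductionOn₂' q₁ q₂ (fun n m h => ?_)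
    have h' : (n : G) * s * (n : G)⁻¹ = (m : G) * s * (m : G)⁻¹ := congrArg Subtype.val h
    apply Quotient.sound'
    rw [QuotientGroup.leftRel_apply, Subgroup.mem_subgroupOf]
    have hmem : (n : G)⁻¹ * (m : G) ∈ Subgroup.centralizer ({s} : Set G) := by
      rw [Subgroup.mem_centralizer_singleton_iff]
      symm
      calc s * ((n : G)⁻¹ * (m : G)) = (n : G)⁻¹ * ((n : G) * s * (n : G)⁻¹) * (m : G) := by group
        _ = (n : G)⁻¹ * ((m : G) * s * (m : G)⁻¹) * (m : G) := by rw [h']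
        _ = (n : G)⁻¹ * (m : G) * s := by group
    rw [hcent s hs hs1] at hmem
    simpa using hmem
  have hrange : Set.range ψ ⊆ ({1} : Set (P : Subgroup G))ᶜ := by
    rintro _ ⟨q, rfl⟩
    refine Quotient.inductionOn' q (fun n => ?_)
    intro h
    have h1 : (n : G) * s * (n : G)⁻¹ = 1 := congrArg Subtype.val (Set.mem_singleton_iff.mp h)
    apply hs1
    have := congrArg (fun z => (n : G)⁻¹ * z * (n : G)) h1
    simpa [mul_assoc] using this
  have hcr : (Set.range ψ).ncard = 8 := by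
    rw [Set.ncard_range_of_injective hψinj, ← Subgroup.index_eq_card, hidx]
  have hcc : (({1} : Set (P : Subgroup G))ᶜ).ncard = 8 := by
    rw [Set.ncard_compl, Set.ncard_singleton, hcard]
  have heq : Set.range ψ = ({1} : Set (P : Subgroup G))ᶜ :=
    Set.eq_of_subset_of_ncard_le hrange (by rw [hcr, hcc])
  have htm : (⟨t, ht⟩ : (P : Subgroup G)) ∈ Set.range ψ := by
    rw [heq]
    intro h
    exact ht1 (congrArg Subtype.val (Set.mem_singleton_iff.mp h))
  obtain ⟨q, hq⟩ := htm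
  revert hq
  refine Quotient.inductionOn' q (fun n => ?_)
  intro hq
  exact ⟨(n : G), congrArg Subtype.val hq⟩

/-- PIECE GRPD -/
theorem relIndex_ne_eight
    (hcomm : ∀ x y : (P : Subgroup G), x * y = y * x)
    (hcard : Nat.card (P : Subgroup G) = 9)
    (hcent : ∀ s ∈ (P : Subgroup G), s ≠ 1 →
      Subgroup.centralizer ({s} : Set G) = (P : Subgroup G))
    (hclasses : ∃ a b : G, orderOf a = 3 ∧ orderOf b = 3 ∧ ∀ g : G, g * a * g⁻¹ ≠ b) :
    (P : Subgroup G).relIndex (Subgroup.normalizer ((P : Subgroup G) : Set G)) ≠ 8 := by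
  intro he
  obtain ⟨a, b, ha, hb, hab⟩ := hclasses
  obtain ⟨g, hg, hg1⟩ := GRPD.conj_mem_sylow P ha
  obtain ⟨h, hh, hh1⟩ := GRPD.conj_mem_sylow P hb
  obtain ⟨n, hn⟩ := GRPD.transitive P hcomm hcard hcent he hg hg1 hh hh1
  apply hab (h⁻¹ * n * g)
  have : b = h⁻¹ * (h * b * h⁻¹) * h := by group
  rw [this, ← hn]
  group

end Grp

end Cfsg.Agent.Helper16.SSC
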