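import Mathlib

set_option autoImplicit false

/-!
# S3702: the endgame from the two `b`-type characters

Pure arithmetic (no groups).  `b1, b2` are the signed degrees of the two irreducible characters of
`G` corresponding to the two degree-12 characters of `H = 3^3 : S4`, `n = [G : H]`.
Hypotheses: `1/b1 + 1/b2 = 1/(6 n)` (i.e. `= 108 / |G|`), `b_i ≡ 12 (mod 27)`,
`b1^2 + b2^2 ≤ |G| = 648 n`, `n ≡ 1 (mod 27)`.  Conclusion: `n = 1`.
-/

namespace Cfsg.Agent.Helper26.S3702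

/-- integer form: `6 n (b1 + b2) = b1 b2`. -/
theorem bfamily_endgame (b1 b2 n : ℤ) (hn : 1 ≤ n) (hn27 : n % 27 = 1)
    (hb1 : b1 % 27 = 12) (hb2 : b2 % 27 = 12)
    (heq : 6 * n * (b1 + b2) = b1 * b2)
    (hsq : b1 ^ 2 + b2 ^ 2 ≤ 648 * n) : n = 1 := by
  obtain ⟨T, hT⟩ : ∃ T : ℤ, T = b1 + b2 := ⟨_, rfl⟩
  have hT27 : T % 27 = 24 := by rw [hT]; omega
  -- 27 ∣ b1 - b2
  obtain ⟨k, hk⟩ : ∃ k : ℤ, b1 - b2 = 27 * k := ⟨(b1 - b2) / 27, by omega⟩
  have hdiff : (b1 - b2) ^ 2 = T * (T - 24 * n) := by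
    rw [hT]; nlinarith [heq]
  have hsum : b1 ^ 2 + b2 ^ 2 = T * (T - 12 * n) := by
    rw [hT]; nlinarith [heq]
  rcases lt_trichotomy T 0 with hneg | hzero | hpos
  · -- T < 0
    obtain ⟨τ, hτ⟩ : ∃ τ : ℤ, τ = -T := ⟨_, rfl⟩
    have hτpos : 0 < τ := by omega
    have hle : τ * (τ + 12 * n) ≤ 648 * n := by
      have : T * (T - 12 * n) = τ * (τ + 12 * n) := by rw [hτ]; ring
      rw [← this, ← hsum]; exact hsq
    have hτlt : τ < 54 := by
      by_contra hge
      have hge' : 54 ≤ τ := by omega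
      nlinarith
    have hτ27 : τ % 27 = 3 := by omega
    have hcases : τ = 3 ∨ τ = 30 := by omega
    have hd2 : (27 * k) ^ 2 = τ * (τ + 24 * n) := by
      rw [← hk, hdiff, hτ]; ring
    obtain ⟨m, hm⟩ : ∃ m : ℤ, m = k ^ 2 := ⟨_, rfl⟩
    have hd3 : 729 * m = τ * (τ + 24 * n) := by
      rw [hm, ← hd2]; ring
    rcases hcases with h3 | h30
    · rw [h3] at hd3
      omega
    · rw [h30] at hd3
      omega
  · omega
  · -- T > 0
    by_cases hbig : 24 * n ≤ T
    · have h1 : 288 * n ^ 2 ≤ 648 * n := by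
        have : 288 * n ^ 2 ≤ T * (T - 12 * n) := by nlinarith
        rw [← hsum] at this
        linarith
      have hn2 : n ≤ 2 := by nlinarith
      omega
    · exfalso
      have hlt : T < 24 * n := by omega
      have hneg : T * (T - 24 * n) < 0 := by nlinarith
      have := sq_nonneg (b1 - b2)
      rw [hdiff] at this
      linarith

/-- rational form: `1/b1 + 1/b2 = 108/g` with `g = 648 n`. -/
theorem bfamily_endgame_rat (b1 b2 n : ℤ) (g : ℚ) (hg : g = 648 * n) (hn : 1 ≤ n)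
    (hn27 : n % 27 = 1) (hb1 : b1 % 27 = 12) (hb2 : b2 % 27 = 12)
    (heq : (1 : ℚ) / b1 + 1 / b2 = 108 / g)
    (hsq : b1 ^ 2 + b2 ^ 2 ≤ 648 * n) : n = 1 := by
  have hb1ne : (b1 : ℚ) ≠ 0 := by
    have : b1 ≠ 0 := by intro h; rw [h] at hb1; omega
    exact_mod_cast this
  have hb2ne : (b2 : ℚ) ≠ 0 := by
    have : b2 ≠ 0 := by intro h; rw [h] at hb2; omega
    exact_mod_cast this
  have hnne : (n : ℚ) ≠ 0 := by
    have : n ≠ 0 := by omega
    exact_mod_cast this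
  have hq : (6 : ℚ) * n * (b1 + b2) = b1 * b2 := by
    rw [hg] at heq
    field_simp at heq
    linarith
  have hz : 6 * n * (b1 + b2) = b1 * b2 := by exact_mod_cast hq
  exact bfamily_endgame b1 b2 n hn hn27 hb1 hb2 hz hsq

end Cfsg.Agent.Helper26.S3702
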