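import Mathlib

set_option autoImplicit false

/-!
# S3702: the linear algebra behind the seven mixed-weight class-constant equations

`F A B C` are the sums of `chi(1)^3 / D`, `1/D`, `1/D`, `1/D` over the characters of `G` of
`S4`-type, `a`-type `(3,0,-3)`, `b`-type `(0,-3,3)`, `c`-type `(-4,2,-1)`; `P S T` are `1/D` for the
three extra characters `(-4,-1,2)`, `(3,-3,0)`, `(-1,2,-4)` of the exotic realization; `r = 1/|G|`.
Monomial order: `x1^2 x2, x1 x2^2, x1 x2 x3, x1^2 x3, x1 x3^2, x2^2 x3, x2 x3^2`.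
-/

namespace Cfsg.Agent.Helper26.S3702

/-- exotic realization: the seven equations force `1/D_P = 1/D_S = 1/D_T = 0`. -/
theorem exotic_kill (F A B C P S T r : ℚ)
    (e1 : F + 32 * C - 16 * P - 27 * S + 2 * T = 23328 * r)
    (e2 : F - 16 * C - 4 * P + 27 * S - 4 * T = 11664 * r)
    (e3 : F + 8 * C + 8 * P + 8 * T = 17496 * r)
    (e4 : F - 27 * A - 16 * C + 32 * P - 4 * T = 0)
    (e5 : F + 27 * A - 4 * C - 16 * P - 16 * T = 26244 * r)
    (e6 : F + 27 * B - 4 * C + 2 * P - 16 * T = 17496 * r)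
    (e7 : F - 27 * B + 2 * C - 4 * P + 32 * T = 13122 * r) :
    P = 0 ∧ S = 0 ∧ T = 0 := by
  refine ⟨?_, ?_, ?_⟩ <;> linarith

/-- natural realization: the seven equations give `F, A, B, C`. -/
theorem natural_solve (F A B C r : ℚ)
    (e1 : F + 32 * C = 23328 * r)
    (e2 : F - 16 * C = 11664 * r)
    (e4 : F - 27 * A - 16 * C = 0)
    (e6 : F + 27 * B - 4 * C = 17496 * r) :
    F = 15552 * r ∧ A = 432 * r ∧ B = 108 * r ∧ C = 243 * r := by
  refine ⟨?_, ?_, ?_, ?_⟩ <;> linarith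

end Cfsg.Agent.Helper26.S3702
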