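import Mathlib
import Cfsg.Agent.Lib.Helper13.FieldAutFixed

/-!
# S2262 piece AO-P2B (helper26): a polynomial fixed by `σ` descends to the fixed field.
-/

set_option autoImplicit false

namespace Cfsg.Agent.Helper17.AO

open Polynomial
open Cfsg.Agent.Helper13.FAut (fixedField mem_fixedField)

section poly
variable {F : Type*} [Field F]

/-- AO-P2B -/
theorem descend_poly (σ : RingAut F) (f : F[X]) (hf : f.map (σ : F →+* F) = f) :
    ∃ f' : (fixedField σ)[X], f'.map (fixedField σ).subtype = f := by
  rw [← Polynomial.mem_lifts, Polynomial.lifts_iff_coeff_lifts]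
  intro n
  have h : σ (f.coeff n) = f.coeff n := by
    have := congrArg (fun g : F[X] => g.coeff n) hf
    simpa [Polynomial.coeff_map] using this
  exact ⟨⟨f.coeff n, (mem_fixedField σ _).2 h⟩, rfl⟩

end poly

end Cfsg.Agent.Helper17.AO
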