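import Cfsg.Agent.Lib.Helper26.CG3Code

/-!
# S3412 (helper26): kernel scans of `SL₃(3)` (machine generated), file 2 of 12.

`c_g` is the list of the codes of the elements of `SL₃(3)` commuting with the element coded by `g`.
-/

set_option autoImplicit false

namespace Cfsg.Agent.Helper26.CG3

def c_6618 : List ℕ := [6594, 6618, 6643, 6725, 13237, 13261, 13319, 13343]

theorem scan_6618 : (List.range 19683).filter (commB 6618) = c_6618 := by
  decide +kernel

def c_6619 : List ℕ := [6596, 6619, 6643, 6675, 6725, 6780]

theorem scan_6619 : (List.range 19683).filter (commB 6619) = c_6619 := by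
  decide +kernel

def c_6620 : List ℕ := [6595, 6620, 6643, 6699, 6725, 6756, 6856, 6881, 6904, 6960, 6986, 7017, 7090, 7115, 7138, 7194, 7220, 7251, 9511, 9536, 9559, 9615, 9641, 9672, 9772, 9797, 9820, 9876, 9902, 9933, 10006, 10031, 10054, 10110, 10136, 10167, 12427, 12452, 12475, 12531, 12557, 12588, 12688, 12713, 12736, 12792, 12818, 12849, 12922, 12947, 12970, 13026, 13052, 13083]

theorem scan_6620 : (List.range 19683).filter (commB 6620) = c_6620 := by
  decide +kernel

def c_6646 : List ℕ := [6643, 6646, 6649, 6652, 6655, 6658, 6661, 6664, 6667, 6725, 6728, 6731, 6734, 6737, 6740, 6743, 6746, 6749, 8830, 8833, 8836, 8839, 8842, 8845, 8848, 8851, 8854, 8912, 8915, 8918, 8921, 8924, 8927, 8930, 8933, 8936, 11017, 11020, 11023, 11026, 11029, 11032, 11035, 11038, 11041, 11099, 11102, 11105, 11108, 11111, 11114, 11117, 11120, 11123]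

theorem scan_6646 : (List.range 19683).filter (commB 6646) = c_6646 := by
  decide +kernel

end Cfsg.Agent.Helper26.CG3
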