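import Cfsg.Agent.Lib.Helper26.CG3Code

/-!
# S3412 (helper26): kernel scans of `SL₃(3)` (machine generated), file 3 of 12.

`c_g` is the list of the codes of the elements of `SL₃(3)` commuting with the element coded by `g`.
-/

set_option autoImplicit false

namespace Cfsg.Agent.Helper26.CG3

def c_6649 : List ℕ := [6643, 6646, 6649, 6652, 6655, 6658, 6661, 6664, 6667, 6725, 6728, 6731, 6734, 6737, 6740, 6743, 6746, 6749, 8830, 8833, 8836, 8839, 8842, 8845, 8848, 8851, 8854, 8912, 8915, 8918, 8921, 8924, 8927, 8930, 8933, 8936, 11017, 11020, 11023, 11026, 11029, 11032, 11035, 11038, 11041, 11099, 11102, 11105, 11108, 11111, 11114, 11117, 11120, 11123]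

theorem scan_6649 : (List.range 19683).filter (commB 6649) = c_6649 := by
  decide +kernel

def c_6670 : List ℕ := [6643, 6670, 6697, 6725, 6752, 6779, 6886, 6913, 6940, 6968, 6995, 7022, 7129, 7156, 7183, 7211, 7238, 7265, 7372, 7399, 7426, 7454, 7481, 7508, 7615, 7642, 7669, 7697, 7724, 7751, 7858, 7885, 7912, 7940, 7967, 7994, 8101, 8128, 8155, 8183, 8210, 8237, 8344, 8371, 8398, 8426, 8453, 8480, 8587, 8614, 8641, 8669, 8696, 8723]

theorem scan_6670 : (List.range 19683).filter (commB 6670) = c_6670 := by
  decide +kernel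

def c_6674 : List ℕ := [6643, 6674, 6725, 6784, 13153, 13184, 13263, 13314]

theorem scan_6674 : (List.range 19683).filter (commB 6674) = c_6674 := by
  decide +kernel

def c_6675 : List ℕ := [6596, 6619, 6643, 6675, 6725, 6780]

theorem scan_6675 : (List.range 19683).filter (commB 6675) = c_6675 := by
  decide +kernel

end Cfsg.Agent.Helper26.CG3
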