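import Cfsg.Agent.Lib.Helper26.CG3Code

/-!
# S3412 (helper26): kernel scans of `SL₃(3)` (machine generated), file 4 of 12.

`c_g` is the list of the codes of the elements of `SL₃(3)` commuting with the element coded by `g`.
-/

set_option autoImplicit false

namespace Cfsg.Agent.Helper26.CG3

def c_6697 : List ℕ := [6643, 6670, 6697, 6725, 6752, 6779, 6886, 6913, 6940, 6968, 6995, 7022, 7129, 7156, 7183, 7211, 7238, 7265, 7372, 7399, 7426, 7454, 7481, 7508, 7615, 7642, 7669, 7697, 7724, 7751, 7858, 7885, 7912, 7940, 7967, 7994, 8101, 8128, 8155, 8183, 8210, 8237, 8344, 8371, 8398, 8426, 8453, 8480, 8587, 8614, 8641, 8669, 8696, 8723]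

theorem scan_6697 : (List.range 19683).filter (commB 6697) = c_6697 := by
  decide +kernel

def c_6699 : List ℕ := [6595, 6620, 6643, 6699, 6725, 6756]

theorem scan_6699 : (List.range 19683).filter (commB 6699) = c_6699 := by
  decide +kernel

def c_6704 : List ℕ := [6643, 6704, 6725, 6754, 13154, 13183, 13233, 13344]

theorem scan_6704 : (List.range 19683).filter (commB 6704) = c_6704 := by
  decide +kernel

def c_6728 : List ℕ := [6643, 6646, 6649, 6725, 6728, 6731]

theorem scan_6728 : (List.range 19683).filter (commB 6728) = c_6728 := by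
  decide +kernel

end Cfsg.Agent.Helper26.CG3
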