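import Cfsg.Agent.Lib.Helper26.CG3Code

/-!
# S3412 (helper26): kernel scans of `SL₃(3)` (machine generated), file 5 of 12.

`c_g` is the list of the codes of the elements of `SL₃(3)` commuting with the element coded by `g`.
-/

set_option autoImplicit false

namespace Cfsg.Agent.Helper26.CG3

def c_6731 : List ℕ := [6643, 6646, 6649, 6725, 6728, 6731]

theorem scan_6731 : (List.range 19683).filter (commB 6731) = c_6731 := by
  decide +kernel

def c_6752 : List ℕ := [6643, 6670, 6697, 6725, 6752, 6779]

theorem scan_6752 : (List.range 19683).filter (commB 6752) = c_6752 := by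
  decide +kernel

def c_6754 : List ℕ := [6643, 6704, 6725, 6754, 13154, 13183, 13233, 13344]

theorem scan_6754 : (List.range 19683).filter (commB 6754) = c_6754 := by
  decide +kernel

def c_6756 : List ℕ := [6595, 6620, 6643, 6699, 6725, 6756, 6856, 6881, 6904, 6960, 6986, 7017, 7090, 7115, 7138, 7194, 7220, 7251, 9511, 9536, 9559, 9615, 9641, 9672, 9772, 9797, 9820, 9876, 9902, 9933, 10006, 10031, 10054, 10110, 10136, 10167, 12427, 12452, 12475, 12531, 12557, 12588, 12688, 12713, 12736, 12792, 12818, 12849, 12922, 12947, 12970, 13026, 13052, 13083]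

theorem scan_6756 : (List.range 19683).filter (commB 6756) = c_6756 := by
  decide +kernel

end Cfsg.Agent.Helper26.CG3
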