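import Cfsg.Agent.Lib.Helper26.CG3Code

/-!
# S3412 (helper26): kernel scans of `SL₃(3)` (machine generated), file 6 of 12.

`c_g` is the list of the codes of the elements of `SL₃(3)` commuting with the element coded by `g`.
-/

set_option autoImplicit false

namespace Cfsg.Agent.Helper26.CG3

def c_6779 : List ℕ := [6643, 6670, 6697, 6725, 6752, 6779]

theorem scan_6779 : (List.range 19683).filter (commB 6779) = c_6779 := by
  decide +kernel

def c_6780 : List ℕ := [6596, 6619, 6643, 6675, 6725, 6780, 6848, 6871, 6895, 6927, 6977, 7032, 7100, 7123, 7147, 7179, 7229, 7284, 10241, 10264, 10288, 10320, 10370, 10425, 10493, 10516, 10540, 10572, 10622, 10677, 10745, 10768, 10792, 10824, 10874, 10929, 11699, 11722, 11746, 11778, 11828, 11883, 11951, 11974, 11998, 12030, 12080, 12135, 12203, 12226, 12250, 12282, 12332, 12387]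

theorem scan_6780 : (List.range 19683).filter (commB 6780) = c_6780 := by
  decide +kernel

def c_6784 : List ℕ := [6643, 6674, 6725, 6784, 13153, 13184, 13263, 13314]

theorem scan_6784 : (List.range 19683).filter (commB 6784) = c_6784 := by
  decide +kernel

def c_13152 : List ℕ := [3936, 3988, 4130, 4200, 4252, 4304, 5424, 5476, 5528, 5628, 5680, 5822, 6643, 6725, 6904, 6986, 7138, 7220, 10288, 10370, 10527, 10691, 10731, 10813, 11746, 11828, 11955, 12037, 12219, 12383, 13152, 13182, 13413, 13443, 13647, 13677, 16797, 16827, 17192, 17252, 17344, 17374, 18255, 18285, 18568, 18598, 18884, 18944]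

theorem scan_13152 : (List.range 19683).filter (commB 13152) = c_13152 := by
  decide +kernel

end Cfsg.Agent.Helper26.CG3
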