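import Cfsg.Agent.Lib.Helper26.CG3Code

/-!
# S3412 (helper26): kernel scans of `SL₃(3)` (machine generated), file 7 of 12.

`c_g` is the list of the codes of the elements of `SL₃(3)` commuting with the element coded by `g`.
-/

set_option autoImplicit false

namespace Cfsg.Agent.Helper26.CG3

def c_13153 : List ℕ := [6643, 6674, 6725, 6784, 13153, 13184, 13263, 13314]

theorem scan_13153 : (List.range 19683).filter (commB 13153) = c_13153 := by
  decide +kernel

def c_13154 : List ℕ := [6643, 6704, 6725, 6754, 13154, 13183, 13233, 13344]

theorem scan_13154 : (List.range 19683).filter (commB 13154) = c_13154 := by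
  decide +kernel

def c_13182 : List ℕ := [3228, 3250, 3362, 3450, 3562, 3584, 6114, 6226, 6248, 6396, 6418, 6530, 6643, 6725, 6895, 6977, 7147, 7229, 9559, 9641, 9759, 9923, 10041, 10123, 12475, 12557, 12705, 12787, 12927, 13091, 13152, 13182, 13404, 13434, 13656, 13686, 16068, 16098, 16454, 16484, 16624, 16684, 18984, 19014, 19288, 19348, 19622, 19652]

theorem scan_13182 : (List.range 19683).filter (commB 13182) = c_13182 := by
  decide +kernel

def c_13183 : List ℕ := [6643, 6704, 6725, 6754, 13154, 13183, 13233, 13344]

theorem scan_13183 : (List.range 19683).filter (commB 13183) = c_13183 := by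
  decide +kernel

end Cfsg.Agent.Helper26.CG3
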