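import Cfsg.Agent.Lib.Helper26.CG3Code

/-!
# S3412 (helper26): kernel scans of `SL₃(3)` (machine generated), file 8 of 12.

`c_g` is the list of the codes of the elements of `SL₃(3)` commuting with the element coded by `g`.
-/

set_option autoImplicit false

namespace Cfsg.Agent.Helper26.CG3

def c_13184 : List ℕ := [6643, 6674, 6725, 6784, 13153, 13184, 13263, 13314]

theorem scan_13184 : (List.range 19683).filter (commB 13184) = c_13184 := by
  decide +kernel

def c_13205 : List ℕ := [828, 829, 830, 900, 901, 902, 1548, 1549, 1550, 1638, 1639, 1640, 6643, 6652, 6661, 6725, 6734, 6743, 7372, 7382, 7389, 7454, 7461, 7471, 8101, 8109, 8120, 8183, 8191, 8199, 13205, 13214, 13223, 13285, 13294, 13303, 13934, 13942, 13950, 14014, 14022, 14033, 14663, 14670, 14680, 14743, 14753, 14760]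

theorem scan_13205 : (List.range 19683).filter (commB 13205) = c_13205 := by
  decide +kernel

def c_13208 : List ℕ := [3016, 3020, 3021, 3089, 3090, 3094, 5923, 5927, 5928, 6014, 6015, 6019, 6643, 6652, 6661, 6725, 6734, 6743, 9559, 9572, 9582, 9641, 9651, 9664, 12475, 12489, 12497, 12557, 12571, 12576, 13208, 13217, 13226, 13291, 13300, 13309, 16124, 16129, 16143, 16207, 16212, 16220, 19040, 19050, 19054, 19123, 19127, 19137]

theorem scan_13208 : (List.range 19683).filter (commB 13208) = c_13208 := by
  decide +kernel

def c_13211 : List ℕ := [3736, 3738, 3743, 3827, 3829, 3831, 5203, 5205, 5210, 5276, 5278, 5280, 6643, 6652, 6661, 6725, 6734, 6743, 10288, 10299, 10313, 10370, 10381, 10392, 11746, 11762, 11766, 11828, 11841, 11848, 13211, 13220, 13229, 13288, 13297, 13306, 16856, 16860, 16867, 16933, 16940, 16953, 18314, 18316, 18327, 18391, 18402, 18407]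

theorem scan_13211 : (List.range 19683).filter (commB 13211) = c_13211 := by
  decide +kernel

end Cfsg.Agent.Helper26.CG3
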