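import Cfsg.Agent.Lib.Helper26.CG3Code

/-!
# S3412 (helper26): kernel scans of `SL₃(3)` (machine generated), file 9 of 12.

`c_g` is the list of the codes of the elements of `SL₃(3)` commuting with the element coded by `g`.
-/

set_option autoImplicit false

namespace Cfsg.Agent.Helper26.CG3

def c_13232 : List ℕ := [1145, 1170, 1198, 1315, 1343, 1368, 1792, 1820, 1845, 2126, 2151, 2179, 6643, 6725, 6895, 6977, 7147, 7229, 7372, 7454, 7652, 7731, 7929, 8011, 8101, 8183, 8406, 8488, 8633, 8712, 13232, 13339, 13484, 13591, 13736, 13843, 13961, 14068, 14185, 14292, 14490, 14519, 14690, 14797, 14967, 14996, 15166, 15273]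

theorem scan_13232 : (List.range 19683).filter (commB 13232) = c_13232 := by
  decide +kernel

def c_13233 : List ℕ := [6643, 6704, 6725, 6754, 13154, 13183, 13233, 13344]

theorem scan_13233 : (List.range 19683).filter (commB 13233) = c_13233 := by
  decide +kernel

def c_13237 : List ℕ := [6594, 6618, 6643, 6725, 13237, 13261, 13319, 13343]

theorem scan_13237 : (List.range 19683).filter (commB 13237) = c_13237 := by
  decide +kernel

def c_13259 : List ℕ := [1072, 1098, 1127, 1388, 1414, 1440, 1883, 1909, 1935, 2035, 2061, 2090, 6643, 6725, 6904, 6986, 7138, 7220, 7372, 7454, 7659, 7741, 7922, 8001, 8101, 8183, 8417, 8496, 8622, 8704, 13259, 13312, 13520, 13573, 13754, 13807, 13988, 14041, 14220, 14276, 14428, 14562, 14717, 14770, 14923, 15057, 15183, 15239]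

theorem scan_13259 : (List.range 19683).filter (commB 13259) = c_13259 := by
  decide +kernel

end Cfsg.Agent.Helper26.CG3
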