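import Cfsg.Agent.Lib.Helper26.CG3Code

/-!
# S3412 (helper26): kernel scans of `SL₃(3)` (machine generated), file 10 of 12.

`c_g` is the list of the codes of the elements of `SL₃(3)` commuting with the element coded by `g`.
-/

set_option autoImplicit false

namespace Cfsg.Agent.Helper26.CG3

def c_13261 : List ℕ := [6594, 6618, 6643, 6725, 13237, 13261, 13319, 13343]

theorem scan_13261 : (List.range 19683).filter (commB 13261) = c_13261 := by
  decide +kernel

def c_13263 : List ℕ := [6643, 6674, 6725, 6784, 13153, 13184, 13263, 13314]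

theorem scan_13263 : (List.range 19683).filter (commB 13263) = c_13263 := by
  decide +kernel

def c_13285 : List ℕ := [2432, 2513, 2594, 2674, 2755, 2836, 4618, 4699, 4780, 4862, 4943, 5024, 6643, 6725, 6886, 6968, 7129, 7211, 8830, 8912, 8993, 9154, 9235, 9317, 11017, 11099, 11179, 11261, 11423, 11584, 13205, 13285, 13448, 13528, 13691, 13771, 15392, 15472, 15554, 15634, 15796, 15959, 17579, 17659, 17740, 17903, 17984, 18064]

theorem scan_13285 : (List.range 19683).filter (commB 13285) = c_13285 := by
  decide +kernel

def c_13288 : List ℕ := [2444, 2528, 2603, 2698, 2773, 2857, 4633, 4708, 4792, 4883, 4967, 5042, 6643, 6725, 6895, 6977, 7147, 7229, 8830, 8912, 9005, 9166, 9259, 9341, 11017, 11099, 11194, 11276, 11444, 11605, 13211, 13288, 13463, 13540, 13715, 13792, 15398, 15475, 15566, 15643, 15820, 15977, 17585, 17662, 17755, 17912, 18005, 18082]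

theorem scan_13288 : (List.range 19683).filter (commB 13288) = c_13288 := by
  decide +kernel

end Cfsg.Agent.Helper26.CG3
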