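import Cfsg.Agent.Lib.Helper26.CG3Code

/-!
# S3412 (helper26): kernel scans of `SL₃(3)` (machine generated), file 11 of 12.

`c_g` is the list of the codes of the elements of `SL₃(3)` commuting with the element coded by `g`.
-/

set_option autoImplicit false

namespace Cfsg.Agent.Helper26.CG3

def c_13291 : List ℕ := [2456, 2534, 2612, 2686, 2764, 2851, 4639, 4717, 4804, 4877, 4955, 5033, 6643, 6725, 6904, 6986, 7138, 7220, 8830, 8912, 9017, 9178, 9247, 9329, 11017, 11099, 11200, 11282, 11438, 11599, 13208, 13291, 13469, 13552, 13703, 13786, 15395, 15478, 15578, 15652, 15808, 15968, 17582, 17665, 17761, 17921, 17999, 18073]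

theorem scan_13291 : (List.range 19683).filter (commB 13291) = c_13291 := by
  decide +kernel

def c_13312 : List ℕ := [3188, 3296, 3323, 3457, 3484, 3592, 6130, 6157, 6265, 6347, 6455, 6482, 6643, 6725, 6886, 6968, 7129, 7211, 9559, 9641, 9749, 9910, 10018, 10100, 12475, 12557, 12691, 12773, 12908, 13069, 13259, 13312, 13502, 13555, 13745, 13798, 16175, 16228, 16310, 16363, 16579, 16688, 19091, 19144, 19252, 19361, 19469, 19522]

theorem scan_13312 : (List.range 19683).filter (commB 13312) = c_13312 := by
  decide +kernel

def c_13314 : List ℕ := [6643, 6674, 6725, 6784, 13153, 13184, 13263, 13314]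

theorem scan_13314 : (List.range 19683).filter (commB 13314) = c_13314 := by
  decide +kernel

def c_13319 : List ℕ := [6594, 6618, 6643, 6725, 13237, 13261, 13319, 13343]

theorem scan_13319 : (List.range 19683).filter (commB 13319) = c_13319 := by
  decide +kernel

end Cfsg.Agent.Helper26.CG3
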