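import Cfsg.Agent.Lib.Helper26.CG3Code

/-!
# S3412 (helper26): kernel scans of `SL₃(3)` (machine generated), file 12 of 12.

`c_g` is the list of the codes of the elements of `SL₃(3)` commuting with the element coded by `g`.
-/

set_option autoImplicit false

namespace Cfsg.Agent.Helper26.CG3

def c_13339 : List ℕ := [3944, 3998, 4052, 4159, 4213, 4348, 5374, 5428, 5563, 5645, 5699, 5753, 6643, 6725, 6886, 6968, 7129, 7211, 10288, 10370, 10505, 10666, 10720, 10802, 11746, 11828, 11935, 12017, 12206, 12367, 13232, 13339, 13475, 13582, 13718, 13825, 16877, 16984, 17066, 17092, 17281, 17417, 18335, 18442, 18496, 18632, 18767, 18793]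

theorem scan_13339 : (List.range 19683).filter (commB 13339) = c_13339 := by
  decide +kernel

def c_13343 : List ℕ := [6594, 6618, 6643, 6725, 13237, 13261, 13319, 13343]

theorem scan_13343 : (List.range 19683).filter (commB 13343) = c_13343 := by
  decide +kernel

def c_13344 : List ℕ := [6643, 6704, 6725, 6754, 13154, 13183, 13233, 13344]

theorem scan_13344 : (List.range 19683).filter (commB 13344) = c_13344 := by
  decide +kernel

def c_10539 : List ℕ := [885, 2570, 3374, 3899, 6643, 8062, 9210, 10539, 12251, 13109, 14705, 15610, 19506]

theorem scan_10539 : (List.range 19683).filter (commB 10539) = c_10539 := by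
  decide +kernel

end Cfsg.Agent.Helper26.CG3
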