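import Cfsg.Agent.Lib.Helper26.CG3Scan01
import Cfsg.Agent.Lib.Helper26.CG3Scan02
import Cfsg.Agent.Lib.Helper26.CG3Scan03
import Cfsg.Agent.Lib.Helper26.CG3Scan04
import Cfsg.Agent.Lib.Helper26.CG3Scan05
import Cfsg.Agent.Lib.Helper26.CG3Scan06
import Cfsg.Agent.Lib.Helper26.CG3Scan07
import Cfsg.Agent.Lib.Helper26.CG3Scan08
import Cfsg.Agent.Lib.Helper26.CG3Scan09
import Cfsg.Agent.Lib.Helper26.CG3Scan10
import Cfsg.Agent.Lib.Helper26.CG3Scan11
import Cfsg.Agent.Lib.Helper26.CG3Scan12

/-!
# S3412 (helper26): the table of centralizers (machine generated).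

`tbl` lists, for `T0`, for each of the other 46 non-identity elements of `C(T0)`, and for `X0`, the code `g` together
with the list `c_g` of the codes of its centralizer in `SL₃(3)`; `tbl_ok` says each list is the result of the scan.
-/

set_option autoImplicit false

namespace Cfsg.Agent.Helper26.CG3

/-- the codes of the centralizer of `T0 = diag(2,2,1)` (48 elements, including `I0` and `T0`) -/
def LT : List ℕ := c_6725

/-- the table of centralizers -/
def tbl : List (ℕ × List ℕ) :=
  [(6725, c_6725),
   (6594, c_6594),
   (6595, c_6595),
   (6596, c_6596),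
   (6618, c_6618),
   (6619, c_6619),
   (6620, c_6620),
   (6646, c_6646),
   (6649, c_6649),
   (6670, c_6670),
   (6674, c_6674),
   (6675, c_6675),
   (6697, c_6697),
   (6699, c_6699),
   (6704, c_6704),
   (6728, c_6728),
   (6731, c_6731),
   (6752, c_6752),
   (6754, c_6754),
   (6756, c_6756),
   (6779, c_6779),
   (6780, c_6780),
   (6784, c_6784),
   (13152, c_13152),
   (13153, c_13153),
   (13154, c_13154),
   (13182, c_13182),
   (13183, c_13183),
   (13184, c_13184),
   (13205, c_13205),
   (13208, c_13208),
   (13211, c_13211),
   (13232, c_13232),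
   (13233, c_13233),
   (13237, c_13237),
   (13259, c_13259),
   (13261, c_13261),
   (13263, c_13263),
   (13285, c_13285),
   (13288, c_13288),
   (13291, c_13291),
   (13312, c_13312),
   (13314, c_13314),
   (13319, c_13319),
   (13339, c_13339),
   (13343, c_13343),
   (13344, c_13344),
   (10539, c_10539)]

theorem tbl_ok : ∀ p ∈ tbl, (List.range 19683).filter (commB p.1) = p.2 := by
  unfold tbl
  simp only [List.forall_mem_cons, List.not_mem_nil, false_imp_iff, implies_true, and_true]
  exact ⟨scan_6725, scan_6594, scan_6595, scan_6596, scan_6618, scan_6619, scan_6620, scan_6646, scan_6649, scan_6670, scan_6674, scan_6675, scan_6697, scan_6699, scan_6704, scan_6728, scan_6731, scan_6752, scan_6754, scan_6756, scan_6779, scan_6780, scan_6784, scan_13152, scan_13153, scan_13154, scan_13182, scan_13183, scan_13184, scan_13205, scan_13208, scan_13211, scan_13232, scan_13233, scan_13237, scan_13259, scan_13261, scan_13263, scan_13285, scan_13288, scan_13291, scan_13312, scan_13314, scan_13319, scan_13339, scan_13343, scan_13344, scan_10539⟩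

/-- the identity commutes with all `5616` elements -/
theorem scan_one : ((List.range 19683).filter (commB I0)).length = 5616 := by
  decide +kernel

/-- the centralizer list of `n` according to the table (`[]` if `n` is not a key) -/
def look (n : ℕ) : List ℕ := (tbl.lookup n).getD []

end Cfsg.Agent.Helper26.CG3
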