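import Mathlib
import Cfsg.Agent.Lib.Helper18.LevDefs

/-!
# S2522 (Lev), piece LEV-STEP2, core (helper26): dimension 2, given the vector `e` of `exists_e`.
-/

set_option autoImplicit false

namespace Cfsg.Agent.Helper18.Lev

open Module

universe u v

variable {K : Type u} [Field K] {V : Type v} [AddCommGroup V] [Module K V]

/-- core of `step_two`: everything except the choice of `e`. -/
theorem step2_core [FiniteDimensional K V] (h2 : finrank K V = 2)
    (g : V →ₗ[K] V) (hdet : LinearMap.det g = 1) (hH : HH g)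
    (x0 : V) (y0 : V →ₗ[K] K)
    (e : V) (hind : LinearIndependent K ![e, g e - e]) (hy : y0 e ≠ 0)
    (hx : x0 ∉ Submodule.span K {g e - e}) :
    ∃ (φ : V →ₗ[K] K), φ e = 1 ∧ φ (g e) = 1 ∧ φ x0 ≠ 0 ∧ y0 e ≠ 0 ∧
      childX g e φ ≠ 0 ∧ childY g φ ≠ 0 ∧ child g e φ = LinearMap.id := by
  classical
  have hcard : Fintype.card (Fin 2) = finrank K V := by simp [h2]
  let b : Basis (Fin 2) K V := basisOfLinearIndependentOfCardEqFinrank hind hcard
  have hb0 : b 0 = e := by simp [b]
  have hb1 : b 1 = g e - e := by simp [b]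
  have hdecomp : ∀ v : V, v = b.coord 0 v • e + b.coord 1 v • (g e - e) := by
    intro v
    have h := b.sum_repr v
    rw [Fin.sum_univ_two, hb0, hb1] at h
    simpa [Basis.coord_apply] using h.symm
  have hφe : b.coord 0 e = 1 := by
    have h : b.coord 0 (b 0) = 1 := by simp
    rwa [hb0] at h
  have hφu : b.coord 0 (g e - e) = 0 := by
    have h : b.coord 0 (b 1) = 0 := by simp
    rwa [hb1] at h
  have hψe : b.coord 1 e = 0 := by
    have h : b.coord 1 (b 0) = 0 := by simp
    rwa [hb0] at h
  have hψu : b.coord 1 (g e - e) = 1 := by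
    have h : b.coord 1 (b 1) = 1 := by simp
    rwa [hb1] at h
  have hge : g e = e + (g e - e) := by abel
  have hφge : b.coord 0 (g e) = 1 := by
    rw [hge, map_add, hφe, hφu, add_zero]
  have hψge : b.coord 1 (g e) = 1 := by
    rw [hge, map_add, hψe, hψu, zero_add]
  have hu0 : g e - e ≠ 0 := by
    have h := hind.ne_zero 1
    simpa using h
  -- `g - 1` is injective
  have hker : LinearMap.ker (g - LinearMap.id) = ⊥ := by
    have h := LinearMap.finrank_range_add_finrank_ker (g - LinearMap.id)
    have h' := hH.2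
    apply Submodule.finrank_eq_zero.mp
    omega
  have hpair := LinearIndependent.pair_iff.mp hind
  -- `φ (N u) ≠ 0`
  have hNu : b.coord 0 (g (g e - e) - (g e - e)) ≠ 0 := by
    intro h0
    have hd := hdecomp (g (g e - e) - (g e - e))
    rw [h0, zero_smul, zero_add] at hd
    set t : K := b.coord 1 (g (g e - e) - (g e - e)) with ht
    have hmem : (g e - e) - t • e ∈ LinearMap.ker (g - LinearMap.id) := by
      rw [LinearMap.mem_ker]
      simp only [LinearMap.sub_apply, LinearMap.id_coe, id_eq, map_sub, map_smul]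
      have hd' : g (g e) - g e - (g e - e) = t • (g e - e) := by
        have := hd
        simpa [map_sub] using this
      rw [hd']
      exact sub_self _
    rw [hker, Submodule.mem_bot] at hmem
    have h1 := hpair (-t) 1 (by rw [neg_smul, one_smul]; rw [← hmem]; abel)
    exact one_ne_zero h1.2
  refine ⟨b.coord 0, hφe, hφge, ?_, hy, ?_, ?_, ?_⟩
  · -- φ x0 ≠ 0
    intro h0
    apply hx
    have hd := hdecomp x0
    rw [h0, zero_smul, zero_add] at hd
    exact Submodule.mem_span_singleton.mpr ⟨_, hd.symm⟩
  · -- childX ≠ 0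
    intro h
    have h' := congrArg (Subtype.val) h
    rw [childX_coe' g e _ hφe hφge] at h'
    exact hu0 (by simpa using h')
  · -- childY ≠ 0
    intro h
    have hmem : (g e - e) ∈ LinearMap.ker (b.coord 0) := by
      rw [LinearMap.mem_ker]; exact hφu
    have h' := congrArg (fun f => f ⟨g e - e, hmem⟩) h
    simp only [childY_apply, LinearMap.zero_apply] at h'
    apply hNu
    rw [map_sub, h', hφu, sub_zero]
  · -- child = id
    -- determinant in the basis
    have hdetM := LinearMap.det_toMatrix b g
    rw [Matrix.det_fin_two, hdet] at hdetM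
    simp only [LinearMap.toMatrix_apply, hb0, hb1] at hdetM
    have e00 : b.repr (g e) 0 = 1 := by
      have := hφge; simpa [Basis.coord_apply] using this
    have e10 : b.repr (g e) 1 = 1 := by
      have := hψge; simpa [Basis.coord_apply] using this
    rw [e00, e10, one_mul, mul_one] at hdetM
    -- hdetM : b.repr (g u) 1 - b.repr (g u) 0 = 1
    apply LinearMap.ext
    intro w
    apply Subtype.ext
    rw [child_coe' g e _ hφge]
    have hw : b.coord 0 (w : V) = 0 := LinearMap.mem_ker.mp w.2
    have hdw := hdecomp (w : V)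
    rw [hw, zero_smul, zero_add] at hdw
    obtain ⟨s, hs⟩ : ∃ s : K, s = b.coord 1 (w : V) := ⟨_, rfl⟩
    rw [← hs] at hdw
    have hgu := hdecomp (g (g e - e))
    simp only [Basis.coord_apply] at hgu
    obtain ⟨a, ha⟩ : ∃ a : K, a = b.repr (g (g e - e)) 0 := ⟨_, rfl⟩
    obtain ⟨c, hc⟩ : ∃ c : K, c = b.repr (g (g e - e)) 1 := ⟨_, rfl⟩
    rw [← ha, ← hc] at hgu hdetM
    have hgw : g (w : V) = s • g (g e - e) := by
      conv_lhs => rw [hdw]
      rw [map_smul]
    have hφgu : b.coord 0 (g (g e - e)) = a := by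
      rw [Basis.coord_apply, ha]
    have hφgw : b.coord 0 (g (w : V)) = s * a := by
      rw [hgw, map_smul, smul_eq_mul, hφgu]
    have hca : c = 1 + a := by rw [← hdetM]; ring
    obtain ⟨u, hu⟩ : ∃ u : V, u = g e - e := ⟨_, rfl⟩
    have hge' : g e = e + u := by rw [hu]; abel
    rw [← hu] at hgu hgw hdw
    simp only [LinearMap.id_coe, id_eq]
    rw [hφgw, hgw, hgu, hdw, hge', hca]
    module
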