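import Mathlib
import Cfsg.Agent.Lib.Helper18.LevDefs
import Cfsg.Agent.Lib.Helper4.LEVECHOICE
import Cfsg.Agent.Lib.Helper26.LEVSTEP2Core

/-!
# S2522 (Lev), PIECE LEV-STEP2 (helper26): `step_two`, exact skeleton signature.
-/

set_option autoImplicit false

namespace Cfsg.Agent.Helper18.Lev

open Module

universe u v

section pieces
variable {K : Type u} [Field K] {V : Type v} [AddCommGroup V] [Module K V]

/-- PIECE LEV-STEP2. -/
theorem step_two (hK : 4 ≤ Cardinal.mk K) [FiniteDimensional K V] (h2 : finrank K V = 2)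
    (g : V →ₗ[K] V) (hdet : LinearMap.det g = 1) (hH : HH g)
    (x0 : V) (hx0 : x0 ≠ 0) (y0 : V →ₗ[K] K) (hy0 : y0 ≠ 0) :
    ∃ (e : V) (φ : V →ₗ[K] K), φ e = 1 ∧ φ (g e) = 1 ∧ φ x0 ≠ 0 ∧ y0 e ≠ 0 ∧
      childX g e φ ≠ 0 ∧ childY g φ ≠ 0 ∧ child g e φ = LinearMap.id := by
  obtain ⟨e, hind, hy, hx, -⟩ := exists_e hK g hH x0 hx0 y0 hy0
  obtain ⟨φ, h⟩ := step2_core h2 g hdet hH x0 y0 e hind hy hx
  exact ⟨e, φ, h⟩

end pieces

end Cfsg.Agent.Helper18.Lev
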