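import Mathlib

/-!
# S4118 piece ORD2A3: groups of order dividing `2 ^ k * 3` are solvable

A Sylow 2-subgroup `P` has index 1 or 3; its normal core `K` is a 2-group and `A ⧸ K` has order dividing
`3! = 6`; groups of order dividing 6 are solvable.
-/

set_option autoImplicit false

namespace Cfsg.Agent.Helper2.TIH

namespace ORD2A3

/-- A group with at most 3 elements is solvable (it is cyclic). -/
theorem solvable_of_card_le_three {B : Type*} [Group B] [Finite B] (h : Nat.card B ≤ 3) :
    Group.IsSolvable B := by
  have hpos : 0 < Nat.card B := Nat.card_pos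
  have hc : IsCyclic B := by
    have h1 : Nat.card B = 1 ∨ Nat.card B = 2 ∨ Nat.card B = 3 := by omega
    rcases h1 with hB | hB | hB
    · have : Subsingleton B := (Nat.card_eq_one_iff_unique.mp hB).1
      infer_instance
    · have : Fact (Nat.Prime 2) := ⟨Nat.prime_two⟩
      exact isCyclic_of_prime_card hB
    · have : Fact (Nat.Prime 3) := ⟨Nat.prime_three⟩
      exact isCyclic_of_prime_card hB
  have hcomm := hc.isMulCommutative
  exact Group.isSolvable_of_comm (fun a b => hcomm.is_comm.comm a b)

/-- A group of order dividing 6 is solvable. -/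
theorem solvable_of_card_dvd_six {B : Type*} [Group B] [Finite B] (h : Nat.card B ∣ 6) :
    Group.IsSolvable B := by
  have hle : Nat.card B ≤ 6 := Nat.le_of_dvd (by norm_num) h
  by_cases h6 : Nat.card B = 6
  · have : Fact (Nat.Prime 3) := ⟨Nat.prime_three⟩
    obtain ⟨Q⟩ : Nonempty (Sylow 3 B) := inferInstance
    have hQ : Nat.card Q = 3 := by
      have := Q.card_eq_multiplicity
      rw [h6] at this
      have hf : (6 : ℕ).factorization 3 = 1 := by
        have : (6 : ℕ) = 2 * 3 := by norm_num
        rw [this, Nat.factorization_mul (by norm_num) (by norm_num)]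
        simp [Nat.Prime.factorization Nat.prime_two, Nat.Prime.factorization Nat.prime_three]
      rw [hf, pow_one] at this
      exact this
    have hidx : (Q : Subgroup B).index = 2 := by
      have hm := (Q : Subgroup B).card_mul_index
      rw [hQ, h6] at hm
      omega
    have hn : (Q : Subgroup B).Normal := Subgroup.normal_of_index_eq_two hidx
    have hsQ : Group.IsSolvable (Q : Subgroup B) :=
      solvable_of_card_le_three (by rw [hQ])
    have hsq : Group.IsSolvable (B ⧸ (Q : Subgroup B)) := by
      apply solvable_of_card_le_three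
      have : Nat.card (B ⧸ (Q : Subgroup B)) = 2 := by
        rw [← Subgroup.index_eq_card]; exact hidx
      omega
    exact Group.isSolvable_of_ker_le_range (Q : Subgroup B).subtype (QuotientGroup.mk' (Q : Subgroup B))
      (by simp)
  · apply solvable_of_card_le_three
    have hpos : 0 < Nat.card B := Nat.card_pos
    by_contra hcon
    have h45 : Nat.card B = 4 ∨ Nat.card B = 5 := by omega
    rcases h45 with h4 | h5
    · rw [h4] at h; omega
    · rw [h5] at h; omega

end ORD2A3

theorem solvable_of_card_dvd {A : Type*} [Group A] [Finite A] (k : ℕ) (h : Nat.card A ∣ 2 ^ k * 3) :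
    Group.IsSolvable A := by
  have : Fact (Nat.Prime 2) := ⟨Nat.prime_two⟩
  obtain ⟨P⟩ : Nonempty (Sylow 2 A) := inferInstance
  -- the index of `P` divides 3
  have hidx3 : (P : Subgroup A).index ∣ 3 := by
    have h1 : (P : Subgroup A).index ∣ 2 ^ k * 3 := ((P : Subgroup A).index_dvd_card).trans h
    have hcop : Nat.Coprime ((P : Subgroup A).index) (2 ^ k) :=
      Nat.Coprime.pow_right k ((Nat.coprime_comm.mp
        ((Nat.Prime.coprime_iff_not_dvd Nat.prime_two).mpr P.not_dvd_index)))
    exact hcop.dvd_of_dvd_mul_left h1
  have hfac : ((P : Subgroup A).index).factorial ∣ 6 := by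
    have h13 : (P : Subgroup A).index = 1 ∨ (P : Subgroup A).index = 3 :=
      (Nat.dvd_prime Nat.prime_three).mp hidx3
    rcases h13 with h1 | h3
    · rw [h1]; decide
    · rw [h3]; decide
  have hcore : (P : Subgroup A).normalCore.index ∣ 6 := by
    refine Dvd.dvd.trans ?_ hfac
    rw [Subgroup.normalCore_eq_ker, Subgroup.index_ker, Subgroup.index_eq_card, ← Nat.card_perm]
    exact Subgroup.card_subgroup_dvd_card (MulAction.toPermHom A (A ⧸ (P : Subgroup A))).range
  have hsq : Group.IsSolvable (A ⧸ (P : Subgroup A).normalCore) := by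
    apply ORD2A3.solvable_of_card_dvd_six
    rw [← Subgroup.index_eq_card]; exact hcore
  have hpK : IsPGroup 2 (P : Subgroup A).normalCore :=
    P.isPGroup'.to_le (Subgroup.normalCore_le _)
  have hnil : Group.IsNilpotent (P : Subgroup A).normalCore := hpK.isNilpotent
  have hsK : Group.IsSolvable (P : Subgroup A).normalCore := inferInstance
  exact Group.isSolvable_of_ker_le_range (P : Subgroup A).normalCore.subtype
    (QuotientGroup.mk' (P : Subgroup A).normalCore) (by simp)

end Cfsg.Agent.Helper2.TIH
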