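import Mathlib

/-!
# S4118 piece QUAT: subgroups of generalized quaternion 2-groups

Every subgroup `R` of `QuaternionGroup (2 ^ n)` is a 2-group with a cyclic subgroup of index at most 2
(namely `R ⊓ ⟨a 1⟩`).
-/

set_option autoImplicit false

namespace Cfsg.Agent.Helper2.TIH

namespace QUAT

theorem card_quat (n : ℕ) : Nat.card (QuaternionGroup (2 ^ n)) = 2 ^ (n + 2) := by
  have : NeZero (2 ^ n) := ⟨by positivity⟩
  rw [Nat.card_eq_fintype_card, QuaternionGroup.card]
  ring

theorem index_zpowers_a_one (n : ℕ) :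
    (Subgroup.zpowers (QuaternionGroup.a 1 : QuaternionGroup (2 ^ n))).index = 2 := by
  have : NeZero (2 ^ n) := ⟨by positivity⟩
  have h := Subgroup.card_mul_index
    (Subgroup.zpowers (QuaternionGroup.a 1 : QuaternionGroup (2 ^ n)))
  rw [Nat.card_zpowers, QuaternionGroup.orderOf_a_one, card_quat] at h
  have h2 : 2 * 2 ^ n *
      (Subgroup.zpowers (QuaternionGroup.a 1 : QuaternionGroup (2 ^ n))).index = 2 * 2 ^ n * 2 := by
    rw [h]; ring
  exact Nat.eq_of_mul_eq_mul_left (by positivity) h2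

end QUAT

theorem quaternion_subgroup (n : ℕ) (R : Subgroup (QuaternionGroup (2 ^ n))) :
    IsPGroup 2 R ∧ ∃ A : Subgroup R, IsCyclic A ∧ A.index ≤ 2 := by
  have : Fact (Nat.Prime 2) := ⟨Nat.prime_two⟩
  refine ⟨(IsPGroup.of_card (QUAT.card_quat n)).to_subgroup R, ?_⟩
  have hidx : (Subgroup.zpowers (QuaternionGroup.a 1 : QuaternionGroup (2 ^ n))).index = 2 :=
    QUAT.index_zpowers_a_one n
  have hn : (Subgroup.zpowers (QuaternionGroup.a 1 : QuaternionGroup (2 ^ n))).Normal :=
    Subgroup.normal_of_index_eq_two hidx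
  refine ⟨(Subgroup.zpowers (QuaternionGroup.a 1 : QuaternionGroup (2 ^ n))).subgroupOf R, ?_, ?_⟩
  · let f : ((Subgroup.zpowers (QuaternionGroup.a 1 : QuaternionGroup (2 ^ n))).subgroupOf R) →*
        (Subgroup.zpowers (QuaternionGroup.a 1 : QuaternionGroup (2 ^ n))) :=
      ((R.subtype).comp
        ((Subgroup.zpowers (QuaternionGroup.a 1 : QuaternionGroup (2 ^ n))).subgroupOf R).subtype).codRestrict
        (Subgroup.zpowers (QuaternionGroup.a 1 : QuaternionGroup (2 ^ n))) (fun x => x.2)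
    apply isCyclic_of_injective f
    intro x y hxy
    have := congrArg (fun z : (Subgroup.zpowers (QuaternionGroup.a 1 : QuaternionGroup (2 ^ n))) =>
      (z : QuaternionGroup (2 ^ n))) hxy
    exact Subtype.ext (Subtype.ext this)
  · have h := Subgroup.relIndex_dvd_index_of_normal
      (Subgroup.zpowers (QuaternionGroup.a 1 : QuaternionGroup (2 ^ n))) R
    rw [hidx] at h
    exact Nat.le_of_dvd (by norm_num) h

end Cfsg.Agent.Helper2.TIH
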