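import Mathlib

/-!
# S1786 (Timmesfeld's TI lemma): definitions shared by all pieces
See `plans/S1786_proof.md`.  Conjugation convention: `cj x K = x K x⁻¹`.
-/

set_option autoImplicit false

namespace Cfsg.Agent.Helper26.TI

variable {G : Type*} [Group G]

/-- the conjugate subgroup `x K x⁻¹` (this is the form used in the frozen statement). -/
abbrev cj (x : G) (K : Subgroup G) : Subgroup G := K.map (MulAut.conj x).toMonoidHom

theorem mem_cj {x y : G} {K : Subgroup G} : y ∈ cj x K ↔ ∃ k ∈ K, x * k * x⁻¹ = y := by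
  simp [cj, Subgroup.mem_map, MulAut.conj_apply]

theorem mem_cj' {x y : G} {K : Subgroup G} : y ∈ cj x K ↔ x⁻¹ * y * x ∈ K := by
  rw [mem_cj]
  constructor
  · rintro ⟨k, hk, rfl⟩
    simpa [mul_assoc] using hk
  · intro h
    exact ⟨_, h, by simp [mul_assoc]⟩

theorem conj_mem_cj {x k : G} {K : Subgroup G} (hk : k ∈ K) : x * k * x⁻¹ ∈ cj x K :=
  mem_cj.2 ⟨k, hk, rfl⟩

theorem cj_one (K : Subgroup G) : cj 1 K = K := by
  ext y; rw [mem_cj']; simp

theorem cj_cj (x y : G) (K : Subgroup G) : cj x (cj y K) = cj (x * y) K := by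
  ext z; rw [mem_cj', mem_cj', mem_cj']; simp [mul_assoc]

theorem cj_inv_cj (x : G) (K : Subgroup G) : cj x⁻¹ (cj x K) = K := by
  rw [cj_cj]; simp [cj_one]

theorem cj_cj_inv (x : G) (K : Subgroup G) : cj x (cj x⁻¹ K) = K := by
  rw [cj_cj]; simp [cj_one]

theorem cj_mono {x : G} {K L : Subgroup G} (h : K ≤ L) : cj x K ≤ cj x L :=
  Subgroup.map_mono h

theorem cj_le_cj_iff {x : G} {K L : Subgroup G} : cj x K ≤ cj x L ↔ K ≤ L := by
  constructor
  · intro h
    have := cj_mono (x := x⁻¹) h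
    rwa [cj_inv_cj, cj_inv_cj] at this
  · exact cj_mono

theorem cj_inf (x : G) (K L : Subgroup G) : cj x (K ⊓ L) = cj x K ⊓ cj x L := by
  ext z; rw [Subgroup.mem_inf, mem_cj', mem_cj', mem_cj', Subgroup.mem_inf]

theorem cj_bot (x : G) : cj x (⊥ : Subgroup G) = ⊥ := by
  ext z; rw [mem_cj', Subgroup.mem_bot, Subgroup.mem_bot]
  constructor
  · intro h
    have : z = x * (x⁻¹ * z * x) * x⁻¹ := by group
    rw [this, h]; group
  · rintro rfl; group

theorem card_cj (x : G) (K : Subgroup G) : Nat.card (cj x K) = Nat.card K := by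
  have : Function.Injective (MulAut.conj x).toMonoidHom := (MulAut.conj x).injective
  exact Nat.card_congr (K.equivMapOfInjective _ this).symm.toEquiv

/-- `V` is an elementary abelian 2-group which is a TI-subgroup of `G`. -/
structure Base (V : Subgroup G) : Prop where
  comm : ∀ v ∈ V, ∀ w ∈ V, v * w = w * v
  sq : ∀ v ∈ V, v * v = 1
  ti : ∀ x : G, cj x V = V ∨ cj x V ⊓ V = ⊥

/-- The local structure of `P = C_Q(V)`, `Q = O_2(N_G(V))`, in conjugation-invariant form (proof doc G2). -/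
structure Loc (V P : Subgroup G) : Prop where
  base : Base V
  V_le : V ≤ P
  pgrp : IsPGroup 2 P
  cent : ∀ x ∈ P, ∀ v ∈ V, x * v = v * x
  norm : ∀ m : G, cj m V = V → cj m P = P
  center : ∀ x ∈ P, (∀ y ∈ P, x * y = y * x) → x ∈ V
  comm : ∀ x ∈ P, ∀ y ∈ P, x * y * x⁻¹ * y⁻¹ ∈ V
  sq : ∀ x ∈ P, x * x ∈ V
  self : ∀ c : G, (∀ v ∈ V, c * v = v * c) → (∀ x ∈ P, c * x = x * c) → c ∈ V
  nonab : ∀ x : G, cj x V ≠ V → cj x V ≤ P →
    ∃ m : G, cj m V = V ∧ ∃ b ∈ cj x V, ∃ c ∈ cj m (cj x V), b * c ≠ c * b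

/-- The configuration: `A = g V g⁻¹ ≠ V`, `A ≤ P = P(V)`, `PA = g P g⁻¹ = P(A)`. -/
structure Cfg (V P A PA : Subgroup G) : Prop where
  loc : Loc V P
  locA : Loc A PA
  conj : ∃ g : G, A = cj g V ∧ PA = cj g P
  ne : A ≠ V
  le : A ≤ P

/-- `Cfg` plus a conjugate `U ≤ P` of `V` no nontrivial element of which commutes with a nontrivial
element of `A` (proof doc G3). -/
structure Cfg1 (V P A PA U : Subgroup G) : Prop extends Cfg V P A PA where
  conjU : ∃ k : G, U = cj k V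
  U_le : U ≤ P
  U_ne : U ≠ V
  U_nc : ∀ u ∈ U, u ≠ 1 → ∀ a ∈ A, a ≠ 1 → u * a ≠ a * u

end Cfsg.Agent.Helper26.TI
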