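import Mathlib
import Cfsg.Agent.S0991

set_option autoImplicit false
set_option linter.style.haveILetI false
set_option linter.unusedVariables false

open Equiv Equiv.Perm MulAction Subgroup

namespace Cfsg.Agent.Helper2.AG

section general

variable {β : Type*} [Fintype β] [DecidableEq β]

/-- aux: a proper subgroup of the alternating group of degree `n ≥ 5` has index at least `n` -/
theorem ALTIDX.le_index (h5 : 5 ≤ Fintype.card β) (H : Subgroup (alternatingGroup β))
    (hH : H ≠ ⊤) : Fintype.card β ≤ H.index := by
  have h5' : 5 ≤ Nat.card β := by rw [Nat.card_eq_fintype_card]; exact h5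
  haveI : IsSimpleGroup (alternatingGroup β) := alternatingGroup.isSimpleGroup h5'
  haveI : Nontrivial β := by
    rw [← Fintype.one_lt_card_iff_nontrivial]; omega
  have hnc : ¬ IsMulCommutative (alternatingGroup β) := by
    rw [alternatingGroup.isMulCommutative_iff_card_le_three]
    omega
  obtain ⟨f, hf⟩ := Cfsg.Agent.S0991.result hnc H hH
  by_contra hlt
  have hlt' : H.index ≤ Fintype.card β - 1 := by omega
  -- |A| ≤ |Alt (Fin k)| ≤ k!
  have h1 : Nat.card (alternatingGroup β) ≤ Nat.card (alternatingGroup (Fin H.index)) :=
    Nat.card_le_card_of_injective f hf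
  have h2 : Nat.card (alternatingGroup (Fin H.index)) ≤ Nat.card (Perm (Fin H.index)) :=
    Nat.card_le_card_of_injective _ Subtype.val_injective
  have h3 : Nat.card (Perm (Fin H.index)) = (H.index).factorial := by
    rw [Nat.card_eq_fintype_card, Fintype.card_perm, Fintype.card_fin]
  have h4 : (H.index).factorial ≤ (Fintype.card β - 1).factorial :=
    Nat.factorial_le hlt'
  have h5a : 2 * Nat.card (alternatingGroup β) = (Fintype.card β).factorial := by
    rw [two_mul_nat_card_alternatingGroup, Nat.card_eq_fintype_card, Fintype.card_perm]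
  have h6 : (Fintype.card β).factorial = Fintype.card β * (Fintype.card β - 1).factorial := by
    obtain ⟨m, hm⟩ : ∃ m, Fintype.card β = m + 1 := ⟨Fintype.card β - 1, by omega⟩
    rw [hm, Nat.factorial_succ]
    simp
  have hpos : 0 < (Fintype.card β - 1).factorial := Nat.factorial_pos _
  have h7 : Fintype.card β * (Fintype.card β - 1).factorial
      ≤ 2 * (Fintype.card β - 1).factorial := by
    rw [← h6, ← h5a]
    apply Nat.mul_le_mul_left
    omega
  have h8 : Fintype.card β ≤ 2 := Nat.le_of_mul_le_mul_right h7 hpos
  omega

/-- ALTIDX -/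
theorem card_mul_le_of_not_alt_le (h5 : 5 ≤ Fintype.card β) (K : Subgroup (Perm β))
    (hK : K ≤ alternatingGroup β) (hne : ¬ alternatingGroup β ≤ K) :
    2 * (Fintype.card β * Nat.card K) ≤ (Fintype.card β).factorial := by
  haveI : Nontrivial β := by
    rw [← Fintype.one_lt_card_iff_nontrivial]; omega
  have hH : K.subgroupOf (alternatingGroup β) ≠ ⊤ := by
    intro h
    exact hne (Subgroup.subgroupOf_eq_top.mp h)
  have hidx := ALTIDX.le_index h5 (K.subgroupOf (alternatingGroup β)) hH
  have hcardH : Nat.card (K.subgroupOf (alternatingGroup β)) = Nat.card K :=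
    Nat.card_congr (Subgroup.subgroupOfEquivOfLe hK).toEquiv
  have hmul := Subgroup.card_mul_index (K.subgroupOf (alternatingGroup β))
  rw [hcardH] at hmul
  have h5a : 2 * Nat.card (alternatingGroup β) = (Fintype.card β).factorial := by
    rw [two_mul_nat_card_alternatingGroup, Nat.card_eq_fintype_card, Fintype.card_perm]
  rw [← h5a, ← hmul]
  apply Nat.mul_le_mul_left
  rw [mul_comm]
  exact Nat.mul_le_mul_left _ hidx

end general

end Cfsg.Agent.Helper2.AG
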