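import Mathlib

/-!
# A purely group-theoretic splitting lemma

If `N` is an abelian subgroup normalized by `t`, every element of `H` is of the form `n * t ^ i`,
then the commutator subgroup of `H` consists of elements `t u t⁻¹ u⁻¹` with `u ∈ N`.
-/

set_option autoImplicit false

namespace Cfsg.Agent.Helper26.StemFrob

open scoped commutatorElement

variable {Γ : Type*} [Group Γ]

/-- the image of `u ↦ t u t⁻¹ u⁻¹` on an abelian subgroup normalized by `t` -/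
def twistImage (N : Subgroup Γ) (t : Γ)
    (hN : ∀ a ∈ N, ∀ b ∈ N, a * b = b * a) (ht : ∀ a ∈ N, t * a * t⁻¹ ∈ N) : Subgroup Γ where
  carrier := {g | ∃ u ∈ N, g = t * u * t⁻¹ * u⁻¹}
  one_mem' := ⟨1, N.one_mem, by group⟩
  mul_mem' := by
    rintro _ _ ⟨u, hu, rfl⟩ ⟨v, hv, rfl⟩
    refine ⟨u * v, N.mul_mem hu hv, ?_⟩
    have h1 : u⁻¹ * (t * v * t⁻¹) = (t * v * t⁻¹) * u⁻¹ := hN _ (N.inv_mem hu) _ (ht v hv)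
    have h2 : u * v = v * u := hN u hu v hv
    calc t * u * t⁻¹ * u⁻¹ * (t * v * t⁻¹ * v⁻¹)
        = t * u * t⁻¹ * (u⁻¹ * (t * v * t⁻¹)) * v⁻¹ := by group
      _ = t * u * t⁻¹ * ((t * v * t⁻¹) * u⁻¹) * v⁻¹ := by rw [h1]
      _ = t * (u * v) * t⁻¹ * (v * u)⁻¹ := by group
      _ = t * (u * v) * t⁻¹ * (u * v)⁻¹ := by rw [h2]
  inv_mem' := by
    rintro _ ⟨u, hu, rfl⟩
    refine ⟨u⁻¹, N.inv_mem hu, ?_⟩
    have h1 : u * (t * u⁻¹ * t⁻¹) = (t * u⁻¹ * t⁻¹) * u := hN _ hu _ (ht _ (N.inv_mem hu))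
    calc (t * u * t⁻¹ * u⁻¹)⁻¹ = u * (t * u⁻¹ * t⁻¹) := by group
      _ = (t * u⁻¹ * t⁻¹) * u := h1
      _ = t * u⁻¹ * t⁻¹ * u⁻¹⁻¹ := by group

theorem mem_twistImage (N : Subgroup Γ) (t : Γ)
    (hN : ∀ a ∈ N, ∀ b ∈ N, a * b = b * a) (ht : ∀ a ∈ N, t * a * t⁻¹ ∈ N) (g : Γ) :
    g ∈ twistImage N t hN ht ↔ ∃ u ∈ N, g = t * u * t⁻¹ * u⁻¹ := Iff.rfl

theorem pow_conj_mem (N : Subgroup Γ) (t : Γ) (ht : ∀ a ∈ N, t * a * t⁻¹ ∈ N) (i : ℕ) :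
    ∀ a ∈ N, t ^ i * a * (t ^ i)⁻¹ ∈ N := by
  induction i with
  | zero => intro a ha; simp [ha]
  | succ i ih =>
    intro a ha
    have h := ht _ (ih a ha)
    have e : t ^ (i + 1) * a * (t ^ (i + 1))⁻¹ = t * (t ^ i * a * (t ^ i)⁻¹) * t⁻¹ := by
      rw [pow_succ']; group
    rw [e]; exact h

theorem pow_twist_mem (N : Subgroup Γ) (t : Γ)
    (hN : ∀ a ∈ N, ∀ b ∈ N, a * b = b * a) (ht : ∀ a ∈ N, t * a * t⁻¹ ∈ N) (i : ℕ) :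
    ∀ u ∈ N, t ^ i * u * (t ^ i)⁻¹ * u⁻¹ ∈ twistImage N t hN ht := by
  induction i with
  | zero => intro u _; simpa using (twistImage N t hN ht).one_mem
  | succ i ih =>
    intro u hu
    have hw := pow_conj_mem N t ht i u hu
    have h1 : t * (t ^ i * u * (t ^ i)⁻¹) * t⁻¹ * (t ^ i * u * (t ^ i)⁻¹)⁻¹ ∈
        twistImage N t hN ht := ⟨_, hw, rfl⟩
    have h2 := (twistImage N t hN ht).mul_mem h1 (ih u hu)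
    have e : t ^ (i + 1) * u * (t ^ (i + 1))⁻¹ * u⁻¹ =
        t * (t ^ i * u * (t ^ i)⁻¹) * t⁻¹ * (t ^ i * u * (t ^ i)⁻¹)⁻¹ *
          (t ^ i * u * (t ^ i)⁻¹ * u⁻¹) := by
      rw [pow_succ']; group
    rw [e]; exact h2

/-- the splitting lemma -/
theorem comm_inf_of_split (K H N : Subgroup Γ) (t : Γ)
    (hN : ∀ a ∈ N, ∀ b ∈ N, a * b = b * a)
    (ht : ∀ a ∈ N, t * a * t⁻¹ ∈ N)
    (hH : ∀ h ∈ H, ∃ n ∈ N, ∃ i : ℕ, h = n * t ^ i)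
    (hC : ∀ u ∈ N, t * u * t⁻¹ * u⁻¹ ∈ K → t * u * t⁻¹ * u⁻¹ = 1) :
    ∀ k ∈ ⁅H, H⁆, k ∈ K → k = 1 := by
  have hle : ⁅H, H⁆ ≤ twistImage N t hN ht := by
    rw [Subgroup.commutator_le]
    intro g hg h hh
    obtain ⟨n, hn, i, rfl⟩ := hH g hg
    obtain ⟨m, hm, j, rfl⟩ := hH h hh
    have hm' := pow_conj_mem N t ht i m hm
    have hn' := pow_conj_mem N t ht j n hn
    have h1 := pow_twist_mem N t hN ht i m hm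
    have h2 := pow_twist_mem N t hN ht j n hn
    have h3 := (twistImage N t hN ht).mul_mem h1 ((twistImage N t hN ht).inv_mem h2)
    have c1 : n * (t ^ i * m * (t ^ i)⁻¹) = (t ^ i * m * (t ^ i)⁻¹) * n := hN _ hn _ hm'
    have c2 : n * m⁻¹ = m⁻¹ * n := hN _ hn _ (N.inv_mem hm)
    have c3 : n * (t ^ j * n * (t ^ j)⁻¹)⁻¹ = (t ^ j * n * (t ^ j)⁻¹)⁻¹ * n :=
      hN _ hn _ (N.inv_mem hn')
    have c4 : m⁻¹ * (t ^ j * n * (t ^ j)⁻¹)⁻¹ = (t ^ j * n * (t ^ j)⁻¹)⁻¹ * m⁻¹ :=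
      hN _ (N.inv_mem hm) _ (N.inv_mem hn')
    have hpow : t ^ i * t ^ j = t ^ j * t ^ i := (Commute.pow_pow_self t i j).eq
    have e : ⁅n * t ^ i, m * t ^ j⁆ =
        n * (t ^ i * m * (t ^ i)⁻¹) * (t ^ j * n * (t ^ j)⁻¹)⁻¹ * m⁻¹ := by
      rw [commutatorElement_def]
      calc n * t ^ i * (m * t ^ j) * (n * t ^ i)⁻¹ * (m * t ^ j)⁻¹
          = n * t ^ i * m * (t ^ j * (t ^ i)⁻¹) * n⁻¹ * (t ^ j)⁻¹ * m⁻¹ := by group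
        _ = n * t ^ i * m * ((t ^ i)⁻¹ * t ^ j) * n⁻¹ * (t ^ j)⁻¹ * m⁻¹ := by
            have : t ^ j * (t ^ i)⁻¹ = (t ^ i)⁻¹ * t ^ j := by
              rw [eq_inv_mul_iff_mul_eq, ← mul_assoc, hpow, mul_assoc, mul_inv_cancel, mul_one]
            rw [this]
        _ = n * (t ^ i * m * (t ^ i)⁻¹) * (t ^ j * n * (t ^ j)⁻¹)⁻¹ * m⁻¹ := by group
    rw [e]
    have e2 : n * (t ^ i * m * (t ^ i)⁻¹) * (t ^ j * n * (t ^ j)⁻¹)⁻¹ * m⁻¹ =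
        (t ^ i * m * (t ^ i)⁻¹ * m⁻¹) * (t ^ j * n * (t ^ j)⁻¹ * n⁻¹)⁻¹ := by
      calc n * (t ^ i * m * (t ^ i)⁻¹) * (t ^ j * n * (t ^ j)⁻¹)⁻¹ * m⁻¹
          = (t ^ i * m * (t ^ i)⁻¹) * n * (t ^ j * n * (t ^ j)⁻¹)⁻¹ * m⁻¹ := by rw [c1]
        _ = (t ^ i * m * (t ^ i)⁻¹) * (n * (t ^ j * n * (t ^ j)⁻¹)⁻¹) * m⁻¹ := by group
        _ = (t ^ i * m * (t ^ i)⁻¹) * ((t ^ j * n * (t ^ j)⁻¹)⁻¹ * n) * m⁻¹ := by rw [c3]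
        _ = (t ^ i * m * (t ^ i)⁻¹) * (t ^ j * n * (t ^ j)⁻¹)⁻¹ * (n * m⁻¹) := by group
        _ = (t ^ i * m * (t ^ i)⁻¹) * (t ^ j * n * (t ^ j)⁻¹)⁻¹ * (m⁻¹ * n) := by rw [c2]
        _ = (t ^ i * m * (t ^ i)⁻¹) * ((t ^ j * n * (t ^ j)⁻¹)⁻¹ * m⁻¹) * n := by group
        _ = (t ^ i * m * (t ^ i)⁻¹) * (m⁻¹ * (t ^ j * n * (t ^ j)⁻¹)⁻¹) * n := by rw [c4]
        _ = (t ^ i * m * (t ^ i)⁻¹) * m⁻¹ * ((t ^ j * n * (t ^ j)⁻¹)⁻¹ * n) := by group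
        _ = (t ^ i * m * (t ^ i)⁻¹) * m⁻¹ * (n * (t ^ j * n * (t ^ j)⁻¹)⁻¹) := by rw [c3]
        _ = (t ^ i * m * (t ^ i)⁻¹ * m⁻¹) * (t ^ j * n * (t ^ j)⁻¹ * n⁻¹)⁻¹ := by group
    rw [e2]
    exact h3
  intro k hk hkK
  obtain ⟨u, hu, rfl⟩ := hle hk
  exact hC u hu hkK

end Cfsg.Agent.Helper26.StemFrob
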