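import Mathlib
import Cfsg.Agent.Lib.Helper29.StemSylow

/-!
# Lifting a Frobenius group of order 56 through a central extension

Three pairwise commuting involutions permuted by an element `z` through
`e0 ↦ e1 ↦ e2 ↦ e0 * e1`: any lifts of them through a central extension commute pairwise.
-/

set_option autoImplicit false

namespace Cfsg.Agent.Helper26.StemFrob

open scoped commutatorElement
open Cfsg.Agent.Helper29.StemSylow

variable {Γ : Type*} [Group Γ] {G : Type*} [Group G]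

theorem comm_conj (t a b : Γ) : ⁅t * a * t⁻¹, t * b * t⁻¹⁆ = t * ⁅a, b⁆ * t⁻¹ := by
  rw [commutatorElement_def, commutatorElement_def]; group

theorem comm_self (a : Γ) : ⁅a, a⁆ = 1 := by
  rw [commutatorElement_def]; group

/-- lifts of the three involutions commute -/
theorem lift_comm (σ : Γ →* G) (hK : σ.ker ≤ Subgroup.center Γ) (a0 a1 a2 t : Γ)
    (c01 : σ a0 * σ a1 = σ a1 * σ a0) (c02 : σ a0 * σ a2 = σ a2 * σ a0)
    (c12 : σ a1 * σ a2 = σ a2 * σ a1)
    (r0 : σ t * σ a0 * (σ t)⁻¹ = σ a1) (r1 : σ t * σ a1 * (σ t)⁻¹ = σ a2)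
    (r2 : σ t * σ a2 * (σ t)⁻¹ = σ a0 * σ a1) :
    a0 * a1 = a1 * a0 ∧ a0 * a2 = a2 * a0 ∧ a1 * a2 = a2 * a1 := by
  have cen : ∀ a b : Γ, σ a * σ b = σ b * σ a → ∀ g : Γ, g * ⁅a, b⁆ = ⁅a, b⁆ * g := by
    intro a b h g
    have hk : ⁅a, b⁆ ∈ σ.ker := by
      rw [MonoidHom.mem_ker, map_commutatorElement, commutatorElement_eq_one_iff_commute]
      exact h
    exact central_comm σ hK hk g
  have z01 := cen a0 a1 c01
  have z02 := cen a0 a2 c02
  have z12 := cen a1 a2 c12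
  have z10 := cen a1 a0 c01.symm
  have z20 := cen a2 a0 c02.symm
  have z21 := cen a2 a1 c12.symm
  obtain ⟨κ0, hκ0, h0⟩ := exists_ker_mul σ (t * a0 * t⁻¹) a1 (by
    rw [map_mul, map_mul, map_inv]; exact r0)
  obtain ⟨κ1, hκ1, h1⟩ := exists_ker_mul σ (t * a1 * t⁻¹) a2 (by
    rw [map_mul, map_mul, map_inv]; exact r1)
  obtain ⟨κ2, hκ2, h2⟩ := exists_ker_mul σ (t * a2 * t⁻¹) (a0 * a1) (by
    rw [map_mul, map_mul, map_inv, map_mul]; exact r2)
  have k0 := central_comm σ hK hκ0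
  have k1 := central_comm σ hK hκ1
  have k2 := central_comm σ hK hκ2
  have inv_conj : ∀ a b : Γ, (∀ g : Γ, g * ⁅a, b⁆ = ⁅a, b⁆ * g) → t * ⁅a, b⁆ * t⁻¹ = ⁅a, b⁆ := by
    intro a b h
    rw [h t, mul_assoc, mul_inv_cancel, mul_one]
  -- first relation
  have E1 : ⁅a0, a1⁆ = ⁅a1, a2⁆ := by
    have := comm_conj t a0 a1
    rw [inv_conj a0 a1 z01, h0, h1, comm_central_left k0, comm_central_right k1] at this
    exact this.symm
  -- second relation
  have E2 : ⁅a2, a1⁆ = ⁅a0, a2⁆ * ⁅a1, a2⁆ := by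
    have := comm_conj t a2 a1
    rw [inv_conj a2 a1 z21, h2, h1, comm_central_left k2, comm_central_right k1,
      comm_mul_left_of_central a0 a1 a2 z12] at this
    exact this.symm
  -- third relation
  have E3 : ⁅a2, a0⁆ = ⁅a0, a1⁆ := by
    have := comm_conj t a2 a0
    rw [inv_conj a2 a0 z20, h2, h0, comm_central_left k2, comm_central_right k0,
      comm_mul_left_of_central a0 a1 a1 (by rw [comm_self]; intro g; simp),
      comm_self, mul_one] at this
    exact this.symm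
  have i21 : ⁅a2, a1⁆ = ⁅a1, a2⁆⁻¹ := (commutatorElement_inv a1 a2).symm
  have i20 : ⁅a2, a0⁆ = ⁅a0, a2⁆⁻¹ := (commutatorElement_inv a0 a2).symm
  -- solve
  have hy : ⁅a1, a2⁆ = 1 := by
    have hw : ⁅a0, a2⁆ = ⁅a1, a2⁆⁻¹ := by
      rw [← E1, ← E3, i20, inv_inv]
    rw [i21, hw, inv_mul_cancel] at E2
    exact inv_eq_one.mp E2
  have hx : ⁅a0, a1⁆ = 1 := E1.trans hy
  have hw : ⁅a0, a2⁆ = 1 := by
    have : ⁅a2, a0⁆ = 1 := E3.trans hx
    rw [i20] at this
    exact inv_eq_one.mp this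
  exact ⟨(commutatorElement_eq_one_iff_commute.mp hx).eq,
    (commutatorElement_eq_one_iff_commute.mp hw).eq,
    (commutatorElement_eq_one_iff_commute.mp hy).eq⟩

end Cfsg.Agent.Helper26.StemFrob
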