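import Mathlib
import Cfsg.Agent.Lib.Helper29.StemSylow
import Cfsg.Agent.Lib.Helper26.StemFrobA
import Cfsg.Agent.Lib.Helper26.StemFrobB

/-!
# The local condition at the prime two for a group with a Frobenius subgroup `2^3 : 7`
of odd index
-/

set_option autoImplicit false

namespace Cfsg.Agent.Helper26.StemFrob

open scoped commutatorElement Pointwise
open Cfsg.Agent.Helper29.StemSylow

variable {Γ : Type*} [Group Γ] {G : Type*} [Group G]

/-- three independent commuting involutions permuted by `z` via `e0 ↦ e1 ↦ e2 ↦ e0 * e1` -/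
structure Frob56 (e0 e1 e2 z : G) : Prop where
  s0 : e0 * e0 = 1
  s1 : e1 * e1 = 1
  s2 : e2 * e2 = 1
  c01 : e0 * e1 = e1 * e0
  c02 : e0 * e2 = e2 * e0
  c12 : e1 * e2 = e2 * e1
  r0 : z * e0 * z⁻¹ = e1
  r1 : z * e1 * z⁻¹ = e2
  r2 : z * e2 * z⁻¹ = e0 * e1
  n0 : e0 ≠ 1
  n1 : e1 ≠ 1
  n2 : e2 ≠ 1
  n01 : e0 * e1 ≠ 1
  n02 : e0 * e2 ≠ 1
  n12 : e1 * e2 ≠ 1
  n012 : e0 * e1 * e2 ≠ 1

/-- the word `e0 ^ a * e1 ^ b * e2 ^ c` -/
def wd (e0 e1 e2 : G) (a b c : ℕ) : G := e0 ^ a * e1 ^ b * e2 ^ c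

namespace Frob56

variable {e0 e1 e2 z : G} (h : Frob56 e0 e1 e2 z)
include h

theorem wd_mul (a b c a' b' c' : ℕ) :
    wd e0 e1 e2 a b c * wd e0 e1 e2 a' b' c' = wd e0 e1 e2 (a + a') (b + b') (c + c') := by
  have h01 : Commute e0 e1 := h.c01
  have h02 : Commute e0 e2 := h.c02
  have h12 : Commute e1 e2 := h.c12
  have k1 : e2 ^ c * e0 ^ a' = e0 ^ a' * e2 ^ c := (h02.symm.pow_pow c a').eq
  have k2 : e1 ^ b * e0 ^ a' = e0 ^ a' * e1 ^ b := (h01.symm.pow_pow b a').eq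
  have k3 : e2 ^ c * e1 ^ b' = e1 ^ b' * e2 ^ c := (h12.symm.pow_pow c b').eq
  unfold wd
  calc e0 ^ a * e1 ^ b * e2 ^ c * (e0 ^ a' * e1 ^ b' * e2 ^ c')
      = e0 ^ a * e1 ^ b * (e2 ^ c * e0 ^ a') * e1 ^ b' * e2 ^ c' := by simp only [mul_assoc]
    _ = e0 ^ a * e1 ^ b * (e0 ^ a' * e2 ^ c) * e1 ^ b' * e2 ^ c' := by rw [k1]
    _ = e0 ^ a * (e1 ^ b * e0 ^ a') * (e2 ^ c * e1 ^ b') * e2 ^ c' := by simp only [mul_assoc]
    _ = e0 ^ a * (e0 ^ a' * e1 ^ b) * (e1 ^ b' * e2 ^ c) * e2 ^ c' := by rw [k2, k3]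
    _ = (e0 ^ a * e0 ^ a') * (e1 ^ b * e1 ^ b') * (e2 ^ c * e2 ^ c') := by simp only [mul_assoc]
    _ = e0 ^ (a + a') * e1 ^ (b + b') * e2 ^ (c + c') := by rw [pow_add, pow_add, pow_add]

theorem wd_conj (a b c : ℕ) :
    z * wd e0 e1 e2 a b c * z⁻¹ = wd e0 e1 e2 c (a + c) b := by
  have h01 : Commute e0 e1 := h.c01
  have e : z * wd e0 e1 e2 a b c * z⁻¹ =
      (z * e0 * z⁻¹) ^ a * (z * e1 * z⁻¹) ^ b * (z * e2 * z⁻¹) ^ c := by
    unfold wd
    rw [conj_pow, conj_pow, conj_pow, conj_mul, conj_mul]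
  rw [e, h.r0, h.r1, h.r2, h01.mul_pow]
  have e1' : e1 ^ a * e2 ^ b = wd e0 e1 e2 0 a b := by unfold wd; rw [pow_zero, one_mul]
  have e2' : e0 ^ c * e1 ^ c = wd e0 e1 e2 c c 0 := by unfold wd; rw [pow_zero, mul_one]
  rw [e1', e2', h.wd_mul, zero_add, add_zero]

theorem wd_mod (a b c : ℕ) :
    wd e0 e1 e2 a b c = wd e0 e1 e2 (a % 2) (b % 2) (c % 2) := by
  have p0 : e0 ^ 2 = 1 := by rw [pow_two]; exact h.s0
  have p1 : e1 ^ 2 = 1 := by rw [pow_two]; exact h.s1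
  have p2 : e2 ^ 2 = 1 := by rw [pow_two]; exact h.s2
  unfold wd
  rw [pow_eq_pow_mod a p0, pow_eq_pow_mod b p1, pow_eq_pow_mod c p2]

theorem wd_sq (a b c : ℕ) : wd e0 e1 e2 a b c * wd e0 e1 e2 a b c = 1 := by
  rw [h.wd_mul, h.wd_mod]
  have : ∀ n : ℕ, (n + n) % 2 = 0 := fun n => by omega
  rw [this, this, this]
  unfold wd
  simp

theorem indep (a b c : ℕ) (hw : wd e0 e1 e2 a b c = 1) : a % 2 = 0 ∧ b % 2 = 0 ∧ c % 2 = 0 := by
  rw [h.wd_mod] at hw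
  rcases Nat.mod_two_eq_zero_or_one a with ha | ha <;>
  rcases Nat.mod_two_eq_zero_or_one b with hb | hb <;>
  rcases Nat.mod_two_eq_zero_or_one c with hc | hc <;>
  rw [ha, hb, hc] at hw <;> unfold wd at hw
  · exact ⟨ha, hb, hc⟩
  · exact absurd (by simpa using hw) h.n2
  · exact absurd (by simpa using hw) h.n1
  · exact absurd (by simpa using hw) h.n12
  · exact absurd (by simpa using hw) h.n0
  · exact absurd (by simpa using hw) h.n02
  · exact absurd (by simpa using hw) h.n01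
  · exact absurd (by simpa using hw) h.n012

/-- only the identity word is fixed by `z` -/
theorem fixed_eq_one (a b c : ℕ) (hz : z * wd e0 e1 e2 a b c * z⁻¹ = wd e0 e1 e2 a b c) :
    wd e0 e1 e2 a b c = 1 := by
  rw [h.wd_conj] at hz
  have h1 : wd e0 e1 e2 c (a + c) b * wd e0 e1 e2 a b c = 1 := by
    rw [hz]; exact h.wd_sq a b c
  rw [h.wd_mul] at h1
  obtain ⟨i1, i2, i3⟩ := h.indep _ _ _ h1
  rw [h.wd_mod]
  have ha : a % 2 = 0 := by omega
  have hb : b % 2 = 0 := by omega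
  have hc : c % 2 = 0 := by omega
  rw [ha, hb, hc]
  unfold wd
  simp

/-- the elementary abelian subgroup of order eight -/
def E : Subgroup G where
  carrier := {g | ∃ a b c : ℕ, g = wd e0 e1 e2 a b c}
  one_mem' := ⟨0, 0, 0, by unfold wd; simp⟩
  mul_mem' := by
    rintro _ _ ⟨a, b, c, rfl⟩ ⟨a', b', c', rfl⟩
    exact ⟨_, _, _, h.wd_mul a b c a' b' c'⟩
  inv_mem' := by
    rintro _ ⟨a, b, c, rfl⟩
    exact ⟨a, b, c, inv_eq_of_mul_eq_one_left (h.wd_sq a b c)⟩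

theorem mem_E (g : G) : g ∈ h.E ↔ ∃ a b c : ℕ, g = wd e0 e1 e2 a b c := Iff.rfl

theorem conj_mem_E (g : G) (hg : g ∈ h.E) : z * g * z⁻¹ ∈ h.E := by
  obtain ⟨a, b, c, rfl⟩ := hg
  exact ⟨_, _, _, h.wd_conj a b c⟩

theorem fixed_E (g : G) (hg : g ∈ h.E) (hz : z * g * z⁻¹ = g) : g = 1 := by
  obtain ⟨a, b, c, rfl⟩ := hg
  exact h.fixed_eq_one a b c hz

theorem card_E : Nat.card h.E = 8 := by
  let f : Fin 2 × Fin 2 × Fin 2 → h.E := fun x =>
    ⟨wd e0 e1 e2 x.1.val x.2.1.val x.2.2.val, ⟨_, _, _, rfl⟩⟩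
  have hf : Function.Bijective f := by
    constructor
    · rintro ⟨a, b, c⟩ ⟨a', b', c'⟩ hxy
      have h0 : wd e0 e1 e2 a.val b.val c.val = wd e0 e1 e2 a'.val b'.val c'.val :=
        congrArg Subtype.val hxy
      have h1 : wd e0 e1 e2 a.val b.val c.val * wd e0 e1 e2 a'.val b'.val c'.val = 1 := by
        rw [h0]; exact h.wd_sq _ _ _
      rw [h.wd_mul] at h1
      obtain ⟨i1, i2, i3⟩ := h.indep _ _ _ h1
      have ha := a.isLt
      have hb := b.isLt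
      have hc := c.isLt
      have ha' := a'.isLt
      have hb' := b'.isLt
      have hc' := c'.isLt
      have e1' : a = a' := Fin.ext (by omega)
      have e2' : b = b' := Fin.ext (by omega)
      have e3' : c = c' := Fin.ext (by omega)
      rw [e1', e2', e3']
    · rintro ⟨g, a, b, c, rfl⟩
      refine ⟨(⟨a % 2, Nat.mod_lt _ (by norm_num)⟩, ⟨b % 2, Nat.mod_lt _ (by norm_num)⟩,
        ⟨c % 2, Nat.mod_lt _ (by norm_num)⟩), ?_⟩
      apply Subtype.ext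
      exact (h.wd_mod a b c).symm
  rw [← Nat.card_eq_of_bijective f hf]
  simp

/-- the Frobenius group of order 56 -/
def Q : Subgroup G := h.E ⊔ Subgroup.zpowers z

theorem mem_Q [Finite G] (g : G) (hg : g ∈ h.Q) : ∃ n ∈ h.E, ∃ i : ℕ, g = n * z ^ i := by
  have hz : z ∈ Subgroup.normalizer (h.E : Set G) :=
    Subgroup.mem_normalizer_fintype (fun n hn => h.conj_mem_E n hn)
  have hle : Subgroup.zpowers z ≤ Subgroup.normalizer (h.E : Set G) := by
    rw [Subgroup.zpowers_le]; exact hz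
  have hc := Subgroup.coe_mul_of_right_le_normalizer_left h.E (Subgroup.zpowers z) hle
  have hg' : g ∈ ((h.E ⊔ Subgroup.zpowers z : Subgroup G) : Set G) := hg
  rw [hc] at hg'
  obtain ⟨n, hn, y, hy, rfl⟩ := Set.mem_mul.1 hg'
  have hy' : y ∈ Submonoid.powers z := mem_powers_iff_mem_zpowers.2 hy
  obtain ⟨i, rfl⟩ := (Submonoid.mem_powers_iff _ _).1 hy'
  exact ⟨n, hn, i, rfl⟩

theorem not_dvd_index_Q [Finite G] (h16 : ¬ 16 ∣ Nat.card G) : ¬ 2 ∣ h.Q.index := by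
  intro h2
  apply h16
  have hle : h.E ≤ h.Q := le_sup_left
  have h8 : 8 ∣ Nat.card h.Q := by
    rw [← h.card_E]
    exact Subgroup.card_dvd_of_le hle
  rw [← Subgroup.card_mul_index h.Q]
  exact (show 16 = 8 * 2 by norm_num) ▸ Nat.mul_dvd_mul h8 h2

/-- the local condition at the prime two -/
theorem local_two [Finite G] (σ : Γ →* G) (hs : Function.Surjective σ)
    (hK : σ.ker ≤ Subgroup.center Γ) (h16 : ¬ 16 ∣ Nat.card G) :
    ∃ Q : Subgroup G, ¬ 2 ∣ Q.index ∧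
      ∀ k ∈ ⁅Q.comap σ, Q.comap σ⁆, k ∈ σ.ker → k = 1 := by
  refine ⟨h.Q, h.not_dvd_index_Q h16, ?_⟩
  obtain ⟨a0, ha0⟩ := hs e0
  obtain ⟨a1, ha1⟩ := hs e1
  obtain ⟨a2, ha2⟩ := hs e2
  obtain ⟨t, ht⟩ := hs z
  obtain ⟨k01, k02, k12⟩ := lift_comm σ hK a0 a1 a2 t
    (by rw [ha0, ha1]; exact h.c01) (by rw [ha0, ha2]; exact h.c02)
    (by rw [ha1, ha2]; exact h.c12) (by rw [ht, ha0, ha1]; exact h.r0)
    (by rw [ht, ha1, ha2]; exact h.r1) (by rw [ht, ha2, ha0, ha1]; exact h.r2)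
  -- the preimage of `E` is abelian
  have hgen : ∀ u ∈ (h.E).comap σ,
      u ∈ Subgroup.closure (({a0, a1, a2} : Set Γ) ∪ (σ.ker : Set Γ)) := by
    intro u hu
    obtain ⟨a, b, c, hu'⟩ := hu
    have e : σ u = σ (a0 ^ a * a1 ^ b * a2 ^ c) := by
      rw [hu', map_mul, map_mul, map_pow, map_pow, map_pow, ha0, ha1, ha2]; rfl
    obtain ⟨κ, hκ, rfl⟩ := exists_ker_mul σ u _ e
    have m0 : a0 ∈ Subgroup.closure (({a0, a1, a2} : Set Γ) ∪ (σ.ker : Set Γ)) :=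
      Subgroup.subset_closure (Or.inl (by simp))
    have m1 : a1 ∈ Subgroup.closure (({a0, a1, a2} : Set Γ) ∪ (σ.ker : Set Γ)) :=
      Subgroup.subset_closure (Or.inl (by simp))
    have m2 : a2 ∈ Subgroup.closure (({a0, a1, a2} : Set Γ) ∪ (σ.ker : Set Γ)) :=
      Subgroup.subset_closure (Or.inl (by simp))
    have mk : κ ∈ Subgroup.closure (({a0, a1, a2} : Set Γ) ∪ (σ.ker : Set Γ)) :=
      Subgroup.subset_closure (Or.inr hκ)
    exact Subgroup.mul_mem _ (Subgroup.mul_mem _ (Subgroup.mul_mem _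
      (Subgroup.pow_mem _ m0 a) (Subgroup.pow_mem _ m1 b)) (Subgroup.pow_mem _ m2 c)) mk
  have hpair : ∀ s ∈ (({a0, a1, a2} : Set Γ) ∪ (σ.ker : Set Γ)),
      ∀ s' ∈ (({a0, a1, a2} : Set Γ) ∪ (σ.ker : Set Γ)), s * s' = s' * s := by
    intro s hs' s' hs''
    rcases hs' with hs' | hs'
    · rcases hs'' with hs'' | hs''
      · simp only [Set.mem_insert_iff, Set.mem_singleton_iff] at hs' hs''
        rcases hs' with rfl | rfl | rfl <;> rcases hs'' with rfl | rfl | rfl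
        · rfl
        · exact k01
        · exact k02
        · exact k01.symm
        · rfl
        · exact k12
        · exact k02.symm
        · exact k12.symm
        · rfl
      · exact central_comm σ hK hs'' s
    · exact (central_comm σ hK hs' s').symm
  have hN : ∀ a ∈ (h.E).comap σ, ∀ b ∈ (h.E).comap σ, a * b = b * a := by
    intro a ha b hb
    exact comm_of_closure hpair a (hgen a ha) b (hgen b hb)
  have htN : ∀ a ∈ (h.E).comap σ, t * a * t⁻¹ ∈ (h.E).comap σ := by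
    intro a ha
    rw [Subgroup.mem_comap, map_mul, map_mul, map_inv, ht]
    exact h.conj_mem_E _ ha
  have hH : ∀ u ∈ (h.Q).comap σ, ∃ n ∈ (h.E).comap σ, ∃ i : ℕ, u = n * t ^ i := by
    intro u hu
    obtain ⟨n, hn, i, hi⟩ := h.mem_Q (σ u) hu
    refine ⟨u * (t ^ i)⁻¹, ?_, i, by group⟩
    rw [Subgroup.mem_comap, map_mul, map_inv, map_pow, ht, hi, mul_assoc, mul_inv_cancel, mul_one]
    exact hn
  have hC : ∀ u ∈ (h.E).comap σ, t * u * t⁻¹ * u⁻¹ ∈ σ.ker → t * u * t⁻¹ * u⁻¹ = 1 := by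
    intro u hu hk
    rw [MonoidHom.mem_ker, map_mul, map_mul, map_mul, map_inv, map_inv, ht,
      mul_inv_eq_one] at hk
    have h1 := h.fixed_E (σ u) hu hk
    have hu' : u ∈ σ.ker := h1
    have hc := central_comm σ hK hu' t
    rw [hc, mul_assoc u, mul_inv_cancel, mul_one, mul_inv_cancel]
  exact comm_inf_of_split σ.ker ((h.Q).comap σ) ((h.E).comap σ) t hN htN hH hC

end Frob56

end Cfsg.Agent.Helper26.StemFrob
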