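import Mathlib
import Cfsg.Agent.Lib.Helper28.PAGen

/-!
# S4613 piece PA-RANK1 (helper26): generic rank-one criterion for `NoPAut`.
-/

set_option autoImplicit false

namespace Cfsg.Agent.Helper28.PA

open scoped Pointwise

variable {G : Type*} [Group G]

/-- Reduction: it suffices to treat automorphisms fixing a given `p`-subgroup `U` pointwise. -/
theorem rank1_reduce (p : ℕ) [Fact p.Prime] [Finite G] (U : Subgroup G) (hU : IsPGroup p U)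
    (h : ∀ β : MulAut G, ¬ p ∣ orderOf β → (∀ x ∈ U, β x = x) → β = 1) : NoPAut p G := by
  intro α hα P hfix
  obtain ⟨P', hP'⟩ := hU.exists_le_sylow
  obtain ⟨g, hg⟩ := MulAction.exists_smul_eq G P P'
  set β : MulAut G := MulAut.conj g * α * (MulAut.conj g)⁻¹ with hβ
  have hord : orderOf β = orderOf α := by
    have := MulEquiv.orderOf_eq (MulAut.conj (MulAut.conj g)) α
    rw [← this]; rfl
  have hβfix : ∀ y ∈ U, β y = y := by
    intro y hy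
    have hy' : y ∈ (P' : Subgroup G) := hP' hy
    rw [← hg] at hy'
    have h1 : g⁻¹ * y * g ∈ (P : Subgroup G) := by
      have h0 : y ∈ (MulAut.conj g • (P : Subgroup G)) := hy'
      rw [Subgroup.mem_pointwise_smul_iff_inv_smul_mem] at h0
      simpa [MulAut.smul_def, MulAut.conj_apply] using h0
    have h2 := hfix _ h1
    show (MulAut.conj g) (α ((MulAut.conj g)⁻¹ y)) = y
    rw [MulAut.conj_inv_apply, h2, MulAut.conj_apply]
    group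
  have hβ1 : β = 1 := h β (by rw [hord]; exact hα) hβfix
  rw [hβ] at hβ1
  have : α = (MulAut.conj g)⁻¹ * 1 * MulAut.conj g := by
    rw [← hβ1]; group
  simpa using this

/-- An element of `H` of `p`-power order is trivial. -/
theorem rank1_ppow (p : ℕ) (H : Subgroup G) (hHp : ∀ h ∈ H, h ^ p = 1 → h = 1) :
    ∀ k : ℕ, ∀ h ∈ H, h ^ p ^ k = 1 → h = 1 := by
  intro k
  induction k with
  | zero => intro h _ hh; simpa using hh
  | succ k ih =>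
    intro h hh hpow
    have h1 : (h ^ p ^ k) ^ p = 1 := by rw [← pow_mul, ← pow_succ]; exact hpow
    have h2 : h ^ p ^ k = 1 := hHp _ (H.pow_mem hh _) h1
    exact ih h hh h2

/-- Core of the rank-one criterion: an automorphism of order prime to `p` fixing `U` pointwise is
trivial. -/
theorem rank1_core (p : ℕ) [Fact p.Prime]
    (U H : Subgroup G) (n : G) (hU : IsPGroup p U)
    (hCU : Subgroup.centralizer (U : Set G) ≤ U)
    (hHU : H ≤ Subgroup.normalizer (U : Set G))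
    (hHp : ∀ h ∈ H, h ^ p = 1 → h = 1)
    (hnH : n ∈ Subgroup.normalizer (H : Set G))
    (hCUH : ∀ u ∈ U, (∀ h ∈ H, h * u = u * h) → u = 1)
    (hbruhat : ∀ g : G, (∃ u ∈ U, ∃ h ∈ H, g = u * h) ∨
      (∃ u ∈ U, ∃ h ∈ H, ∃ u' ∈ U, g = u * n * h * u'))
    (huniq : ∀ u₁ ∈ U, ∀ h₁ ∈ H, ∀ u₁' ∈ U, ∀ u₂ ∈ U, ∀ h₂ ∈ H, ∀ u₂' ∈ U,
      u₁ * n * h₁ * u₁' = u₂ * n * h₂ * u₂' → u₁ = u₂ ∧ h₁ = h₂ ∧ u₁' = u₂')
    (hdisj : ∀ u ∈ U, ∀ h ∈ H, ∀ u' ∈ U, ∀ v ∈ U, ∀ k ∈ H, u * n * h * u' ≠ v * k)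
    (β : MulAut G) (hβ : ¬ p ∣ orderOf β) (hfix : ∀ x ∈ U, β x = x) : β = 1 := by
  -- β fixes H pointwise
  have hfixN := fix_normalizer_self p β hβ U hU hfix hCU
  have hfixH : ∀ h ∈ H, β h = h := fun h hh => hfixN h (hHU hh)
  -- β n ∉ U H
  have hm : ∃ u₁ ∈ U, ∃ h₁ ∈ H, ∃ u₁' ∈ U, β n = u₁ * n * h₁ * u₁' := by
    rcases hbruhat (β n) with ⟨v, hv, k, hk, hvk⟩ | h
    · exfalso
      have h1 : β n = β (v * k) := by rw [map_mul, hfix v hv, hfixH k hk]; exact hvk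
      have h2 : n = v * k := β.injective h1
      exact hdisj 1 U.one_mem 1 H.one_mem 1 U.one_mem v hv k hk (by rw [← h2]; group)
    · exact h
  obtain ⟨u₁, hu₁, h₁, hh₁, u₁', hu₁', hm⟩ := hm
  -- conjugation by n permutes H
  have hnorm : ∀ k : G, k ∈ H ↔ n * k * n⁻¹ ∈ H := fun k => Subgroup.mem_normalizer_iff.mp hnH k
  -- H normalizes U
  have hHU' : ∀ k ∈ H, ∀ u : G, u ∈ U ↔ k * u * k⁻¹ ∈ U :=
    fun k hk u => Subgroup.mem_normalizer_iff.mp (hHU hk) u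
  -- for k ∈ H the relation (β n) k = (n k n⁻¹) (β n)
  have hrel : ∀ k ∈ H, u₁ = (n * k * n⁻¹) * u₁ * (n * k * n⁻¹)⁻¹ ∧ k⁻¹ * u₁' * k = u₁' := by
    intro k hk
    have hk' : n * k * n⁻¹ ∈ H := (hnorm k).mp hk
    have h1 : β (n * k * n⁻¹) = n * k * n⁻¹ := hfixH _ hk'
    rw [map_mul, map_mul, map_inv, hfixH k hk, hm] at h1
    -- h1 : (u₁ n h₁ u₁') k (u₁ n h₁ u₁')⁻¹ = n k n⁻¹
    have h2 : u₁ * n * h₁ * u₁' * k = (n * k * n⁻¹) * (u₁ * n * h₁ * u₁') := by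
      rw [← h1]; group
    have hA : u₁ * n * h₁ * u₁' * k = u₁ * n * (h₁ * k) * (k⁻¹ * u₁' * k) := by group
    have hB : (n * k * n⁻¹) * (u₁ * n * h₁ * u₁') =
        ((n * k * n⁻¹) * u₁ * (n * k * n⁻¹)⁻¹) * n * (k * h₁) * u₁' := by group
    rw [hA, hB] at h2
    have hmem1 : k⁻¹ * u₁' * k ∈ U := by
      have := (hHU' k⁻¹ (H.inv_mem hk) u₁').mp hu₁'
      simpa using this
    have hmem2 : (n * k * n⁻¹) * u₁ * (n * k * n⁻¹)⁻¹ ∈ U := (hHU' _ hk' u₁).mp hu₁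
    obtain ⟨e1, _, e3⟩ := huniq u₁ hu₁ (h₁ * k) (H.mul_mem hh₁ hk) (k⁻¹ * u₁' * k) hmem1
      _ hmem2 (k * h₁) (H.mul_mem hk hh₁) u₁' hu₁' h2
    exact ⟨e1, e3⟩
  have hu₁'1 : u₁' = 1 := by
    apply hCUH u₁' hu₁'
    intro k hk
    have := (hrel k hk).2
    calc k * u₁' = k * (k⁻¹ * u₁' * k) := by rw [this]
      _ = u₁' * k := by group
  have hu₁1 : u₁ = 1 := by
    apply hCUH u₁ hu₁
    intro k hk
    -- k = n k₀ n⁻¹ with k₀ = n⁻¹ k n ∈ H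
    have hk0 : n⁻¹ * k * n ∈ H := by
      rw [hnorm]; simpa [mul_assoc] using hk
    have := (hrel _ hk0).1
    have hsimp : n * (n⁻¹ * k * n) * n⁻¹ = k := by group
    rw [hsimp] at this
    calc k * u₁ = (k * u₁ * k⁻¹) * k := by group
      _ = u₁ * k := by rw [← this]
  have hm' : β n = n * h₁ := by rw [hm, hu₁1, hu₁'1]; group
  -- h₁ is a p-element
  have hpU : ∀ x ∈ U, ∃ k : ℕ, x ^ p ^ k = 1 := by
    intro x hx
    obtain ⟨k, hk⟩ := hU ⟨x, hx⟩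
    exact ⟨k, by simpa using congrArg Subtype.val hk⟩
  have hh₁1 : h₁ = 1 := by
    by_cases hcase : ∀ x ∈ U, h₁ * x * h₁⁻¹ = x
    · -- h₁ centralizes U
      have hc : h₁ ∈ Subgroup.centralizer (U : Set G) := by
        rw [Subgroup.mem_centralizer_iff]
        intro x hx
        have := hcase x hx
        calc x * h₁ = (h₁ * x * h₁⁻¹) * h₁ := by rw [this]
          _ = h₁ * x := by group
      obtain ⟨k, hk⟩ := hpU h₁ (hCU hc)
      exact rank1_ppow p H hHp k h₁ hh₁ hk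
    · push Not at hcase
      obtain ⟨x, hx, hxne⟩ := hcase
      -- v = n x n⁻¹
      have hβv : β (n * x * n⁻¹) = n * (h₁ * x * h₁⁻¹) * n⁻¹ := by
        rw [map_mul, map_mul, map_inv, hm', hfix x hx]; group
      rcases hbruhat (n * x * n⁻¹) with ⟨v, hv, k, hk, hvk⟩ | ⟨u₂, hu₂, h₂, hh₂, u₂', hu₂', hv⟩
      · exfalso
        have h1 : β (n * x * n⁻¹) = n * x * n⁻¹ := by
          rw [hvk, map_mul, hfix v hv, hfixH k hk]
        rw [hβv] at h1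
        apply hxne
        have h2 : n * (h₁ * x * h₁⁻¹) = n * x := mul_right_cancel h1
        exact mul_left_cancel h2
      · -- v⁻¹ β v computed in two ways
        have h1 : β (n * x * n⁻¹) = u₂ * n * (h₁ * h₂) * u₂' := by
          rw [hv, map_mul, map_mul, map_mul, hfix u₂ hu₂, hfix u₂' hu₂', hfixH h₂ hh₂, hm']
          group
        have h2 : (n * x * n⁻¹)⁻¹ * β (n * x * n⁻¹) = u₂'⁻¹ * (h₂⁻¹ * h₁ * h₂) * u₂' := by
          rw [h1, hv]; group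
        have h3 : (n * x * n⁻¹)⁻¹ * β (n * x * n⁻¹) = n * (x⁻¹ * (h₁ * x * h₁⁻¹)) * n⁻¹ := by
          rw [hβv]; group
        have hmemU : x⁻¹ * (h₁ * x * h₁⁻¹) ∈ U :=
          U.mul_mem (U.inv_mem hx) ((hHU' h₁ hh₁ x).mp hx)
        obtain ⟨k, hk⟩ := hpU _ hmemU
        have h4 : u₂'⁻¹ * (h₂⁻¹ * h₁ * h₂) * u₂' = n * (x⁻¹ * (h₁ * x * h₁⁻¹)) * n⁻¹ := by
          rw [← h2, h3]
        obtain ⟨w, hw⟩ : ∃ w, w = x⁻¹ * (h₁ * x * h₁⁻¹) := ⟨_, rfl⟩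
        rw [← hw] at h4 hk
        -- so h₁ is conjugate to a p-element
        have h5 : h₁ = (h₂ * u₂' * n) * w * (h₂ * u₂' * n)⁻¹ := by
          calc h₁ = (h₂ * u₂') * (u₂'⁻¹ * (h₂⁻¹ * h₁ * h₂) * u₂') * (h₂ * u₂')⁻¹ := by group
            _ = (h₂ * u₂') * (n * w * n⁻¹) * (h₂ * u₂')⁻¹ := by rw [h4]
            _ = (h₂ * u₂' * n) * w * (h₂ * u₂' * n)⁻¹ := by group
        have h6 : h₁ ^ p ^ k = 1 := by
          rw [h5, conj_pow, hk]; group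
        exact rank1_ppow p H hHp k h₁ hh₁ h6
  have hβn : β n = n := by rw [hm', hh₁1, mul_one]
  ext g
  rw [MulAut.one_apply]
  rcases hbruhat g with ⟨v, hv, k, hk, rfl⟩ | ⟨u, hu, h, hh, u', hu', rfl⟩
  · rw [map_mul, hfix v hv, hfixH k hk]
  · rw [map_mul, map_mul, map_mul, hfix u hu, hfix u' hu', hfixH h hh, hβn]

/-- PIECE PA-RANK1.  Rank-one criterion. -/
theorem noPAut_of_rank_one {G : Type*} [Group G] [Finite G] (p : ℕ) [Fact p.Prime]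
    (U H : Subgroup G) (n : G) (hU : IsPGroup p U)
    (hCU : Subgroup.centralizer (U : Set G) ≤ U)
    (hHU : H ≤ Subgroup.normalizer (U : Set G))
    (hHp : ∀ h ∈ H, h ^ p = 1 → h = 1)
    (hnH : n ∈ Subgroup.normalizer (H : Set G))
    (hCUH : ∀ u ∈ U, (∀ h ∈ H, h * u = u * h) → u = 1)
    (hbruhat : ∀ g : G, (∃ u ∈ U, ∃ h ∈ H, g = u * h) ∨
      (∃ u ∈ U, ∃ h ∈ H, ∃ u' ∈ U, g = u * n * h * u'))
    (huniq : ∀ u₁ ∈ U, ∀ h₁ ∈ H, ∀ u₁' ∈ U, ∀ u₂ ∈ U, ∀ h₂ ∈ H, ∀ u₂' ∈ U,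
      u₁ * n * h₁ * u₁' = u₂ * n * h₂ * u₂' → u₁ = u₂ ∧ h₁ = h₂ ∧ u₁' = u₂')
    (hdisj : ∀ u ∈ U, ∀ h ∈ H, ∀ u' ∈ U, ∀ v ∈ U, ∀ k ∈ H, u * n * h * u' ≠ v * k) :
    NoPAut p G :=
  rank1_reduce p U hU fun β hβ hfix =>
    rank1_core p U H n hU hCU hHU hHp hnH hCUH hbruhat huniq hdisj β hβ hfix

end Cfsg.Agent.Helper28.PA
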