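import Mathlib

/-!
# S4118 piece STAB: the derived subgroup of `C_N(F)` centralizes `H` when `C_H(F) ≤ F`

Three subgroups lemma: `⁅H, C⁆ ≤ H ⊓ C ≤ F` and `⁅F, C⁆ = ⊥`, hence `⁅⁅C, C⁆, H⁆ = ⊥`.
-/

set_option autoImplicit false

namespace Cfsg.Agent.Helper2.TIH

section LemmaX

variable {N : Type*} [Group N]

theorem commutator_centralizer_le (H F : Subgroup N) [H.Normal] [F.Normal] (hFH : F ≤ H)
    (hCF : H ⊓ Subgroup.centralizer (F : Set N) ≤ F) :
    ⁅Subgroup.centralizer (F : Set N), Subgroup.centralizer (F : Set N)⁆ ≤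
      Subgroup.centralizer (H : Set N) := by
  have _hFH := hFH
  have hCn : (Subgroup.centralizer (F : Set N)).Normal := inferInstance
  rw [← Subgroup.commutator_eq_bot_iff_le_centralizer]
  have h1 : ⁅H, Subgroup.centralizer (F : Set N)⁆ ≤ F :=
    (Subgroup.commutator_le_inf _ _).trans hCF
  have h2 : ⁅⁅H, Subgroup.centralizer (F : Set N)⁆, Subgroup.centralizer (F : Set N)⁆ = ⊥ := by
    rw [Subgroup.commutator_eq_bot_iff_le_centralizer]
    exact h1.trans (Subgroup.le_centralizer_iff.mp le_rfl)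
  apply Subgroup.commutator_commutator_eq_bot_of_rotate
  · rw [Subgroup.commutator_comm (Subgroup.centralizer (F : Set N)) H]
    exact h2
  · exact h2

end LemmaX

end Cfsg.Agent.Helper2.TIH
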