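import Mathlib
import Cfsg.Agent.Lib.Helper6.UniDefs

/-!
# S2314 farm-out, piece UNI-BURN (helper26): the sum of a permutation character over the elements of
`p`-power order (double counting; the stabiliser of `xK` is `x K x⁻¹`).
-/

set_option autoImplicit false
set_option linter.unusedSectionVars false
set_option linter.unusedVariables false

namespace Cfsg.Agent.Helper6.Uni

open Cfsg

section Generic

variable {M : Type*} [Group M]

theorem uni_burn_smul_iff (K : Subgroup M) (x g : M) :
    g • (x : M ⧸ K) = (x : M ⧸ K) ↔ x⁻¹ * g * x ∈ K := by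
  rw [MulAction.Quotient.smul_mk, QuotientGroup.eq]
  constructor
  · intro h
    have h' := K.inv_mem h
    simpa [mul_assoc] using h'
  · intro h
    have h' := K.inv_mem h
    simpa [mul_assoc] using h'

theorem uni_burn_orderOf_conj (x g : M) : orderOf (x * g * x⁻¹) = orderOf g := by
  have h := (MulAut.conj x).orderOf_eq g
  simpa [MulAut.conj_apply] using h

/-- the `p`-elements fixing the coset `X` correspond to the `p`-elements of `K` -/
theorem uni_burn_fiber (p : ℕ) (K : Subgroup M) (X : M ⧸ K) :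
    Nat.card {g : {g : M // IsPE p g} // (g : M) • X = X} = Nat.card {k : K // IsPE p k} := by
  obtain ⟨x, rfl⟩ := QuotientGroup.mk_surjective X
  refine Nat.card_congr ?_
  refine
    { toFun := fun g => ⟨⟨x⁻¹ * g.1.1 * x, (uni_burn_smul_iff K x _).mp g.2⟩, ?_⟩
      invFun := fun k => ⟨⟨x * k.1.1 * x⁻¹, ?_⟩, ?_⟩
      left_inv := fun g => by
        apply Subtype.ext; apply Subtype.ext
        simp [mul_assoc]
      right_inv := fun k => by
        apply Subtype.ext; apply Subtype.ext
        simp [mul_assoc] }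
  · obtain ⟨j, hj⟩ := g.1.2
    refine ⟨j, ?_⟩
    rw [← hj, Subgroup.orderOf_mk]
    have h := uni_burn_orderOf_conj x⁻¹ g.1.1
    rwa [inv_inv] at h
  · obtain ⟨j, hj⟩ := k.2
    refine ⟨j, ?_⟩
    rw [← hj, uni_burn_orderOf_conj, Subgroup.orderOf_coe]
  · rw [uni_burn_smul_iff]
    have h := k.1.2
    simp [mul_assoc]

/-- PIECE UNI-BURN (pure Mathlib + Prelude def): the sum of a permutation character over the elements of
`p`-power order: double counting `{(g, X) : g X = X}`; the stabiliser of `xK` is `x K x⁻¹`. -/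
theorem finsum_fixedPointCharacter_isPE [Finite M] (p : ℕ) (K : Subgroup M) :
    ∑ᶠ g : {g : M // IsPE p g}, Cfsg.fixedPointCharacter K (g : M) =
      (K.index : ℂ) * (Nat.card {g : K // IsPE p g} : ℂ) := by
  classical
  have : Fintype {g : M // IsPE p g} := Fintype.ofFinite _
  have : Fintype (M ⧸ K) := Fintype.ofFinite _
  rw [finsum_eq_sum_of_fintype]
  unfold Cfsg.fixedPointCharacter
  rw [← Nat.cast_sum, ← Nat.cast_mul]
  congr 1
  have h1 : ∑ g : {g : M // IsPE p g}, Nat.card (MulAction.fixedBy (M ⧸ K) (g : M)) =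
      Nat.card (Σ g : {g : M // IsPE p g}, {X : M ⧸ K // (g : M) • X = X}) := by
    rw [Nat.card_sigma]
    rfl
  have h2 : Nat.card (Σ g : {g : M // IsPE p g}, {X : M ⧸ K // (g : M) • X = X}) =
      Nat.card (Σ X : M ⧸ K, {g : {g : M // IsPE p g} // (g : M) • X = X}) :=
    Nat.card_congr
      { toFun := fun a => ⟨a.2.1, ⟨a.1, a.2.2⟩⟩
        invFun := fun b => ⟨b.2.1, ⟨b.1, b.2.2⟩⟩
        left_inv := fun a => rfl
        right_inv := fun b => rfl }
  rw [h1, h2, Nat.card_sigma, Finset.sum_congr rfl (fun X _ => uni_burn_fiber p K X),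
    Finset.sum_const, Finset.card_univ, smul_eq_mul, Subgroup.index_eq_card,
    Nat.card_eq_fintype_card (α := M ⧸ K)]

end Generic

end Cfsg.Agent.Helper6.Uni
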