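import Mathlib
import Cfsg.Prelude.Def_Transfer
import Cfsg.Agent.Lib.Helper22.MaxClass
import Cfsg.Agent.Lib.Helper22.ClassTwo
import Cfsg.Agent.Lib.Helper9.FrattiniElem
import Cfsg.Agent.Lib.Helper23.PGroup
import Cfsg.Agent.Lib.Helper2.QuaternionRecog

/-!
# Groups of order `p ^ 3`

A group of order `p ^ 3` is elementary abelian, or extraspecial of exponent `p` (`p` odd), or quaternion
(`p = 2`), or it has a chain of characteristic subgroups of orders `p` and `p ^ 2`.
-/

set_option autoImplicit false

namespace Cfsg.Agent.Helper26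

open Subgroup

open scoped commutatorElement

section cube

variable (p : ℕ) [hp : Fact p.Prime]

/-- A nonabelian group of order `p ^ 3` is extraspecial. -/
theorem isExtraspecial_of_card_cube {B : Type*} [Group B] [Finite B] (hB : Nat.card B = p ^ 3)
    (hna : ¬ IsMulCommutative B) : Cfsg.IsExtraspecial p B := by
  have hpp : p.Prime := hp.out
  have hP : IsPGroup p B := IsPGroup.of_card hB
  have hZ := Cfsg.Agent.Helper22.card_center_of_card_cube p hB hna
  have hcomm_le : commutator B ≤ center B := by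
    rw [commutator_def, Subgroup.commutator_le]
    intro u _ v _
    have := Cfsg.Agent.Helper22.comm_mem_center_of_card_cube p hB hna u v
    rwa [commutatorElement_def]
  have hcomm_ne : commutator B ≠ ⊥ := by
    intro h
    apply hna
    refine ⟨⟨fun a b => ?_⟩⟩
    have : ⁅a, b⁆ ∈ commutator B := Subgroup.commutator_mem_commutator (mem_top a) (mem_top b)
    rw [h, mem_bot, commutatorElement_eq_one_iff_mul_comm] at this
    exact this
  have hcomm_eq : commutator B = center B := by
    apply Subgroup.eq_of_le_of_card_ge hcomm_le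
    rw [hZ]
    have h1 : Nat.card (commutator B) ∣ p := hZ ▸ Subgroup.card_dvd_of_le hcomm_le
    rcases (Nat.dvd_prime hpp).mp h1 with h | h
    · exact absurd (Subgroup.card_eq_one.mp h) hcomm_ne
    · exact h.ge
  refine ⟨⟨hP, ?_, hcomm_eq⟩, hZ⟩
  apply le_antisymm
  · have h1 := Cfsg.Agent.Helper9.frattini_le_ker_of_elementary (p := p)
      (QuotientGroup.mk' (center B)) (fun a b => ?_) (fun a => ?_)
    · rwa [QuotientGroup.ker_mk'] at h1
    · induction a using QuotientGroup.induction_on with
      | H a =>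
        induction b using QuotientGroup.induction_on with
        | H b =>
          rw [← QuotientGroup.mk_mul, ← QuotientGroup.mk_mul, QuotientGroup.eq]
          have := Cfsg.Agent.Helper22.comm_mem_center_of_card_cube p hB hna b⁻¹ a⁻¹
          have e : (a * b)⁻¹ * (b * a) = b⁻¹ * a⁻¹ * b⁻¹⁻¹ * a⁻¹⁻¹ := by group
          rw [e]
          exact this
    · induction a using QuotientGroup.induction_on with
      | H a =>
        rw [← QuotientGroup.mk_pow, QuotientGroup.eq_one_iff]
        exact Cfsg.Agent.Helper22.pow_prime_mem_center_of_card_cube p hB hna a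
  · rw [← hcomm_eq]
    exact Cfsg.Agent.Helper23.commutator_le_frattini_pgroup p hP

/-- The centre is invariant under automorphisms. -/
theorem map_mem_center {B : Type*} [Group B] (α : MulAut B) {z : B} (hz : z ∈ center B) :
    α z ∈ center B := by
  rw [mem_center_iff] at hz ⊢
  intro g
  have h := hz (α⁻¹ g)
  have := congrArg α h
  rw [map_mul, map_mul, MulAut.apply_inv_self] at this
  exact this

/-- The abelian case: a characteristic chain unless the exponent is `p`. -/
theorem abelian_cube_chain {B : Type*} [Group B] [Finite B] (hB : Nat.card B = p ^ 3)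
    (hc : ∀ a b : B, a * b = b * a) (hne : ∃ x : B, x ^ p ≠ 1) :
    ∃ K₁ K₂ : Subgroup B, K₁ ≤ K₂ ∧ Nat.card K₁ = p ∧ Nat.card K₂ = p ^ 2 ∧
      (∀ α : MulAut B, ∀ y ∈ K₁, α y ∈ K₁) ∧ (∀ α : MulAut B, ∀ y ∈ K₂, α y ∈ K₂) := by
  have hpp : p.Prime := hp.out
  let φ : B →* B :=
    { toFun := fun x => x ^ p
      map_one' := one_pow p
      map_mul' := fun a b => (show Commute a b from hc a b).mul_pow p }
  have hφ : ∀ x, φ x = x ^ p := fun x => rfl
  have hKinv : ∀ α : MulAut B, ∀ y ∈ φ.ker, α y ∈ φ.ker := by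
    intro α y hy
    rw [MonoidHom.mem_ker, hφ] at hy ⊢
    rw [← map_pow, hy, map_one]
  have hRinv : ∀ α : MulAut B, ∀ y ∈ φ.range, α y ∈ φ.range := by
    rintro α _ ⟨x, rfl⟩
    exact ⟨α x, by rw [hφ, hφ, map_pow]⟩
  have hcards : Nat.card φ.ker * Nat.card φ.range = p ^ 3 := by
    rw [← hB, ← Subgroup.index_ker, Subgroup.card_mul_index]
  have hKtop : φ.ker ≠ ⊤ := by
    obtain ⟨x, hx⟩ := hne
    intro h
    apply hx
    have : x ∈ φ.ker := h ▸ mem_top x
    exact this
  have hKbot : φ.ker ≠ ⊥ := by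
    have hdvd : p ∣ Nat.card B := by rw [hB]; exact dvd_pow_self p (by norm_num)
    obtain ⟨x, hx⟩ := exists_prime_orderOf_dvd_card' p hdvd
    intro h
    have hxk : x ∈ φ.ker := by
      rw [MonoidHom.mem_ker, hφ, ← hx, pow_orderOf_eq_one]
    rw [h, mem_bot] at hxk
    rw [hxk, orderOf_one] at hx
    exact hpp.ne_one hx.symm
  have hKdvd : Nat.card φ.ker ∣ p ^ 3 := Dvd.intro _ hcards
  obtain ⟨i, hi3, hi⟩ := (Nat.dvd_prime_pow hpp).mp hKdvd
  have hi0 : i ≠ 0 := by
    intro h
    rw [h, pow_zero] at hi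
    exact hKbot (Subgroup.card_eq_one.mp hi)
  have hi3' : i ≠ 3 := by
    intro h
    apply hKtop
    rw [← Subgroup.card_eq_iff_eq_top, hi, h, hB]
  have hppos : 0 < p := hpp.pos
  have hi12 : i = 1 ∨ i = 2 := by omega
  rcases hi12 with rfl | rfl
  · -- `|ker| = p`, `|range| = p ^ 2`
    rw [pow_one] at hi
    have hR : Nat.card φ.range = p ^ 2 := by
      rw [hi] at hcards
      have : p * Nat.card φ.range = p * p ^ 2 := by rw [hcards]; ring
      exact Nat.eq_of_mul_eq_mul_left hppos this
    refine ⟨φ.ker, φ.range, ?_, hi, hR, hKinv, hRinv⟩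
    have hdvd : p ∣ Nat.card φ.range := by rw [hR]; exact dvd_pow_self p (by norm_num)
    obtain ⟨r, hr⟩ := exists_prime_orderOf_dvd_card' p hdvd
    have hrk : (r : B) ∈ φ.ker ⊓ φ.range := by
      refine ⟨?_, r.2⟩
      show (r : B) ∈ φ.ker
      rw [MonoidHom.mem_ker, hφ]
      have : r ^ p = 1 := by rw [← hr, pow_orderOf_eq_one]
      have := congrArg Subtype.val this
      simpa using this
    have hne1 : (r : B) ≠ 1 := by
      intro h
      have : r = 1 := Subtype.ext h
      rw [this, orderOf_one] at hr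
      exact hpp.ne_one hr.symm
    have hinf : φ.ker ⊓ φ.range = φ.ker := by
      apply Subgroup.eq_of_le_of_card_ge inf_le_left
      rw [hi]
      have h1 : Nat.card ↥(φ.ker ⊓ φ.range) ∣ p := hi ▸ Subgroup.card_dvd_of_le inf_le_left
      rcases (Nat.dvd_prime hpp).mp h1 with h | h
      · have := Subgroup.card_eq_one.mp h
        rw [this, mem_bot] at hrk
        exact absurd hrk hne1
      · exact h.ge
    rw [← hinf]
    exact inf_le_right
  · -- `|ker| = p ^ 2`, `|range| = p`
    have hR : Nat.card φ.range = p := by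
      rw [hi] at hcards
      have : p ^ 2 * Nat.card φ.range = p ^ 2 * p := by rw [hcards]; ring
      exact Nat.eq_of_mul_eq_mul_left (pow_pos hppos 2) this
    refine ⟨φ.range, φ.ker, ?_, hR, hi, hRinv, hKinv⟩
    intro r hr
    rw [MonoidHom.mem_ker, hφ]
    have h1 : (⟨r, hr⟩ : φ.range) ^ Nat.card φ.range = 1 := pow_card_eq_one'
    rw [hR] at h1
    have := congrArg Subtype.val h1
    simpa using this

/-- The nonabelian case for odd `p`: a characteristic chain unless the exponent is `p`. -/
theorem nonabelian_odd_cube_chain {B : Type*} [Group B] [Finite B] (hB : Nat.card B = p ^ 3)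
    (hna : ¬ IsMulCommutative B) (hp2 : p ≠ 2) (hne : ∃ x : B, x ^ p ≠ 1) :
    ∃ K₁ K₂ : Subgroup B, K₁ ≤ K₂ ∧ Nat.card K₁ = p ∧ Nat.card K₂ = p ^ 2 ∧
      (∀ α : MulAut B, ∀ y ∈ K₁, α y ∈ K₁) ∧ (∀ α : MulAut B, ∀ y ∈ K₂, α y ∈ K₂) := by
  have hpp : p.Prime := hp.out
  have hppos : 0 < p := hpp.pos
  have hZ := Cfsg.Agent.Helper22.card_center_of_card_cube p hB hna
  have hzpow : ∀ z ∈ center B, z ^ p = 1 := by
    intro z hz
    have h1 : (⟨z, hz⟩ : center B) ^ Nat.card (center B) = 1 := pow_card_eq_one'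
    rw [hZ] at h1
    have := congrArg Subtype.val h1
    simpa using this
  have hchoose : p ∣ p.choose 2 := by
    apply hpp.dvd_choose_self (by norm_num)
    have := hpp.two_le
    omega
  let φ : B →* B :=
    { toFun := fun x => x ^ p
      map_one' := one_pow p
      map_mul' := fun x y => by
        have hcz : ⁅y, x⁆ ∈ center B := by
          have := Cfsg.Agent.Helper22.comm_mem_center_of_card_cube p hB hna y x
          rwa [← commutatorElement_def] at this
        have hc : ∀ g : B, g * ⁅y, x⁆ = ⁅y, x⁆ * g := fun g => (mem_center_iff.mp hcz g)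
        have h := Cfsg.Agent.Helper22.mul_pow_eq_of_central x y ⁅y, x⁆ hc
          (Cfsg.Agent.Helper22.mul_eq_commutator_mul x y) p
        obtain ⟨k, hk⟩ := hchoose
        show (x * y) ^ p = x ^ p * y ^ p
        rw [h, hk, pow_mul, hzpow _ hcz, one_pow, one_mul] }
  have hφ : ∀ x, φ x = x ^ p := fun x => rfl
  have hKinv : ∀ α : MulAut B, ∀ y ∈ φ.ker, α y ∈ φ.ker := by
    intro α y hy
    rw [MonoidHom.mem_ker, hφ] at hy ⊢
    rw [← map_pow, hy, map_one]
  have hcards : Nat.card φ.ker * Nat.card φ.range = p ^ 3 := by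
    rw [← hB, ← Subgroup.index_ker, Subgroup.card_mul_index]
  have hRle : φ.range ≤ center B := by
    rintro _ ⟨x, rfl⟩
    exact Cfsg.Agent.Helper22.pow_prime_mem_center_of_card_cube p hB hna x
  have hRne : φ.range ≠ ⊥ := by
    obtain ⟨x, hx⟩ := hne
    intro h
    apply hx
    have : φ x ∈ φ.range := ⟨x, rfl⟩
    rw [h, mem_bot] at this
    exact this
  have hR : Nat.card φ.range = p := by
    have h1 : Nat.card φ.range ∣ p := hZ ▸ Subgroup.card_dvd_of_le hRle
    rcases (Nat.dvd_prime hpp).mp h1 with h | h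
    · exact absurd (Subgroup.card_eq_one.mp h) hRne
    · exact h
  have hK : Nat.card φ.ker = p ^ 2 := by
    rw [hR] at hcards
    have : Nat.card φ.ker * p = p ^ 2 * p := by rw [hcards]; ring
    exact Nat.eq_of_mul_eq_mul_right hppos this
  refine ⟨center B, φ.ker, ?_, hZ, hK, fun α y hy => map_mem_center α hy, hKinv⟩
  intro z hz
  rw [MonoidHom.mem_ker, hφ]
  exact hzpow z hz

end cube

/-- The nonabelian case for `p = 2`: quaternion, or a characteristic chain. -/
theorem nonabelian_two_cube {B : Type*} [Group B] [Finite B] (hB : Nat.card B = 2 ^ 3)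
    (hna : ¬ IsMulCommutative B) :
    Nonempty (B ≃* QuaternionGroup 2) ∨
    ∃ K₁ K₂ : Subgroup B, K₁ ≤ K₂ ∧ Nat.card K₁ = 2 ∧ Nat.card K₂ = 2 ^ 2 ∧
      (∀ α : MulAut B, ∀ y ∈ K₁, α y ∈ K₁) ∧ (∀ α : MulAut B, ∀ y ∈ K₂, α y ∈ K₂) := by
  haveI : Fact (Nat.Prime 2) := ⟨Nat.prime_two⟩
  have hZ := Cfsg.Agent.Helper22.card_center_of_card_cube 2 hB hna
  have hsq : ∀ x : B, x ^ 2 ∈ center B :=
    fun x => Cfsg.Agent.Helper22.pow_prime_mem_center_of_card_cube 2 hB hna x
  have hz2 : ∀ z ∈ center B, z ^ 2 = 1 := by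
    intro z hz
    have h1 : (⟨z, hz⟩ : center B) ^ Nat.card (center B) = 1 := pow_card_eq_one'
    rw [hZ] at h1
    have := congrArg Subtype.val h1
    simpa using this
  have h4 : ∀ x : B, x ^ 4 = 1 := by
    intro x
    have : x ^ 4 = (x ^ 2) ^ 2 := by rw [← pow_mul]
    rw [this]
    exact hz2 _ (hsq x)
  obtain ⟨a, ha2⟩ : ∃ a : B, a ^ 2 ≠ 1 := by
    by_contra hcon
    push Not at hcon
    apply hna
    refine ⟨⟨fun x y => ?_⟩⟩
    have hinv : ∀ g : B, g⁻¹ = g := by
      intro g
      have := hcon g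
      rw [pow_two] at this
      exact inv_eq_of_mul_eq_one_left this
    calc x * y = (x * y)⁻¹ := (hinv _).symm
      _ = y⁻¹ * x⁻¹ := mul_inv_rev x y
      _ = y * x := by rw [hinv, hinv]
  have ha : orderOf a = 4 := by
    have := orderOf_eq_prime_pow (p := 2) (n := 1) (x := a) (by simpa using ha2) (by simpa using h4 a)
    simpa using this
  have hzc : a ^ 2 ∈ center B := hsq a
  have hcenter : ∀ w ∈ center B, w = 1 ∨ w = a ^ 2 := by
    intro w hw
    obtain ⟨y, -, hy⟩ := (Nat.card_eq_two_iff' (1 : center B)).mp hZ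
    by_cases hw1 : w = 1
    · exact Or.inl hw1
    · right
      have e1 : (⟨w, hw⟩ : center B) = y := hy _ (fun h => hw1 (congrArg Subtype.val h))
      have e2 : (⟨a ^ 2, hzc⟩ : center B) = y := hy _ (fun h => ha2 (congrArg Subtype.val h))
      exact congrArg Subtype.val (e1.trans e2.symm)
  have hCcard : Nat.card (zpowers a) = 4 := by rw [Nat.card_zpowers, ha]
  have hCidx : (zpowers a).index = 2 := by
    have := Subgroup.card_mul_index (zpowers a)
    rw [hCcard, hB] at this
    omega
  haveI hCn : (zpowers a).Normal := Subgroup.normal_of_index_eq_two hCidx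
  have ha3 : a ^ 2 * a = a⁻¹ := by
    have : a ^ 2 * a * a = 1 := by rw [← pow_succ, ← pow_succ]; exact h4 a
    exact eq_inv_of_mul_eq_one_left this
  by_cases hq : ∃ b : B, b ∉ zpowers a ∧ b * b = a ^ 2
  · left
    obtain ⟨b, hbC, hbb⟩ := hq
    have hcomm := Cfsg.Agent.Helper22.comm_mem_center_of_card_cube 2 hB hna b a
    rcases hcenter _ hcomm with h1 | h1
    · -- `b` centralizes `a`: impossible
      exfalso
      have hba : b * a = a * b := by
        have := congrArg (fun t => t * a * b) h1
        simpa [mul_assoc] using this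
      have hbD : b ∈ centralizer ({a} : Set B) := by
        rw [mem_centralizer_iff]
        intro g hg
        rw [Set.mem_singleton_iff] at hg
        rw [hg]
        exact hba.symm
      have hCD : zpowers a ≤ centralizer ({a} : Set B) := by
        rw [zpowers_le]
        rw [mem_centralizer_iff]
        intro g hg
        rw [Set.mem_singleton_iff] at hg
        rw [hg]
      have hd1 : 4 ∣ Nat.card (centralizer ({a} : Set B)) := hCcard ▸ Subgroup.card_dvd_of_le hCD
      have hd2 : Nat.card (centralizer ({a} : Set B)) ∣ 8 := by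
        have := Subgroup.card_subgroup_dvd_card (centralizer ({a} : Set B))
        rwa [hB] at this
      have hpos : 0 < Nat.card (centralizer ({a} : Set B)) := Nat.card_pos
      have hle8 : Nat.card (centralizer ({a} : Set B)) ≤ 8 := Nat.le_of_dvd (by norm_num) hd2
      have hcases : Nat.card (centralizer ({a} : Set B)) = 4 ∨
          Nat.card (centralizer ({a} : Set B)) = 8 := by
        obtain ⟨k, hk⟩ := hd1
        have : k = 1 ∨ k = 2 := by omega
        rcases this with rfl | rfl <;> omega
      rcases hcases with h | h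
      · have heq : zpowers a = centralizer ({a} : Set B) :=
          Subgroup.eq_of_le_of_card_ge hCD (by rw [h, hCcard])
        exact hbC (heq ▸ hbD)
      · have htop : centralizer ({a} : Set B) = ⊤ := by
          rw [← Subgroup.card_eq_iff_eq_top, h, hB]; norm_num
        have hacen : a ∈ center B := by
          rw [mem_center_iff]
          intro g
          have hg : g ∈ centralizer ({a} : Set B) := htop ▸ mem_top g
          exact (mem_centralizer_iff.mp hg a rfl).symm
        exact ha2 (hz2 a hacen)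
    · have hba : b * a * b⁻¹ = a⁻¹ := by
        have := congrArg (fun t => t * a) h1
        simp only [inv_mul_cancel_right] at this
        rw [this, ha3]
      exact Cfsg.Agent.Helper2.nonempty_mulEquiv_quaternion 2 le_rfl a b (by rw [ha]) hbb hba
        (by rw [hB]; norm_num)
  · right
    push Not at hq
    have hinvol : ∀ b : B, b ∉ zpowers a → b ^ 2 = 1 := by
      intro b hb
      rcases hcenter _ (hsq b) with h | h
      · exact h
      · exact absurd (by rw [← pow_two]; exact h) (hq b hb)
    refine ⟨center B, zpowers a, ?_, hZ, by rw [hCcard]; norm_num,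
      fun α y hy => map_mem_center α hy, ?_⟩
    · intro w hw
      rcases hcenter w hw with h | h
      · rw [h]; exact one_mem _
      · rw [h]; exact pow_mem (mem_zpowers a) 2
    · intro α y hy
      obtain ⟨k, rfl⟩ := mem_zpowers_iff.mp hy
      rw [map_zpow]
      apply zpow_mem
      by_contra hαa
      have h1 := hinvol _ hαa
      rw [← map_pow] at h1
      have : a ^ 2 = 1 := by
        apply α.injective
        rw [h1, map_one]
      exact ha2 this

/-- Summary: the possibilities for a group of order `p ^ 3`. -/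
theorem cube_cases (p : ℕ) [hp : Fact p.Prime] {B : Type*} [Group B] [Finite B]
    (hB : Nat.card B = p ^ 3) :
    (IsMulCommutative B ∧ ∀ x : B, x ^ p = 1) ∨
    (p ≠ 2 ∧ Cfsg.IsExtraspecial p B ∧ ∀ x : B, x ^ p = 1) ∨
    (p = 2 ∧ Nonempty (B ≃* QuaternionGroup 2)) ∨
    ∃ K₁ K₂ : Subgroup B, K₁ ≤ K₂ ∧ Nat.card K₁ = p ∧ Nat.card K₂ = p ^ 2 ∧
      (∀ α : MulAut B, ∀ y ∈ K₁, α y ∈ K₁) ∧ (∀ α : MulAut B, ∀ y ∈ K₂, α y ∈ K₂) := by
  by_cases hab : IsMulCommutative B
  · by_cases hexp : ∀ x : B, x ^ p = 1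
    · exact Or.inl ⟨hab, hexp⟩
    · push Not at hexp
      exact Or.inr (Or.inr (Or.inr (abelian_cube_chain p hB (fun a b => hab.is_comm.comm a b) hexp)))
  · by_cases hp2 : p = 2
    · subst hp2
      rcases nonabelian_two_cube hB hab with h | h
      · exact Or.inr (Or.inr (Or.inl ⟨rfl, h⟩))
      · exact Or.inr (Or.inr (Or.inr h))
    · by_cases hexp : ∀ x : B, x ^ p = 1
      · exact Or.inr (Or.inl ⟨hp2, isExtraspecial_of_card_cube p hB hab, hexp⟩)
      · push Not at hexp
        exact Or.inr (Or.inr (Or.inr (nonabelian_odd_cube_chain p hB hab hp2 hexp)))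

end Cfsg.Agent.Helper26
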