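import Mathlib
import Cfsg.Agent.Lib.Helper26.RealizedNormal

/-!
# `pbSys ι N` is a normal subsystem
-/

set_option autoImplicit false

namespace Cfsg.Agent.Helper26

open Cfsg Cfsg.FusionSystem Cfsg.Agent.Helper25

variable {Ω : Type*} [Group Ω] {S : Subgroup Ω} {G : Type*} [Group G]

/-- The restriction of `ι` to `S ∩ ι⁻¹(N)`, with values in `N`. -/
def pbHom (ι : S →* G) (N : Subgroup G) : ↥(pbSub ι N) →* ↥N :=
  (ι.comp (Subgroup.inclusion (pbSub_le ι N))).codRestrict N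
    (fun t => map_mem_of_mem_pbSub t.2 _)

theorem pbHom_coe (ι : S →* G) (N : Subgroup G) (t : ↥(pbSub ι N)) :
    ((pbHom ι N t : N) : G) = ι ⟨t, pbSub_le ι N t.2⟩ := rfl

theorem pbSys_isRealizedBy (ι : S →* G) (hι : Function.Injective ι) (N : Subgroup G) :
    (pbSys ι hι N).IsRealizedBy (pbHom ι N) := by
  refine ⟨?_, ?_⟩
  · intro a b hab
    have h1 : ι ⟨a, pbSub_le ι N a.2⟩ = ι ⟨b, pbSub_le ι N b.2⟩ := congrArg Subtype.val hab
    exact Subtype.ext (Subtype.mk.inj (hι h1))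
  · intro P hP φ hφ
    rw [mem_pbSys]
    constructor
    · rintro ⟨-, -, n, hn, hnx⟩
      refine ⟨⟨n, hn⟩, fun x => Subtype.ext ?_⟩
      exact hnx x _ _
    · rintro ⟨g, hg⟩
      refine ⟨hP, hφ, g, g.2, fun x h1 h2 => ?_⟩
      exact congrArg Subtype.val (hg x)

theorem pbHom_range (ι : S →* G) (N : Subgroup G) :
    (pbHom ι N).range = (ι.range ⊓ N).subgroupOf N := by
  ext y
  rw [Subgroup.mem_subgroupOf]
  constructor
  · rintro ⟨t, rfl⟩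
    exact ⟨⟨_, rfl⟩, (pbHom ι N t).2⟩
  · rintro ⟨⟨s, hs⟩, hy⟩
    have hsT : (s : Ω) ∈ pbSub ι N := mem_pbSub.mpr ⟨s.2, by rw [Subtype.coe_eta, hs]; exact hy⟩
    refine ⟨⟨s, hsT⟩, Subtype.ext ?_⟩
    rw [pbHom_coe]
    exact hs

theorem pbSys_isSaturated [Finite G] {p : ℕ} [Fact p.Prime] (ι : S →* G) (hι : Function.Injective ι)
    (R : Sylow p G) (hR : (R : Subgroup G) = ι.range) (N : Subgroup G) [N.Normal] :
    (pbSys ι hι N).IsSaturated p := by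
  have hsyl : IsSylowIn p ((R : Subgroup G) ⊓ N) N :=
    (isSylowIn_top_of_sylow R).inf_of_normal le_top (fun n _ => conjBy_normal N n)
  obtain ⟨R', hR'⟩ := (isSylowIn_iff_exists_sylow hsyl.le).mp hsyl
  refine isSaturated_of_realized _ (pbHom ι N) (pbSys_isRealizedBy ι hι N) R' ?_
  rw [hR', hR, pbHom_range]

/-- For a system realized on a Sylow subgroup of `G` and `N ⊴ G`, the system of `N` is normal in `F`. -/
theorem pbSys_isNormalIn [Finite G] {p : ℕ} [Fact p.Prime] (F : FusionSystem S) (hF : F.IsSaturated p)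
    (ι : S →* G) (hreal : F.IsRealizedBy ι) (R : Sylow p G) (hR : (R : Subgroup G) = ι.range)
    (N : Subgroup G) [hN : N.Normal] : (pbSys ι hreal.1 N).IsNormalIn F p := by
  have hι := hreal.1
  have hTS : pbSub ι N ≤ S := pbSub_le ι N
  have himg : imgSub ι (pbSub ι N) = (R : Subgroup G) ⊓ N := by rw [imgSub_pbSub, hR]
  -- the strongly closed property
  have hsc : F.StronglyClosed (pbSub ι N) := by
    refine ⟨hTS, fun Q hQ φ hφ x => ?_⟩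
    have hφS := (F.le_of_mem hφ).2
    obtain ⟨g, hg⟩ := (hreal.2 Q (hQ.trans hTS) φ hφS).mp hφ
    refine mem_pbSub.mpr ⟨hφS x, ?_⟩
    rw [hg]
    exact hN.conj_mem _ (map_mem_of_mem_pbSub (hQ x.2) _) g
  refine ⟨⟨pbSys_isSaturated ι hι R hR N, hF, ?_, hsc, ?_, ?_⟩, ?_⟩
  · -- subsystem
    intro P φ hφ
    obtain ⟨hP, hφT, n, -, hn⟩ := mem_pbSys.mp hφ
    exact (hreal.2 P (hP.trans hTS) φ (fun x => hTS (hφT x))).mpr ⟨n, fun x => hn x _ _⟩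
  · -- invariance
    intro P hPT φ hφ α hα
    obtain ⟨-, hφT, n, hn, hnx⟩ := mem_pbSys.mp hφ
    have hαF := (mem_autGroup_iff F hTS α).mp hα
    obtain ⟨g, hg⟩ := (hreal.2 _ hTS _ (fun x => hTS (α x).2)).mp hαF
    have hg' : ∀ t : ↥(pbSub ι N), ι ⟨((α t : ↥(pbSub ι N)) : Ω), hTS (α t).2⟩ =
        g * ι ⟨t, hTS t.2⟩ * g⁻¹ := hg
    have hmemP₂ : ∀ y : Ω, y ∈ (P.subgroupOf (pbSub ι N)).map
        ((pbSub ι N).subtype.comp α.toMonoidHom) ↔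
        ∃ x : ↥(pbSub ι N), (x : Ω) ∈ P ∧ ((α x : ↥(pbSub ι N)) : Ω) = y := by
      intro y
      rw [Subgroup.mem_map]
      constructor
      · rintro ⟨x, hx, rfl⟩; exact ⟨x, Subgroup.mem_subgroupOf.mp hx, rfl⟩
      · rintro ⟨x, hx, rfl⟩; exact ⟨x, Subgroup.mem_subgroupOf.mpr hx, rfl⟩
    have hP₂T : (P.subgroupOf (pbSub ι N)).map ((pbSub ι N).subtype.comp α.toMonoidHom) ≤
        pbSub ι N := by
      intro y hy
      obtain ⟨x, -, rfl⟩ := (hmemP₂ y).mp hy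
      exact (α x).2
    -- key computation
    have hkey : ∀ (x : ↥(pbSub ι N)) (hx : (x : Ω) ∈ P),
        g * n * g⁻¹ * ι ⟨((α x : ↥(pbSub ι N)) : Ω), hTS (α x).2⟩ * (g * n * g⁻¹)⁻¹ =
          ι ⟨((α ⟨φ ⟨x, hx⟩, hφT _⟩ : ↥(pbSub ι N)) : Ω), hTS (α _).2⟩ := by
      intro x hx
      rw [hg', hg']
      have e := hnx ⟨x, hx⟩ (hTS x.2) (hTS (hφT _))
      have e' : ι ⟨((⟨φ ⟨x, hx⟩, hφT _⟩ : ↥(pbSub ι N)) : Ω), hTS (hφT _)⟩ =
          n * ι ⟨x, hTS x.2⟩ * n⁻¹ := e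
      rw [e']
      group
    obtain ⟨χ, hχ, hχS, hιχ⟩ := exists_pbHom_of_conj F hreal N hP₂T (g * n * g⁻¹)
      (hN.conj_mem n hn g) (by
        rintro ⟨y, hy⟩
        obtain ⟨x, hx, rfl⟩ := (hmemP₂ y).mp hy
        rw [hkey x hx]
        exact ⟨_, rfl⟩)
    refine ⟨χ, hχ, fun x hφx hαx => ?_⟩
    have h1 := hιχ ⟨_, hαx⟩
    have h2 := hkey ⟨x, hPT x.2⟩ x.2
    have h3 : ι ⟨χ ⟨_, hαx⟩, hχS _⟩ =
        ι ⟨((α ⟨φ ⟨(⟨x, hPT x.2⟩ : ↥(pbSub ι N)), x.2⟩, hφT _⟩ : ↥(pbSub ι N)) : Ω), hTS (α _).2⟩ := by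
      rw [h1]
      exact h2
    exact Subtype.mk.inj (hι h3)
  · -- Frattini
    intro P hPT φ hφ
    have hφS := (F.le_of_mem hφ).2
    obtain ⟨g, hg⟩ := (hreal.2 P (hPT.trans hTS) φ hφS).mp hφ
    have hsyl : IsSylowIn p ((R : Subgroup G) ⊓ N) N :=
      (isSylowIn_top_of_sylow R).inf_of_normal le_top (fun n _ => conjBy_normal N n)
    obtain ⟨R', hR'⟩ := (isSylowIn_iff_exists_sylow hsyl.le).mp hsyl
    have hfrat := Sylow.normalizer_sup_eq_top R'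
    have hmap : (R' : Subgroup N).map N.subtype = (R : Subgroup G) ⊓ N := by
      rw [hR']; exact Subgroup.map_subgroupOf_eq_of_le inf_le_right
    have hg_top : g ∈ Subgroup.normalizer ((((R' : Subgroup N).map N.subtype : Subgroup G)) : Set G) ⊔ N := by
      rw [hfrat]; trivial
    rw [hmap, ← himg] at hg_top
    obtain ⟨h, hh, n, hn, rfl⟩ := Subgroup.mem_sup_of_normal_right.mp hg_top
    obtain ⟨α, hα, hαx⟩ := exists_aut_of_normalizer F hreal hTS h hh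
    have hh_inv : h⁻¹ ∈ Subgroup.normalizer ((imgSub ι (pbSub ι N) : Subgroup G) : Set G) :=
      Subgroup.inv_mem _ hh
    have hφT : ∀ x : P, φ x ∈ pbSub ι N := fun x => hsc.2 P hPT φ hφ x
    have hnx : ∀ x : P, n * ι ⟨x, hTS (hPT x.2)⟩ * n⁻¹ ∈ imgSub ι (pbSub ι N) := by
      intro x
      have h1 : ι ⟨φ x, hφS x⟩ ∈ imgSub ι (pbSub ι N) :=
        mem_imgSub.mpr ⟨⟨φ x, hφS x⟩, hφT x, rfl⟩
      have h2 := (Subgroup.mem_normalizer_iff.mp hh_inv _).mp h1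
      rw [hg] at h2
      have e : h⁻¹ * (h * n * ι ⟨x, hTS (hPT x.2)⟩ * (h * n)⁻¹) * h⁻¹⁻¹ =
          n * ι ⟨x, hTS (hPT x.2)⟩ * n⁻¹ := by group
      rwa [e] at h2
    obtain ⟨φ₀, hφ₀, hφ₀S, hιφ₀⟩ := exists_pbHom_of_conj F hreal N hPT n hn
      (fun x => imgSub_le_range ι _ (hnx x))
    refine ⟨α, hα, φ₀, hφ₀, fun x hx => ?_⟩
    have h1 := hαx ⟨φ₀ x, hx⟩
    have h2 : ι ⟨((⟨φ₀ x, hx⟩ : ↥(pbSub ι N)) : Ω), hTS hx⟩ = n * ι ⟨x, hTS (hPT x.2)⟩ * n⁻¹ :=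
      hιφ₀ x
    rw [h2] at h1
    have h3 : ι ⟨φ x, hφS x⟩ = ι ⟨((α ⟨φ₀ x, hx⟩ : ↥(pbSub ι N)) : Ω), hTS (α _).2⟩ := by
      rw [h1, hg]
      group
    exact Subtype.mk.inj (hι h3)
  · -- extension condition
    intro α hα
    have hαE := (mem_autGroup_iff (pbSys ι hι N) le_rfl α).mp hα
    obtain ⟨-, -, n, hn, hnx⟩ := mem_pbSys.mp hαE
    have hnx' : ∀ t : ↥(pbSub ι N), ι ⟨((α t : ↥(pbSub ι N)) : Ω), hTS (α t).2⟩ =
        n * ι ⟨t, hTS t.2⟩ * n⁻¹ := fun t => hnx t _ _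
    -- `n` normalizes the image
    have hnN : n ∈ Subgroup.normalizer ((imgSub ι (pbSub ι N) : Subgroup G) : Set G) := by
      rw [Subgroup.mem_normalizer_iff]
      intro y
      constructor
      · intro hy
        obtain ⟨s, hs, rfl⟩ := mem_imgSub.mp hy
        have := hnx' ⟨s, hs⟩
        have e : (⟨((⟨(s : Ω), hs⟩ : ↥(pbSub ι N)) : Ω), hTS hs⟩ : S) = s := Subtype.ext rfl
        rw [e] at this
        rw [← this]
        exact mem_imgSub.mpr ⟨⟨_, hTS (α _).2⟩, (α _).2, rfl⟩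
      · intro hy
        obtain ⟨s, hs, e⟩ := mem_imgSub.mp hy
        have h1 := hnx' (α.symm ⟨s, hs⟩)
        rw [MulEquiv.apply_symm_apply] at h1
        have e2 : (⟨((⟨(s : Ω), hs⟩ : ↥(pbSub ι N)) : Ω), hTS hs⟩ : S) = s := Subtype.ext rfl
        rw [e2, e] at h1
        have h2 : y = ι ⟨((α.symm ⟨s, hs⟩ : ↥(pbSub ι N)) : Ω), hTS (α.symm _).2⟩ :=
          mul_left_cancel (mul_right_cancel h1)
        rw [h2]
        exact mem_imgSub.mpr ⟨⟨_, hTS (α.symm _).2⟩, (α.symm _).2, rfl⟩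
    rw [himg] at hnN
    obtain ⟨k, hkN, hkR, hkT, hkx⟩ := exists_extension_elt R N hn hnN
    have hWS : pbSub ι N ⊔ centralizerIn S (pbSub ι N) ≤ S := sup_le hTS centralizerIn_le
    have himgW : imgSub ι (pbSub ι N ⊔ centralizerIn S (pbSub ι N)) =
        ((R : Subgroup G) ⊓ N) ⊔ centralizerIn (R : Subgroup G) ((R : Subgroup G) ⊓ N) := by
      rw [imgSub_sup ι hTS centralizerIn_le, imgSub_centralizerIn hι _ hTS, himg, hR]
    rw [← himgW] at hkR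
    obtain ⟨β, hβ, hβx⟩ := exists_aut_of_normalizer F hreal hWS k hkR
    refine ⟨β, hβ, fun x => ?_, fun c hc => ?_⟩
    · have h1 := hβx (Subgroup.inclusion le_sup_left x)
      have h2 : ι ⟨((Subgroup.inclusion (le_sup_left (b := centralizerIn S (pbSub ι N))) x :
          ↥(pbSub ι N ⊔ centralizerIn S (pbSub ι N))) : Ω), hWS (Subgroup.inclusion le_sup_left x).2⟩ =
          ι ⟨x, hTS x.2⟩ := rfl
      rw [h2] at h1
      have h3 : ι ⟨x, hTS x.2⟩ ∈ (R : Subgroup G) ⊓ N := by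
        rw [← himg]; exact mem_imgSub.mpr ⟨⟨x, hTS x.2⟩, x.2, rfl⟩
      rw [hkx _ h3, ← hnx' x] at h1
      exact Subtype.mk.inj (hι h1)
    · have hcS : (c : Ω) ∈ S := hc.1
      have h1 := hβx c
      have hβS : ((β c : ↥(pbSub ι N ⊔ centralizerIn S (pbSub ι N))) : Ω) ∈ S := hWS (β c).2
      have hprodS : (c : Ω)⁻¹ * ((β c : ↥(pbSub ι N ⊔ centralizerIn S (pbSub ι N))) : Ω) ∈ S :=
        S.mul_mem (S.inv_mem hcS) hβS
      have hιprod : ι ⟨(c : Ω)⁻¹ * ((β c : ↥(pbSub ι N ⊔ centralizerIn S (pbSub ι N))) : Ω), hprodS⟩ =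
          (ι ⟨c, hcS⟩)⁻¹ * (k * ι ⟨c, hcS⟩ * k⁻¹) := by
        have : (⟨(c : Ω)⁻¹ * ((β c : ↥(pbSub ι N ⊔ centralizerIn S (pbSub ι N))) : Ω), hprodS⟩ : S) =
            (⟨c, hcS⟩ : S)⁻¹ * ⟨_, hβS⟩ := Subtype.ext rfl
        rw [this, map_mul, map_inv, h1]
      refine ⟨mem_pbSub.mpr ⟨hprodS, ?_⟩, ?_⟩
      · rw [hιprod]
        have h2 : (ι ⟨c, hcS⟩)⁻¹ * k * (ι ⟨c, hcS⟩)⁻¹⁻¹ ∈ N := hN.conj_mem _ hkN _
        have e : (ι ⟨c, hcS⟩)⁻¹ * (k * ι ⟨c, hcS⟩ * k⁻¹) =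
            ((ι ⟨c, hcS⟩)⁻¹ * k * (ι ⟨c, hcS⟩)⁻¹⁻¹) * k⁻¹ := by group
        rw [e]
        exact N.mul_mem h2 (N.inv_mem hkN)
      · -- centralizes `T`
        apply Subgroup.mul_mem _ (Subgroup.inv_mem _ hc.2)
        rw [Subgroup.mem_centralizer_iff]
        intro t ht
        -- `k⁻¹ ι(t) k ∈ ι(T)`, which `ι(c)` centralizes
        have htimg : ι ⟨t, hTS ht⟩ ∈ (R : Subgroup G) ⊓ N := by
          rw [← himg]; exact mem_imgSub.mpr ⟨⟨t, hTS ht⟩, ht, rfl⟩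
        have hk_inv : k⁻¹ ∈ Subgroup.normalizer ((((R : Subgroup G) ⊓ N : Subgroup G)) : Set G) :=
          Subgroup.inv_mem _ hkT
        have h2 := (Subgroup.mem_normalizer_iff.mp hk_inv _).mp htimg
        rw [← himg] at h2
        obtain ⟨s, hs, e⟩ := mem_imgSub.mp h2
        have hcs : (s : Ω) * c = c * s := (Subgroup.mem_centralizer_iff.mp hc.2) s hs
        have hcs' : ι s * ι ⟨c, hcS⟩ = ι ⟨c, hcS⟩ * ι s := by
          rw [← map_mul, ← map_mul]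
          congr 1
          exact Subtype.ext hcs
        have h3 : ι ⟨t, hTS ht⟩ * ι ⟨_, hβS⟩ = ι ⟨_, hβS⟩ * ι ⟨t, hTS ht⟩ := by
          rw [h1]
          have et : ι ⟨t, hTS ht⟩ = k * ι s * k⁻¹ := by rw [e]; group
          rw [et]
          calc k * ι s * k⁻¹ * (k * ι ⟨c, hcS⟩ * k⁻¹) = k * (ι s * ι ⟨c, hcS⟩) * k⁻¹ := by group
            _ = k * (ι ⟨c, hcS⟩ * ι s) * k⁻¹ := by rw [hcs']
            _ = k * ι ⟨c, hcS⟩ * k⁻¹ * (k * ι s * k⁻¹) := by group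
        rw [← map_mul, ← map_mul] at h3
        exact congrArg Subtype.val (hι h3)

end Cfsg.Agent.Helper26
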