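import Mathlib
import Cfsg.Agent.Lib.Helper26.PARANK1

/-!
# S4613 piece PA-RANK1Q (helper26): the rank-one criterion passes to `X ⧸ center X`.
-/

set_option autoImplicit false

namespace Cfsg.Agent.Helper28.PA

variable {X : Type*} [Group X]

/-- If `[c, q]` is central, `q` has `p`-power order and the centre has no element of order `p`,
then `c` and `q` commute. -/
theorem rank1q_comm (p : ℕ) (hZ : ∀ z ∈ Subgroup.center X, z ^ p = 1 → z = 1)
    (c q : X) (hzc : c * q * c⁻¹ * q⁻¹ ∈ Subgroup.center X) (m : ℕ) (hq : q ^ p ^ m = 1) :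
    c * q = q * c := by
  obtain ⟨z, hz⟩ : ∃ z, z = c * q * c⁻¹ * q⁻¹ := ⟨_, rfl⟩
  rw [← hz] at hzc
  have hconj : c * q * c⁻¹ = z * q := by rw [hz]; group
  have hpowk : ∀ k : ℕ, c * q ^ k * c⁻¹ = z ^ k * q ^ k := by
    intro k
    induction k with
    | zero => simp
    | succ k ih =>
      have hzq : ∀ y : X, y * z = z * y := fun y => (Subgroup.mem_center_iff.mp hzc y)
      calc c * q ^ (k + 1) * c⁻¹ = (c * q ^ k * c⁻¹) * (c * q * c⁻¹) := by
            rw [pow_succ]; group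
        _ = (z ^ k * q ^ k) * (z * q) := by rw [ih, hconj]
        _ = z ^ k * (q ^ k * z) * q := by group
        _ = z ^ k * (z * q ^ k) * q := by rw [hzq]
        _ = z ^ (k + 1) * q ^ (k + 1) := by rw [pow_succ, pow_succ]; group
  have hzpow : z ^ p ^ m = 1 := by
    have := hpowk (p ^ m)
    rw [hq] at this
    simpa using this.symm
  have hz1 : z = 1 := center_ppow_eq_one p hZ z hzc m hzpow
  rw [hz1, one_mul] at hconj
  calc c * q = (c * q * c⁻¹) * c := by group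
    _ = q * c := by rw [hconj]

/-- Lifting an equality in the quotient by the centre. -/
theorem rank1q_lift (a b : X)
    (h : QuotientGroup.mk' (Subgroup.center X) a = QuotientGroup.mk' (Subgroup.center X) b) :
    ∃ z ∈ Subgroup.center X, a = b * z := by
  rw [QuotientGroup.mk'_apply, QuotientGroup.mk'_apply, QuotientGroup.eq] at h
  refine ⟨b⁻¹ * a, ?_, by group⟩
  have := Subgroup.inv_mem _ h
  simpa using this

/-- PIECE PA-RANK1Q.  The same data in `X` with `Z = center X ≤ H` gives the conclusion for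
`X ⧸ center X`. -/
theorem noPAut_quotient_of_rank_one {X : Type*} [Group X] [Finite X] (p : ℕ) [Fact p.Prime]
    (U H : Subgroup X) (n : X) (hU : IsPGroup p U)
    (hZ : ∀ z ∈ Subgroup.center X, z ^ p = 1 → z = 1)
    (hZH : Subgroup.center X ≤ H)
    (hCU : Subgroup.centralizer (U : Set X) ≤ U ⊔ Subgroup.center X)
    (hHU : H ≤ Subgroup.normalizer (U : Set X))
    (hHp : ∀ h ∈ H, h ^ p ∈ Subgroup.center X → h ∈ Subgroup.center X)
    (hnH : n ∈ Subgroup.normalizer (H : Set X))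
    (hCUH : ∀ u ∈ U, (∀ h ∈ H, h * u = u * h) → u = 1)
    (hbruhat : ∀ g : X, (∃ u ∈ U, ∃ h ∈ H, g = u * h) ∨
      (∃ u ∈ U, ∃ h ∈ H, ∃ u' ∈ U, g = u * n * h * u'))
    (huniq : ∀ u₁ ∈ U, ∀ h₁ ∈ H, ∀ u₁' ∈ U, ∀ u₂ ∈ U, ∀ h₂ ∈ H, ∀ u₂' ∈ U,
      u₁ * n * h₁ * u₁' = u₂ * n * h₂ * u₂' → u₁ = u₂ ∧ h₁ = h₂ ∧ u₁' = u₂')
    (hdisj : ∀ u ∈ U, ∀ h ∈ H, ∀ u' ∈ U, ∀ v ∈ U, ∀ k ∈ H, u * n * h * u' ≠ v * k) :
    NoPAut p (X ⧸ Subgroup.center X) := by
  set π : X →* X ⧸ Subgroup.center X := QuotientGroup.mk' (Subgroup.center X) with hπ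
  have hπs : Function.Surjective π := QuotientGroup.mk'_surjective _
  have hπ1 : ∀ x : X, π x = 1 ↔ x ∈ Subgroup.center X := by
    intro x
    rw [hπ, QuotientGroup.mk'_apply, QuotientGroup.eq_one_iff]
  have hpU : ∀ x ∈ U, ∃ k : ℕ, x ^ p ^ k = 1 := by
    intro x hx
    obtain ⟨k, hk⟩ := hU ⟨x, hx⟩
    exact ⟨k, by simpa using congrArg Subtype.val hk⟩
  have hcen : ∀ z ∈ Subgroup.center X, ∀ y : X, y * z = z * y :=
    fun z hz y => Subgroup.mem_center_iff.mp hz y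
  -- commutation lifts from the quotient for elements of `U`
  have hcomm : ∀ c : X, ∀ q ∈ U, π c * π q = π q * π c → c * q = q * c := by
    intro c q hq h
    obtain ⟨m, hm⟩ := hpU q hq
    apply rank1q_comm p hZ c q _ m hm
    rw [← hπ1]
    rw [map_mul, map_mul, map_mul, map_inv, map_inv, h]; group
  apply noPAut_of_rank_one p (U.map π) (H.map π) (π n) (hU.map π)
  · -- centralizer
    intro w hw
    obtain ⟨c, rfl⟩ := hπs w
    have hcC : c ∈ Subgroup.centralizer (U : Set X) := by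
      rw [Subgroup.mem_centralizer_iff]
      intro q hq
      have h1 : π q * π c = π c * π q :=
        (Subgroup.mem_centralizer_iff.mp hw) (π q) (Subgroup.mem_map_of_mem π hq)
      exact (hcomm c q hq h1.symm).symm
    obtain ⟨y, hy, z, hz, rfl⟩ := Subgroup.mem_sup_of_normal_right.mp (hCU hcC)
    rw [map_mul, (hπ1 z).mpr hz, mul_one]
    exact Subgroup.mem_map_of_mem π hy
  · -- H normalizes U
    exact (Subgroup.map_mono hHU).trans (Subgroup.le_normalizer_map π)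
  · -- H has no element of order p
    intro h hh hp
    obtain ⟨h₀, hh₀, rfl⟩ := Subgroup.mem_map.mp hh
    rw [← map_pow, hπ1] at hp
    exact (hπ1 h₀).mpr (hHp h₀ hh₀ hp)
  · -- n normalizes H
    exact Subgroup.le_normalizer_map π (Subgroup.mem_map_of_mem π hnH)
  · -- C_U(H) = 1
    intro u hu hcu
    obtain ⟨u₀, hu₀, rfl⟩ := Subgroup.mem_map.mp hu
    have : u₀ = 1 := by
      apply hCUH u₀ hu₀
      intro h hh
      exact hcomm h u₀ hu₀ (hcu (π h) (Subgroup.mem_map_of_mem π hh))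
    rw [this, map_one]
  · -- Bruhat
    intro g
    obtain ⟨g₀, rfl⟩ := hπs g
    rcases hbruhat g₀ with ⟨u, hu, h, hh, rfl⟩ | ⟨u, hu, h, hh, u', hu', rfl⟩
    · left
      exact ⟨π u, Subgroup.mem_map_of_mem π hu, π h, Subgroup.mem_map_of_mem π hh, map_mul π u h⟩
    · right
      refine ⟨π u, Subgroup.mem_map_of_mem π hu, π h, Subgroup.mem_map_of_mem π hh, π u',
        Subgroup.mem_map_of_mem π hu', ?_⟩
      rw [map_mul, map_mul, map_mul]
  · -- uniqueness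
    intro u₁ hu₁ h₁ hh₁ u₁' hu₁' u₂ hu₂ h₂ hh₂ u₂' hu₂' heq
    obtain ⟨a₁, ha₁, rfl⟩ := Subgroup.mem_map.mp hu₁
    obtain ⟨b₁, hb₁, rfl⟩ := Subgroup.mem_map.mp hh₁
    obtain ⟨c₁, hc₁, rfl⟩ := Subgroup.mem_map.mp hu₁'
    obtain ⟨a₂, ha₂, rfl⟩ := Subgroup.mem_map.mp hu₂
    obtain ⟨b₂, hb₂, rfl⟩ := Subgroup.mem_map.mp hh₂
    obtain ⟨c₂, hc₂, rfl⟩ := Subgroup.mem_map.mp hu₂'
    rw [← map_mul, ← map_mul, ← map_mul, ← map_mul, ← map_mul, ← map_mul] at heq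
    obtain ⟨z, hz, hz'⟩ := rank1q_lift _ _ heq
    have h1 : a₂ * n * b₂ * c₂ * z = a₂ * n * (b₂ * z) * c₂ := by
      rw [mul_assoc (a₂ * n * b₂) c₂ z, hcen z hz c₂]; group
    rw [h1] at hz'
    obtain ⟨e1, e2, e3⟩ := huniq a₁ ha₁ b₁ hb₁ c₁ hc₁ a₂ ha₂ (b₂ * z)
      (H.mul_mem hb₂ (hZH hz)) c₂ hc₂ hz'
    refine ⟨by rw [e1], ?_, by rw [e3]⟩
    rw [e2, map_mul, (hπ1 z).mpr hz, mul_one]
  · -- disjointness
    intro u hu h hh u' hu' v hv k hk heq
    obtain ⟨a₁, ha₁, rfl⟩ := Subgroup.mem_map.mp hu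
    obtain ⟨b₁, hb₁, rfl⟩ := Subgroup.mem_map.mp hh
    obtain ⟨c₁, hc₁, rfl⟩ := Subgroup.mem_map.mp hu'
    obtain ⟨a₂, ha₂, rfl⟩ := Subgroup.mem_map.mp hv
    obtain ⟨b₂, hb₂, rfl⟩ := Subgroup.mem_map.mp hk
    rw [← map_mul, ← map_mul, ← map_mul, ← map_mul] at heq
    obtain ⟨z, hz, hz'⟩ := rank1q_lift _ _ heq
    rw [mul_assoc a₂ b₂ z] at hz'
    exact hdisj a₁ ha₁ b₁ hb₁ c₁ hc₁ a₂ ha₂ (b₂ * z) (H.mul_mem hb₂ (hZH hz)) hz'

end Cfsg.Agent.Helper28.PA
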