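import Mathlib
import Cfsg.Prelude.Def_KGroupFacts
import Cfsg.Agent.S2117
import Cfsg.Agent.Lib.Helper11.SchurTransport

/-!
# S4705, PIECE GLIFT (helper26): if `H = H' Z(H)` and `H / Z(H) ≅ SL(2,F)`, `|F| ≠ 4, 9`, then
`H ≅ SL(2,F) × Z(H)`  (the Schur multiplier of `SL(2,F)` is trivial, S2117).
-/

set_option autoImplicit false

namespace Cfsg.Agent.Helper23.B2

open scoped commutatorElement

universe u

namespace GLIFT

variable {H : Type u} [Group H]

theorem comm_left {l z g : H} (hz : z ∈ Subgroup.center H) : ⁅l * z, g⁆ = ⁅l, g⁆ := by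
  have h := Subgroup.mem_center_iff.1 hz g
  rw [commutatorElement_def, commutatorElement_def, mul_inv_rev]
  calc l * z * g * (z⁻¹ * l⁻¹) * g⁻¹ = l * (z * g) * z⁻¹ * l⁻¹ * g⁻¹ := by group
    _ = l * (g * z) * z⁻¹ * l⁻¹ * g⁻¹ := by rw [h]
    _ = l * g * l⁻¹ * g⁻¹ := by group

theorem comm_right {l z g : H} (hz : z ∈ Subgroup.center H) : ⁅g, l * z⁆ = ⁅g, l⁆ := by
  have h := Subgroup.mem_center_iff.1 hz g⁻¹
  rw [commutatorElement_def, commutatorElement_def, mul_inv_rev]
  calc g * (l * z) * g⁻¹ * (z⁻¹ * l⁻¹) = g * l * (z * g⁻¹) * z⁻¹ * l⁻¹ := by group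
    _ = g * l * (g⁻¹ * z) * z⁻¹ * l⁻¹ := by rw [h]
    _ = g * l * g⁻¹ * l⁻¹ := by group

/-- commutators do not see central factors -/
theorem commutator_le_of_sup_center (L : Subgroup H) (hL : L ⊔ Subgroup.center H = ⊤) :
    commutator H ≤ ⁅L, L⁆ := by
  rw [commutator_def, Subgroup.commutator_le]
  intro g₁ _ g₂ _
  have h1 : g₁ ∈ L ⊔ Subgroup.center H := hL ▸ Subgroup.mem_top g₁
  have h2 : g₂ ∈ L ⊔ Subgroup.center H := hL ▸ Subgroup.mem_top g₂
  obtain ⟨l₁, hl₁, z₁, hz₁, rfl⟩ := Subgroup.mem_sup_of_normal_right.1 h1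
  obtain ⟨l₂, hl₂, z₂, hz₂, rfl⟩ := Subgroup.mem_sup_of_normal_right.1 h2
  rw [comm_left hz₁, comm_right hz₂]
  exact Subgroup.commutator_mem_commutator hl₁ hl₂

/-- if `H = H' Z(H)` then `H'` is perfect -/
theorem commutator_commutator_eq_top (hperf : commutator H ⊔ Subgroup.center H = ⊤) :
    commutator (commutator H) = ⊤ := by
  have h1 : commutator H ≤ ⁅commutator H, commutator H⁆ :=
    commutator_le_of_sup_center (commutator H) hperf
  have h2 : ⁅commutator H, commutator H⁆ ≤ commutator H := Subgroup.commutator_le_left _ _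
  have h3 : (commutator (commutator H)).map (commutator H).subtype = commutator H := by
    rw [Subgroup.map_subtype_commutator]
    exact le_antisymm h2 h1
  apply Subgroup.map_injective (commutator H).subtype_injective
  rw [h3, ← MonoidHom.range_eq_map, Subgroup.range_subtype]

end GLIFT

section Grp

variable {H : Type u} [Group H] [Finite H]

/-- PIECE GLIFT (§7, generic): if `G = G' Z(G)` and `G / Z(G) ≅ SL(2,F)`, `|F| ≠ 4, 9`, then
`G ≅ SL(2,F) × Z(G)`. -/
theorem exists_iso_prod {F : Type} [Field F] [Fintype F] (hF4 : Fintype.card F ≠ 4)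
    (hF9 : Fintype.card F ≠ 9) (hperf : commutator H ⊔ Subgroup.center H = ⊤)
    (e : H ⧸ Subgroup.center H ≃* Matrix.SpecialLinearGroup (Fin 2) F) :
    Nonempty (H ≃* Matrix.SpecialLinearGroup (Fin 2) F × Subgroup.center H) := by
  classical
  set Z : Subgroup H := Subgroup.center H with hZ
  set L : Subgroup H := commutator H with hL
  -- the Schur multiplier of `H ⧸ Z` is trivial
  have hS : Cfsg.HasSchurMultiplier (H ⧸ Z) (Multiplicative (ZMod 1)) :=
    Cfsg.Agent.Helper11.SchurTransport.hasSchurMultiplier_of_mulEquiv e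
      (Cfsg.Agent.S2117.result hF4 hF9)
  -- the stem extension `L → H ⧸ Z`
  let σ : L →* H ⧸ Z := (QuotientGroup.mk' Z).comp L.subtype
  have hσsurj : Function.Surjective σ := by
    intro q
    obtain ⟨h, rfl⟩ := QuotientGroup.mk'_surjective Z q
    have h1 : h ∈ L ⊔ Z := hperf ▸ Subgroup.mem_top h
    obtain ⟨l, hl, z, hz, rfl⟩ := Subgroup.mem_sup_of_normal_right.1 h1
    refine ⟨⟨l, hl⟩, ?_⟩
    show (QuotientGroup.mk' Z) l = (QuotientGroup.mk' Z) (l * z)
    rw [QuotientGroup.mk'_apply, QuotientGroup.mk'_apply, QuotientGroup.eq]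
    simpa using hz
  have hker : ∀ x : L, x ∈ σ.ker ↔ (x : H) ∈ Z := by
    intro x
    rw [MonoidHom.mem_ker]
    show (QuotientGroup.mk' Z) (x : H) = 1 ↔ _
    rw [QuotientGroup.mk'_apply, QuotientGroup.eq_one_iff]
  have hstem : Cfsg.IsStemExtension σ := by
    refine ⟨hσsurj, ?_, ?_⟩
    · intro x hx
      rw [Subgroup.mem_center_iff]
      intro y
      apply Subtype.ext
      have hz : (x : H) ∈ Z := (hker x).1 hx
      exact Subgroup.mem_center_iff.1 hz (y : H)
    · rw [GLIFT.commutator_commutator_eq_top hperf]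
      exact le_top
  obtain ⟨π, hπ⟩ := hS.2 L σ hstem
  have hkerbot : σ.ker = ⊥ := by
    rw [Subgroup.eq_bot_iff_forall]
    intro x hx
    obtain ⟨a, ha⟩ := hπ ⟨x, hx⟩
    have ha1 : a = 1 := Subsingleton.elim _ _
    rw [ha1, map_one] at ha
    exact (congrArg Subtype.val ha).symm
  have hσinj : Function.Injective σ := (MonoidHom.ker_eq_bot_iff σ).1 hkerbot
  have hLZ : ∀ x : H, x ∈ L → x ∈ Z → x = 1 := by
    intro x hxL hxZ
    have h1 : (⟨x, hxL⟩ : L) ∈ σ.ker := (hker _).2 hxZ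
    rw [hkerbot, Subgroup.mem_bot] at h1
    exact congrArg Subtype.val h1
  -- `L ≃* SL(2,F)`
  let eL : L ≃* Matrix.SpecialLinearGroup (Fin 2) F :=
    (MulEquiv.ofBijective σ ⟨hσinj, hσsurj⟩).trans e
  -- `L × Z ≃* H`
  let f : L × Z →* H := MonoidHom.noncommCoprod L.subtype Z.subtype (fun l z =>
    (Subgroup.mem_center_iff.1 z.2 (l : H)))
  have hf : ∀ x : L × Z, f x = (x.1 : H) * (x.2 : H) := fun x => rfl
  have hfinj : Function.Injective f := by
    rw [← MonoidHom.ker_eq_bot_iff, Subgroup.eq_bot_iff_forall]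
    rintro ⟨l, z⟩ hx
    rw [MonoidHom.mem_ker, hf] at hx
    have hlz : (l : H) = ((z : H))⁻¹ := eq_inv_of_mul_eq_one_left hx
    have hl1 : (l : H) = 1 := hLZ _ l.2 (hlz ▸ Z.inv_mem z.2)
    have hz1 : (z : H) = 1 := by
      rw [hl1, one_mul] at hx
      exact hx
    exact Prod.ext (Subtype.ext hl1) (Subtype.ext hz1)
  have hfsurj : Function.Surjective f := by
    intro h
    have h1 : h ∈ L ⊔ Z := hperf ▸ Subgroup.mem_top h
    obtain ⟨l, hl, z, hz, rfl⟩ := Subgroup.mem_sup_of_normal_right.1 h1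
    exact ⟨(⟨l, hl⟩, ⟨z, hz⟩), rfl⟩
  let eH : L × Z ≃* H := MulEquiv.ofBijective f ⟨hfinj, hfsurj⟩
  exact ⟨eH.symm.trans (MulEquiv.prodCongr eL (MulEquiv.refl _))⟩

end Grp

end Cfsg.Agent.Helper23.B2
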