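import Mathlib

/-!
# S4705, PIECE GPERF (helper26), part a: auxiliary lemmas
-/

set_option autoImplicit false

namespace Cfsg.Agent.Helper23.B2

universe u

namespace GPERF

variable {H : Type u} [Group H] [Finite H]

omit [Finite H] in
/-- an element whose order is prime to the index of a normal subgroup lies in it -/
theorem mem_of_coprime_index (N : Subgroup H) [N.Normal] (g : H)
    (h : Nat.Coprime (orderOf g) N.index) : g ∈ N := by
  have h1 : orderOf (QuotientGroup.mk' N g) ∣ orderOf g := orderOf_map_dvd _ g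
  have h2 : orderOf (QuotientGroup.mk' N g) ∣ N.index := by
    rw [Subgroup.index_eq_card]
    exact orderOf_dvd_natCard _
  have h3 : orderOf (QuotientGroup.mk' N g) = 1 := Nat.eq_one_of_dvd_coprimes h h1 h2
  rw [orderOf_eq_one_iff] at h3
  exact (QuotientGroup.eq_one_iff g).1 h3

/-- a subgroup of prime order which is normalized but not centralized by some element lies in the
commutator subgroup -/
theorem le_commutator_of_not_centralizing {p : ℕ} (hp : p.Prime) (P : Subgroup H)
    (hP : Nat.card P = p) (n : H) (hn : n ∈ Subgroup.normalizer (P : Set H))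
    (hnc : n ∉ Subgroup.centralizer (P : Set H)) : P ≤ commutator H := by
  by_contra hle
  have hdvd : Nat.card (P ⊓ commutator H : Subgroup H) ∣ p :=
    hP ▸ Subgroup.card_dvd_of_le inf_le_left
  have hbot : P ⊓ commutator H = ⊥ := by
    rcases (Nat.dvd_prime hp).1 hdvd with h1 | h1
    · exact Subgroup.card_eq_one.1 h1
    · exfalso
      apply hle
      have : P ⊓ commutator H = P :=
        Subgroup.eq_of_le_of_card_ge inf_le_left (by rw [h1, hP])
      exact this ▸ inf_le_right
  apply hnc
  rw [Subgroup.mem_centralizer_iff]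
  intro x hx
  have h1 : n * x * n⁻¹ ∈ P := (Subgroup.mem_normalizer_iff.1 hn x).1 hx
  have h2 : n * x * n⁻¹ * x⁻¹ ∈ P := P.mul_mem h1 (P.inv_mem hx)
  have h3 : n * x * n⁻¹ * x⁻¹ ∈ commutator H := by
    rw [commutator_def, ← commutatorElement_def]
    exact Subgroup.commutator_mem_commutator (Subgroup.mem_top n) (Subgroup.mem_top x)
  have h4 : n * x * n⁻¹ * x⁻¹ ∈ P ⊓ commutator H := ⟨h2, h3⟩
  rw [hbot, Subgroup.mem_bot] at h4
  have h5 : n * x * n⁻¹ = x := by
    have := mul_eq_one_iff_eq_inv.1 h4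
    rw [inv_inv] at this
    exact this
  calc x * n = n * x * n⁻¹ * n := by rw [h5]
    _ = n * x := by group

omit [Finite H] in
theorem relIndex_mul_card' {C N : Subgroup H} (hCN : C ≤ N) :
    C.relIndex N * Nat.card C = Nat.card N := by
  have h1 := Subgroup.card_mul_index (C.subgroupOf N)
  rw [Nat.card_congr (Subgroup.subgroupOfEquivOfLe hCN).toEquiv] at h1
  rw [← h1, mul_comm]
  rfl

/-- between a subgroup and an overgroup of relative index 2 there is nothing -/
theorem eq_or_eq_of_relIndex_two (C M N : Subgroup H) (hCM : C ≤ M) (hMN : M ≤ N)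
    (h2 : C.relIndex N = 2) : M = C ∨ M = N := by
  have hCN : C ≤ N := hCM.trans hMN
  have h1 : C.relIndex N * Nat.card C = Nat.card N := relIndex_mul_card' hCN
  rw [h2] at h1
  obtain ⟨j, hj⟩ : Nat.card C ∣ Nat.card M := Subgroup.card_dvd_of_le hCM
  obtain ⟨k, hk⟩ : Nat.card M ∣ Nat.card N := Subgroup.card_dvd_of_le hMN
  have hC0 : 0 < Nat.card C := Nat.card_pos
  have hjk : j * k = 2 := by
    have : Nat.card C * (j * k) = Nat.card C * 2 := by
      rw [← mul_assoc, ← hj, ← hk, ← h1]
      ring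
    exact Nat.eq_of_mul_eq_mul_left hC0 this
  have hj2 : j ∣ 2 := ⟨k, hjk.symm⟩
  have hjle : j ≤ 2 := Nat.le_of_dvd (by norm_num) hj2
  interval_cases j
  · omega
  · left
    exact (Subgroup.eq_of_le_of_card_ge hCM (by rw [hj, mul_one])).symm
  · right
    have hk1 : k = 1 := by omega
    apply Subgroup.eq_of_le_of_card_ge hMN
    rw [hk, hk1, mul_one]

/-- a `p`-group `P` normalizing a subgroup `R`: `|R| ≡ |C_R(P)| (mod p)` -/
theorem card_modEq_card_inf_centralizer {p : ℕ} [Fact p.Prime] (P R : Subgroup H)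
    (hP : IsPGroup p P) (hPR : P ≤ Subgroup.normalizer (R : Set H)) :
    Nat.card R ≡ Nat.card (R ⊓ Subgroup.centralizer (P : Set H) : Subgroup H) [MOD p] := by
  let _ : MulAction P R :=
    { smul := fun g r => ⟨(g : H) * (r : H) * (g : H)⁻¹,
        (Subgroup.mem_normalizer_iff.1 (hPR g.2) r).1 r.2⟩
      one_smul := fun r => Subtype.ext (by
        show ((1 : P) : H) * (r : H) * ((1 : P) : H)⁻¹ = r
        simp)
      mul_smul := fun g h r => Subtype.ext (by
        show ((g * h : P) : H) * (r : H) * ((g * h : P) : H)⁻¹ =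
          (g : H) * ((h : H) * (r : H) * (h : H)⁻¹) * (g : H)⁻¹
        rw [Subgroup.coe_mul, mul_inv_rev]
        group) }
  have hsmul : ∀ (g : P) (r : R), ((g • r : R) : H) = (g : H) * (r : H) * (g : H)⁻¹ :=
    fun _ _ => rfl
  have h1 := hP.card_modEq_card_fixedPoints R
  have h2 : Nat.card (MulAction.fixedPoints P R) =
      Nat.card (R ⊓ Subgroup.centralizer (P : Set H) : Subgroup H) := by
    refine Nat.card_congr
      { toFun := fun r => ⟨((r : R) : H), ⟨(r : R).2, ?_⟩⟩
        invFun := fun r => ⟨⟨(r : H), r.2.1⟩, ?_⟩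
        left_inv := fun r => rfl
        right_inv := fun r => rfl }
    · show ((r : R) : H) ∈ Subgroup.centralizer (P : Set H)
      rw [Subgroup.mem_centralizer_iff]
      intro g hg
      have h3 := congrArg Subtype.val (r.2 ⟨g, hg⟩)
      rw [hsmul] at h3
      calc g * ((r : R) : H) = g * ((r : R) : H) * g⁻¹ * g := by group
        _ = ((r : R) : H) * g := by rw [h3]
    · intro g
      apply Subtype.ext
      rw [hsmul]
      have h3 := Subgroup.mem_centralizer_iff.1 r.2.2 (g : H) g.2
      show (g : H) * (r : H) * (g : H)⁻¹ = (r : H)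
      rw [h3]
      group
  rw [h2] at h1
  exact h1

omit [Finite H] in
/-- the centralizer of `P` in a `q`-group `R` is `R ⊓ Z(H)` when `C_H(P) = P Z(H)` -/
theorem inf_centralizer_eq {p q : ℕ} (hp : p.Prime) (hq : q.Prime) (hpq : q ≠ p)
    (P R : Subgroup H) (hP : Nat.card P = p) (hR : IsPGroup q R)
    (hcent : ∀ c ∈ Subgroup.centralizer (P : Set H),
      ∃ a ∈ P, ∃ z ∈ Subgroup.center H, c = a * z) :
    R ⊓ Subgroup.centralizer (P : Set H) = R ⊓ Subgroup.center H := by
  apply le_antisymm
  · rintro r ⟨hrR, hrC⟩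
    refine ⟨hrR, ?_⟩
    obtain ⟨a, ha, z, hz, rfl⟩ := hcent r hrC
    have hap : a ^ p = 1 := by
      have h1 : (⟨a, ha⟩ : P) ^ p = 1 := by
        rw [← hP]
        exact pow_card_eq_one'
      exact congrArg Subtype.val h1
    have hcomm : Commute a z := Subgroup.mem_center_iff.1 hz a
    have hpow : (a * z) ^ p = z ^ p := by rw [hcomm.mul_pow, hap, one_mul]
    have : Fact q.Prime := ⟨hq⟩
    obtain ⟨k, hk⟩ := (IsPGroup.iff_orderOf.1 hR) ⟨a * z, hrR⟩
    have hord : orderOf (a * z) = q ^ k := by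
      rw [← hk]
      exact (Subgroup.orderOf_mk (a * z) hrR).symm
    have hcop : Nat.Coprime p (orderOf (a * z)) := by
      rw [hord]
      exact Nat.Coprime.pow_right k ((Nat.coprime_primes hp hq).2 hpq.symm)
    obtain ⟨m, hm⟩ := exists_pow_eq_self_of_coprime hcop
    rw [← hm, hpow]
    exact Subgroup.pow_mem _ (Subgroup.pow_mem _ hz p) m
  · rintro r ⟨hrR, hrZ⟩
    refine ⟨hrR, ?_⟩
    show r ∈ Subgroup.centralizer (P : Set H)
    rw [Subgroup.mem_centralizer_iff]
    intro g _
    exact Subgroup.mem_center_iff.1 hrZ g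

end GPERF

end Cfsg.Agent.Helper23.B2
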