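import Mathlib
import Cfsg.Agent.Lib.Helper26.B2GPERFa

/-!
# S4705, PIECE GPERF (helper26), part b: the normal `p`-complement of `H'Z(H)` and an invariant
Sylow `q`-subgroup
-/

set_option autoImplicit false

namespace Cfsg.Agent.Helper23.B2

universe u

namespace GPERF

/-- the kernel of the Burnside transfer consists of the `p'`-elements -/
theorem mem_ker_transferSylow_iff {K : Type u} [Group K] [Finite K] {p : ℕ} [Fact p.Prime]
    (P : Sylow p K)
    (hP : Subgroup.normalizer ((P : Subgroup K) : Set K) ≤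
      Subgroup.centralizer ((P : Subgroup K) : Set K)) (x : K) :
    x ∈ (MonoidHom.transferSylow P hP).ker ↔ ¬ p ∣ orderOf x := by
  constructor
  · intro hx hd
    apply MonoidHom.not_dvd_card_ker_transferSylow P hP
    refine hd.trans ?_
    have h1 : orderOf (⟨x, hx⟩ : (MonoidHom.transferSylow P hP).ker) = orderOf x :=
      Subgroup.orderOf_mk x hx
    rw [← h1]
    exact orderOf_dvd_natCard _
  · intro hx
    rw [MonoidHom.mem_ker]
    by_contra hne
    apply hx
    have h1 : orderOf (MonoidHom.transferSylow P hP x) ∣ orderOf x := orderOf_map_dvd _ x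
    refine Dvd.dvd.trans ?_ h1
    obtain ⟨k, hk⟩ := (IsPGroup.iff_orderOf.mp P.2) (MonoidHom.transferSylow P hP x)
    rw [hk]
    rcases Nat.eq_zero_or_pos k with h0 | h0
    · exfalso
      rw [h0, pow_zero, orderOf_eq_one_iff] at hk
      exact hne hk
    · exact dvd_pow_self p h0.ne'

variable {H : Type u} [Group H] [Finite H]

/-- If `D` is a normal subgroup of `H` containing the Sylow `p`-subgroup `P` with
`N_H(P) ⊓ D ≤ C_H(P)`, then the `p'`-elements of `D` form a normal subgroup of `H`. -/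
theorem exists_normal_pcompl {p : ℕ} [Fact p.Prime] (P : Sylow p H) (D : Subgroup H) [hDn : D.Normal]
    (hPD : (P : Subgroup H) ≤ D)
    (hND : Subgroup.normalizer ((P : Subgroup H) : Set H) ⊓ D ≤
      Subgroup.centralizer ((P : Subgroup H) : Set H)) :
    ∃ K : Subgroup H, K.Normal ∧ ∀ g : H, g ∈ K ↔ g ∈ D ∧ ¬ p ∣ orderOf g := by
  have hP'coe : ((P.subtype hPD : Sylow p D) : Subgroup D) = (P : Subgroup H).subgroupOf D :=
    Sylow.coe_subtype P hPD
  have hNC : Subgroup.normalizer (((P.subtype hPD : Sylow p D) : Subgroup D) : Set D) ≤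
      Subgroup.centralizer (((P.subtype hPD : Sylow p D) : Subgroup D) : Set D) := by
    intro x hx
    rw [hP'coe, ← Subgroup.subgroupOf_normalizer_eq hPD, Subgroup.mem_subgroupOf] at hx
    have hx2 : (x : H) ∈ Subgroup.centralizer ((P : Subgroup H) : Set H) := hND ⟨hx, x.2⟩
    rw [Subgroup.mem_centralizer_iff]
    intro y hy
    rw [SetLike.mem_coe, hP'coe, Subgroup.mem_subgroupOf] at hy
    apply Subtype.ext
    have := Subgroup.mem_centralizer_iff.1 hx2 (y : H) hy
    simpa using this
  have hmem : ∀ g : H, g ∈ (MonoidHom.transferSylow (P.subtype hPD) hNC).ker.map D.subtype ↔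
      g ∈ D ∧ ¬ p ∣ orderOf g := by
    intro g
    rw [Subgroup.mem_map]
    constructor
    · rintro ⟨x, hx, rfl⟩
      refine ⟨x.2, ?_⟩
      rw [mem_ker_transferSylow_iff] at hx
      rwa [Subgroup.coe_subtype, Subgroup.orderOf_coe]
    · rintro ⟨hgD, hg⟩
      refine ⟨⟨g, hgD⟩, ?_, rfl⟩
      rw [mem_ker_transferSylow_iff, Subgroup.orderOf_mk]
      exact hg
  refine ⟨(MonoidHom.transferSylow (P.subtype hPD) hNC).ker.map D.subtype,
    ⟨fun g hg h => ?_⟩, hmem⟩
  rw [hmem] at hg ⊢
  refine ⟨hDn.conj_mem g hg.1 h, ?_⟩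
  have h1 : orderOf (h * g * h⁻¹) = orderOf g :=
    orderOf_injective (MulAut.conj h).toMonoidHom (MulAut.conj h).injective g
  rw [h1]
  exact hg.2

/-- a subgroup all of whose elements are `p'`-elements has order prime to `p` -/
theorem not_dvd_card_of_forall {p : ℕ} [Fact p.Prime] (K : Subgroup H)
    (hK : ∀ g ∈ K, ¬ p ∣ orderOf g) : ¬ p ∣ Nat.card K := by
  intro hd
  obtain ⟨x, hx⟩ := exists_prime_orderOf_dvd_card' p hd
  apply hK (x : H) x.2
  rw [Subgroup.orderOf_coe, hx]

/-- Frattini: the index of a normal subgroup containing a Sylow subgroup `R` divides `|N(R)|` -/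
theorem index_dvd_card_normalizer {q : ℕ} [Fact q.Prime] (K : Subgroup H) [K.Normal]
    (R : Sylow q H) (hRK : (R : Subgroup H) ≤ K) :
    K.index ∣ Nat.card (Subgroup.normalizer ((R : Subgroup H) : Set H)) := by
  have h1 : Subgroup.normalizer ((R : Subgroup H) : Set H) ⊔ K = ⊤ :=
    Sylow.normalizer_sup_eq_top' R hRK
  rw [← Subgroup.relIndex_top_right, ← h1, Subgroup.relIndex_sup_right]
  exact Subgroup.relIndex_dvd_card _ _

/-- a `P`-invariant Sylow `q`-subgroup -/
theorem exists_invariant_sylow {p q : ℕ} [Fact p.Prime] [Fact q.Prime] (P : Sylow p H)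
    (hP : Nat.card (P : Subgroup H) = p) (K : Subgroup H) [K.Normal]
    (hpK : p ∣ K.index) (hK : ∀ R : Sylow q H, (R : Subgroup H) ≤ K) :
    ∃ R : Sylow q H, (P : Subgroup H) ≤ Subgroup.normalizer ((R : Subgroup H) : Set H) := by
  have hpp : p.Prime := Fact.out
  have hnd : ¬ p ∣ Nat.card (Sylow q H) := by
    intro hd
    obtain ⟨R₀⟩ : Nonempty (Sylow q H) := inferInstance
    rw [Sylow.card_eq_index_normalizer R₀] at hd
    have h1 : p ∣ Nat.card (Subgroup.normalizer ((R₀ : Subgroup H) : Set H)) :=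
      hpK.trans (index_dvd_card_normalizer K R₀ (hK R₀))
    have h2 := Subgroup.card_mul_index (Subgroup.normalizer ((R₀ : Subgroup H) : Set H))
    have h3 := Subgroup.card_mul_index (P : Subgroup H)
    rw [hP] at h3
    have h4 : p * p ∣ p * (P : Subgroup H).index := by
      rw [h3, ← h2]
      exact Nat.mul_dvd_mul h1 hd
    exact P.not_dvd_index (Nat.dvd_of_mul_dvd_mul_left hpp.pos h4)
  obtain ⟨R, hR⟩ := P.2.nonempty_fixed_point_of_prime_not_dvd_card (Sylow q H) hnd
  refine ⟨R, fun g hg => ?_⟩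
  have h1 : (⟨g, hg⟩ : (P : Subgroup H)) • R = R := hR ⟨g, hg⟩
  exact Sylow.smul_eq_iff_mem_normalizer.1 h1

end GPERF

end Cfsg.Agent.Helper23.B2
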