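import Mathlib
import Cfsg.Agent.Lib.Helper26.B2GPERFa
import Cfsg.Agent.Lib.Helper26.B2GPERFb

/-!
# S4705, PIECE GPERF (helper26): `H = H' Z(H)`
-/

set_option autoImplicit false

namespace Cfsg.Agent.Helper23.B2

universe u

namespace GPERF

variable {H : Type u} [Group H] [Finite H]

/-- the final arithmetic contradiction: no `P`-invariant Sylow `q`-subgroup for `q ∣ p - 2` -/
theorem no_invariant_sylow (p q : ℕ) [Fact p.Prime] [Fact q.Prime] (hp : 5 < p) (hqp : q ≠ p)
    (hq2 : q ∣ p - 2) (P : Sylow p H)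
    (hP : Nat.card (P : Subgroup H) = p)
    (hcent : ∀ c ∈ Subgroup.centralizer ((P : Subgroup H) : Set H),
      ∃ a ∈ (P : Subgroup H), ∃ z ∈ Subgroup.center H, c = a * z)
    (hcard : Nat.card H = p * (p - 1) * (p - 2) * Nat.card (Subgroup.center H))
    (R : Sylow q H)
    (hPR : (P : Subgroup H) ≤ Subgroup.normalizer ((R : Subgroup H) : Set H)) : False := by
  have hpp : p.Prime := Fact.out
  have hqq : q.Prime := Fact.out
  -- the congruence
  have hmod : Nat.card (R : Subgroup H) ≡
      Nat.card ((R : Subgroup H) ⊓ Subgroup.center H : Subgroup H) [MOD p] := by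
    have h1 := card_modEq_card_inf_centralizer (P : Subgroup H) (R : Subgroup H) P.2 hPR
    rwa [inf_centralizer_eq hpp hqq hqp (P : Subgroup H) (R : Subgroup H) hP R.2 hcent] at h1
  -- the index `t`
  have ht : (Subgroup.center H).relIndex (R : Subgroup H) *
      Nat.card ((R : Subgroup H) ⊓ Subgroup.center H : Subgroup H) = Nat.card (R : Subgroup H) := by
    rw [← Subgroup.inf_relIndex_left]
    exact relIndex_mul_card' inf_le_left
  have hZpos : 0 < Nat.card (Subgroup.center H) := Nat.card_pos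
  have hZidx : (Subgroup.center H).index = p * (p - 1) * (p - 2) := by
    have h1 := Subgroup.card_mul_index (Subgroup.center H)
    rw [hcard] at h1
    have h2 : Nat.card (Subgroup.center H) * (Subgroup.center H).index =
        Nat.card (Subgroup.center H) * (p * (p - 1) * (p - 2)) := by
      rw [h1]; ring
    exact Nat.eq_of_mul_eq_mul_left hZpos h2
  have htdvd : (Subgroup.center H).relIndex (R : Subgroup H) ∣ p * (p - 1) * (p - 2) := by
    rw [← hZidx]
    exact Subgroup.relIndex_dvd_index_of_normal _ _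
  obtain ⟨n, hn⟩ := (IsPGroup.iff_card).1 R.2
  obtain ⟨j, hj, htj⟩ := (Nat.dvd_prime_pow hqq).1 (hn ▸ Dvd.intro _ ht)
  obtain ⟨i, hi, hmi⟩ := (Nat.dvd_prime_pow hqq).1 (hn ▸ Dvd.intro_left _ ht)
  have hcop_qp : Nat.Coprime q p := (Nat.coprime_primes hqq hpp).2 hqp
  have hq1 : ¬ q ∣ p - 1 := by
    intro h
    have h3 : q ∣ (p - 1) - (p - 2) := Nat.dvd_sub h hq2
    have h4 : (p - 1) - (p - 2) = 1 := by omega
    rw [h4] at h3
    exact hqq.one_lt.ne' (Nat.dvd_one.1 h3)
  have hcop_q1 : Nat.Coprime q (p - 1) := (Nat.Prime.coprime_iff_not_dvd hqq).2 hq1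
  -- `t ∣ p - 2`
  have htdvd2 : (Subgroup.center H).relIndex (R : Subgroup H) ∣ p - 2 := by
    rw [htj] at htdvd ⊢
    have h1 : Nat.Coprime (q ^ j) (p * (p - 1)) :=
      Nat.Coprime.mul_right (Nat.Coprime.pow_left j hcop_qp) (Nat.Coprime.pow_left j hcop_q1)
    exact h1.dvd_of_dvd_mul_left htdvd
  have htlt : (Subgroup.center H).relIndex (R : Subgroup H) < p := by
    have := Nat.le_of_dvd (by omega) htdvd2
    omega
  -- `t ≡ 1`
  have ht1 : (Subgroup.center H).relIndex (R : Subgroup H) ≡ 1 [MOD p] := by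
    have h1 : (Subgroup.center H).relIndex (R : Subgroup H) *
        Nat.card ((R : Subgroup H) ⊓ Subgroup.center H : Subgroup H) ≡
        1 * Nat.card ((R : Subgroup H) ⊓ Subgroup.center H : Subgroup H) [MOD p] := by
      rw [ht, one_mul]
      exact hmod
    refine Nat.ModEq.cancel_right_of_coprime ?_ h1
    rw [hmi]
    exact (Nat.Coprime.pow_left i hcop_qp).symm
  have ht_eq : (Subgroup.center H).relIndex (R : Subgroup H) = 1 :=
    Nat.ModEq.eq_of_lt_of_lt ht1 htlt hpp.one_lt
  -- `R ≤ Z(H)`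
  have hRZ : (R : Subgroup H) ≤ Subgroup.center H := Subgroup.relIndex_eq_one.1 ht_eq
  have h5 := Subgroup.relIndex_mul_index hRZ
  apply R.not_dvd_index
  rw [← h5, hZidx]
  exact Dvd.dvd.mul_left (Dvd.dvd.mul_left hq2 _) _

end GPERF

section

variable {H : Type u} [Group H] [Finite H]

open GPERF in
/-- `H = H' Z(H)` -/
theorem commutator_sup_center (p : ℕ) [Fact p.Prime] (hp : 5 < p) (P : Sylow p H)
    (hP : Nat.card (P : Subgroup H) = p)
    (hcent : ∀ c ∈ Subgroup.centralizer ((P : Subgroup H) : Set H),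
      ∃ a ∈ (P : Subgroup H), ∃ z ∈ Subgroup.center H, c = a * z)
    (hrel : (Subgroup.centralizer ((P : Subgroup H) : Set H)).relIndex
      (Subgroup.normalizer ((P : Subgroup H) : Set H)) = 2)
    (hcard : Nat.card H = p * (p - 1) * (p - 2) * Nat.card (Subgroup.center H)) :
    commutator H ⊔ Subgroup.center H = ⊤ := by
  have hpp : p.Prime := Fact.out
  by_contra hD
  -- an element of `N ∖ C`
  obtain ⟨n, hnN, hnC⟩ : ∃ n ∈ Subgroup.normalizer ((P : Subgroup H) : Set H),
      n ∉ Subgroup.centralizer ((P : Subgroup H) : Set H) := by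
    by_contra hcon
    have hle : Subgroup.normalizer ((P : Subgroup H) : Set H) ≤
        Subgroup.centralizer ((P : Subgroup H) : Set H) := by
      intro n hn
      by_contra hnc
      exact hcon ⟨n, hn, hnc⟩
    have h1 : (Subgroup.centralizer ((P : Subgroup H) : Set H)).relIndex
        (Subgroup.normalizer ((P : Subgroup H) : Set H)) = 1 := Subgroup.relIndex_eq_one.2 hle
    omega
  have hPcomm : (P : Subgroup H) ≤ commutator H :=
    le_commutator_of_not_centralizing hpp (P : Subgroup H) hP n hnN hnC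
  have hPD : (P : Subgroup H) ≤ commutator H ⊔ Subgroup.center H := hPcomm.trans le_sup_left
  have hCD : Subgroup.centralizer ((P : Subgroup H) : Set H) ≤
      commutator H ⊔ Subgroup.center H := by
    intro c hc
    obtain ⟨a, ha, z, hz, rfl⟩ := hcent c hc
    exact Subgroup.mul_mem _ (hPD ha) (Subgroup.mem_sup_right hz)
  have hCN : Subgroup.centralizer ((P : Subgroup H) : Set H) ≤
      Subgroup.normalizer ((P : Subgroup H) : Set H) := Subgroup.centralizer_le_normalizer _
  have hFr : Subgroup.normalizer ((P : Subgroup H) : Set H) ⊔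
      (commutator H ⊔ Subgroup.center H) = ⊤ := Sylow.normalizer_sup_eq_top' P hPD
  have hinf : Subgroup.normalizer ((P : Subgroup H) : Set H) ⊓
      (commutator H ⊔ Subgroup.center H) = Subgroup.centralizer ((P : Subgroup H) : Set H) := by
    rcases eq_or_eq_of_relIndex_two _ _ _ (le_inf hCN hCD) inf_le_left hrel with h | h
    · exact h
    · exfalso
      apply hD
      rw [← hFr]
      exact (sup_of_le_right (inf_eq_left.1 h)).symm
  have hidx : (commutator H ⊔ Subgroup.center H).index = 2 := by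
    rw [← Subgroup.relIndex_top_right, ← hFr, Subgroup.relIndex_sup_right,
      ← Subgroup.inf_relIndex_right, inf_comm, hinf, hrel]
  -- the normal `p`-complement
  obtain ⟨K, hKn, hK⟩ := exists_normal_pcompl P (commutator H ⊔ Subgroup.center H) hPD hinf.le
  have hpK : ¬ p ∣ Nat.card K := not_dvd_card_of_forall K fun g hg => ((hK g).1 hg).2
  have hpidx : p ∣ K.index := by
    have h1 := Subgroup.card_mul_index K
    have h2 : p ∣ Nat.card K * K.index := by
      rw [h1, hcard, mul_assoc, mul_assoc]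
      exact dvd_mul_right _ _
    exact ((Nat.Prime.dvd_mul hpp).1 h2).resolve_left hpK
  -- the prime `q`
  have hp2 : p - 2 ≠ 1 := by omega
  have hqq : (p - 2).minFac.Prime := Nat.minFac_prime hp2
  have hq2 : (p - 2).minFac ∣ p - 2 := Nat.minFac_dvd _
  have hqle : (p - 2).minFac ≤ p - 2 := Nat.le_of_dvd (by omega) hq2
  have hqp : (p - 2).minFac ≠ p := by omega
  have hpodd : Odd p := hpp.odd_of_ne_two (by omega)
  have hqodd : (p - 2).minFac ≠ 2 := by
    intro h
    rw [h] at hq2
    obtain ⟨k, hk⟩ := hpodd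
    omega
  have : Fact (p - 2).minFac.Prime := ⟨hqq⟩
  have hcop2 : Nat.Coprime (p - 2).minFac 2 :=
    (Nat.coprime_primes hqq Nat.prime_two).2 hqodd
  -- all Sylow `q`-subgroups are in `K`
  have hRK : ∀ R : Sylow (p - 2).minFac H, (R : Subgroup H) ≤ K := by
    intro R g hg
    obtain ⟨k, hk⟩ := (IsPGroup.iff_orderOf.1 R.2) ⟨g, hg⟩
    rw [Subgroup.orderOf_mk] at hk
    rw [hK]
    constructor
    · apply mem_of_coprime_index
      rw [hidx, hk]
      exact Nat.Coprime.pow_left k hcop2
    · rw [hk]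
      intro hd
      have := (Nat.prime_dvd_prime_iff_eq hpp hqq).1 (hpp.dvd_of_dvd_pow hd)
      exact hqp this.symm
  obtain ⟨R, hPR⟩ := exists_invariant_sylow (q := (p - 2).minFac) P hP K hpidx hRK
  exact no_invariant_sylow p (p - 2).minFac hp hqp hq2 P hP hcent hcard R hPR

end

end Cfsg.Agent.Helper23.B2
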