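import Mathlib
import Cfsg.Prelude.Def_FusionSystem
import Cfsg.Agent.Lib.Helper25.FusionSat4
import Cfsg.Agent.Lib.Helper25.FusionInner

set_option autoImplicit false

/-!
Centric subgroups: uniqueness of extensions up to `Z(P)`, and the consequence that a map of a
saturated system `F` whose restriction to a centric subgroup lies in a saturated subsystem `F'`
lies in `F'`.
-/

namespace Cfsg.Agent.Helper26

open Cfsg Cfsg.FusionSystem Cfsg.Agent.Helper25

variable {Ω : Type*} [Group Ω] {S : Subgroup Ω}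

lemma aut_pow_apply_of_fixed {P : Type*} [Group P] (β : MulAut P) {y : P} (hy : β y = y) (m : ℕ) :
    (β ^ m) y = y := by
  induction m with
  | zero => simp
  | succ m ih => rw [pow_succ, MulAut.mul_apply, hy, ih]

lemma aut_pow_apply_mul {P : Type*} [Group P] (β : MulAut P) {x y : P} (hx : β x = x * y)
    (hy : β y = y) (m : ℕ) : (β ^ m) x = x * y ^ m := by
  induction m with
  | zero => simp
  | succ m ih =>
    rw [pow_succ, MulAut.mul_apply, hx, map_mul, ih, aut_pow_apply_of_fixed β hy, pow_succ,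
      mul_assoc]

/-- restriction of a map to a subgroup, as a conjugacy -/
lemma isConj_restrict (F : FusionSystem S) {P N : Subgroup Ω} (hPN : P ≤ N) {ψ : N →* Ω}
    (hψ : ψ ∈ F.Hom N) : F.IsConj P ((P.subgroupOf N).map ψ) := by
  refine ⟨ψ.comp (Subgroup.inclusion hPN), restrict_mem F hPN hψ, ?_⟩
  ext y
  constructor
  · rintro ⟨x, rfl⟩
    exact ⟨Subgroup.inclusion hPN x, Subgroup.mem_subgroupOf.mpr x.2, rfl⟩
  · rintro ⟨g, hg, rfl⟩
    exact ⟨⟨g, Subgroup.mem_subgroupOf.mp hg⟩, rfl⟩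

/-- an overgroup (inside `S`) of a centric subgroup is centric -/
lemma isCentric_of_le (F : FusionSystem S) {P N : Subgroup Ω} (hPN : P ≤ N) (hNS : N ≤ S)
    (hP : F.IsCentric P) : F.IsCentric N := by
  refine ⟨hNS, fun N' hN' => ?_⟩
  obtain ⟨θ, hθ, rfl⟩ := hN'
  have hconj := isConj_restrict F hPN hθ
  have hle : (P.subgroupOf N).map θ ≤ θ.range := by
    rintro _ ⟨g, -, rfl⟩; exact ⟨g, rfl⟩
  intro c hc
  have hc' : c ∈ centralizerIn S ((P.subgroupOf N).map θ) := by
    rw [mem_centralizerIn] at hc ⊢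
    exact ⟨hc.1, fun x hx => hc.2 x (hle hx)⟩
  exact hle (hP.2 _ hconj hc')

/-- Step 1: two maps on `N` agreeing on a normal centric subgroup `P` differ by an automorphism
of `N` in the system fixing `P` pointwise and moving every element by an element of `P`. -/
lemma exists_aut_of_agree [Finite S] (F : FusionSystem S) {P N : Subgroup Ω} (hPN : P ≤ N)
    (hnorm : ∀ g ∈ N, ∀ x ∈ P, g * x * g⁻¹ ∈ P) (hcen : F.IsCentric P)
    {χ ψ : N →* Ω} (hχ : χ ∈ F.Hom N) (hψ : ψ ∈ F.Hom N)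
    (hagree : ∀ x : P, χ (Subgroup.inclusion hPN x) = ψ (Subgroup.inclusion hPN x)) :
    ∃ θ : MulAut N, θ ∈ F.autGroup N ∧ (∀ g : N, χ (θ g) = ψ g) ∧
      (∀ x : P, θ (Subgroup.inclusion hPN x) = Subgroup.inclusion hPN x) ∧
      ∀ g : N, ∃ u : P, θ g = g * Subgroup.inclusion hPN u := by
  have hNS : N ≤ S := (F.le_of_mem hχ).1
  haveI : Finite N := finite_of_le_finite hNS
  have hχinj := F.injective_of_mem hχ
  have hψinj := F.injective_of_mem hψ
  have key : ∀ g : N, ∃ u : P, ψ g = χ (g * Subgroup.inclusion hPN u) := by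
    intro g
    have hd : (χ g)⁻¹ * ψ g ∈ centralizerIn S ((P.subgroupOf N).map ψ) := by
      rw [mem_centralizerIn]
      refine ⟨S.mul_mem (S.inv_mem ((F.le_of_mem hχ).2 g)) ((F.le_of_mem hψ).2 g), ?_⟩
      rintro _ ⟨w, hw, rfl⟩
      have hwP : (w : Ω) ∈ P := Subgroup.mem_subgroupOf.mp hw
      have hx' : (g : Ω) * w * (g : Ω)⁻¹ ∈ P := hnorm g g.2 w hwP
      have e1 : Subgroup.inclusion hPN (⟨(g : Ω) * w * (g : Ω)⁻¹, hx'⟩ : P) = g * w * g⁻¹ :=
        Subtype.ext rfl
      have e2 : Subgroup.inclusion hPN (⟨(w : Ω), hwP⟩ : P) = w := Subtype.ext rfl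
      have h1 := hagree ⟨(g : Ω) * w * (g : Ω)⁻¹, hx'⟩
      have h2 := hagree ⟨(w : Ω), hwP⟩
      rw [e1, map_mul, map_mul, map_inv, map_mul, map_mul, map_inv] at h1
      rw [e2] at h2
      rw [h2] at h1
      -- h1 : χ g * ψ w * (χ g)⁻¹ = ψ g * ψ w * (ψ g)⁻¹
      have : ψ w * ((χ g)⁻¹ * ψ g) = (χ g)⁻¹ * (χ g * ψ w * (χ g)⁻¹) * ψ g := by group
      rw [this, h1]
      group
    have hd' := hcen.2 _ (isConj_restrict F hPN hψ) hd
    obtain ⟨w, hw, hwd⟩ := hd'
    have hwP : (w : Ω) ∈ P := Subgroup.mem_subgroupOf.mp hw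
    refine ⟨⟨w, hwP⟩, ?_⟩
    have e2 : Subgroup.inclusion hPN (⟨(w : Ω), hwP⟩ : P) = w := Subtype.ext rfl
    have h2 := hagree ⟨(w : Ω), hwP⟩
    rw [e2] at h2 ⊢
    rw [map_mul, h2, hwd]
    group
  have hrange : ∀ g : N, ψ g ∈ χ.range := fun g => by
    obtain ⟨u, hu⟩ := key g
    exact ⟨_, hu.symm⟩
  set e := homEquiv F hχ with he
  have hesymm : ∀ y : χ.range, χ (e.symm y) = y := by
    intro y
    have := homEquiv_apply_coe F hχ (e.symm y)
    rw [← he, MulEquiv.apply_symm_apply] at this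
    exact this.symm
  set θ₀ : N →* N := e.symm.toMonoidHom.comp (ψ.codRestrict χ.range hrange) with hθ₀
  have hspec : ∀ g : N, χ (θ₀ g) = ψ g := fun g => hesymm _
  have hinj : Function.Injective θ₀ := by
    intro a b hab
    apply hψinj
    rw [← hspec a, ← hspec b, hab]
  have hbij : Function.Bijective θ₀ := ⟨hinj, Finite.injective_iff_surjective.mp hinj⟩
  refine ⟨MulEquiv.ofBijective θ₀ hbij, ?_, hspec, ?_, ?_⟩
  · rw [mem_autGroup_iff F hNS]
    obtain ⟨θinv, hθinv, hθe⟩ := exists_inv' F hχ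
    refine comp_mem' F hψ hθinv hrange (fun x => ?_)
    rw [hθe]
    rfl
  · intro x
    apply hχinj
    show χ (θ₀ _) = _
    rw [hspec, hagree]
  · intro g
    obtain ⟨u, hu⟩ := key g
    refine ⟨u, ?_⟩
    apply hχinj
    show χ (θ₀ _) = _
    rw [hspec, hu]

/-- Steps 2 and 3: an automorphism in the system of `N` fixing the centric subgroup `P` pointwise
and moving every element by an element of `P` is conjugation by an element of `P`. -/
lemma aut_eq_conj_of_fixes_centric [Finite S] (p : ℕ) [Fact p.Prime] (hS : IsPGroup p S)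
    (F : FusionSystem S) (hF : F.IsSaturated p) {P N : Subgroup Ω} (hPN : P ≤ N) (hNS : N ≤ S)
    (hcen : F.IsCentric P) {θ : MulAut N} (hθ : θ ∈ F.autGroup N)
    (hfix : ∀ x : P, θ (Subgroup.inclusion hPN x) = Subgroup.inclusion hPN x)
    (hmove : ∀ g : N, ∃ u : P, θ g = g * Subgroup.inclusion hPN u) :
    ∃ z : P, ∀ g : N, θ g = Subgroup.inclusion hPN z * g * (Subgroup.inclusion hPN z)⁻¹ := by
  have hp : p.Prime := Fact.out
  haveI : Finite N := finite_of_le_finite hNS
  obtain ⟨e₀, he₀⟩ := IsPGroup.exists_card_eq (hS.to_le hNS)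
  -- Step 2: θ has p-power order
  have hpow : θ ^ (p ^ e₀) = 1 := by
    ext g
    obtain ⟨u, hu⟩ := hmove g
    have := aut_pow_apply_mul θ hu (hfix u) (p ^ e₀)
    rw [← he₀, pow_card_eq_one', mul_one, he₀] at this
    rw [this]; rfl
  -- Step 3: move to a fully normalized conjugate
  obtain ⟨N₁, hconj, hfn⟩ := exists_isConj_fullyNormalized F hNS
  obtain ⟨ρ, hρ, rfl⟩ := hconj
  have hfa := (of_fullyNormalized p hS F hF hfn).2.1
  have hN₁S : ρ.range ≤ S := range_le F hρ
  have hsyl := (isFullyAutomized_iff F p hN₁S).1 hfa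
  haveI : Finite ρ.range := finite_of_le_finite hN₁S
  set e := homEquiv F hρ with he
  set θ₁ : MulAut ρ.range := MulAut.congr e θ with hθ₁
  have hθ₁F : θ₁ ∈ F.autGroup ρ.range := congr_mem_autGroup F hρ hθ
  have hθ₁pow : θ₁ ^ (p ^ e₀) = 1 := by
    rw [hθ₁, ← map_pow, hpow, map_one]
  have hL : Subgroup.zpowers θ₁ ≤ F.autGroup ρ.range := by
    rw [Subgroup.zpowers_le]; exact hθ₁F
  have hLp : IsPGroup p (Subgroup.zpowers θ₁) := by
    have hdvd : orderOf θ₁ ∣ p ^ e₀ := orderOf_dvd_of_pow_eq_one hθ₁pow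
    obtain ⟨k, -, hk⟩ := (Nat.dvd_prime_pow hp).1 hdvd
    exact IsPGroup.of_card (n := k) (by rw [Nat.card_zpowers, hk])
  obtain ⟨β, hβ, hle⟩ := hsyl.exists_conj_le hL hLp
  have hγ : β * θ₁ * β⁻¹ ∈ Cfsg.conjBy (Subgroup.zpowers θ₁) β := by
    rw [mem_conjBy]
    have : β⁻¹ * (β * θ₁ * β⁻¹) * β = θ₁ := by group
    rw [this]; exact Subgroup.mem_zpowers θ₁
  obtain ⟨s, hs, hsγ⟩ := (mem_autInducedBy_iff _).1 (hle hγ)
  -- the combined isomorphism
  set e' : N ≃* ρ.range := e.trans β with he'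
  have he'θ : ∀ g : N, e' (θ g) = (β * θ₁ * β⁻¹) (e' g) := by
    intro g
    simp only [he', hθ₁, MulEquiv.trans_apply, MulAut.mul_apply, MulAut.congr_apply,
      MulAut.inv_apply_self, MulEquiv.symm_apply_apply]
  have he'F : ρ.range.subtype.comp e'.toMonoidHom ∈ F.Hom N := by
    have hβF := (mem_autGroup_iff F hN₁S β).1 hβ
    refine comp_mem' F hρ hβF (fun x => ⟨x, rfl⟩) (fun x => ?_)
    rfl
  have hconjP := isConj_restrict F hPN he'F
  -- `s` centralizes the image of `P`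
  have hscen : s ∈ centralizerIn S ((P.subgroupOf N).map (ρ.range.subtype.comp e'.toMonoidHom)) := by
    rw [mem_centralizerIn]
    refine ⟨hs, ?_⟩
    rintro _ ⟨w, hw, rfl⟩
    have hwP : (w : Ω) ∈ P := Subgroup.mem_subgroupOf.mp hw
    have e2 : Subgroup.inclusion hPN (⟨(w : Ω), hwP⟩ : P) = w := Subtype.ext rfl
    have h1 := hfix ⟨(w : Ω), hwP⟩
    rw [e2] at h1
    have h2 := he'θ w
    rw [h1] at h2
    have h3 := hsγ (e' w)
    rw [← h2] at h3
    show ((e' w : ρ.range) : Ω) * s = s * ((e' w : ρ.range) : Ω)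
    conv_lhs => rw [h3]
    group
  obtain ⟨w, hw, hws⟩ := hcen.2 _ hconjP hscen
  have hwP : (w : Ω) ∈ P := Subgroup.mem_subgroupOf.mp hw
  refine ⟨⟨w, hwP⟩, fun g => ?_⟩
  have e2 : Subgroup.inclusion hPN (⟨(w : Ω), hwP⟩ : P) = w := Subtype.ext rfl
  rw [e2]
  apply e'.injective
  apply Subtype.ext
  rw [he'θ g, hsγ (e' g), map_mul, map_mul, map_inv]
  have hws' : ((e' w : ρ.range) : Ω) = s := hws
  show s * ((e' g : ρ.range) : Ω) * s⁻¹ = ((e' w : ρ.range) : Ω) * ((e' g : ρ.range) : Ω) * ((e' w : ρ.range) : Ω)⁻¹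
  rw [hws']

/-- Uniqueness of extensions from a normal centric subgroup, up to conjugation by an element of it. -/
theorem centric_ext_unique [Finite S] (p : ℕ) [Fact p.Prime] (hS : IsPGroup p S)
    (F : FusionSystem S) (hF : F.IsSaturated p) {P N : Subgroup Ω} (hPN : P ≤ N)
    (hnorm : ∀ g ∈ N, ∀ x ∈ P, g * x * g⁻¹ ∈ P) (hcen : F.IsCentric P)
    {χ ψ : N →* Ω} (hχ : χ ∈ F.Hom N) (hψ : ψ ∈ F.Hom N)
    (hagree : ∀ x : P, χ (Subgroup.inclusion hPN x) = ψ (Subgroup.inclusion hPN x)) :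
    ∃ z : P, ∀ g : N,
      ψ g = χ (Subgroup.inclusion hPN z * g * (Subgroup.inclusion hPN z)⁻¹) := by
  have hNS : N ≤ S := (F.le_of_mem hχ).1
  obtain ⟨θ, hθ, hspec, hfix, hmove⟩ := exists_aut_of_agree F hPN hnorm hcen hχ hψ hagree
  obtain ⟨z, hz⟩ := aut_eq_conj_of_fixes_centric p hS F hF hPN hNS hcen hθ hfix hmove
  exact ⟨z, fun g => by rw [← hspec g, hz g]⟩

/-- conjugates of a centric subgroup are fully centralized in any subsystem -/
lemma isFullyCentralized_of_centric [Finite S] (F F' : FusionSystem S) (hle : F' ≤ F)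
    {P : Subgroup Ω} (hcen : F.IsCentric P) : F'.IsFullyCentralized P := by
  refine ⟨hcen.1, fun Q hQ => ?_⟩
  have hQF : F.IsConj P Q := by
    obtain ⟨φ, hφ, hr⟩ := hQ
    exact ⟨φ, hle P hφ, hr⟩
  obtain ⟨κ, hκ, hκr⟩ := isConj_symm F' hQ
  have hκinj := F'.injective_of_mem hκ
  have hQS : Q ≤ S := (F'.le_of_mem hκ).1
  have hCQ : centralizerIn S Q ≤ Q := hcen.2 Q hQF
  haveI : Finite (centralizerIn S P) := finite_of_le_finite centralizerIn_le
  refine Nat.card_le_card_of_injective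
    (fun c => (⟨κ ⟨c, hCQ c.2⟩, ?_⟩ : centralizerIn S P)) ?_
  · rw [mem_centralizerIn]
    refine ⟨(F'.le_of_mem hκ).2 _, fun y hy => ?_⟩
    rw [← hκr] at hy
    obtain ⟨x, rfl⟩ := hy
    rw [← map_mul, ← map_mul]
    congr 1
    apply Subtype.ext
    exact (mem_centralizerIn.mp c.2).2 x x.2
  · intro a b hab
    have h1 := congrArg Subtype.val hab
    have h2 := hκinj h1
    have h3 : (a : Ω) = (b : Ω) := by simpa using h2
    exact Subtype.ext h3

/-- one step: from a centric `P < R` to its normalizer in `R` -/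
lemma restrict_normalizer_mem [Finite S] (p : ℕ) [Fact p.Prime] (hS : IsPGroup p S)
    (F : FusionSystem S) (hF : F.IsSaturated p) (F' : FusionSystem S) (hF' : F'.IsSaturated p)
    (hle : F' ≤ F) {P R : Subgroup Ω} (hPR : P ≤ R) (hcen : F.IsCentric P) {ψ : R →* Ω}
    (hψ : ψ ∈ F.Hom R) (hres : ψ.comp (Subgroup.inclusion hPR) ∈ F'.Hom P) :
    ψ.comp (Subgroup.inclusion (normalizerIn_le : normalizerIn R P ≤ R)) ∈
      F'.Hom (normalizerIn R P) := by
  have hRS : R ≤ S := (F.le_of_mem hψ).1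
  have hNR : normalizerIn R P ≤ R := normalizerIn_le
  have hPN : P ≤ normalizerIn R P := le_normalizerIn hPR
  have hNS : normalizerIn R P ≤ S := hNR.trans hRS
  set ψ₀ := ψ.comp (Subgroup.inclusion hPR) with hψ₀
  have hψ₀F : ψ₀ ∈ F.Hom P := hle P hres
  -- the image of `P` is receptive in `F'`
  have hcen' : F.IsCentric ψ₀.range := by
    refine ⟨range_le F hψ₀F, fun Q hQ => ?_⟩
    exact hcen.2 Q (isConj_trans F ⟨ψ₀, hψ₀F, rfl⟩ hQ)
  have hfc := isFullyCentralized_of_centric F F' hle hcen'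
  have hrec := isReceptive_of_fullyCentralized p hS F' hF' hfc
  obtain ⟨χ, hχ, hext⟩ := hrec.2 P ψ₀ hres rfl
  have hNext : normalizerIn R P ≤ extender S P ψ₀ := by
    intro g hg
    rw [mem_extender_iff]
    refine ⟨hNS hg, hg.2, ψ ⟨g, hNR hg⟩, (F.le_of_mem hψ).2 _, fun x hx => ?_⟩
    show ψ _ = ψ _ * ψ _ * (ψ _)⁻¹
    rw [← map_inv, ← map_mul, ← map_mul]
    rfl
  have hχN : χ.comp (Subgroup.inclusion hNext) ∈ F'.Hom (normalizerIn R P) :=
    restrict_mem F' hNext hχ
  have hψN : ψ.comp (Subgroup.inclusion hNR) ∈ F.Hom (normalizerIn R P) := restrict_mem F hNR hψ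
  have hnorm : ∀ g ∈ normalizerIn R P, ∀ x ∈ P, g * x * g⁻¹ ∈ P := by
    intro g hg x hx
    exact (Subgroup.mem_normalizer_iff.mp hg.2 x).mp hx
  obtain ⟨z, hz⟩ := centric_ext_unique p hS F hF hPN hnorm hcen (hle _ hχN) hψN (by
    intro x
    exact hext x x.2 (hNext (hPN x.2)))
  have hzS : (z : Ω) ∈ S := hcen.1 z.2
  have hconj : conjHom (normalizerIn R P) z ∈ F'.Hom (normalizerIn R P) := F'.conj_mem hNS hzS
  refine comp_mem' F' hconj hχN (fun g => ?_) (fun g => ?_)
  · exact Subgroup.mul_mem _ (Subgroup.mul_mem _ (hPN z.2) g.2) (Subgroup.inv_mem _ (hPN z.2))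
  · exact hz g

/-- **Main lemma.** If the restriction of a map of `F` to a centric subgroup lies in the saturated
subsystem `F'`, so does the map. -/
theorem mem_of_restrict_mem_centric [Finite S] (p : ℕ) [Fact p.Prime] (hS : IsPGroup p S)
    (F : FusionSystem S) (hF : F.IsSaturated p) (F' : FusionSystem S) (hF' : F'.IsSaturated p)
    (hle : F' ≤ F) {R : Subgroup Ω} {ψ : R →* Ω} (hψ : ψ ∈ F.Hom R) :
    ∀ {P : Subgroup Ω} (hPR : P ≤ R), F.IsCentric P →
      ψ.comp (Subgroup.inclusion hPR) ∈ F'.Hom P → ψ ∈ F'.Hom R := by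
  have hRS : R ≤ S := (F.le_of_mem hψ).1
  haveI : Finite R := finite_of_le_finite hRS
  have main : ∀ m : ℕ, ∀ (P : Subgroup Ω) (hPR : P ≤ R), F.IsCentric P →
      ψ.comp (Subgroup.inclusion hPR) ∈ F'.Hom P → Nat.card R - Nat.card P = m → ψ ∈ F'.Hom R := by
    intro m
    induction m using Nat.strong_induction_on with
    | _ m ih =>
      intro P hPR hcen hres hm
      by_cases hPeq : P = R
      · subst hPeq
        have : ψ.comp (Subgroup.inclusion hPR) = ψ := by ext x; rfl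
        rwa [this] at hres
      · have hstep := restrict_normalizer_mem p hS F hF F' hF' hle hPR hcen hψ hres
        have hNR : normalizerIn R P ≤ R := normalizerIn_le
        have hPN : P ≤ normalizerIn R P := le_normalizerIn hPR
        have hNcen := isCentric_of_le F hPN (hNR.trans hRS) hcen
        obtain ⟨g, hgN, hgP⟩ := exists_mem_normalizerIn_not_mem (hS.to_le hRS) hPR hPeq
        have hlt : Nat.card P < Nat.card (normalizerIn R P) := by
          haveI : Finite (normalizerIn R P) := finite_of_le_finite (hNR.trans hRS)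
          apply Nat.lt_of_not_le
          intro hcard
          have h := Subgroup.eq_of_le_of_card_ge hPN hcard
          exact hgP (h ▸ hgN)
        have hle2 : Nat.card (normalizerIn R P) ≤ Nat.card R := Subgroup.card_le_of_le hNR
        exact ih (Nat.card R - Nat.card (normalizerIn R P)) (by omega) _ hNR hNcen hstep rfl
  intro P hPR hcen hres
  exact main _ P hPR hcen hres rfl

end Cfsg.Agent.Helper26
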