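import Mathlib
import Cfsg.Agent.Lib.Helper25.PAPSLDefs

/-!
# S4613 piece PA-PSL, sub-piece PAPSL-QB (helper26)

`papsl_QB F 0` (identity columns outside column `0`) lies in the lower unitriangular group, its
centralizer lies in `U ⊔ center`, and the transvections `1 + c E_ij`, `i ≠ r`, normalize `papsl_QB F r`.
-/

set_option autoImplicit false

namespace Cfsg.Agent.Helper28.PA

open Matrix Cfsg.Agent.Helper14.SylAb Cfsg.Agent.S0769

section papslqb

variable {F : Type*} [Field F]

/-- conjugating a `ColP` matrix by `T` (with inverse `T'`) whose inverse has zero `r`-th row outside the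
`r`-th column gives a `ColP` matrix -/
theorem papslqb_conj {n : ℕ} {r : Fin n} {M T T' : Matrix (Fin n) (Fin n) F} (hM : papsl_ColP r M)
    (hTT' : T * T' = 1) (hT' : ∀ b, b ≠ r → T' r b = 0) : papsl_ColP r (T * M * T') := by
  intro b hb a
  have h1 := papsl_col_mul (T * M) T' b
  have h2 : M *ᵥ (fun a => T' a b) = fun a => T' a b := papsl_colP_mulVec hM _ (hT' b hb)
  have h3 : (T * M) *ᵥ (fun a => T' a b) = T *ᵥ (fun a => T' a b) := by
    rw [← Matrix.mulVec_mulVec, h2]
  have h4 := papsl_col_mul T T' b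
  calc (T * M * T') a b = ((T * M) *ᵥ fun a => T' a b) a := congrFun h1 a
    _ = (T *ᵥ fun a => T' a b) a := by rw [h3]
    _ = (T * T') a b := (congrFun h4 a).symm
    _ = (1 : Matrix (Fin n) (Fin n) F) a b := by rw [hTT']

theorem papslqb_transvection_row {n : ℕ} (r i j : Fin n) (hi : i ≠ r) (c : F) (b : Fin n)
    (hb : b ≠ r) : (transvection i j c : Matrix (Fin n) (Fin n) F) r b = 0 := by
  rw [transvection, Matrix.add_apply, Matrix.one_apply_ne (Ne.symm hb), zero_add,
    Matrix.single_apply_of_ne]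
  intro h
  exact hi h.1

variable [Fintype F]

theorem papslqb_t_inv {n : ℕ} (i j : Fin n) (hij : i ≠ j) (c : F) :
    (sylabsl_t i j hij c)⁻¹ = sylabsl_t i j hij (-c) := by
  apply inv_eq_of_mul_eq_one_right
  rw [sylabsl_t_mul, add_neg_cancel, sylabsl_t_zero]

theorem papslqb_conj_mem {n : ℕ} (r i j : Fin n) (hij : i ≠ j) (hi : i ≠ r) (c : F)
    (h : Matrix.SpecialLinearGroup (Fin n) F) (hh : h ∈ papsl_QB F r) :
    sylabsl_t i j hij c * h * (sylabsl_t i j hij c)⁻¹ ∈ papsl_QB F r := by
  rw [papslqb_t_inv, papsl_mem_QB]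
  have hTT' : (transvection i j c : Matrix (Fin n) (Fin n) F) * transvection i j (-c) = 1 := by
    rw [transvection_mul_transvection_same i j hij, add_neg_cancel, transvection_zero]
  have := papslqb_conj (T := transvection i j c) (T' := transvection i j (-c))
    ((papsl_mem_QB h).mp hh) hTT' (papslqb_transvection_row r i j hi (-c))
  exact this

theorem papsl_QB_norm {n : ℕ} (r i j : Fin n) (hij : i ≠ j) (hi : i ≠ r) (c : F) :
    sylabsl_t i j hij c ∈
      Subgroup.normalizer (papsl_QB F r : Set (Matrix.SpecialLinearGroup (Fin n) F)) := by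
  rw [Subgroup.mem_normalizer_iff]
  intro h
  constructor
  · exact papslqb_conj_mem r i j hij hi c h
  · intro hh
    have h1 := papslqb_conj_mem r i j hij hi (-c) _ hh
    rw [← papslqb_t_inv] at h1
    have h2 : (sylabsl_t i j hij c)⁻¹ * (sylabsl_t i j hij c * h * (sylabsl_t i j hij c)⁻¹) *
        ((sylabsl_t i j hij c)⁻¹)⁻¹ = h := by group
    rw [h2] at h1
    exact h1

theorem papsl_QB_le_U (m : ℕ) : papsl_QB F (0 : Fin (m + 2)) ≤ sylabsl_U F (m + 2) := by
  intro g hg
  rw [papsl_mem_QB] at hg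
  rw [sylabsl_mem_U]
  have hoff : ∀ a b : Fin (m + 2), b ≠ 0 → a ≠ b → g.1 a b = 0 := by
    intro a b hb hab
    rw [hg b hb a, Matrix.one_apply_ne hab]
  have hdiag : ∀ b : Fin (m + 2), b ≠ 0 → g.1 b b = 1 := by
    intro b hb
    rw [hg b hb b, Matrix.one_apply_eq]
  have hlow : ∀ i j : Fin (m + 2), i < j → g.1 i j = 0 := by
    intro i j hij
    apply hoff i j _ (ne_of_lt hij)
    intro h0
    rw [h0] at hij
    exact absurd hij (Fin.not_lt_zero i)
  have hdet : g.1.det = g.1 0 0 := by
    rw [det_lower g.1 hlow]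
    apply Finset.prod_eq_single (0 : Fin (m + 2))
    · intro b _ hb
      exact hdiag b hb
    · intro h
      exact absurd (Finset.mem_univ _) h
  constructor
  · intro i
    by_cases hi : i = 0
    · rw [hi, ← hdet]; exact g.2
    · exact hdiag i hi
  · intro i j hij hlt
    apply hlow
    rw [Fin.lt_def]
    have : (i : ℕ) ≠ (j : ℕ) := fun h => hij (Fin.ext h)
    omega

theorem papslqb_t_mem (m : ℕ) (i : Fin (m + 2)) (hi : i ≠ 0) (c : F) :
    sylabsl_t i 0 hi c ∈ papsl_QB F (0 : Fin (m + 2)) := by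
  rw [papsl_mem_QB]
  intro b hb a
  rw [sylabsl_t_coe, transvection, Matrix.add_apply, Matrix.single_apply_of_ne, add_zero]
  intro h
  exact hb h.2.symm

theorem papsl_QB_cent (m : ℕ) :
    Subgroup.centralizer (papsl_QB F (0 : Fin (m + 2)) : Set (Matrix.SpecialLinearGroup (Fin (m + 2)) F)) ≤
      sylabsl_U F (m + 2) ⊔ Subgroup.center (Matrix.SpecialLinearGroup (Fin (m + 2)) F) := by
  intro g hg
  rw [Subgroup.mem_centralizer_iff] at hg
  -- the commutation relations with the transvections `1 + E_{i0}`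
  have hcomm : ∀ i : Fin (m + 2), i ≠ 0 →
      (transvection i 0 (1 : F) : Matrix (Fin (m + 2)) (Fin (m + 2)) F) * g.1 =
        g.1 * transvection i 0 (1 : F) := by
    intro i hi
    have := hg (sylabsl_t i 0 hi 1) (papslqb_t_mem m i hi 1)
    have h2 := congrArg Subtype.val this
    simpa [Matrix.SpecialLinearGroup.coe_mul, sylabsl_t_coe] using h2
  set lam : F := g.1 0 0 with hlam
  -- columns `i ≠ 0` of `g` are `lam • e_i`
  have hcol : ∀ i : Fin (m + 2), i ≠ 0 → ∀ a, g.1 a i = if a = i then lam else 0 := by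
    intro i hi a
    have h1 := congrFun (congrFun (hcomm i hi) a) 0
    rw [mul_transvection_apply_same] at h1
    by_cases hai : a = i
    · subst hai
      rw [transvection_mul_apply_same] at h1
      -- g a 0 + 1 * g 0 0 = g a 0 + 1 * g a a
      have := add_left_cancel h1
      rw [one_mul, one_mul] at this
      rw [if_pos rfl, ← this]
    · rw [transvection_mul_apply_of_ne _ _ _ _ hai] at h1
      -- g a 0 = g a 0 + 1 * g a i
      have h2 : (1 : F) * g.1 a i = 0 := by
        have := h1
        nth_rewrite 1 [← add_zero (g.1 a 0)] at this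
        exact (add_left_cancel this).symm
      rw [if_neg hai]
      rwa [one_mul] at h2
  have hdiagall : ∀ i : Fin (m + 2), g.1 i i = lam := by
    intro i
    by_cases hi : i = 0
    · rw [hi]
    · rw [hcol i hi i, if_pos rfl]
  have hlow : ∀ i j : Fin (m + 2), i < j → g.1 i j = 0 := by
    intro i j hij
    have hj : j ≠ 0 := by
      intro h0
      rw [h0] at hij
      exact absurd hij (Fin.not_lt_zero i)
    rw [hcol j hj i, if_neg (ne_of_lt hij)]
  have hdet : lam ^ (m + 2) = 1 := by
    have h1 := det_lower g.1 hlow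
    rw [g.2] at h1
    rw [h1]
    simp [hdiagall]
  have hlam0 : lam ≠ 0 := by
    intro h0
    rw [h0, zero_pow (by omega)] at hdet
    exact zero_ne_one hdet
  -- the central element `lam⁻¹`
  have hdet' : (lam⁻¹) ^ (m + 2) = 1 := by rw [inv_pow, hdet, inv_one]
  let z : Matrix.SpecialLinearGroup (Fin (m + 2)) F :=
    ⟨Matrix.scalar (Fin (m + 2)) lam⁻¹, by
      rw [Matrix.scalar_apply, Matrix.det_diagonal, Finset.prod_const, Finset.card_univ,
        Fintype.card_fin]
      exact hdet'⟩
  have hz : z ∈ Subgroup.center (Matrix.SpecialLinearGroup (Fin (m + 2)) F) := by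
    rw [Matrix.SpecialLinearGroup.mem_center_iff]
    exact ⟨lam⁻¹, by simpa using hdet', rfl⟩
  have hu : g * z ∈ sylabsl_U F (m + 2) := by
    rw [sylabsl_mem_U]
    have hent : ∀ a b, (g * z).1 a b = g.1 a b * lam⁻¹ := by
      intro a b
      rw [Matrix.SpecialLinearGroup.coe_mul]
      show (g.1 * Matrix.scalar (Fin (m + 2)) lam⁻¹) a b = _
      rw [Matrix.scalar_apply, Matrix.mul_diagonal]
    constructor
    · intro i
      rw [hent, hdiagall, mul_inv_cancel₀ hlam0]
    · intro i j hij hlt
      rw [hent, hlow i j, zero_mul]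
      rw [Fin.lt_def]
      have : (i : ℕ) ≠ (j : ℕ) := fun h => hij (Fin.ext h)
      omega
  have hgz : g = (g * z) * z⁻¹ := by group
  rw [hgz]
  exact Subgroup.mul_mem_sup hu (Subgroup.inv_mem _ hz)

end papslqb

end Cfsg.Agent.Helper28.PA
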