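import Mathlib
import Cfsg.Prelude.Def_KGroupFacts

/-!
# Tools for showing that all automorphisms of a finite group are inner
-/

set_option autoImplicit false

namespace Cfsg.Agent.Helper26.AutInner

variable {G : Type*} [Group G]

/-- If `p ^ 2 ∤ |G|`, all elements of order `p` are conjugate to a power of a given one. -/
theorem exists_conj_pow_of_prime_order [Finite G] (p : ℕ) [hp : Fact p.Prime] (x : G)
    (hx : orderOf x = p) (hp2 : ¬ p ^ 2 ∣ Nat.card G) (u : G) (hu : orderOf u = p) :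
    ∃ g : G, ∃ k : ℕ, u = g * x ^ k * g⁻¹ := by
  classical
  have hG0 : Nat.card G ≠ 0 := Nat.card_pos.ne'
  have hpG : p ∣ Nat.card G := hx ▸ orderOf_dvd_natCard x
  have hfac : (Nat.card G).factorization p = 1 := by
    have h1 : 1 ≤ (Nat.card G).factorization p :=
      (hp.out.pow_dvd_iff_le_factorization hG0).1 (by rwa [pow_one])
    have h2 : ¬ 2 ≤ (Nat.card G).factorization p := fun h =>
      hp2 ((hp.out.pow_dvd_iff_le_factorization hG0).2 h)
    omega
  let Px : Sylow p G := Sylow.ofCard (Subgroup.zpowers x)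
    (by rw [Nat.card_zpowers, hx, hfac, pow_one])
  let Pu : Sylow p G := Sylow.ofCard (Subgroup.zpowers u)
    (by rw [Nat.card_zpowers, hu, hfac, pow_one])
  obtain ⟨g, hg⟩ := MulAction.exists_smul_eq G Px Pu
  have huP : u ∈ (Pu : Subgroup G) := by
    rw [Sylow.coe_ofCard]; exact Subgroup.mem_zpowers u
  rw [← hg, Sylow.coe_subgroup_smul, Subgroup.mem_pointwise_smul_iff_inv_smul_mem,
    Sylow.coe_ofCard] at huP
  obtain ⟨k, hk⟩ := Subgroup.mem_zpowers_iff.1 huP
  have hk' : x ^ (k % (orderOf x : ℤ)).toNat = (MulAut.conj g)⁻¹ • u := by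
    rw [← hk, ← zpow_natCast, Int.toNat_of_nonneg, zpow_mod_orderOf]
    apply Int.emod_nonneg
    rw [hx]
    exact_mod_cast hp.out.ne_zero
  refine ⟨g, (k % (orderOf x : ℤ)).toNat, ?_⟩
  rw [hk', MulAut.smul_def, ← map_inv, MulAut.conj_apply]
  group

/-- A power of `x` by an exponent which is a power of `m` modulo the order is conjugate to `x`
by a power of `n`, if `n x n⁻¹ = x ^ m`. -/
theorem conj_pow_iterate (x n : G) (m : ℕ) (h : n * x * n⁻¹ = x ^ m) (e : ℕ) :
    n ^ e * x * (n ^ e)⁻¹ = x ^ (m ^ e) := by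
  induction e with
  | zero => simp
  | succ e ih =>
    have h1 : n ^ (e + 1) * x * (n ^ (e + 1))⁻¹ = n * (n ^ e * x * (n ^ e)⁻¹) * n⁻¹ := by
      rw [pow_succ']; group
    rw [h1, ih]
    have h2 : n * x ^ m ^ e * n⁻¹ = (n * x * n⁻¹) ^ (m ^ e) := by
      rw [conj_pow]
    rw [h2, h, ← pow_mul, pow_succ']

/-- If `p ^ 2 ∤ |G|`, `n x n⁻¹ = x ^ m`, and every non-zero residue modulo `p` is of the form
`r * m ^ e` with `r ∈ R`, then every element of order `p` is conjugate to some `x ^ r`, `r ∈ R`. -/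
theorem exists_conj_rep [Finite G] (p : ℕ) [hp : Fact p.Prime] (x n : G) (m : ℕ)
    (hx : orderOf x = p) (hp2 : ¬ p ^ 2 ∣ Nat.card G) (hn : n * x * n⁻¹ = x ^ m) (R : Finset ℕ)
    (hR : ∀ k < p, 0 < k → ∃ e : ℕ, ∃ r ∈ R, k ≡ r * m ^ e [MOD p]) (u : G)
    (hu : orderOf u = p) : ∃ g : G, ∃ r ∈ R, u = g * x ^ r * g⁻¹ := by
  obtain ⟨g, k, hk⟩ := exists_conj_pow_of_prime_order p x hx hp2 u hu
  have hk1 : x ^ k = x ^ (k % p) := by rw [← hx, pow_mod_orderOf]
  have hkpos : 0 < k % p := by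
    rcases Nat.eq_zero_or_pos (k % p) with h0 | h0
    · exfalso
      rw [hk1, h0, pow_zero, mul_one, mul_inv_cancel] at hk
      rw [hk, orderOf_one] at hu
      exact hp.out.one_lt.ne hu
    · exact h0
  obtain ⟨e, r, hr, hmod⟩ := hR (k % p) (Nat.mod_lt _ hp.out.pos) hkpos
  have h2 : x ^ (k % p) = x ^ (r * m ^ e) := by
    rw [pow_eq_pow_iff_modEq, hx]; exact hmod
  have h3 : x ^ (r * m ^ e) = n ^ e * x ^ r * (n ^ e)⁻¹ := by
    rw [mul_comm, pow_mul, ← conj_pow_iterate x n m hn e, conj_pow]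
  refine ⟨g * n ^ e, r, hr, ?_⟩
  rw [hk, hk1, h2, h3]
  group

/-- An automorphism fixing a generating set is trivial. -/
theorem eq_one_of_fix_generators (S : Set G) (hS : Subgroup.closure S = ⊤) (φ : MulAut G)
    (h : ∀ s ∈ S, φ s = s) : φ = 1 := by
  have h1 : (φ.toMonoidHom : G →* G) = MonoidHom.id G := by
    apply MonoidHom.eq_of_eqOn_dense hS
    intro s hs
    exact h s hs
  ext g
  exact DFunLike.congr_fun h1 g

/-- If every automorphism is inner, the outer automorphism group is trivial. -/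
theorem card_Out_eq_one (h : ∀ φ : MulAut G, ∃ g : G, φ = MulAut.conj g) :
    Nat.card (Cfsg.Out G) = 1 := by
  have htop : Cfsg.Inn G = ⊤ := by
    rw [eq_top_iff]
    intro φ _
    obtain ⟨g, hg⟩ := h φ
    exact ⟨g, hg.symm⟩
  show Nat.card (MulAut G ⧸ Cfsg.Inn G) = 1
  rw [← Subgroup.index_eq_card, htop, Subgroup.index_top]

end Cfsg.Agent.Helper26.AutInner
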