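import Mathlib
import Cfsg.Prelude.Def_KGroupFacts

/-!
# Outer automorphism groups of order two

* `card_Out_eq_two`: if `τ` is not inner and every automorphism is inner or becomes inner after
  multiplication by `τ`, the outer automorphism group has order two.
* `conjAut`: conjugation by an element normalizing a subgroup, as an automorphism of the subgroup.
-/

set_option autoImplicit false

namespace Cfsg.Agent.Helper26.AutOuter

variable {G : Type*} [Group G]

theorem card_Out_eq_two (τ : MulAut G) (hτ : ¬ ∃ g : G, τ = MulAut.conj g)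
    (h : ∀ φ : MulAut G, (∃ g : G, φ = MulAut.conj g) ∨ ∃ g : G, φ * τ = MulAut.conj g) :
    Nat.card (Cfsg.Out G) = 2 := by
  show Nat.card (MulAut G ⧸ Cfsg.Inn G) = 2
  rw [← Subgroup.index_eq_card, Subgroup.index_eq_two_iff]
  refine ⟨τ, fun φ => ?_⟩
  have hmem : ∀ ψ : MulAut G, ψ ∈ Cfsg.Inn G ↔ ∃ g : G, ψ = MulAut.conj g := by
    intro ψ
    constructor
    · rintro ⟨g, hg⟩; exact ⟨g, hg.symm⟩
    · rintro ⟨g, hg⟩; exact ⟨g, hg.symm⟩
  rw [hmem, hmem]
  rcases h φ with h1 | h1
  · right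
    refine ⟨h1, ?_⟩
    rintro ⟨g2, hg2⟩
    obtain ⟨g1, hg1⟩ := h1
    apply hτ
    refine ⟨g1⁻¹ * g2, ?_⟩
    rw [map_mul, map_inv, ← hg1, ← hg2, inv_mul_cancel_left]
  · by_cases h2 : ∃ g : G, φ = MulAut.conj g
    · exfalso
      obtain ⟨g2, hg2⟩ := h1
      obtain ⟨g1, hg1⟩ := h2
      apply hτ
      refine ⟨g1⁻¹ * g2, ?_⟩
      rw [map_mul, map_inv, ← hg1, ← hg2, inv_mul_cancel_left]
    · left
      exact ⟨h1, h2⟩

/-- Conjugation by an involution `y` normalizing the subgroup `H`, as an automorphism of `H`. -/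
def conjAut (H : Subgroup G) (y : G) (hy2 : y * y = 1) (hy : ∀ h ∈ H, y * h * y ∈ H) : MulAut H where
  toFun h := ⟨y * h * y, hy h h.2⟩
  invFun h := ⟨y * h * y, hy h h.2⟩
  left_inv h := by
    apply Subtype.ext
    show y * (y * (h : G) * y) * y = h
    rw [← mul_assoc, ← mul_assoc, hy2, one_mul, mul_assoc, hy2, mul_one]
  right_inv h := by
    apply Subtype.ext
    show y * (y * (h : G) * y) * y = h
    rw [← mul_assoc, ← mul_assoc, hy2, one_mul, mul_assoc, hy2, mul_one]
  map_mul' a b := by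
    apply Subtype.ext
    show y * ((a : G) * (b : G)) * y = (y * (a : G) * y) * (y * (b : G) * y)
    have : (y * (a : G) * y) * (y * (b : G) * y) = y * (a : G) * (y * y) * (b : G) * y := by
      simp only [mul_assoc]
    rw [this, hy2, mul_one]
    simp only [mul_assoc]

theorem conjAut_apply (H : Subgroup G) (y : G) (hy2 : y * y = 1) (hy : ∀ h ∈ H, y * h * y ∈ H)
    (h : H) : ((conjAut H y hy2 hy h : H) : G) = y * h * y := rfl

end Cfsg.Agent.Helper26.AutOuter
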