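import Mathlib

/-!
# S0999 piece GRP1 (helper26): Sylow facts for a simple non-cyclic group with `p ∣ |G| < p³`
-/

set_option autoImplicit false
set_option linter.unusedSectionVars false
set_option linter.unusedVariables false
set_option linter.style.haveILetI false

namespace Cfsg.Agent.Helper23.BR999

section Grp

variable {G : Type*} [Group G] [Finite G]

namespace GRP1

/-- a simple group which is commutative is cyclic -/
theorem isCyclic_of_comm [IsSimpleGroup G] (hcomm : ∀ a b : G, a * b = b * a) : IsCyclic G := by
  let _inst : CommGroup G := { ‹Group G› with mul_comm := hcomm }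
  exact IsSimpleGroup.isCyclic

/-- a simple group whose order is a prime power is cyclic -/
theorem isCyclic_of_isPGroup [IsSimpleGroup G] (p : ℕ) [Fact p.Prime] (hG : IsPGroup p G) :
    IsCyclic G := by
  haveI : Nontrivial G := IsSimpleGroup.toNontrivial
  haveI := hG.center_nontrivial
  have hc : Subgroup.center G = ⊤ := by
    rcases (Subgroup.center G).normal_of_characteristic.eq_bot_or_eq_top with h | h
    · exfalso
      have : Subsingleton (Subgroup.center G) := by rw [h]; infer_instance
      exact not_subsingleton _ this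
    · exact h
  apply isCyclic_of_comm
  intro a b
  have ha : a ∈ Subgroup.center G := by rw [hc]; trivial
  exact ((Subgroup.mem_center_iff.mp ha) b).symm

/-- a normal Sylow subgroup of a simple non-cyclic group is trivial -/
theorem sylow_not_normal [IsSimpleGroup G] (hG : ¬ IsCyclic G) (p : ℕ) [Fact p.Prime]
    (P : Sylow p G) (hP : (P : Subgroup G) ≠ ⊥) : ¬ (P : Subgroup G).Normal := by
  intro hn
  rcases hn.eq_bot_or_eq_top with h | h
  · exact hP h
  · apply hG
    apply isCyclic_of_isPGroup p
    have := P.isPGroup'
    rw [h] at this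
    intro g
    obtain ⟨k, hk⟩ := this ⟨g, trivial⟩
    refine ⟨k, ?_⟩
    have := congrArg Subtype.val hk
    simpa using this

end GRP1

/-- simple, non-cyclic, `p ∣ |G| < p³`: Sylow `p`-subgroups have order `p`. -/
theorem sylow_card [IsSimpleGroup G] (hG : ¬ IsCyclic G) (p : ℕ) [Fact p.Prime]
    (hdvd : p ∣ Nat.card G) (hbig : Nat.card G < p ^ 3) (P : Sylow p G) : Nat.card P = p := by
  have hp : p.Prime := Fact.out
  have hne : (P : Subgroup G) ≠ ⊥ := P.ne_bot_of_dvd_card hdvd
  have hnn := GRP1.sylow_not_normal hG p P hne
  have hcard := P.card_eq_multiplicity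
  set k := (Nat.card G).factorization p with hk
  have hdvdG : Nat.card (P : Subgroup G) ∣ Nat.card G := Subgroup.card_subgroup_dvd_card _
  have hGpos : 0 < Nat.card G := Nat.card_pos
  have hk1 : 1 ≤ k := by
    rcases Nat.eq_zero_or_pos k with h0 | h0
    · exfalso
      rw [h0, pow_zero] at hcard
      exact hne ((Subgroup.card_eq_one).mp hcard)
    · exact h0
  have hk3 : k < 3 := by
    by_contra h3
    push Not at h3
    have : p ^ 3 ≤ p ^ k := Nat.pow_le_pow_right hp.pos h3
    have h2 : p ^ k ≤ Nat.card G := Nat.le_of_dvd hGpos (hcard ▸ hdvdG)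
    omega
  have hk2 : k ≠ 2 := by
    intro h2
    apply hnn
    -- the index is `< p`
    have hidx : Nat.card (P : Subgroup G) * (P : Subgroup G).index = Nat.card G :=
      Subgroup.card_mul_index _
    rw [hcard, h2] at hidx
    have hlt : (P : Subgroup G).index < p := by
      by_contra hge
      push Not at hge
      have : p ^ 2 * p ≤ p ^ 2 * (P : Subgroup G).index := Nat.mul_le_mul_left _ hge
      have h3 : p ^ 3 = p ^ 2 * p := by ring
      omega
    have hdvd' := P.card_dvd_index
    have hmod := card_sylow_modEq_one p G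
    have hipos : 0 < (P : Subgroup G).index := Nat.pos_of_ne_zero (Subgroup.index_ne_zero_of_finite)
    have hle : Nat.card (Sylow p G) ≤ (P : Subgroup G).index := Nat.le_of_dvd hipos hdvd'
    have hone : Nat.card (Sylow p G) = 1 := by
      have h1 : Nat.card (Sylow p G) % p = 1 % p := hmod
      rw [Nat.mod_eq_of_lt (by omega), Nat.mod_eq_of_lt hp.one_lt] at h1
      exact h1
    haveI : Subsingleton (Sylow p G) := (Nat.card_eq_one_iff_unique.mp hone).1
    exact P.normal_of_subsingleton
  have : k = 1 := by omega
  rw [hcard, this, pow_one]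

/-- Burnside: in a simple non-cyclic group, `N_G(P) ≠ C_G(P)` for a Sylow subgroup of order `p`. -/
theorem two_le_relIndex [IsSimpleGroup G] (hG : ¬ IsCyclic G) (p : ℕ) [Fact p.Prime]
    (P : Sylow p G) (hP : Nat.card P = p) :
    2 ≤ (Subgroup.centralizer ((P : Subgroup G) : Set G)).relIndex
      (Subgroup.normalizer ((P : Subgroup G) : Set G)) := by
  have hp : p.Prime := Fact.out
  by_contra hlt
  push Not at hlt
  have hne0 : (Subgroup.centralizer ((P : Subgroup G) : Set G)).relIndex
      (Subgroup.normalizer ((P : Subgroup G) : Set G)) ≠ 0 := by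
    unfold Subgroup.relIndex
    exact Subgroup.index_ne_zero_of_finite
  have h1 : (Subgroup.centralizer ((P : Subgroup G) : Set G)).relIndex
      (Subgroup.normalizer ((P : Subgroup G) : Set G)) = 1 := by omega
  have hle := Subgroup.relIndex_eq_one.mp h1
  have hcompl := MonoidHom.ker_transferSylow_isComplement' P hle
  have hcm := hcompl.card_mul_card
  have hPcard : Nat.card (P : Subgroup G) = p := hP
  rcases (MonoidHom.normal_ker (MonoidHom.transferSylow P hle)).eq_bot_or_eq_top with h | h
  · rw [h, Subgroup.card_bot, one_mul, hPcard] at hcm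
    apply hG
    haveI : Fact p.Prime := ⟨hp⟩
    exact isCyclic_of_prime_card hcm.symm
  · rw [h, Subgroup.card_top] at hcm
    have hpos : 0 < Nat.card G := Nat.card_pos
    have : Nat.card (P : Subgroup G) = 1 := by
      have h2 : Nat.card G * Nat.card (P : Subgroup G) = Nat.card G * 1 := by rw [hcm, mul_one]
      exact Nat.eq_of_mul_eq_mul_left hpos h2
    rw [hPcard] at this
    exact hp.one_lt.ne' this

/-- the number of Sylow subgroups is `> 1` and `≡ 1 mod p`. -/
theorem card_sylow_facts [IsSimpleGroup G] (hG : ¬ IsCyclic G) (p : ℕ) [Fact p.Prime]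
    (P : Sylow p G) (hP : Nat.card P = p) :
    1 < Nat.card (Sylow p G) ∧ Nat.card (Sylow p G) % p = 1 := by
  have hp : p.Prime := Fact.out
  have hne : (P : Subgroup G) ≠ ⊥ := by
    intro h
    have h1 : Nat.card (P : Subgroup G) = 1 := by rw [h, Subgroup.card_bot]
    have h2 : Nat.card (P : Subgroup G) = p := hP
    rw [h2] at h1
    exact hp.one_lt.ne' h1
  have hnn := GRP1.sylow_not_normal hG p P hne
  have hmod : Nat.card (Sylow p G) % p = 1 % p := card_sylow_modEq_one p G
  rw [Nat.mod_eq_of_lt hp.one_lt] at hmod
  refine ⟨?_, hmod⟩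
  by_contra hle
  push Not at hle
  have hpos : 0 < Nat.card (Sylow p G) := Nat.card_pos
  have hone : Nat.card (Sylow p G) = 1 := by omega
  haveI : Subsingleton (Sylow p G) := (Nat.card_eq_one_iff_unique.mp hone).1
  exact hnn P.normal_of_subsingleton

/-- simple non-cyclic groups are perfect. -/
theorem commutator_eq_top [IsSimpleGroup G] (hG : ¬ IsCyclic G) : commutator G = ⊤ := by
  have hn : (commutator G).Normal := by unfold commutator; infer_instance
  rcases hn.eq_bot_or_eq_top with h | h
  · exfalso
    apply hG
    apply GRP1.isCyclic_of_comm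
    have hc := (commutator_eq_bot_iff_center_eq_top G).mp h
    intro a b
    have ha : a ∈ Subgroup.center G := by rw [hc]; trivial
    exact ((Subgroup.mem_center_iff.mp ha) b).symm
  · exact h

end Grp

end Cfsg.Agent.Helper23.BR999
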