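import Mathlib

/-!
# 28 × 28 matrices over the field with two elements, packed into natural numbers

The matrix entry `(i, j)` is the bit `28 * j + i`; the columns are the 28-bit blocks.
-/

set_option autoImplicit false

namespace Cfsg.Agent.Helper26.BM28

/-- The `j`-th column. -/
def col (M j : ℕ) : ℕ := (M >>> (28 * j)) &&& 268435455

/-- Matrix times vector. -/
def mv (M v : ℕ) : ℕ :=
  Nat.rec 0 (fun k acc => acc ^^^ (((v >>> k) &&& 1) * col M k)) 28

/-- The number with the bits `28 * j`, `j < 28`. -/
def ONES : ℕ := 0x1000000100000010000001000000100000010000001000000100000010000001000000100000010000001000000100000010000001000000100000010000001000000100000010000001000000100000010000001000000100000010000001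

/-- Matrix times matrix: the sum over `k` of the `k`-th column of `A` times the `k`-th row of `B`,
the row being spread out with one bit in every block. -/
def mul (A B : ℕ) : ℕ :=
  Nat.rec 0 (fun k acc => acc ^^^ (col A k * ((B >>> k) &&& ONES))) 28

/-- The matrices. -/
abbrev Mat : Type := Matrix (Fin 28) (Fin 28) (ZMod 2)

/-- A bit as an element of the field. -/
def bit (b : Bool) : ZMod 2 := if b then 1 else 0

/-- Decoding of a matrix. -/
def toMat (M : ℕ) : Mat := fun i j => bit (M.testBit (28 * j.val + i.val))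

/-- Decoding of a vector. -/
def toVec (v : ℕ) : Fin 28 → ZMod 2 := fun i => bit (v.testBit i.val)

theorem bit_xor (a b : Bool) : bit (a ^^ b) = bit a + bit b := by
  cases a <;> cases b <;> decide

theorem bit_and (a b : Bool) : bit (a && b) = bit a * bit b := by
  cases a <;> cases b <;> decide

theorem bit_false : bit false = 0 := rfl

theorem bit_inj {a b : Bool} (h : bit a = bit b) : a = b := by
  revert h
  cases a <;> cases b <;> decide

theorem testBit_mask (i : ℕ) : Nat.testBit 268435455 i = decide (i < 28) := by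
  have : (268435455 : ℕ) = 2 ^ 28 - 1 := by norm_num
  rw [this, Nat.testBit_two_pow_sub_one]

theorem testBit_col (M j i : ℕ) :
    (col M j).testBit i = (M.testBit (28 * j + i) && decide (i < 28)) := by
  unfold col
  rw [Nat.testBit_and, Nat.testBit_shiftRight, testBit_mask]

theorem and_one_mul (x c i : ℕ) :
    (((x &&& 1) * c).testBit i) = (x.testBit 0 && c.testBit i) := by
  rw [Nat.and_one_is_mod]
  rcases Nat.mod_two_eq_zero_or_one x with h | h
  · have : x.testBit 0 = false := by
      rw [Nat.testBit_zero]; simp [h]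
    rw [h, this, Nat.zero_mul, Nat.zero_testBit, Bool.false_and]
  · have : x.testBit 0 = true := by
      rw [Nat.testBit_zero]; simp [h]
    rw [h, this, Nat.one_mul, Bool.true_and]

/-- The partial products. -/
def mvP (M v : ℕ) (n : ℕ) : ℕ :=
  Nat.rec 0 (fun k acc => acc ^^^ (((v >>> k) &&& 1) * col M k)) n

theorem mvP_succ (M v n : ℕ) :
    mvP M v (n + 1) = mvP M v n ^^^ (((v >>> n) &&& 1) * col M n) := rfl

theorem bit_testBit_mvP (M v i : ℕ) (n : ℕ) :
    bit ((mvP M v n).testBit i) =
      ∑ k ∈ Finset.range n, bit ((col M k).testBit i) * bit (v.testBit k) := by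
  induction n with
  | zero => simp [mvP, bit]
  | succ n ih =>
    rw [mvP_succ, Nat.testBit_xor, bit_xor, ih, Finset.sum_range_succ, and_one_mul,
      Nat.testBit_shiftRight, Nat.add_zero, bit_and, mul_comm]

theorem mv_eq (M v : ℕ) : mv M v = mvP M v 28 := rfl

theorem testBit_mvP_ge (M v n i : ℕ) (hi : 28 ≤ i) : (mvP M v n).testBit i = false := by
  induction n with
  | zero => simp [mvP]
  | succ n ih =>
    rw [mvP_succ, Nat.testBit_xor, ih, and_one_mul, testBit_col]
    have : decide (i < 28) = false := by simp; omega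
    rw [this]
    simp

theorem mv_lt (M v : ℕ) : mv M v < 2 ^ 28 := by
  apply Nat.lt_pow_two_of_testBit
  intro i hi
  rw [mv_eq]
  exact testBit_mvP_ge M v 28 i hi

theorem sum_fin28 (g : ℕ → ZMod 2) : ∑ k : Fin 28, g k.val = ∑ k ∈ Finset.range 28, g k :=
  Fin.sum_univ_eq_sum_range g 28

theorem toVec_mv (M v : ℕ) : toVec (mv M v) = Matrix.mulVec (toMat M) (toVec v) := by
  funext i
  unfold toVec
  rw [mv_eq, bit_testBit_mvP]
  unfold Matrix.mulVec dotProduct
  rw [← sum_fin28 (fun k => bit ((col M k).testBit i.val) * bit (v.testBit k))]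
  apply Finset.sum_congr rfl
  intro k _
  unfold toMat
  rw [testBit_col]
  have : decide (i.val < 28) = true := by simp
  rw [this, Bool.and_true]

/-- The number with the bits `28 * j`, `j < n`. -/
def onesN (n : ℕ) : ℕ := Nat.rec 0 (fun j acc => acc + 2 ^ (28 * j)) n

theorem onesN_succ (n : ℕ) : onesN (n + 1) = onesN n + 2 ^ (28 * n) := rfl

theorem onesN_lt (n : ℕ) : onesN n < 2 ^ (28 * n) := by
  induction n with
  | zero => simp [onesN]
  | succ n ih =>
    rw [onesN_succ]
    have h : 2 ^ (28 * (n + 1)) = 2 ^ 28 * 2 ^ (28 * n) := by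
      rw [← pow_add]; congr 1; ring
    rw [h]
    have : 0 < 2 ^ (28 * n) := Nat.two_pow_pos _
    nlinarith

theorem ONES_eq : ONES = onesN 28 := by decide +kernel

theorem col_lt (M j : ℕ) : col M j < 2 ^ 28 := by
  unfold col
  have : (M >>> (28 * j)) &&& 268435455 ≤ 268435455 := Nat.and_le_right
  omega

theorem and_onesN_succ (y n : ℕ) :
    y &&& onesN (n + 1) = 2 ^ (28 * n) * (y.testBit (28 * n)).toNat + (y &&& onesN n) := by
  have h1 : onesN (n + 1) = 2 ^ (28 * n) * 1 ||| onesN n := by
    rw [onesN_succ, ← Nat.two_pow_add_eq_or_of_lt (onesN_lt n) 1, Nat.mul_one, Nat.add_comm]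
  have h2 : y &&& onesN n < 2 ^ (28 * n) := lt_of_le_of_lt Nat.and_le_right (onesN_lt n)
  rw [h1, Nat.and_or_distrib_left, Nat.mul_one, Nat.and_two_pow,
    Nat.two_pow_add_eq_or_of_lt h2, Nat.mul_comm]

/-- Multiplication by a number with at most one bit in every block. -/
theorem sparse_mul (c y : ℕ) (hc : c < 2 ^ 28) : ∀ n : ℕ,
    c * (y &&& onesN n) < 2 ^ (28 * n) ∧ ∀ j i : ℕ, i < 28 →
      (c * (y &&& onesN n)).testBit (28 * j + i) =
        (decide (j < n) && (y.testBit (28 * j) && c.testBit i)) := by
  intro n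
  induction n with
  | zero =>
    refine ⟨by simp [onesN], ?_⟩
    intro j i _
    simp [onesN]
  | succ n ih =>
    obtain ⟨ih1, ih2⟩ := ih
    rw [and_onesN_succ]
    have e : c * (2 ^ (28 * n) * (y.testBit (28 * n)).toNat + (y &&& onesN n)) =
        2 ^ (28 * n) * (c * (y.testBit (28 * n)).toNat) + c * (y &&& onesN n) := by ring
    rw [e]
    have hb : c * (y.testBit (28 * n)).toNat < 2 ^ 28 := by
      cases y.testBit (28 * n)
      · simp
      · simpa using hc
    refine ⟨?_, ?_⟩
    · have h : 2 ^ (28 * (n + 1)) = 2 ^ (28 * n) * 2 ^ 28 := by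
        rw [← pow_add]; congr 1
      rw [h]
      have : 0 < 2 ^ (28 * n) := Nat.two_pow_pos _
      nlinarith
    · intro j i hi
      rw [Nat.testBit_two_pow_mul_add _ ih1]
      by_cases hjn : j < n
      · have h1 : 28 * j + i < 28 * n := by omega
        have h2 : j < n + 1 := by omega
        rw [if_pos h1, ih2 j i hi]
        simp [hjn, h2]
      · have h1 : ¬ 28 * j + i < 28 * n := by omega
        rw [if_neg h1]
        by_cases hj : j = n
        · subst hj
          have h2 : 28 * j + i - 28 * j = i := by omega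
          rw [h2]
          cases hy : y.testBit (28 * j) <;> simp
        · have h2 : 28 ≤ 28 * j + i - 28 * n := by omega
          have h3 : (c * (y.testBit (28 * n)).toNat).testBit (28 * j + i - 28 * n) = false := by
            apply Nat.testBit_lt_two_pow
            calc c * (y.testBit (28 * n)).toNat < 2 ^ 28 := hb
              _ ≤ 2 ^ (28 * j + i - 28 * n) := Nat.pow_le_pow_right (by norm_num) h2
          have h4 : ¬ j < n + 1 := by omega
          rw [h3]
          simp [h4]

/-- The partial products of matrices. -/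
def mulP (A B : ℕ) (n : ℕ) : ℕ :=
  Nat.rec 0 (fun k acc => acc ^^^ (col A k * ((B >>> k) &&& ONES))) n

theorem mulP_succ (A B n : ℕ) :
    mulP A B (n + 1) = mulP A B n ^^^ (col A n * ((B >>> n) &&& ONES)) := rfl

theorem mul_eq (A B : ℕ) : mul A B = mulP A B 28 := rfl

theorem bit_testBit_mulP (A B j i : ℕ) (hj : j < 28) (hi : i < 28) (n : ℕ) :
    bit ((mulP A B n).testBit (28 * j + i)) =
      ∑ k ∈ Finset.range n, bit (A.testBit (28 * k + i)) * bit (B.testBit (28 * j + k)) := by
  induction n with
  | zero => simp [mulP, bit]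
  | succ n ih =>
    rw [mulP_succ, Nat.testBit_xor, bit_xor, ih, Finset.sum_range_succ, ONES_eq,
      (sparse_mul (col A n) (B >>> n) (col_lt A n) 28).2 j i hi, testBit_col,
      Nat.testBit_shiftRight]
    have h1 : decide (j < 28) = true := by simp [hj]
    have h2 : decide (i < 28) = true := by simp [hi]
    rw [h1, h2, Bool.true_and, Bool.and_true, bit_and, Nat.add_comm n (28 * j)]
    congr 1
    exact mul_comm _ _

theorem toMat_mul (A B : ℕ) : toMat (mul A B) = toMat A * toMat B := by
  funext i j
  rw [Matrix.mul_apply]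
  unfold toMat
  rw [mul_eq, bit_testBit_mulP A B j.val i.val j.isLt i.isLt 28,
    ← sum_fin28 (fun k => bit (A.testBit (28 * k + i.val)) * bit (B.testBit (28 * j.val + k)))]

/-- The identity matrix. -/
def one : ℕ := Nat.rec 0 (fun j acc => acc ||| (1 <<< (29 * j))) 28

theorem toMat_one' : ∀ p : Fin 28 × Fin 28, toMat one p.1 p.2 = (1 : Mat) p.1 p.2 := by
  decide +kernel

theorem toMat_one : toMat one = 1 := by
  funext i j
  exact toMat_one' (i, j)

/-- Decoded matrices agree iff the low 784 bits agree. -/
theorem toMat_inj {M N : ℕ} (hM : M < 2 ^ 784) (hN : N < 2 ^ 784) (h : toMat M = toMat N) :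
    M = N := by
  apply Nat.eq_of_testBit_eq
  intro b
  by_cases hb : b < 784
  · have e : b = 28 * (b / 28) + b % 28 := by omega
    have h1 : b / 28 < 28 := by omega
    have h2 : b % 28 < 28 := Nat.mod_lt _ (by norm_num)
    have h3 := congrFun (congrFun h ⟨b % 28, h2⟩) ⟨b / 28, h1⟩
    unfold toMat at h3
    have h4 := bit_inj h3
    simp only at h4
    rw [← e] at h4
    exact h4
  · have hle : 2 ^ 784 ≤ 2 ^ b := Nat.pow_le_pow_right (by norm_num) (by omega)
    rw [Nat.testBit_lt_two_pow (lt_of_lt_of_le hM hle),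
      Nat.testBit_lt_two_pow (lt_of_lt_of_le hN hle)]

end Cfsg.Agent.Helper26.BM28
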