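import Mathlib
import Cfsg.Prelude.Def_Blocks
import Cfsg.Agent.Lib.Helper24.CharIntegral
import Cfsg.Agent.Lib.Helper23.BlockBrauer2

/-!
# The square of a central character value

For an irreducible character `χ` and an element `a` with class `K`,
`ω_χ(a)² χ(1) = |K| ∑_{b ∈ K} χ(a b)`.
-/

set_option autoImplicit false

namespace Cfsg.Agent.Helper26.BlkSq

open Cfsg Cfsg.Agent.Helper24

universe u

variable {G : Type u} [Group G] [Fintype G] [DecidableEq G]

/-- the sum of `χ (b b')` over the class does not depend on the element `b` of the class -/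
theorem sum_mul_class {χ : G → ℂ} (hχ : IsClassFunction G χ) (a : G) [DecidablePred (IsConj a)]
    {b : G} (hb : IsConj a b) :
    ∑ b' ∈ Finset.univ.filter (IsConj a), χ (b * b') =
      ∑ b' ∈ Finset.univ.filter (IsConj a), χ (a * b') := by
  obtain ⟨c, hc⟩ := isConj_iff.mp hb
  symm
  apply Finset.sum_bij (fun b' _ => c * b' * c⁻¹)
  · intro b' hb'
    rw [Finset.mem_filter] at hb' ⊢
    refine ⟨Finset.mem_univ _, ?_⟩
    exact hb'.2.trans (isConj_iff.mpr ⟨c, rfl⟩)
  · intro x _ y _ h
    have := congrArg (fun z => c⁻¹ * z * c) h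
    simpa [mul_assoc] using this
  · intro y hy
    rw [Finset.mem_filter] at hy
    refine ⟨c⁻¹ * y * c, ?_, by group⟩
    rw [Finset.mem_filter]
    refine ⟨Finset.mem_univ _, ?_⟩
    exact hy.2.trans (isConj_iff.mpr ⟨c⁻¹, by group⟩)
  · intro b' _
    have : b * (c * b' * c⁻¹) = c * (a * b') * c⁻¹ := by
      rw [← hc]; group
    rw [this, hχ]

/-- `ω_χ(a)² χ(1) = |K| ∑_{b ∈ K} χ(a b)` -/
theorem centralChar_sq_mul {χ : G → ℂ} (hχ : IsIrrCharacter G χ) (a : G)
    [DecidablePred (IsConj a)] :
    centralChar χ a ^ 2 * χ 1 =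
      ((Finset.univ.filter (IsConj a)).card : ℂ) *
        ∑ b ∈ Finset.univ.filter (IsConj a), χ (a * b) := by
  have h1 := centralChar_mul_eq_sum hχ a 1
  have hcf := isClassFunction_of_isIrrCharacter hχ
  calc centralChar χ a ^ 2 * χ 1 = centralChar χ a * (centralChar χ a * χ 1) := by ring
    _ = centralChar χ a * ∑ b ∈ Finset.univ.filter (IsConj a), χ (1 * b) := by rw [h1]
    _ = ∑ b ∈ Finset.univ.filter (IsConj a), centralChar χ a * χ b := by
        rw [Finset.mul_sum]; simp only [one_mul]
    _ = ∑ b ∈ Finset.univ.filter (IsConj a),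
          ∑ b' ∈ Finset.univ.filter (IsConj a), χ (b * b') := by
        apply Finset.sum_congr rfl
        intro b _
        exact centralChar_mul_eq_sum hχ a b
    _ = ∑ _b ∈ Finset.univ.filter (IsConj a),
          ∑ b' ∈ Finset.univ.filter (IsConj a), χ (a * b') := by
        apply Finset.sum_congr rfl
        intro b hb
        rw [Finset.mem_filter] at hb
        exact sum_mul_class hcf a hb.2
    _ = _ := by
        rw [Finset.sum_const, nsmul_eq_mul]

end Cfsg.Agent.Helper26.BlkSq
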