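import Mathlib
import Cfsg.Agent.Lib.Helper26.CG3Defs
import Cfsg.Agent.Lib.Helper18.CG3E1
import Cfsg.Agent.Lib.Helper25.CG3E2
import Cfsg.Agent.Lib.Helper15.CG3E3

/-!
# S3412 (helper26): pieces X1 and E4/E5 (precautionary copies under prefixed names).
-/

set_option autoImplicit false

namespace Cfsg.Agent.Helper26.CG3

/-- X1 (generic): extend the graph bijection by `1 ↦ 1` -/
theorem h26_exists_ext {H M : Type*} [Group H] [Group M]
    (f : {h : H // h ≠ 1} ≃ {g : M // g ≠ 1})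
    (hf : ∀ x y : {h : H // h ≠ 1}, (x : H) * y = y * x ↔ ((f x) : M) * (f y) = (f y) * (f x)) :
    ∃ F : H ≃ M, F 1 = 1 ∧ ∀ x y : H, x * y = y * x ↔ F x * F y = F y * F x := by
  classical
  let F : H ≃ M :=
    { toFun := fun h => if hh : h = 1 then 1 else (f ⟨h, hh⟩ : M)
      invFun := fun g => if hg : g = 1 then 1 else (f.symm ⟨g, hg⟩ : H)
      left_inv := by
        intro h
        by_cases hh : h = 1
        · simp [hh]
        · have h2 : ((f ⟨h, hh⟩ : {g : M // g ≠ 1}) : M) ≠ 1 := (f ⟨h, hh⟩).2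
          simp [hh, h2]
      right_inv := by
        intro g
        by_cases hg : g = 1
        · simp [hg]
        · have h2 : ((f.symm ⟨g, hg⟩ : {h : H // h ≠ 1}) : H) ≠ 1 := (f.symm ⟨g, hg⟩).2
          simp [hg, h2] }
  refine ⟨F, by simp [F], ?_⟩
  intro x y
  by_cases hx : x = 1
  · subst hx
    simp [F]
  by_cases hy : y = 1
  · subst hy
    simp [F]
  have h3 := hf ⟨x, hx⟩ ⟨y, hy⟩
  simp only [F, Equiv.coe_fn_mk, dif_neg hx, dif_neg hy]
  exact h3

/-- E4 -/
theorem h26_decM_I0 : decM I0 = 1 := by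
  ext i j
  fin_cases i <;> fin_cases j <;> simp [decM, dig, I0] <;> rfl

/-- E5 (from E1-E4) -/
theorem h26_exists_codeSL : ∃ Φ : Matrix.SpecialLinearGroup (Fin 3) (ZMod 3) ≃ Code,
    Φ 1 = e0 ∧ ∀ A B : Matrix.SpecialLinearGroup (Fin 3) (ZMod 3), A * B = B * A ↔ Rc (Φ A) (Φ B) := by
  classical
  let Ψ : Code → Matrix.SpecialLinearGroup (Fin 3) (ZMod 3) :=
    fun n => ⟨decM n.1, (cdet_iff n.1).1 n.2.2⟩
  have hinj : Function.Injective Ψ := by
    intro m n h
    apply Subtype.ext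
    exact decM_injOn m.1 n.1 m.2.1 n.2.1 (congrArg Subtype.val h)
  have hsurj : Function.Surjective Ψ := by
    intro A
    obtain ⟨n, hn, hA⟩ := decM_surj A.1
    refine ⟨⟨n, hn, (cdet_iff n).2 (by rw [hA]; exact A.2)⟩, Subtype.ext hA⟩
  let E : Code ≃ Matrix.SpecialLinearGroup (Fin 3) (ZMod 3) := Equiv.ofBijective Ψ ⟨hinj, hsurj⟩
  refine ⟨E.symm, ?_, ?_⟩
  · rw [Equiv.symm_apply_eq]
    apply Subtype.ext
    show (1 : Matrix (Fin 3) (Fin 3) (ZMod 3)) = decM I0
    exact h26_decM_I0.symm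
  · intro A B
    obtain ⟨a, rfl⟩ := E.surjective A
    obtain ⟨b, rfl⟩ := E.surjective B
    simp only [Equiv.symm_apply_apply]
    show _ ↔ cb a.1 b.1 = true
    rw [cb_iff]
    constructor
    · intro h
      exact congrArg Subtype.val h
    · intro h
      apply Subtype.ext
      exact h

end Cfsg.Agent.Helper26.CG3
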