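import Mathlib
import Cfsg.Agent.Lib.Helper26.CG3Defs
import Cfsg.Agent.Lib.Helper18.CG3G0
import Cfsg.Agent.Lib.Helper7.CG3G12
import Cfsg.Agent.Lib.Helper21.CG3G3
import Cfsg.Agent.Lib.Helper8.CG3SY
import Cfsg.Agent.Lib.Helper4.CG3G7B
import Cfsg.Agent.Lib.Helper9.CG3G7C

/-!
# S3412 (helper26), piece G7D: all involutions of `H` are conjugate to `t`.
-/

set_option autoImplicit false

namespace Cfsg.Agent.Helper26.CG3

universe u

variable {H : Type u} [Group H] [Finite H] {t : H}

omit [Finite H] in
/-- two distinct commuting involutions generate a four-group inside the centralizer of one of them -/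
theorem g7d_four_dvd (t x : H) (htt : t * t = 1) (hxx : x * x = 1) (hc : x * t = t * x) (ht1 : t ≠ 1) (hx1 : x ≠ 1)
    (htx : t ≠ x) : ∃ K : Subgroup H, K ≤ Subgroup.centralizer ({x} : Set H) ∧ Nat.card K = 4 := by
  have h1 : ∀ z : H, t * (t * z) = z := fun z => by rw [← mul_assoc, htt, one_mul]
  have h3 : ∀ z : H, x * (t * z) = t * (x * z) := fun z => by rw [← mul_assoc, hc, mul_assoc]
  have hti : t⁻¹ = t := inv_eq_of_mul_eq_one_left htt
  have hxi : x⁻¹ = x := inv_eq_of_mul_eq_one_left hxx
  let K : Subgroup H :=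
    { carrier := {g | g = 1 ∨ g = t ∨ g = x ∨ g = t * x}
      one_mem' := Or.inl rfl
      mul_mem' := by
        rintro a b (rfl | rfl | rfl | rfl) (rfl | rfl | rfl | rfl) <;>
          simp only [Set.mem_ofPred_eq, mul_assoc, h1, h3, hc, htt, hxx, mul_one, one_mul, true_or, or_true]
      inv_mem' := by
        rintro a (rfl | rfl | rfl | rfl) <;>
          simp only [Set.mem_ofPred_eq, mul_inv_rev, hti, hxi, hc, inv_one, true_or, or_true] }
  refine ⟨K, ?_, ?_⟩
  · intro g hg
    rw [Subgroup.mem_centralizer_singleton_iff]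
    rcases hg with rfl | rfl | rfl | rfl
    · simp
    · exact hc.symm
    · rfl
    · show t * x * x = x * (t * x)
      rw [h3, mul_assoc]
  · have htx1 : t * x ≠ 1 := by
      intro h
      apply htx
      have := congrArg (fun z => z * x) h
      simp only [mul_assoc, hxx, mul_one, one_mul] at this
      exact this
    have htxt : t * x ≠ t := by
      intro h
      apply hx1
      have := congrArg (fun z => t * z) h
      simp only [h1, htt] at this
      exact this
    have htxx : t * x ≠ x := by
      intro h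
      apply ht1
      have := congrArg (fun z => z * x) h
      simp only [mul_assoc, hxx, mul_one] at this
      exact this
    classical
    have hK : (K : Set H) = ((({1, t, x, t * x} : Finset H) : Finset H) : Set H) := by
      ext g
      simp only [Finset.coe_insert, Finset.coe_singleton, Set.mem_insert_iff, Set.mem_singleton_iff]
      rfl
    have : Nat.card K = Nat.card ((K : Set H)) := rfl
    rw [this, hK, Nat.card_coe_set_eq, Set.ncard_coe_finset]
    rw [Finset.card_insert_of_notMem, Finset.card_insert_of_notMem, Finset.card_insert_of_notMem,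
      Finset.card_singleton]
    · simp only [Finset.mem_singleton]
      exact fun h => htxx h.symm
    · simp only [Finset.mem_insert, Finset.mem_singleton, not_or]
      exact ⟨htx, fun h => htxt h.symm⟩
    · simp only [Finset.mem_insert, Finset.mem_singleton, not_or]
      exact ⟨fun h => ht1 h.symm, fun h => hx1 h.symm, fun h => htx1 h.symm⟩

/-- G7d (from SY1, SY2, G1, G3, G7b, G7c) -/
theorem one_class (h : LG H t) (x : H) (hx : orderOf x = 2) : IsConj t x := by
  have hcard := h.card
  have hot := order_t h
  have htt : t * t = 1 := by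
    have := pow_orderOf_eq_one t
    rwa [hot, pow_two] at this
  -- a Sylow 2-subgroup containing `x`
  have hA : IsPGroup 2 ↥(Subgroup.zpowers x) := by
    apply IsPGroup.of_card (n := 1)
    rw [Nat.card_zpowers, hx, pow_one]
  obtain ⟨T, hT, hxT, -⟩ := exists_sylow_between (⊤ : Subgroup H) (Subgroup.zpowers x)
    (Or.inr (by rw [Subgroup.card_top]; exact hcard)) hA le_top
  -- a Sylow 2-subgroup inside `C(t)`
  obtain ⟨T₀, hT₀, -, hT₀C⟩ := exists_sylow_between (Subgroup.centralizer ({t} : Set H)) (⊥ : Subgroup H)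
    (Or.inl h.cct) (IsPGroup.of_bot) bot_le
  obtain ⟨c, hc⟩ := conj_sylow hcard T T₀ hT hT₀
  have hx' : c * x * c⁻¹ ∈ T₀ := (hc x).1 (hxT (Subgroup.mem_zpowers x))
  have hord : orderOf (c * x * c⁻¹) = 2 := by
    have : c * x * c⁻¹ = MulAut.conj c x := by simp [MulAut.conj_apply]
    rw [this, MulEquiv.orderOf_eq]
    exact hx
  have hconj : IsConj x (c * x * c⁻¹) := isConj_iff.2 ⟨c, rfl⟩
  suffices hs : IsConj t (c * x * c⁻¹) from hs.trans hconj.symm
  set x' := c * x * c⁻¹ with hx'def
  have hxt : x' * t = t * x' := Subgroup.mem_centralizer_singleton_iff.1 (hT₀C hx')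
  have hxx : x' * x' = 1 := by
    have := pow_orderOf_eq_one x'
    rwa [hord, pow_two] at this
  have hx1 : x' ≠ 1 := by
    intro h1
    rw [h1, orderOf_one] at hord
    omega
  by_cases hxt' : x' = t
  · rw [hxt']
  rcases h.vals x' hxt.symm hx1 hxt' with h48 | h54 | h6 | h8
  · exact conj_of_cc48 h x' hord h48
  · exfalso
    have := order_of_cc54 h x' hxt.symm h54
    omega
  · exfalso
    obtain ⟨K, hK, hK4⟩ := g7d_four_dvd t x' htt hxx hxt h.t_ne hx1 (fun e => hxt' e.symm)
    have := card_dvd_cc x' K hK
    rw [hK4, h6] at this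
    omega
  · exfalso
    exact no_invol_cc8 hcard t x' hot hord hxt' hxt.symm h8 (h.yab x' hxt.symm h8) (h.yval x' hxt.symm h8)

end Cfsg.Agent.Helper26.CG3
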