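import Mathlib
import Cfsg.Agent.Lib.Helper26.CG3Defs
import Cfsg.Agent.Lib.Helper18.CG3G0
import Cfsg.Agent.Lib.Helper21.CG3G3
import Cfsg.Agent.Lib.Lead.CG3G8AF
import Cfsg.Agent.Lib.Lead.CG3G8B
import Cfsg.Agent.Lib.Helper8.CG3G8D
import Cfsg.Agent.Lib.Helper8.CG3G8E
import Cfsg.Agent.Lib.Lead.CG3G8G
import Cfsg.Agent.Lib.Helper3.L33_C1

/-!
# S3412 (helper26), piece G8H: `H` is simple.
-/

set_option autoImplicit false

namespace Cfsg.Agent.Helper26.CG3

universe u

variable {H : Type u} [Group H] [Finite H] {t : H}

/-- G8h (from G3, G8a-G8g, `Cfsg.Agent.Helper26.L33.c1_divisors`) -/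
theorem simple_of_LG (h : LG H t) : IsSimpleGroup H := by
  have hcard := h.card
  obtain ⟨x, hcx⟩ := h.x13
  have hox := order_of_cc13 hcard x hcx
  have hneY : Nonempty {g : H // t * g = g * t ∧ cc g = 8} := by
    have h18 := h.nY
    by_contra hcon
    rw [not_nonempty_iff] at hcon
    rw [Nat.card_of_isEmpty] at h18
    omega
  have hneU : Nonempty {g : H // t * g = g * t ∧ cc g = 54} := by
    have h8 := h.nU
    by_contra hcon
    rw [not_nonempty_iff] at hcon
    rw [Nat.card_of_isEmpty] at h8
    omega
  obtain ⟨⟨y, hy, hcy⟩⟩ := hneY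
  obtain ⟨⟨u, hu, hcu⟩⟩ := hneU
  have hou := order_of_cc54 h u hu hcu
  have hoy : orderOf y ∣ 8 := by
    have := orderOf_dvd_cc y
    rwa [hcy] at this
  have hnt : Nontrivial H := by
    apply Finite.one_lt_card_iff_nontrivial.1
    rw [hcard]
    norm_num
  refine { exists_pair_ne := hnt.exists_pair_ne, eq_bot_or_eq_top_of_normal := ?_ }
  intro N hN
  have hidx : Nat.card N * N.index = 5616 := by rw [N.card_mul_index, hcard]
  by_cases h13 : 13 ∣ Nat.card N
  · rcases normal_of_13_dvd hcard x hox hcx N hN h13 with h1 | h1
    · exfalso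
      have hi : N.index = 3 := by
        rw [h1] at hidx
        omega
      have hyN : y ∈ N := by
        apply mem_normal_of_coprime N hN y
        rw [hi]
        exact Nat.Coprime.coprime_dvd_left hoy (by norm_num)
      have hcl := card_class_le N hN y hyN (fun g => orderOf g = 13)
        (by
          intro c hc13
          have hconj : c * y * c⁻¹ = MulAut.conj c y := by simp [MulAut.conj_apply]
          rw [hconj, MulEquiv.orderOf_eq] at hc13
          rw [hc13] at hoy
          omega)
        (by
          intro g hg
          apply mem_normal_of_coprime N hN g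
          rw [hi, hg]
          norm_num)
      have h1728 := card_order13 hcard x hox hcx
      rw [h1, hcy, hcard] at hcl
      omega
    · right
      apply (Subgroup.card_eq_iff_eq_top N).1
      rw [h1, hcard]
  · have hmod := normal_card_mod13 x hox hcx N hN h13
    have hdvd : Nat.card N ∣ 432 := by
      have h5616 : Nat.card N ∣ 13 * 432 := Dvd.intro _ hidx
      have hcop : Nat.Coprime (Nat.card N) 13 :=
        ((Nat.Prime.coprime_iff_not_dvd (by norm_num : Nat.Prime 13)).2 h13).symm
      exact hcop.dvd_of_dvd_mul_left h5616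
    rcases Cfsg.Agent.Helper26.L33.c1_divisors _ (Nat.mem_divisors.2 ⟨hdvd, by norm_num⟩) hmod with
      h1 | h1 | h1
    · left
      exact Subgroup.card_eq_one.1 h1
    · exfalso
      have hi : N.index = 208 := by
        rw [h1] at hidx
        omega
      have huN : u ∈ N := by
        apply mem_normal_of_coprime N hN u
        rw [hi, hou]
        norm_num
      have hcl := card_class_le N hN u huN (fun _ => False) (fun _ hF => hF) (fun _ hF => hF.elim)
      rw [h1, hcu, hcard] at hcl
      omega
    · exfalso
      have hi : N.index = 39 := by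
        rw [h1] at hidx
        omega
      have hyN : y ∈ N := by
        apply mem_normal_of_coprime N hN y
        rw [hi]
        exact Nat.Coprime.coprime_dvd_left hoy (by norm_num)
      have hcl := card_class_le N hN y hyN (fun _ => False) (fun _ hF => hF) (fun _ hF => hF.elim)
      rw [h1, hcy, hcard] at hcl
      omega

end Cfsg.Agent.Helper26.CG3
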