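import Mathlib
import Cfsg.Agent.Lib.Helper26.L33Defs
import Cfsg.Agent.Lib.Helper28.L33_C2
import Cfsg.Agent.Lib.Helper15.GL23SYL
import Cfsg.Agent.Lib.Helper15.L33_C4B_SYL
import Cfsg.Agent.Lib.Helper12.L33_C4B_CAP
import Cfsg.Agent.Lib.Helper28.L33_C4B_CEN
import Cfsg.Agent.Lib.Helper28.L33_C4B_NOR
import Cfsg.Agent.Lib.Helper28.L33_C4B_COMM
import Cfsg.Agent.Lib.Helper28.L33_C4B_GEN
import Cfsg.Agent.Lib.Helper14.L33_C4BCORE

/-!
# S2916, piece C4B (helper26): `|K| ≠ 9`.   Paper proof: plans/S2916_C4BC7.md.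
-/

set_option autoImplicit false

namespace Cfsg.Agent.Helper26.L33

open Cfsg

universe u

section AuxC4B

variable {G : Type u} [Group G]

theorem asm_order_ts {t u s : G} (ot : orderOf t = 2) (os : orderOf s = 2) (ou : orderOf u = 3)
    (hts : t * s = s * t) (htu : t * u = u * t) (hsu : s * u * s⁻¹ = u⁻¹) : orderOf (t * s) = 2 := by
  have ht2 : t ^ 2 = 1 := by rw [← ot]; exact pow_orderOf_eq_one t
  have hs2 : s ^ 2 = 1 := by rw [← os]; exact pow_orderOf_eq_one s
  refine orderOf_eq_prime ?_ ?_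
  · rw [(show Commute t s from hts).mul_pow, ht2, hs2, one_mul]
  · intro h1
    have hst : s = t⁻¹ := by
      rw [eq_inv_iff_mul_eq_one, ← hts]; exact h1
    have hcomm : s * u * s⁻¹ = u := by
      rw [hst, inv_inv]
      have : t⁻¹ * u = u * t⁻¹ := by
        calc t⁻¹ * u = t⁻¹ * (u * t) * t⁻¹ := by group
          _ = t⁻¹ * (t * u) * t⁻¹ := by rw [htu]
          _ = u * t⁻¹ := by group
      rw [this]; group
    have hu2 : u ^ 2 = 1 := by
      have : u = u⁻¹ := hcomm.symm.trans hsu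
      calc u ^ 2 = u * u := pow_two u
        _ = u * u⁻¹ := by rw [← this]
        _ = 1 := mul_inv_cancel u
    have := orderOf_dvd_of_pow_eq_one hu2
    rw [ou] at this
    norm_num at this

end AuxC4B

section C4B

variable {G : Type u} [Group G] [Finite G] [IsSimpleGroup G]

/-- PIECE C4B -/
theorem K_ne_nine {t u s : G} {K : Subgroup G} (h : Cfg1 G t u s K) : Nat.card K ≠ 9 := by
  intro h9
  have hC18 : Nat.card (Subgroup.centralizer ({u} : Set G)) = 18 := by rw [h.cardCentU, h9]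
  obtain ⟨P0, hKP, hP27⟩ := c4b_sylow h.card K h9
  have hcap := c4b_cap K P0 h9 hP27 hKP h.K_le hC18
  obtain ⟨z, hzP, hz1, hzc⟩ := c4b_center P0 hP27
  have hnor := c4b_normal K P0 h9 hP27 hKP
  have hab := c4b_comm K h9
  have huP : u ∈ P0 := hKP h.uK
  have hzK : z ∈ K := hcap z hzP (hzc u huP).symm
  have hzB : ¬ IsConj u z := by
    intro hconj
    obtain ⟨c, hc⟩ := isConj_iff.mp hconj
    have h1 : Nat.card (Subgroup.centralizer ({z} : Set G)) = 18 := by
      rw [← hc, Cfsg.Agent.Helper15.GL23.SYL.card_centralizer_conj, hC18]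
    have h2 : P0 ≤ Subgroup.centralizer ({z} : Set G) := by
      intro x hx
      rw [Subgroup.mem_centralizer_singleton_iff]
      exact hzc x hx
    have h3 := Subgroup.card_dvd_of_le h2
    rw [hP27, h1] at h3
    norm_num at h3
  have hd : orderOf z ∣ 3 ^ 2 := by
    have := Subgroup.orderOf_dvd_natCard K hzK
    rwa [h9] at this
  obtain ⟨m, hm2, hm⟩ := (Nat.dvd_prime_pow Nat.prime_three).mp hd
  have hnot : ∀ τ : G, orderOf τ = 2 → τ * z = z * τ → False := fun τ hτ hc =>
    hzB (atype h.toCfg z τ hτ hc ⟨m, hm⟩ hz1)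
  have hzu : z ∉ Subgroup.zpowers u := by
    intro hmem
    obtain ⟨k, hk⟩ := Subgroup.mem_zpowers_iff.mp hmem
    apply hnot t h.ot
    rw [← hk]
    exact (Commute.zpow_right (show Commute t u from h.tu) k).eq
  obtain ⟨x, hxP, hxK⟩ : ∃ x ∈ P0, x ∉ K := by
    by_contra hcon
    have hle : P0 ≤ K := fun x hx => by
      by_contra hxK
      exact hcon ⟨x, hx, hxK⟩
    have := Subgroup.card_le_of_le hle
    omega
  have hx1 : x * u ≠ u * x := fun hc => hxK (hcap x hxP hc)
  have oz : orderOf z = 3 := by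
    have hm3 : m = 0 ∨ m = 1 ∨ m = 2 := by omega
    rcases hm3 with rfl | rfl | rfl
    · exfalso
      rw [pow_zero, orderOf_eq_one_iff] at hm
      exact hz1 hm
    · simpa using hm
    · exfalso
      have hle : Subgroup.zpowers z ≤ K := (Subgroup.zpowers_le).mpr hzK
      have hcz : Nat.card (Subgroup.zpowers z) = 9 := by rw [Nat.card_zpowers, hm]; norm_num
      have heq : Subgroup.zpowers z = K := Subgroup.eq_of_le_of_card_ge hle (by rw [hcz, h9])
      have hu : u ∈ Subgroup.zpowers z := by rw [heq]; exact h.uK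
      obtain ⟨k, hk⟩ := Subgroup.mem_zpowers_iff.mp hu
      apply hx1
      rw [← hk]
      exact (Commute.zpow_right (show Commute x z from hzc x hxP) k).eq
  have hgen := c4b_gen K h9 hab u z h.uK hzK h.ou oz hzu
  have hx2 : x ^ 2 * u ≠ u * x ^ 2 := by
    intro hc
    have h2 : x ^ 2 ∈ K := hcap (x ^ 2) (P0.pow_mem hxP 2) hc
    have hx27 : x ^ 27 = 1 := by
      have := Subgroup.orderOf_dvd_natCard P0 hxP
      rw [hP27] at this
      exact orderOf_dvd_iff_pow_eq_one.mp this
    have : x = (x ^ 2) ^ 14 := by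
      rw [← pow_mul, show 2 * 14 = 27 + 1 by norm_num, pow_succ, hx27, one_mul]
    apply hxK
    rw [this]
    exact K.pow_mem h2 14
  have htC : t ∈ Subgroup.centralizer ({u} : Set G) := by
    rw [Subgroup.mem_centralizer_singleton_iff]; exact h.tu
  have htK : ∀ k ∈ K, t * k * t⁻¹ ∈ K := fun k hk => h.normK t htC k hk
  have ots := asm_order_ts h.ot h.os h.ou h.ts h.tu h.su
  rcases c4b_core K t s u z x hab hgen h.ou oz hzu h.uK hzK h.ot h.os h.ts h.tu h.su htK h.sK h.fixt
      (hnor x hxP) (hzc x hxP) hx1 hx2 with hc | hc | hc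
  · exact hzB hc
  · exact hnot s h.os hc
  · exact hnot (t * s) ots hc

end C4B

end Cfsg.Agent.Helper26.L33
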