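import Mathlib

/-!
# S2916, sub-piece C7-COS (helper26): `C(x) = P ∪ Pτ`
-/

set_option autoImplicit false

namespace Cfsg.Agent.Helper26.L33

universe u

section COS

variable {G : Type u} [Group G]

/-- C7-COS -/
theorem c7_coset [Finite G] (P : Subgroup G) (hP : Nat.card P = 27) (x τ : G)
    (hC : Nat.card (Subgroup.centralizer ({x} : Set G)) = 54) (hPx : P ≤ Subgroup.centralizer ({x} : Set G))
    (hτ : orderOf τ = 2) (hτx : τ * x = x * τ) : ∀ y : G, y * x = x * y → y ∈ P ∨ y * τ ∈ P := by
  intro y hy
  have hcardH : Nat.card (P.subgroupOf (Subgroup.centralizer ({x} : Set G))) = 27 := by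
    rw [Nat.card_congr (Subgroup.subgroupOfEquivOfLe hPx).toEquiv, hP]
  have hidx : (P.subgroupOf (Subgroup.centralizer ({x} : Set G))).index = 2 := by
    have := Subgroup.index_mul_card (P.subgroupOf (Subgroup.centralizer ({x} : Set G)))
    rw [hcardH, hC] at this
    omega
  have hτC : τ ∈ Subgroup.centralizer ({x} : Set G) :=
    Subgroup.mem_centralizer_singleton_iff.mpr hτx
  have hyC : y ∈ Subgroup.centralizer ({x} : Set G) :=
    Subgroup.mem_centralizer_singleton_iff.mpr hy
  have hτP : τ ∉ P := by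
    intro hmem
    have := Subgroup.orderOf_dvd_natCard P hmem
    rw [hτ, hP] at this
    norm_num at this
  by_cases hyP : y ∈ P
  · exact Or.inl hyP
  · right
    have key := Subgroup.mul_mem_iff_of_index_two hidx
      (a := (⟨y, hyC⟩ : Subgroup.centralizer ({x} : Set G))) (b := ⟨τ, hτC⟩)
    rw [Subgroup.mem_subgroupOf, Subgroup.mem_subgroupOf, Subgroup.mem_subgroupOf] at key
    exact key.mpr ⟨fun h => absurd h hyP, fun h => absurd h hτP⟩

end COS

end Cfsg.Agent.Helper26.L33
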