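import Mathlib

/-!
# S2916, sub-piece C7-CYC (helper26): no element of `N(P)` induces a 3-cycle on the cosets `Pt, Ps, Pts`
-/

set_option autoImplicit false

namespace Cfsg.Agent.Helper26.L33

universe u

section CYC

variable {G : Type u} [Group G]

/-- the weak normalizing condition is closed under products -/
theorem c7cyc_nrm_mul (P : Subgroup G) (g g' : G) (hg : ∀ p ∈ P, g * p * g⁻¹ ∈ P)
    (hg' : ∀ p ∈ P, g' * p * g'⁻¹ ∈ P) : ∀ p ∈ P, (g * g') * p * (g * g')⁻¹ ∈ P := by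
  intro p hp
  have := hg _ (hg' p hp)
  rwa [show g * (g' * p * g'⁻¹) * g⁻¹ = g * g' * p * (g * g')⁻¹ by group] at this

theorem c7cyc_nrm_pow (P : Subgroup G) (g : G) (hg : ∀ p ∈ P, g * p * g⁻¹ ∈ P) (n : ℕ) :
    ∀ p ∈ P, g ^ n * p * (g ^ n)⁻¹ ∈ P := by
  induction n with
  | zero => intro p hp; simpa using hp
  | succ n ih =>
    rw [pow_succ]
    exact c7cyc_nrm_mul P _ _ ih hg

/-- conjugation carries a coset `P x` to the coset `P (g x g⁻¹)` -/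
theorem c7cyc_conj_coset (P : Subgroup G) (g x y z : G) (hg : ∀ p ∈ P, g * p * g⁻¹ ∈ P)
    (hx : ∃ p ∈ P, x = p * y) (hy : ∃ p ∈ P, g * y * g⁻¹ = p * z) : ∃ p ∈ P, g * x * g⁻¹ = p * z := by
  obtain ⟨p, hp, rfl⟩ := hx
  obtain ⟨q, hq, hq'⟩ := hy
  refine ⟨g * p * g⁻¹ * q, P.mul_mem (hg p hp) hq, ?_⟩
  calc g * (p * y) * g⁻¹ = g * p * g⁻¹ * (g * y * g⁻¹) := by group
    _ = g * p * g⁻¹ * (q * z) := by rw [hq']
    _ = g * p * g⁻¹ * q * z := by group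

theorem c7cyc_cube (P : Subgroup G) (t s h : G) (hs2 : s * s = 1) (hts : t * s = s * t)
    (hsP : ∀ p ∈ P, s * p * s⁻¹ ∈ P) (hhP : ∀ p ∈ P, h * p * h⁻¹ ∈ P)
    (h1 : ∃ p ∈ P, h * t * h⁻¹ = p * s) (h2 : ∃ p ∈ P, h * s * h⁻¹ = p * (t * s)) :
    ∃ p ∈ P, h ^ 3 * t * (h ^ 3)⁻¹ = p * t := by
  -- `h (t s) h⁻¹ ∈ P t`
  have h3 : ∃ p ∈ P, h * (t * s) * h⁻¹ = p * t := by
    obtain ⟨p, hp, e1⟩ := h1
    obtain ⟨q, hq, e2⟩ := h2
    refine ⟨p * (s * q * s⁻¹), P.mul_mem hp (hsP q hq), ?_⟩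
    have hsinv : s⁻¹ = s := inv_eq_of_mul_eq_one_right hs2
    calc h * (t * s) * h⁻¹ = (h * t * h⁻¹) * (h * s * h⁻¹) := by group
      _ = (p * s) * (q * (t * s)) := by rw [e1, e2]
      _ = p * (s * q * s⁻¹) * (s * (t * s)) := by group
      _ = p * (s * q * s⁻¹) * t := by
          congr 1
          calc s * (t * s) = s * (s * t) := by rw [hts]
            _ = (s * s) * t := by group
            _ = t := by rw [hs2, one_mul]
  -- `h² t h⁻² ∈ P (t s)`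
  have e2 : ∃ p ∈ P, h * (h * t * h⁻¹) * h⁻¹ = p * (t * s) :=
    c7cyc_conj_coset P h _ s _ hhP h1 h2
  have e3 : ∃ p ∈ P, h * (h * (h * t * h⁻¹) * h⁻¹) * h⁻¹ = p * t :=
    c7cyc_conj_coset P h _ (t * s) _ hhP e2 h3
  obtain ⟨p, hp, e⟩ := e3
  refine ⟨p, hp, ?_⟩
  rw [← e]
  have h3' : h ^ 3 = h * h * h := by rw [pow_succ, pow_succ, pow_one]
  rw [h3']
  group

theorem c7cyc_pow_cube (P : Subgroup G) (t c : G) (hcP : ∀ p ∈ P, c * p * c⁻¹ ∈ P)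
    (hc : ∃ p ∈ P, c * t * c⁻¹ = p * t) (j : ℕ) : ∃ p ∈ P, c ^ j * t * (c ^ j)⁻¹ = p * t := by
  induction j with
  | zero => exact ⟨1, P.one_mem, by simp⟩
  | succ j ih =>
    have := c7cyc_conj_coset P c _ t t hcP ih hc
    obtain ⟨p, hp, e⟩ := this
    refine ⟨p, hp, ?_⟩
    rw [← e, pow_succ']
    group

end CYC

section Main

variable {G : Type u} [Group G] [Finite G]

/-- a 3-element normalizing a subgroup of order 27 in a group of order 5616 lies in it -/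
theorem c7cyc_mem (hG : Nat.card G = 5616) (P : Subgroup G) (hP : Nat.card P = 27) (d : G) (k : ℕ)
    (hd : d ^ (3 ^ k) = 1) (hdP : ∀ p ∈ P, d * p * d⁻¹ ∈ P) : d ∈ P := by
  have : Fact (Nat.Prime 3) := ⟨Nat.prime_three⟩
  have hPp : IsPGroup 3 P := IsPGroup.of_card (n := 3) (by rw [hP]; norm_num)
  have hZp : IsPGroup 3 (Subgroup.zpowers d) := by
    have hdvd : orderOf d ∣ 3 ^ k := orderOf_dvd_of_pow_eq_one hd
    obtain ⟨j, -, hj⟩ := (Nat.dvd_prime_pow Nat.prime_three).mp hdvd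
    exact IsPGroup.of_card (n := j) (by rw [Nat.card_zpowers, hj])
  have hnorm : Subgroup.zpowers d ≤ Subgroup.normalizer (P : Set G) := by
    rw [Subgroup.zpowers_le]
    exact Subgroup.mem_normalizer_fintype hdP
  have hS := IsPGroup.to_sup_of_normal_right' hZp hPp hnorm
  obtain ⟨j, hj⟩ := (IsPGroup.iff_card).mp hS
  have hdvd : 3 ^ j ∣ 5616 := by
    rw [← hj, ← hG]
    exact Subgroup.card_subgroup_dvd_card _
  have hj3 : j ≤ 3 := by
    by_contra hcon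
    have h4 : 4 ≤ j := by omega
    have : 3 ^ 4 ∣ 5616 := (pow_dvd_pow 3 h4).trans hdvd
    norm_num at this
  have hle : Nat.card ↥(Subgroup.zpowers d ⊔ P) ≤ Nat.card P := by
    rw [hj, hP]
    calc 3 ^ j ≤ 3 ^ 3 := Nat.pow_le_pow_right (by norm_num) hj3
      _ = 27 := by norm_num
  have heq : P = Subgroup.zpowers d ⊔ P := Subgroup.eq_of_le_of_card_ge le_sup_right hle
  rw [heq]
  exact le_sup_left (a := Subgroup.zpowers d) (Subgroup.mem_zpowers d)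

/-- C7-CYC -/
theorem c7_no_three_cycle (hG : Nat.card G = 5616) (P : Subgroup G) (hP : Nat.card P = 27) (t s h : G)
    (ot : orderOf t = 2) (os : orderOf s = 2) (hts : t * s = s * t) (hne : t ≠ s)
    (htP : ∀ p ∈ P, t * p * t⁻¹ ∈ P) (hsP : ∀ p ∈ P, s * p * s⁻¹ ∈ P) (hhP : ∀ p ∈ P, h * p * h⁻¹ ∈ P)
    (h1 : ∃ p ∈ P, h * t * h⁻¹ = p * s) (h2 : ∃ p ∈ P, h * s * h⁻¹ = p * (t * s)) : False := by
  have ht2 : t * t = 1 := by
    have : t ^ 2 = 1 := by rw [← ot]; exact pow_orderOf_eq_one t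
    rwa [pow_two] at this
  have hs2 : s * s = 1 := by
    have : s ^ 2 = 1 := by rw [← os]; exact pow_orderOf_eq_one s
    rwa [pow_two] at this
  have htinv : t⁻¹ = t := inv_eq_of_mul_eq_one_right ht2
  -- the 3-part of `h`
  obtain ⟨k, m, hm, hn⟩ := Nat.exists_eq_pow_mul_and_not_dvd (orderOf_pos h).ne' 3 (by norm_num)
  have hm2 : m ^ 2 % 3 = 1 := by
    have h3 : m % 3 = 1 ∨ m % 3 = 2 := by omega
    rw [Nat.pow_mod]
    rcases h3 with h3 | h3 <;> rw [h3]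
  have hq : m ^ 2 = 3 * (m ^ 2 / 3) + 1 := by omega
  have hd3 : (h ^ (m ^ 2)) ^ (3 ^ k) = 1 := by
    rw [← pow_mul, show m ^ 2 * 3 ^ k = (3 ^ k * m) * m by ring, ← hn, pow_mul, pow_orderOf_eq_one, one_pow]
  have hdP := c7cyc_nrm_pow P h hhP (m ^ 2)
  have hdmem : h ^ (m ^ 2) ∈ P := c7cyc_mem hG P hP _ k hd3 hdP
  -- the action of `d = h^(m²)` on the coset of `t`
  have hc3 := c7cyc_cube P t s h hs2 hts hsP hhP h1 h2
  have hc3P := c7cyc_nrm_pow P h hhP 3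
  have hpow := c7cyc_pow_cube P t (h ^ 3) hc3P hc3 (m ^ 2 / 3)
  have hd : ∃ p ∈ P, h ^ (m ^ 2) * t * (h ^ (m ^ 2))⁻¹ = p * s := by
    have := c7cyc_conj_coset P h _ t s hhP hpow h1
    obtain ⟨p, hp, e⟩ := this
    refine ⟨p, hp, ?_⟩
    rw [← e]
    have : h ^ (m ^ 2) = h * (h ^ 3) ^ (m ^ 2 / 3) := by
      rw [← pow_mul, ← pow_succ']
      exact congrArg (h ^ ·) hq
    rw [this]
    group
  obtain ⟨p, hp, e⟩ := hd
  -- `s t ∈ P`
  have hmem : h ^ (m ^ 2) * (t * (h ^ (m ^ 2))⁻¹ * t⁻¹) ∈ P :=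
    P.mul_mem hdmem (htP _ (P.inv_mem hdmem))
  have hst : s * t ∈ P := by
    have e' : s * t = p⁻¹ * (h ^ (m ^ 2) * (t * (h ^ (m ^ 2))⁻¹ * t⁻¹)) := by
      calc s * t = p⁻¹ * (p * s) * t := by group
        _ = p⁻¹ * (h ^ (m ^ 2) * t * (h ^ (m ^ 2))⁻¹) * t := by rw [e]
        _ = p⁻¹ * (h ^ (m ^ 2) * (t * (h ^ (m ^ 2))⁻¹ * t)) := by group
        _ = p⁻¹ * (h ^ (m ^ 2) * (t * (h ^ (m ^ 2))⁻¹ * t⁻¹)) := by rw [htinv]
    rw [e']
    exact P.mul_mem (P.inv_mem hp) hmem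
  have hst2 : (s * t) ^ 2 = 1 := by
    rw [pow_two]
    calc s * t * (s * t) = s * (t * s) * t := by group
      _ = s * (s * t) * t := by rw [hts]
      _ = (s * s) * (t * t) := by group
      _ = 1 := by rw [hs2, ht2, one_mul]
  have ho : orderOf (s * t) ∣ 2 := orderOf_dvd_of_pow_eq_one hst2
  have ho' : orderOf (s * t) ∣ 27 := by
    have := Subgroup.orderOf_dvd_natCard P hst
    rwa [hP] at this
  have ho1 : s * t = 1 := by
    have := Nat.dvd_gcd ho ho'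
    norm_num at this
    exact this
  apply hne
  calc t = (s * s) * t := by rw [hs2, one_mul]
    _ = s * (s * t) := by group
    _ = s := by rw [ho1, mul_one]

end Main

end Cfsg.Agent.Helper26.L33
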