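import Mathlib
import Cfsg.Agent.Lib.Helper26.L33Defs
import Cfsg.Agent.Lib.Helper6.L33C5

/-!
# S2916, sub-piece C7-NOR (helper26): if `P` is abelian, an element carrying `u` to `x ∈ P` normalizes `P`
-/

set_option autoImplicit false

namespace Cfsg.Agent.Helper26.L33

universe u

section NOR

variable {G : Type u} [Group G] [Finite G] [IsSimpleGroup G]

/-- C7-NOR -/
theorem c7_norm {t u s : G} {P : Subgroup G} (h : Cfg2 G t u s P) (hab : ∀ x ∈ P, ∀ y ∈ P, x * y = y * x)
    (x g : G) (hx : x ∈ P) (hg : g * u * g⁻¹ = x) :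
    (∀ p ∈ P, g * p * g⁻¹ ∈ P) ∧ Nat.card (Subgroup.centralizer ({x} : Set G)) = 54 := by
  have hconj : IsConj u x := isConj_iff.mpr ⟨g, hg⟩
  obtain ⟨Q, hQ27, hQle, hC54, hQmax⟩ := uniq27 h x hconj
  refine ⟨?_, hC54⟩
  have hPle : P ≤ Subgroup.centralizer ({x} : Set G) := fun p hp =>
    Subgroup.mem_centralizer_singleton_iff.mpr (hab p hp x hx)
  have hPQ : P ≤ Q := hQmax P hPle ⟨3, by rw [h.cardP]; norm_num⟩
  have hPeq : P = Q := Subgroup.eq_of_le_of_card_ge hPQ (by rw [hQ27, h.cardP])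
  have hinj : Function.Injective (MulAut.conj g).toMonoidHom := (MulAut.conj g).injective
  have hcard : Nat.card (P.map (MulAut.conj g).toMonoidHom) = 27 := by
    rw [Subgroup.card_map_of_injective hinj, h.cardP]
  have hle : P.map (MulAut.conj g).toMonoidHom ≤ Subgroup.centralizer ({x} : Set G) := by
    rintro _ ⟨p, hp, rfl⟩
    rw [Subgroup.mem_centralizer_singleton_iff]
    have hpu : p * u = u * p := Subgroup.mem_centralizer_singleton_iff.mp (h.K_le hp)
    show g * p * g⁻¹ * x = x * (g * p * g⁻¹)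
    rw [← hg]
    calc g * p * g⁻¹ * (g * u * g⁻¹) = g * (p * u) * g⁻¹ := by group
      _ = g * (u * p) * g⁻¹ := by rw [hpu]
      _ = g * u * g⁻¹ * (g * p * g⁻¹) := by group
  have hmapQ : P.map (MulAut.conj g).toMonoidHom ≤ Q :=
    hQmax _ hle ⟨3, by rw [hcard]; norm_num⟩
  intro p hp
  rw [hPeq]
  apply hmapQ
  exact ⟨p, hp, rfl⟩

end NOR

end Cfsg.Agent.Helper26.L33
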