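import Mathlib
import Cfsg.Agent.Lib.Helper26.L33Defs
import Cfsg.Agent.Lib.Helper26.L33_C4B
import Cfsg.Agent.Lib.Helper15.L33_C7_AB
import Cfsg.Agent.Lib.Helper26.L33_C7_COS
import Cfsg.Agent.Lib.Helper26.L33_C7_CYC
import Cfsg.Agent.Lib.Helper14.L33_C7G
import Cfsg.Agent.Lib.Helper26.L33_C7_NOR

/-!
# S2916, piece C7 (helper26): `Z(P) = ⟨u⟩`.   Paper proof: plans/S2916_C4BC7.md.
-/

set_option autoImplicit false

namespace Cfsg.Agent.Helper26.L33

open Cfsg

universe u

section AuxC7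

variable {G : Type u} [Group G]

theorem asm_conj_comm (g s u t a : G) (hgu : g * u * g⁻¹ = a) (hsu : s * u * s⁻¹ = u⁻¹)
    (hta : t * a * t⁻¹ = a⁻¹) : (g * s * g⁻¹ * t) * a = a * (g * s * g⁻¹ * t) := by
  subst hgu
  have e1 : t * (g * u * g⁻¹) = (g * u * g⁻¹)⁻¹ * t := by rw [← hta]; group
  have e2 : s * u⁻¹ = u * s := by
    have h3 : s * u⁻¹ * s⁻¹ = u := by
      rw [show s * u⁻¹ * s⁻¹ = (s * u * s⁻¹)⁻¹ by group, hsu, inv_inv]
    calc s * u⁻¹ = (s * u⁻¹ * s⁻¹) * s := by group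
      _ = u * s := by rw [h3]
  calc g * s * g⁻¹ * t * (g * u * g⁻¹) = g * s * g⁻¹ * (t * (g * u * g⁻¹)) := by group
    _ = g * s * g⁻¹ * ((g * u * g⁻¹)⁻¹ * t) := by rw [e1]
    _ = g * (s * u⁻¹) * g⁻¹ * t := by group
    _ = g * (u * s) * g⁻¹ * t := by rw [e2]
    _ = g * u * g⁻¹ * (g * s * g⁻¹ * t) := by group

end AuxC7

section C7

variable {G : Type u} [Group G] [Finite G] [IsSimpleGroup G]

/-- PIECE C7 -/
theorem center_P {t u s : G} {P : Subgroup G} {a b : G} (h : Cfg3 G t u s P a b) :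
    ∀ z ∈ P, (∀ x ∈ P, z * x = x * z) → z ∈ Subgroup.zpowers u := by
  intro z hzP hzc
  by_contra hzu
  have h2 : Cfg2 G t u s P := h.toCfg2
  have hu : ∀ x ∈ P, u * x = x * u := fun x hx =>
    ((Subgroup.mem_centralizer_singleton_iff).mp (h.K_le hx)).symm
  have hab := c7_abelian P h.cardP u z h.ou h.uK hu hzP hzc hzu
  have ots := asm_order_ts h.ot h.os h.ou h.ts h.tu h.su
  have ht2 : t * t = 1 := by
    have : t ^ 2 = 1 := by rw [← h.ot]; exact pow_orderOf_eq_one t
    rwa [pow_two] at this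
  have hs2 : s * s = 1 := by
    have : s ^ 2 = 1 := by rw [← h.os]; exact pow_orderOf_eq_one s
    rwa [pow_two] at this
  have htinv : t⁻¹ = t := inv_eq_of_mul_eq_one_right ht2
  have hsinv : s⁻¹ = s := inv_eq_of_mul_eq_one_right hs2
  have hsa : s * a = a * s := by
    calc s * a = (s * a * s⁻¹) * s := by group
      _ = a * s := by rw [h.sa]
  have htsb : (t * s) * b = b * (t * s) := by
    have e1 : s * b = b⁻¹ * s := by
      calc s * b = (s * b * s⁻¹) * s := by group
        _ = b⁻¹ * s := by rw [h.sb]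
    have e2 : t * b⁻¹ = b * t := by
      have : t * b⁻¹ * t⁻¹ = b := by
        rw [show t * b⁻¹ * t⁻¹ = (t * b * t⁻¹)⁻¹ by group, h.tb, inv_inv]
      calc t * b⁻¹ = (t * b⁻¹ * t⁻¹) * t := by group
        _ = b * t := by rw [this]
    calc t * s * b = t * (s * b) := by group
      _ = t * (b⁻¹ * s) := by rw [e1]
      _ = (t * b⁻¹) * s := by group
      _ = (b * t) * s := by rw [e2]
      _ = b * (t * s) := by group
  obtain ⟨g, hgt, hgu⟩ := c7_exists_g h.toCfg s a h.os h.oa hsa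
  obtain ⟨g', hgt', hgu'⟩ := c7_exists_g h.toCfg (t * s) b ots h.ob htsb
  obtain ⟨hgP, hCa⟩ := c7_norm h2 hab a g h.aP hgu
  obtain ⟨hgP', hCb⟩ := c7_norm h2 hab b g' h.bP hgu'
  have hPa : P ≤ Subgroup.centralizer ({a} : Set G) := fun p hp =>
    Subgroup.mem_centralizer_singleton_iff.mpr (hab p hp a h.aP)
  have hPb : P ≤ Subgroup.centralizer ({b} : Set G) := fun p hp =>
    Subgroup.mem_centralizer_singleton_iff.mpr (hab p hp b h.bP)
  have cosa := c7_coset P h.cardP a s hCa hPa h.os hsa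
  have cosb := c7_coset P h.cardP b (t * s) hCb hPb ots htsb
  have h1 := asm_conj_comm g s u t a hgu h.su h.ta
  have h1' := asm_conj_comm g' s u t b hgu' h.su h.tb
  have htC : t ∈ Subgroup.centralizer ({u} : Set G) := by
    rw [Subgroup.mem_centralizer_singleton_iff]; exact h.tu
  have htP : ∀ p ∈ P, t * p * t⁻¹ ∈ P := fun p hp => h.normK t htC p hp
  have hsP := h.sK
  have htsP : ∀ p ∈ P, (t * s) * p * (t * s)⁻¹ ∈ P := fun p hp => by
    have := htP _ (hsP p hp)
    rwa [show t * (s * p * s⁻¹) * t⁻¹ = t * s * p * (t * s)⁻¹ by group] at this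
  have hs1 : s ≠ 1 := by
    intro hs
    have := h.os
    rw [hs, orderOf_one] at this
    norm_num at this
  have hne : t ≠ s := by
    intro hts
    have h3 := ots
    rw [hts, hs2, orderOf_one] at h3
    norm_num at h3
  rcases cosa _ h1 with hA | hA
  · rcases cosb _ h1' with hB | hB
    · -- `g'` is a 3-cycle for the pair `(t, t * s)`
      refine c7_no_three_cycle h.card P h.cardP t (t * s) g' h.ot ots ?_ ?_ htP htsP hgP'
        ⟨1, P.one_mem, by rw [hgt', one_mul]⟩
        ⟨(t * s) * (g' * s * g'⁻¹ * t) * (t * s)⁻¹, htsP _ hB, ?_⟩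
      · calc t * (t * s) = t * (s * t) := by rw [h.ts]
          _ = t * s * t := by group
      · intro hcon
        apply hs1
        calc s = t⁻¹ * (t * s) := by group
          _ = t⁻¹ * t := by rw [← hcon]
          _ = 1 := by group
      · calc g' * (t * s) * g'⁻¹ = (g' * t * g'⁻¹) * (g' * s * g'⁻¹) := by group
          _ = (t * s) * (g' * s * g'⁻¹) := by rw [hgt']
          _ = (t * s) * (g' * s * g'⁻¹ * t) * (t * s)⁻¹ * ((t * s) * t⁻¹) := by group
          _ = (t * s) * (g' * s * g'⁻¹ * t) * (t * s)⁻¹ * (t * (t * s)) := by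
              have e : (t * s) * t⁻¹ = t * (t * s) := by
                rw [htinv]
                calc t * s * t = t * (s * t) := by group
                  _ = t * (t * s) := by rw [h.ts]
              rw [e]
    · -- `g' * g` is a 3-cycle for the pair `(t, s)`
      refine c7_no_three_cycle h.card P h.cardP t s (g' * g) h.ot h.os h.ts hne htP hsP ?_
        ⟨g' * s * g'⁻¹ * t * (t * s), hB, ?_⟩
        ⟨g' * (g * s * g⁻¹ * t) * g'⁻¹, hgP' _ hA, ?_⟩
      · intro p hp
        have := hgP' _ (hgP p hp)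
        rwa [show g' * (g * p * g⁻¹) * g'⁻¹ = g' * g * p * (g' * g)⁻¹ by group] at this
      · calc g' * g * t * (g' * g)⁻¹ = g' * (g * t * g⁻¹) * g'⁻¹ := by group
          _ = g' * s * g'⁻¹ := by rw [hgt]
          _ = g' * s * g'⁻¹ * ((t * t) * (s * s)) := by rw [ht2, hs2, mul_one, mul_one]
          _ = g' * s * g'⁻¹ * t * (t * s) * s := by group
      · calc g' * g * s * (g' * g)⁻¹ = g' * (g * s * g⁻¹ * t) * g'⁻¹ * (g' * t⁻¹ * g'⁻¹) := by group
          _ = g' * (g * s * g⁻¹ * t) * g'⁻¹ * (g' * t * g'⁻¹) := by rw [htinv]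
          _ = g' * (g * s * g⁻¹ * t) * g'⁻¹ * (t * s) := by rw [hgt']
  · -- `g` is a 3-cycle for the pair `(t, s)`
    refine c7_no_three_cycle h.card P h.cardP t s g h.ot h.os h.ts hne htP hsP hgP
      ⟨1, P.one_mem, by rw [hgt, one_mul]⟩ ⟨g * s * g⁻¹ * t * s, hA, ?_⟩
    calc g * s * g⁻¹ = g * s * g⁻¹ * t * s * (s⁻¹ * t⁻¹) := by group
      _ = g * s * g⁻¹ * t * s * (t * s) := by rw [hsinv, htinv, h.ts]

end C7

end Cfsg.Agent.Helper26.L33
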