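import Mathlib
import Cfsg.Agent.Lib.Helper26.L33Defs
import Cfsg.Agent.Lib.Helper6.L33C3
import Cfsg.Agent.Lib.Helper28.L33_C4A
import Cfsg.Agent.Lib.Helper26.L33_C4B
import Cfsg.Agent.Lib.Helper28.L33_C4C
import Cfsg.Agent.Lib.Helper6.L33C6
import Cfsg.Agent.Lib.Helper26.L33_C7
import Cfsg.Agent.Lib.Helper6.L33C8B
import Cfsg.Agent.Lib.Helper6.L33C8C
import Cfsg.Agent.Lib.Helper6.L33C9
import Cfsg.Agent.Lib.Helper3.L33_C10
import Cfsg.Agent.Lib.Helper27.P13Main

/-!
# The section C chain of S2916 as one statement: a finite simple group with the configuration `Cfg` is `L₃(3)`.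
(helper26; used by S3412.)
-/

set_option autoImplicit false

namespace Cfsg.Agent.Helper26.L33

universe u

variable {G : Type u} [Group G] [Finite G]

theorem iso_of_cfg [IsSimpleGroup G] {t u s : G} (hc : Cfg G t u s) :
    Nonempty (G ≃* Matrix.ProjectiveSpecialLinearGroup (Fin 3) (ZMod 3)) := by
  classical
  have h := hc.card
  obtain ⟨K, hK⟩ := exists_K hc
  have h2 := cfg2_of_cfg1 hK (K_ne_three hK) (K_ne_nine hK)
  obtain ⟨a, b, h3⟩ := exists_cfg3 h2
  have hz := center_P h3
  have ga : Good G t u s K a := ⟨h3.aP, h3.au, h3.oa, h3.ta, Or.inl h3.sa⟩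
  have gb : Good G t u s K b := ⟨h3.bP, h3.bu, h3.ob, h3.tb, Or.inr h3.sb⟩
  have na := le_antisymm (card_normE_le h2 hz a ga) (card_normE_ge h2 hz a ga)
  have nb := le_antisymm (card_normE_le h2 hz b gb) (card_normE_ge h2 hz b gb)
  have ni := card_inter h3 hz
  have hnc : ∃ x y : G, x * y ≠ y * x := by
    by_contra hcon
    have hcomm : ∀ x y : G, x * y = y * x := by
      intro x y
      by_contra hxy
      exact hcon ⟨x, y, hxy⟩
    let _ : CommGroup G := { ‹Group G› with mul_comm := hcomm }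
    have hp := IsSimpleGroup.prime_card (α := G)
    rw [h] at hp
    norm_num at hp
  obtain ⟨hfaith, h13, B, hB, hinv⟩ := plane13 hnc
    (Subgroup.normalizer ((Subgroup.closure ({u, a} : Set G) : Subgroup G) : Set G))
    (Subgroup.normalizer ((Subgroup.closure ({u, b} : Set G) : Subgroup G) : Set G))
    (by rw [na, h]) (by rw [nb, h]) (by rw [ni, nb])
  let _ : Fintype (G ⧸ Subgroup.normalizer ((Subgroup.closure ({u, a} : Set G) : Subgroup G) : Set G)) :=
    Fintype.ofFinite _
  have := hfaith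
  exact Cfsg.Agent.Helper27.P13.iso_psl33_of_plane B hB
    (by rw [← Nat.card_eq_fintype_card]; exact h13) hinv h

end Cfsg.Agent.Helper26.L33
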