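import Mathlib
import Cfsg.Agent.Lib.Helper26.CG3Defs
import Cfsg.Agent.Lib.Helper26.CG3Fill
import Cfsg.Agent.Lib.Helper26.CG3G7D
import Cfsg.Agent.Lib.Helper26.CG3G8H
import Cfsg.Agent.Lib.Helper26.L33Iso
import Cfsg.Agent.Lib.Helper9.P13CARD
import Cfsg.Agent.Lib.Helper19.CG3X2Core
import Cfsg.Agent.Lib.Helper19.CG3X3
import Cfsg.Agent.Lib.Helper6.CG3X4
import Cfsg.Agent.Lib.Helper17.CG3T1
import Cfsg.Agent.Lib.Helper17.CG3T2
import Cfsg.Agent.Lib.Helper22.CG3T3
import Cfsg.Agent.Lib.Helper22.CG3T4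
import Cfsg.Agent.Lib.Helper4.CG3T5
import Cfsg.Agent.Lib.Helper7.CG3G12
import Cfsg.Agent.Lib.Helper21.CG3G3
import Cfsg.Agent.Lib.Helper21.CG3G4
import Cfsg.Agent.Lib.Helper6.CG3G5
import Cfsg.Agent.Lib.Helper16.CG3G6MAIN

/-!
# S3412 (helper26): assembly.  A finite group with the commuting graph of `PSL₃(3)` is `PSL₃(3)`.
Paper proof: plans/S3412_proof.md.
-/

set_option autoImplicit false

namespace Cfsg.Agent.Helper26.CG3

universe u

/-- the local data of the codes -/
theorem ld_code : LD Rc e0 t0 where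
  t_ne := code_t_ne
  cct := code_cct
  vals := code_vals
  s4 := code_s4
  scen := code_scen
  u6 := code_u6
  ucen := code_ucen
  nU := code_nU
  nS := code_nS
  nY := code_nY
  w2 := code_w2
  yab := code_yab
  yval := code_yval
  x13 := code_x13

section Asm

variable {H : Type u} [Group H] [Finite H] {t : H}

theorem exists_cfg (h : LG H t) : ∃ u s : H, Cfsg.Agent.Helper26.L33.Cfg H t u s := by
  have hne : Nonempty {g : H // t * g = g * t ∧ cc g = 54} := by
    have h8 := h.nU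
    by_contra hcon
    rw [not_nonempty_iff] at hcon
    rw [Nat.card_of_isEmpty] at h8
    omega
  obtain ⟨⟨u, hu, hcu⟩⟩ := hne
  obtain ⟨s, hs, hts, hsu⟩ := exists_s h u hu hcu
  refine ⟨u, s, ?_⟩
  exact
    { card := h.card
      ot := order_t h
      ou := order_of_cc54 h u hu hcu
      os := hs
      tu := hu
      ts := hts
      su := hsu
      cardC := h.cct
      cardCu := h.u6 u hu hcu
      one_class := one_class h
      three := fun x hx hc => trans_U h u x hu hcu hc (cc_of_order_three h x hx hc) }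

end Asm

theorem main {H : Type u} [Group H] [Finite H]
    (f : {h : H // h ≠ 1} ≃ {g : Matrix.ProjectiveSpecialLinearGroup (Fin 3) (ZMod 3) // g ≠ 1})
    (hf : ∀ x y : {h : H // h ≠ 1}, (x : H) * y = y * x ↔
      ((f x) : Matrix.ProjectiveSpecialLinearGroup (Fin 3) (ZMod 3)) * (f y) = (f y) * (f x)) :
    Nonempty (H ≃* Matrix.ProjectiveSpecialLinearGroup (Fin 3) (ZMod 3)) := by
  have hX1 := h26_exists_ext f hf
  obtain ⟨F, -, -⟩ := hX1
  have hcard : Nat.card H = 5616 := (Nat.card_congr F).trans Cfsg.Agent.Helper27.P13.card_PSL33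
  obtain ⟨Φ, h1, hR⟩ := x2_core (h26_exists_ext f hf) h26_exists_codeSL
  have hLD : LD (fun x y : H => x * y = y * x) 1 (Φ.symm t0) := by
    refine LD.of_equiv _ Rc Φ hR 1 (Φ.symm t0) ?_
    rw [h1, Equiv.apply_symm_apply]
    exact ld_code
  have hLG := LG.of_LD _ hcard hLD
  have := simple_of_LG hLG
  obtain ⟨u, s, hc⟩ := exists_cfg hLG
  exact Cfsg.Agent.Helper26.L33.iso_of_cfg hc

end Cfsg.Agent.Helper26.CG3
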