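import Cfsg.Agent.Lib.Helper26.CG3Code

/-!
# S3412 (helper26): kernel scans of `SL₃(3)` (machine generated), file 1 of 12.

`c_g` is the list of the codes of the elements of `SL₃(3)` commuting with the element coded by `g`.
-/

set_option autoImplicit false

namespace Cfsg.Agent.Helper26.CG3

def c_6725 : List ℕ := [6594, 6595, 6596, 6618, 6619, 6620, 6643, 6646, 6649, 6670, 6674, 6675, 6697, 6699, 6704, 6725, 6728, 6731, 6752, 6754, 6756, 6779, 6780, 6784, 13152, 13153, 13154, 13182, 13183, 13184, 13205, 13208, 13211, 13232, 13233, 13237, 13259, 13261, 13263, 13285, 13288, 13291, 13312, 13314, 13319, 13339, 13343, 13344]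

theorem scan_6725 : (List.range 19683).filter (commB 6725) = c_6725 := by
  decide +kernel

def c_6594 : List ℕ := [6594, 6618, 6643, 6725, 13237, 13261, 13319, 13343]

theorem scan_6594 : (List.range 19683).filter (commB 6594) = c_6594 := by
  decide +kernel

def c_6595 : List ℕ := [6595, 6620, 6643, 6699, 6725, 6756]

theorem scan_6595 : (List.range 19683).filter (commB 6595) = c_6595 := by
  decide +kernel

def c_6596 : List ℕ := [6596, 6619, 6643, 6675, 6725, 6780, 6848, 6871, 6895, 6927, 6977, 7032, 7100, 7123, 7147, 7179, 7229, 7284, 10241, 10264, 10288, 10320, 10370, 10425, 10493, 10516, 10540, 10572, 10622, 10677, 10745, 10768, 10792, 10824, 10874, 10929, 11699, 11722, 11746, 11778, 11828, 11883, 11951, 11974, 11998, 12030, 12080, 12135, 12203, 12226, 12250, 12282, 12332, 12387]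

theorem scan_6596 : (List.range 19683).filter (commB 6596) = c_6596 := by
  decide +kernel

end Cfsg.Agent.Helper26.CG3
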