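
/-!
# Data for the centralizer of a 2-central involution of `M₂₄` (generated)

* `ptTab`: the 16 points outside the octad `O = {0, 1, 2, 3, 5, 14, 17, ∞}`, indexed by the code
  `x₀ + 2 x₂ + 4 x₃ + 8 x₄` of a vector of the affine space; `lamTab` is the inverse (16 on `O`).
* `lW`, `uW`, `tW`: words in the generators for the elements of the centralizer acting as the
  matrices `L(w)`, `U(a, u)` and the elementary transvections of the `3 × 3` block.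
* `kW`: a word for an element moving the seven base points off the octad.
-/

set_option autoImplicit false

namespace Cfsg.Agent.Helper26.CZD

def ptTab : List Nat := [4, 6, 7, 22, 8, 20, 15, 18, 9, 12, 11, 10, 21, 16, 13, 19]
def lamTab : List Nat := [16, 16, 16, 16, 0, 16, 1, 2, 4, 8, 11, 10, 9, 14, 16, 6, 13, 16, 7, 15, 5, 12, 3, 16]
def lW : List (List Nat) := [[], [12, 11, 9], [12, 10, 9], [11, 10], [11, 9], [12], [12, 11, 10], [10, 9]]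
def uW : List (List Nat) := [[], [12, 9], [4, 2, 0, 0, 1, 4, 2, 0, 0, 4, 2, 7, 8, 12, 11, 10, 9], [4, 2, 0, 0, 1, 4, 2, 0, 0, 4, 2, 7, 8, 11, 10], [1, 2, 2, 9, 7, 4, 6, 9, 6, 11], [1, 2, 2, 9, 7, 4, 6, 9, 6, 12, 11, 9], [0, 1, 7, 2, 0, 0, 9, 2, 7, 6, 8, 8, 12, 11, 10, 9], [0, 1, 7, 2, 0, 0, 9, 2, 7, 6, 8, 8, 11, 10], [0, 0, 0, 1, 0, 0, 2, 3, 10, 4, 6, 6, 8, 12], [0, 0, 0, 1, 0, 0, 2, 3, 10, 4, 6, 6, 8, 9], [7, 2, 0, 1, 4, 2, 0, 7, 5, 2, 8, 4, 6, 6, 8, 11, 10], [7, 2, 0, 1, 4, 2, 0, 7, 5, 2, 8, 4, 6, 6, 8, 12, 11, 10, 9], [2, 1, 0, 1, 2, 0, 2, 2, 6, 4, 8, 6, 12, 11, 10], [2, 1, 0, 1, 2, 0, 2, 2, 6, 4, 8, 6, 11, 10, 9], [0, 0, 1, 4, 2, 0, 11, 2, 9, 4, 9, 6, 8, 8, 12, 11, 9], [0, 0, 1, 4, 2, 0, 11, 2, 9, 4, 9, 6, 8, 8, 11]]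
def tW : List (List Nat) := [[], [2, 1, 0, 1, 2, 0, 3, 5, 5, 4, 7, 8, 8, 12], [1, 3, 4, 2, 10, 9, 5, 8, 7, 8, 8, 12, 11, 9], [0, 0, 0, 1, 0, 6, 5, 4, 9, 7, 10], [], [7, 2, 0, 1, 3, 4, 2, 0, 7, 3, 2, 4, 8, 8, 6, 12, 9], [1, 2, 2, 7, 4, 6, 10, 6, 8, 8, 11, 10, 9], [0, 1, 7, 2, 0, 0, 9, 2, 7, 4, 6, 7, 12, 11], []]
def kW : List Nat := [3, 0, 6, 1, 0]

end Cfsg.Agent.Helper26.CZD
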