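import Mathlib

/-!
# Index form of one Schreier–Sims step, and kernel-friendly loops

`schreier_idx`: a version of the Schreier–Sims step in which the transversal is indexed by
`i < n` (no decidable equality on the points is needed): if `T 0 = 1`, the points `T i • b` are
pairwise distinct, `T i ∈ closure S`, `H ≤ closure S` fixes `b`, and for every generator `g ∈ S`
and every `i < n` there is `j < n` with `(T j)⁻¹ * g * T i ∈ H`, then `H` is the stabilizer of `b`
in `closure S` and `|closure S| = n * |H|`.
-/

set_option autoImplicit false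

namespace Cfsg.Agent.Helper26

/-- One step of the Schreier–Sims verification, transversal indexed by `i < n`. -/
theorem schreier_idx {A Ω : Type*} [Group A] [Finite A] [MulAction A Ω]
    (S : Set A) (H : Subgroup A) (b : Ω) (n : ℕ) (T : ℕ → A)
    (hn : 0 < n) (hT0 : T 0 = 1) (hTmem : ∀ i < n, T i ∈ Subgroup.closure S)
    (hinj : ∀ i < n, ∀ j < n, T i • b = T j • b → i = j)
    (hHle : H ≤ Subgroup.closure S) (hHb : ∀ h ∈ H, h • b = b)
    (hstep : ∀ g ∈ S, ∀ i < n, ∃ j < n, (T j)⁻¹ * g * T i ∈ H) :
    (∀ k ∈ Subgroup.closure S, k • b = b → k ∈ H) ∧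
      Nat.card (Subgroup.closure S) = n * Nat.card H := by
  classical
  -- the union of the cosets `T i * H`
  let X : Set A := {k | ∃ i < n, ∃ h ∈ H, k = T i * h}
  have hX1 : (1 : A) ∈ X := ⟨0, hn, 1, H.one_mem, by rw [hT0, one_mul]⟩
  have hXS : ∀ g ∈ S, ∀ k ∈ X, g * k ∈ X := by
    rintro g hg k ⟨i, hi, h, hh, rfl⟩
    obtain ⟨j, hj, hsch⟩ := hstep g hg i hi
    refine ⟨j, hj, (T j)⁻¹ * g * T i * h, H.mul_mem hsch hh, ?_⟩
    group
  -- the left stabilizer of `X` is a subgroup containing `S`
  let Y : Subgroup A :=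
    { carrier := {k | ∀ z ∈ X, k * z ∈ X}
      one_mem' := by intro z hz; simpa using hz
      mul_mem' := by
        intro a c ha hc z hz
        rw [mul_assoc]; exact ha _ (hc _ hz)
      inv_mem' := by
        intro a ha
        have hpow : ∀ m : ℕ, ∀ z ∈ X, a ^ m * z ∈ X := by
          intro m
          induction m with
          | zero => intro z hz; simpa using hz
          | succ m ih =>
            intro z hz
            rw [pow_succ, mul_assoc]
            exact ih _ (ha _ hz)
        intro z hz
        have hinv : a⁻¹ = a ^ (orderOf a - 1) := by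
          have h1 : 0 < orderOf a := orderOf_pos a
          have : a ^ (orderOf a - 1) * a = 1 := by
            rw [← pow_succ, Nat.sub_add_cancel h1, pow_orderOf_eq_one]
          exact (eq_inv_of_mul_eq_one_left this).symm
        rw [hinv]
        exact hpow _ z hz }
  have hSY : S ⊆ Y := fun g hg z hz => hXS g hg z hz
  have hclY : Subgroup.closure S ≤ Y := (Subgroup.closure_le Y).2 hSY
  have hclX : ∀ k ∈ Subgroup.closure S, k ∈ X := by
    intro k hk
    have := hclY hk 1 hX1
    simpa using this
  have hstab : ∀ k ∈ Subgroup.closure S, k • b = b → k ∈ H := by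
    intro k hk hkb
    obtain ⟨i, hi, h, hh, rfl⟩ := hclX k hk
    rw [mul_smul, hHb h hh] at hkb
    have hi0 : i = 0 := by
      apply hinj i hi 0 hn
      rw [hkb, hT0, one_smul]
    rw [hi0, hT0, one_mul]
    exact hh
  refine ⟨hstab, ?_⟩
  -- the bijection `Fin n × H ≃ closure S`
  let f : Fin n × H → Subgroup.closure S := fun x =>
    ⟨T x.1 * x.2, (Subgroup.closure S).mul_mem (hTmem _ x.1.2) (hHle x.2.2)⟩
  have hfinj : Function.Injective f := by
    rintro ⟨⟨i, hi⟩, ⟨h, hh⟩⟩ ⟨⟨i', hi'⟩, ⟨h', hh'⟩⟩ heq
    have heq' : T i * h = T i' * h' := congrArg Subtype.val heq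
    have hii : i = i' := by
      apply hinj i hi i' hi'
      have := congrArg (· • b) heq'
      simpa only [mul_smul, hHb h hh, hHb h' hh'] using this
    subst hii
    have hhh : h = h' := mul_left_cancel heq'
    subst hhh
    rfl
  have hfsurj : Function.Surjective f := by
    rintro ⟨k, hk⟩
    obtain ⟨i, hi, h, hh, rfl⟩ := hclX k hk
    exact ⟨⟨⟨i, hi⟩, ⟨h, hh⟩⟩, rfl⟩
  have hcard := Nat.card_congr (Equiv.ofBijective f ⟨hfinj, hfsurj⟩)
  rw [← hcard, Nat.card_prod, Nat.card_fin]

/-- Variant of `schreier_idx` with trivial stabilizer: the listed elements are all of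
`closure S`. -/
theorem schreier_flat {A Ω : Type*} [Group A] [Finite A] [MulAction A Ω]
    (S : Set A) (b : Ω) (n : ℕ) (T : ℕ → A)
    (hn : 0 < n) (hT0 : T 0 = 1) (hTmem : ∀ i < n, T i ∈ Subgroup.closure S)
    (hinj : ∀ i < n, ∀ j < n, T i • b = T j • b → i = j)
    (hstep : ∀ g ∈ S, ∀ i < n, ∃ j < n, g * T i = T j) :
    (∀ k ∈ Subgroup.closure S, ∃ i < n, k = T i) ∧ Nat.card (Subgroup.closure S) = n := by
  have h := schreier_idx S ⊥ b n T hn hT0 hTmem hinj bot_le
    (by intro h hh; rw [Subgroup.mem_bot] at hh; rw [hh, one_smul])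
    (by
      intro g hg i hi
      obtain ⟨j, hj, hgj⟩ := hstep g hg i hi
      refine ⟨j, hj, ?_⟩
      rw [Subgroup.mem_bot, mul_assoc, hgj, inv_mul_cancel])
  refine ⟨?_, by rw [h.2, Subgroup.card_bot, mul_one]⟩
  -- every element is some `T i`: it moves `b` to some `T i • b`
  intro k hk
  -- use the coset decomposition again through the stabilizer statement
  classical
  -- the set of the `T i` is closed under left multiplication by `S` and contains `1`
  let X : Set A := {k | ∃ i < n, k = T i}
  have hX1 : (1 : A) ∈ X := ⟨0, hn, hT0.symm⟩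
  let Y : Subgroup A :=
    { carrier := {k | ∀ z ∈ X, k * z ∈ X}
      one_mem' := by intro z hz; simpa using hz
      mul_mem' := by
        intro a c ha hc z hz
        rw [mul_assoc]; exact ha _ (hc _ hz)
      inv_mem' := by
        intro a ha
        have hpow : ∀ m : ℕ, ∀ z ∈ X, a ^ m * z ∈ X := by
          intro m
          induction m with
          | zero => intro z hz; simpa using hz
          | succ m ih =>
            intro z hz
            rw [pow_succ, mul_assoc]
            exact ih _ (ha _ hz)
        intro z hz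
        have hinv : a⁻¹ = a ^ (orderOf a - 1) := by
          have h1 : 0 < orderOf a := orderOf_pos a
          have : a ^ (orderOf a - 1) * a = 1 := by
            rw [← pow_succ, Nat.sub_add_cancel h1, pow_orderOf_eq_one]
          exact (eq_inv_of_mul_eq_one_left this).symm
        rw [hinv]
        exact hpow _ z hz }
  have hSY : S ⊆ Y := by
    rintro g hg z ⟨i, hi, rfl⟩
    obtain ⟨j, hj, hgj⟩ := hstep g hg i hi
    exact ⟨j, hj, hgj⟩
  have hclY : Subgroup.closure S ≤ Y := (Subgroup.closure_le Y).2 hSY
  obtain ⟨i, hi, hki⟩ : k ∈ X := by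
    have := hclY hk 1 hX1
    simpa using this
  exact ⟨i, hi, hki⟩

/-- A kernel-friendly bounded universal quantifier. -/
def allB (n : ℕ) (f : ℕ → Bool) : Bool := Nat.rec true (fun k ih => f k && ih) n

theorem allB_succ (n : ℕ) (f : ℕ → Bool) : allB (n + 1) f = (f n && allB n f) := rfl

theorem allB_true {n : ℕ} {f : ℕ → Bool} (h : allB n f = true) : ∀ i < n, f i = true := by
  induction n with
  | zero => intro i hi; exact absurd hi (Nat.not_lt_zero i)
  | succ n ih =>
    rw [allB_succ, Bool.and_eq_true] at h
    intro i hi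
    rcases Nat.lt_succ_iff_lt_or_eq.1 hi with h1 | h1
    · exact ih h.2 i h1
    · rw [h1]; exact h.1

/-- Range version: `f i` for `lo ≤ i < lo + n`. -/
def allR (lo n : ℕ) (f : ℕ → Bool) : Bool := allB n (fun i => f (lo + i))

theorem allR_true {lo n : ℕ} {f : ℕ → Bool} (h : allR lo n f = true) :
    ∀ i, lo ≤ i → i < lo + n → f i = true := by
  intro i h1 h2
  have := allB_true h (i - lo) (by omega)
  simpa [Nat.add_sub_cancel' h1] using this

/-- Force the evaluation of a natural number before passing it on (kernel-friendly `let`). -/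
def seqN {α : Type} (x : ℕ) (k : ℕ → α) : α := Nat.rec (k 0) (fun y _ => k (Nat.succ y)) x

theorem seqN_eq {α : Type} (x : ℕ) (k : ℕ → α) : seqN x k = k x := by
  cases x <;> rfl

end Cfsg.Agent.Helper26
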