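import Mathlib
import Cfsg.Agent.Lib.Helper29.M24Chain
import Cfsg.Agent.Lib.Helper26.Schreier

/-!
# Certificates on encoded permutations of the 24 points

A permutation of `GolayPt` is *encoded* by a natural number (5 bits per point, as in
`Cfsg.Agent.Helper29.M24.app`). This file provides: evaluation of words under an assignment of
letters to encoded permutations; the check that a list of encoded permutations is closed under
conjugation by an encoded permutation; and the check that an encoded permutation either fails a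
relation (a word which moves a point) or is one of a short list.
-/

set_option autoImplicit false

namespace Cfsg.Agent.Helper26.PermCert

open Cfsg Cfsg.Agent.Helper26
open Cfsg.Agent.Helper29.M24 (app dec idx_dec dec_idx idx_lt idx_injective)
open Cfsg.Agent.S0358 (idx)

/-- The permutation `σ` is encoded by the number `c`. -/
def Coded (σ : Equiv.Perm GolayPt) (c : ℕ) : Prop := ∀ q : GolayPt, idx (σ q) = app c (idx q)

theorem Coded.ext {σ τ : Equiv.Perm GolayPt} {c : ℕ} (h1 : Coded σ c) (h2 : Coded τ c) :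
    σ = τ := by
  apply Equiv.ext
  intro q
  apply idx_injective
  rw [h1 q, h2 q]

theorem coded_one (c : ℕ) (h : ∀ p < 24, app c p = p) : Coded 1 c := by
  intro q
  rw [Equiv.Perm.one_apply, h _ (idx_lt q)]

/-- Raw version of `app`. -/
def appN (c i : ℕ) : ℕ := Nat.land (Nat.shiftRight c (Nat.mul 5 i)) 31

theorem appN_eq (c i : ℕ) : appN c i = app c i := rfl

/-- The action of a word on an encoded point, under an assignment of codes to the letters. -/
def appWd (κ : ℕ → ℕ) : List ℕ → ℕ → ℕ
  | [], p => p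
  | l :: w, p => appN (κ l) (appWd κ w p)

/-- The product of the permutations named by a word. -/
def evalWd (ρ : ℕ → Equiv.Perm GolayPt) (w : List ℕ) : Equiv.Perm GolayPt := (w.map ρ).prod

theorem evalWd_nil (ρ : ℕ → Equiv.Perm GolayPt) : evalWd ρ [] = 1 := rfl

theorem evalWd_cons (ρ : ℕ → Equiv.Perm GolayPt) (l : ℕ) (w : List ℕ) :
    evalWd ρ (l :: w) = ρ l * evalWd ρ w := by
  simp [evalWd]

theorem idx_evalWd (ρ : ℕ → Equiv.Perm GolayPt) (κ : ℕ → ℕ) (h : ∀ l, Coded (ρ l) (κ l))
    (w : List ℕ) (q : GolayPt) : idx (evalWd ρ w q) = appWd κ w (idx q) := by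
  induction w with
  | nil => rfl
  | cons l w ih =>
    rw [evalWd_cons, Equiv.Perm.mul_apply, h l, ih]
    rfl

/-- A word acting trivially on all encoded points evaluates to the identity. -/
theorem evalWd_eq_one (ρ : ℕ → Equiv.Perm GolayPt) (κ : ℕ → ℕ) (h : ∀ l, Coded (ρ l) (κ l))
    (w : List ℕ) (hw : ∀ p < 24, appWd κ w p = p) : evalWd ρ w = 1 := by
  apply Equiv.ext
  intro q
  apply idx_injective
  rw [idx_evalWd ρ κ h, hw _ (idx_lt q), Equiv.Perm.one_apply]

/-! ### Lists closed under conjugation -/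

/-- `σ` is encoded by an entry of the list `KC` of length `nK`. -/
def InList (KC : ℕ → ℕ) (nK : ℕ) (σ : Equiv.Perm GolayPt) : Prop := ∃ j < nK, Coded σ (KC j)

/-- The check that conjugation by the permutation with code `gc` sends entry `j` to entry
`KT j`. -/
def conjOK (KC : ℕ → ℕ) (gc : ℕ) (KT : ℕ → ℕ) (nK j : ℕ) : Bool :=
  Nat.blt (KT j) nK && seqN (KC j) fun c => seqN (KC (KT j)) fun c' =>
    allB 24 fun p => Nat.beq (appN gc (appN c p)) (appN c' (appN gc p))

theorem conjOK_sound {KC : ℕ → ℕ} {gc : ℕ} {KT : ℕ → ℕ} {nK j : ℕ}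
    (h : conjOK KC gc KT nK j = true) (g σ : Equiv.Perm GolayPt) (hg : Coded g gc)
    (hσ : Coded σ (KC j)) : KT j < nK ∧ Coded (g * σ * g⁻¹) (KC (KT j)) := by
  unfold conjOK at h
  rw [Bool.and_eq_true] at h
  simp only [seqN_eq] at h
  refine ⟨?_, ?_⟩
  · have := h.1
    unfold Nat.blt at this
    have h3 := Nat.le_of_ble_eq_true this
    omega
  · intro q
    have h1 := allB_true h.2 (idx (g⁻¹ q)) (idx_lt _)
    have h2 := Nat.eq_of_beq_eq_true h1
    simp only [appN_eq] at h2
    rw [Equiv.Perm.mul_apply, Equiv.Perm.mul_apply, hg, hσ, h2, ← hg, Equiv.Perm.inv_def,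
      Equiv.apply_symm_apply]

/-- If the list is closed under conjugation by the elements of `S`, it is closed under
conjugation by the subgroup they generate. -/
theorem inList_conj_closure (KC : ℕ → ℕ) (nK : ℕ) (S : Set (Equiv.Perm GolayPt))
    (hS : ∀ g ∈ S, ∀ σ, InList KC nK σ → InList KC nK (g * σ * g⁻¹)) :
    ∀ k ∈ Subgroup.closure S, ∀ σ, InList KC nK σ → InList KC nK (k * σ * k⁻¹) := by
  let M : Submonoid (Equiv.Perm GolayPt) :=
    { carrier := {k | ∀ σ, InList KC nK σ → InList KC nK (k * σ * k⁻¹)}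
      one_mem' := by
        intro σ hσ
        rw [one_mul, inv_one, mul_one]; exact hσ
      mul_mem' := by
        intro a b ha hb σ hσ
        have h1 := ha _ (hb σ hσ)
        have e : a * b * σ * (a * b)⁻¹ = a * (b * σ * b⁻¹) * a⁻¹ := by group
        rw [e]; exact h1 }
  have hinv : ∀ g, g ∈ M → g⁻¹ ∈ M := by
    intro g hg
    have h : g⁻¹ = g ^ (orderOf g - 1) := by
      apply inv_eq_of_mul_eq_one_right
      rw [← pow_succ', Nat.sub_add_cancel (orderOf_pos g), pow_orderOf_eq_one]
    rw [h]
    exact M.pow_mem hg _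
  intro k hk
  induction hk using Subgroup.closure_induction with
  | mem x hx => exact hS x hx
  | one => exact M.one_mem
  | mul x y _ _ hx hy => exact M.mul_mem hx hy
  | inv x _ hx => exact hinv x hx

/-! ### Relation certificates -/

/-- The assignment of codes to letters: the letter `9` is the candidate `c`, the others are
fixed. -/
def kap (FIX : ℕ → ℕ) (c l : ℕ) : ℕ := cond (Nat.beq l 9) c (FIX l)

/-- The certificate of the `j`-th entry: either it is the entry `CP j` of the list `GOOD`
(when `CR j = 7`), or the relation `REL (CR j)` moves the point `CP j`. -/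
def certOK (KC FIX : ℕ → ℕ) (REL : ℕ → List ℕ) (CR CP GOOD : ℕ → ℕ) (nGood j : ℕ) : Bool :=
  seqN (KC j) fun c => seqN (CP j) fun p =>
    cond (Nat.beq (CR j) 7) (Nat.blt p nGood && Nat.beq c (GOOD p))
      (Nat.blt p 24 && !(Nat.beq (appWd (kap FIX c) (REL (CR j)) p) p))

theorem certOK_sound {KC FIX : ℕ → ℕ} {REL : ℕ → List ℕ} {CR CP GOOD : ℕ → ℕ} {nGood j : ℕ}
    (h : certOK KC FIX REL CR CP GOOD nGood j = true) (ρ : ℕ → Equiv.Perm GolayPt)
    (hρ : ∀ l, l ≠ 9 → Coded (ρ l) (FIX l)) (h9 : Coded (ρ 9) (KC j))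
    (hrel : ∀ r, evalWd ρ (REL r) = 1) : ∃ i < nGood, KC j = GOOD i := by
  unfold certOK at h
  simp only [seqN_eq] at h
  cases h7 : Nat.beq (CR j) 7
  · exfalso
    rw [h7, cond_false, Bool.and_eq_true] at h
    have hp : CP j < 24 := by
      have := h.1
      unfold Nat.blt at this
      have h3 := Nat.le_of_ble_eq_true this
      omega
    have hκ : ∀ l, Coded (ρ l) (kap FIX (KC j) l) := by
      intro l
      unfold kap
      by_cases hl : l = 9
      · rw [hl]; exact h9
      · have : Nat.beq l 9 = false := by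
          cases hb : Nat.beq l 9
          · rfl
          · exact absurd (Nat.eq_of_beq_eq_true hb) hl
        rw [this, cond_false]
        exact hρ l hl
    have h1 := idx_evalWd ρ _ hκ (REL (CR j)) (dec (CP j))
    rw [hrel, Equiv.Perm.one_apply, idx_dec ⟨CP j, hp⟩] at h1
    have h2 := h.2
    rw [← h1] at h2
    simp at h2
  · rw [h7, cond_true, Bool.and_eq_true] at h
    refine ⟨CP j, ?_, Nat.eq_of_beq_eq_true h.2⟩
    have := h.1
    unfold Nat.blt at this
    have h3 := Nat.le_of_ble_eq_true this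
    omega

/-- The check that the words `REL r`, `r < nRel`, act trivially under the code assignment
`κ`. -/
def relsOK (κ : ℕ → ℕ) (REL : ℕ → List ℕ) (nRel : ℕ) : Bool :=
  allB nRel fun r => allB 24 fun p => Nat.beq (appWd κ (REL r) p) p

theorem relsOK_sound {κ : ℕ → ℕ} {REL : ℕ → List ℕ} {nRel : ℕ} (h : relsOK κ REL nRel = true)
    (hnil : ∀ r, nRel ≤ r → REL r = []) (ρ : ℕ → Equiv.Perm GolayPt)
    (hρ : ∀ l, Coded (ρ l) (κ l)) : ∀ r, evalWd ρ (REL r) = 1 := by
  intro r
  by_cases hr : r < nRel
  · apply evalWd_eq_one ρ κ hρ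
    intro p hp
    exact Nat.eq_of_beq_eq_true (allB_true (allB_true h r hr) p hp)
  · rw [hnil r (by omega)]; rfl

end Cfsg.Agent.Helper26.PermCert
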