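import Mathlib
import Cfsg.Agent.Lib.Helper29.M24Search
import Cfsg.Agent.Lib.Helper26.PermCert

/-!
# Searching the group of the length-24 code for the elements `g` with `g * A = A' * g`

The pruned search of `Cfsg.Agent.Helper29.M24.searchAll` is instantiated with a level test that
uses *edges*: triples `(k, m, k')` such that `A ^ m` maps the `k`-th base point to the `k'`-th
one, so that the images of these two base points under `g` are related by `A' ^ m`.
-/

set_option autoImplicit false

namespace Cfsg.Agent.Helper26.M24Semi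

open Cfsg Cfsg.Agent.Helper26 Cfsg.Agent.Helper26.PermCert
open Cfsg.Agent.Helper29.M24
open Cfsg.Agent.S0358 (idx)

/-- Iterate a point map. -/
def iter (f : ℕ → ℕ) : ℕ → ℕ → ℕ
  | 0, p => p
  | m + 1, p => f (iter f m p)

theorem idx_pow_apply (A : Equiv.Perm GolayPt) (a : ℕ) (hA : Coded A a) (m : ℕ) (q : GolayPt) :
    idx ((A ^ m) q) = iter (app a) m (idx q) := by
  induction m with
  | zero => rfl
  | succ m ih =>
    rw [pow_succ', Equiv.Perm.mul_apply, hA, ih]
    rfl

/-- The level test: for each edge `(k, m, k')` with `k, k' ≤ i` and `a ^ m (b k) = b k'`, the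
image of `b k'` is `a' ^ m` of the image of `b k`. -/
def lvlE (a a' : ℕ) (edges : List (ℕ × ℕ × ℕ)) (i : ℕ) (W : List ℕ) : Bool :=
  edges.all fun e =>
    !(decide (e.1 ≤ i) && decide (e.2.2 ≤ i) && (iter (app a) e.2.1 (bpt e.1) == bpt e.2.2)) ||
      (appW W (bpt e.2.2) == iter (app a') e.2.1 (appW W (bpt e.1)))

/-- The final test: the word semiconjugates `a` to `a'` on all points. -/
def finE (a a' : ℕ) (W : List ℕ) : Bool :=
  (List.range 24).all fun p => appW W (app a p) == app a' (appW W p)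

theorem fix_of_mem_grp {i k : ℕ} (hk : k ≤ i) (hi : i < 7) (τ : Equiv.Perm GolayPt)
    (hτ : τ ∈ grp (i + 1)) : τ (dec (bpt k)) = dec (bpt k) :=
  grp_succ_fix k (by omega) τ (grp_mono (by omega) hτ)

theorem lvlE_ok (A A' : Equiv.Perm GolayPt) (a a' : ℕ) (hA : Coded A a) (hA' : Coded A' a')
    (edges : List (ℕ × ℕ × ℕ)) :
    ∀ i < 7, ∀ W : List ℕ, (∀ l ∈ W, l < ngen) → ∀ τ ∈ grp (i + 1),
      (evalW W * τ) * A = A' * (evalW W * τ) → lvlE a a' edges i W = true := by
  intro i hi W hW τ hτ hP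
  unfold lvlE
  rw [List.all_eq_true]
  intro e _
  rw [Bool.or_eq_true]
  by_cases hc : (decide (e.1 ≤ i) && decide (e.2.2 ≤ i) &&
      (iter (app a) e.2.1 (bpt e.1) == bpt e.2.2)) = true
  · right
    rw [Bool.and_eq_true, Bool.and_eq_true, decide_eq_true_eq, decide_eq_true_eq,
      beq_iff_eq] at hc
    obtain ⟨⟨hk, hk'⟩, hedge⟩ := hc
    rw [beq_iff_eq]
    have hpow : (evalW W * τ) * A ^ e.2.1 = A' ^ e.2.1 * (evalW W * τ) :=
      (SemiconjBy.pow_right (show SemiconjBy (evalW W * τ) A A' from hP) e.2.1).eq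
    have h1 := congrArg (fun σ : Equiv.Perm GolayPt => idx (σ (dec (bpt e.1)))) hpow
    simp only [Equiv.Perm.mul_apply] at h1
    have hAm : (A ^ e.2.1) (dec (bpt e.1)) = dec (bpt e.2.2) := by
      apply idx_injective
      rw [idx_pow_apply A a hA, idx_dec_bpt e.1 (by omega), hedge, idx_dec_bpt e.2.2 (by omega)]
    rw [hAm, fix_of_mem_grp hk' hi τ hτ, fix_of_mem_grp hk hi τ hτ, idx_evalW W hW,
      idx_dec_bpt e.2.2 (by omega), idx_pow_apply A' a' hA', idx_evalW W hW,
      idx_dec_bpt e.1 (by omega)] at h1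
    exact h1
  · left
    rw [Bool.not_eq_true] at hc
    rw [hc]
    rfl

theorem finE_ok (A A' : Equiv.Perm GolayPt) (a a' : ℕ) (hA : Coded A a) (hA' : Coded A' a') :
    ∀ W : List ℕ, (∀ l ∈ W, l < ngen) → evalW W * A = A' * evalW W → finE a a' W = true := by
  intro W hW hP
  unfold finE
  rw [List.all_eq_true]
  intro p hp
  rw [List.mem_range] at hp
  rw [beq_iff_eq]
  have h1 := congrArg (fun σ : Equiv.Perm GolayPt => idx (σ (dec p))) hP
  simp only [Equiv.Perm.mul_apply] at h1
  have hp' : idx (dec p) = p := idx_dec ⟨p, hp⟩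
  rw [idx_evalW W hW, hA, hp', hA', idx_evalW W hW, hp'] at h1
  exact h1

/-- Completeness of the search for the elements semiconjugating `A` to `A'`. -/
theorem semi_search (A A' : Equiv.Perm GolayPt) (a a' : ℕ) (hA : Coded A a) (hA' : Coded A' a')
    (edges : List (ℕ × ℕ × ℕ)) (g : Equiv.Perm GolayPt)
    (hg : g ∈ M24) (hP : g * A = A' * g) :
    ∃ W ∈ searchAll (lvlE a a' edges) (finE a a'), (∀ l ∈ W, l < ngen) ∧ g = evalW W := by
  obtain ⟨W, hW, e⟩ := searchAll_complete (lvlE a a' edges) (finE a a')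
    (fun g => g * A = A' * g) (lvlE_ok A A' a a' hA hA' edges) (finE_ok A A' a a' hA hA')
    g hg hP
  exact ⟨W, hW, (searchAll_sound _ _ W hW).1, e⟩

/-- The elements found by a search are encoded by entries of the list `CAND`. -/
def listedIn (L : List (List ℕ)) (CAND : ℕ → ℕ) (nCand : ℕ) : Bool :=
  L.all fun W => (List.range nCand).any fun i => (List.range 24).all fun p =>
    appW W p == app (CAND i) p

theorem inList_of_listedIn {L : List (List ℕ)} {CAND : ℕ → ℕ} {nCand : ℕ}
    (h : listedIn L CAND nCand = true) (W : List ℕ) (hW : W ∈ L) (hl : ∀ l ∈ W, l < ngen) :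
    InList CAND nCand (evalW W) := by
  unfold listedIn at h
  rw [List.all_eq_true] at h
  have h1 := h W hW
  rw [List.any_eq_true] at h1
  obtain ⟨i, hi, h2⟩ := h1
  rw [List.mem_range] at hi
  rw [List.all_eq_true] at h2
  refine ⟨i, hi, ?_⟩
  intro q
  have h3 := h2 (idx q) (List.mem_range.2 (idx_lt q))
  rw [beq_iff_eq] at h3
  rw [idx_evalW W hl, h3]

end Cfsg.Agent.Helper26.M24Semi
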