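import Mathlib
import Cfsg.Agent.Lib.Helper29.M24Rigid
import Cfsg.Agent.Lib.Helper26.M24Semi
import Cfsg.Agent.Lib.Helper26.M24PData
import Cfsg.Agent.Lib.Helper26.AutInner

/-!
# Elements of `M₂₄` used in the study of the automorphisms of the large Mathieu groups

The translation `x`, the doubling map `n` (normalizing `⟨x⟩`), the inversion `y1` (inverting `n`)
and the cube twist `d` (normalizing `⟨n⟩`), their codes, the relations between them, and the
complete lists of the elements of `M₂₄` that semiconjugate `x` to `x²`, `n` to `n⁻¹` and `n` to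
`n³`.
-/

set_option autoImplicit false

namespace Cfsg.Agent.Helper26.M24A

open Cfsg Cfsg.Agent.Helper26 Cfsg.Agent.Helper26.PermCert Cfsg.Agent.Helper26.M24Semi
  Cfsg.Agent.Helper26.M24PD
open Cfsg.Agent.Helper29.M24
open Cfsg.Agent.S0358 (idx)

/-! ### Encoded permutations: products, inverses, equality -/

theorem coded_mul {σ τ : Equiv.Perm GolayPt} {c d e : ℕ} (hσ : Coded σ c) (hτ : Coded τ d)
    (h : ∀ p < 24, app c (app d p) = app e p) : Coded (σ * τ) e := by
  intro q
  rw [Equiv.Perm.mul_apply, hσ, hτ, h _ (idx_lt q)]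

theorem coded_inv {σ : Equiv.Perm GolayPt} {c ci : ℕ} (hσ : Coded σ c)
    (h : ∀ p < 24, app ci (app c p) = p) : Coded σ⁻¹ ci := by
  intro q
  have h1 := h (idx (σ⁻¹ q)) (idx_lt _)
  rw [← hσ, Equiv.Perm.inv_def, Equiv.apply_symm_apply] at h1
  rw [Equiv.Perm.inv_def]
  exact h1.symm

theorem coded_evalW (w : List ℕ) (hw : ∀ l ∈ w, l < ngen) (c : ℕ)
    (h : ∀ p < 24, appW w p = app c p) : Coded (evalW w) c := by
  intro q
  rw [idx_evalW w hw, h _ (idx_lt q)]

/-- Two products of two encoded permutations are equal if they agree on the 24 points. -/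
theorem mul_eq_mul_of_coded {σ τ σ' τ' : Equiv.Perm GolayPt} {c d c' d' : ℕ} (hσ : Coded σ c)
    (hτ : Coded τ d) (hσ' : Coded σ' c') (hτ' : Coded τ' d')
    (h : ∀ p < 24, app c (app d p) = app c' (app d' p)) : σ * τ = σ' * τ' := by
  apply Equiv.ext
  intro q
  apply idx_injective
  rw [Equiv.Perm.mul_apply, Equiv.Perm.mul_apply, hσ, hτ, hσ', hτ', h _ (idx_lt q)]

/-! ### The elements -/

/-- The translation. -/
def xP : Equiv.Perm GolayPt := gP 0
/-- The inversion. -/
def y1P : Equiv.Perm GolayPt := gP 1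
/-- The cube twist. -/
def dP : Equiv.Perm GolayPt := gP 2
/-- The doubling map. -/
def nP : Equiv.Perm GolayPt := evalW wN

theorem gcode0 : gcode 0 = xC := by decide
theorem gcode1 : gcode 1 = y1C := by decide
theorem gcode2 : gcode 2 = dC := by decide

theorem xP_coded : Coded xP xC := fun q => by
  rw [← gcode0]; exact idx_gP 0 (by decide) q
theorem y1P_coded : Coded y1P y1C := fun q => by
  rw [← gcode1]; exact idx_gP 1 (by decide) q
theorem dP_coded : Coded dP dC := fun q => by
  rw [← gcode2]; exact idx_gP 2 (by decide) q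

theorem wN_lt : ∀ l ∈ wN, l < ngen := by decide

theorem nP_coded : Coded nP nC := coded_evalW wN wN_lt nC (by decide +kernel)

theorem x2_coded : Coded (xP ^ 2) x2C := by
  rw [pow_two]; exact coded_mul xP_coded xP_coded (by decide +kernel)

theorem xi_coded : Coded xP⁻¹ xiC := coded_inv xP_coded (by decide +kernel)

theorem ni_coded : Coded nP⁻¹ niC := coded_inv nP_coded (by decide +kernel)

theorem n3_coded : Coded (nP ^ 3) n3C := by
  rw [pow_succ, pow_two]
  intro q
  rw [Equiv.Perm.mul_apply, Equiv.Perm.mul_apply, nP_coded, nP_coded, nP_coded]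
  have h : ∀ p < 24, app nC (app nC (app nC p)) = app n3C p := by decide +kernel
  exact h _ (idx_lt q)

theorem xP_mem : xP ∈ M24 := by
  rw [M24_eq_grp]; exact Subgroup.subset_closure ⟨0, by decide, Nat.zero_le _, rfl⟩
theorem y1P_mem : y1P ∈ M24 := by
  rw [M24_eq_grp]; exact Subgroup.subset_closure ⟨1, by decide, Nat.zero_le _, rfl⟩
theorem dP_mem : dP ∈ M24 := by
  rw [M24_eq_grp]; exact Subgroup.subset_closure ⟨2, by decide, Nat.zero_le _, rfl⟩
theorem nP_mem : nP ∈ M24 :=
  grp_le_M24 0 (evalW_mem_grp 0 wN (fun l hl => ⟨wN_lt l hl, Nat.zero_le _⟩))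

/-! ### The relations between them -/

theorem n_x : nP * xP = xP ^ 2 * nP :=
  mul_eq_mul_of_coded nP_coded xP_coded x2_coded nP_coded (by decide +kernel)

theorem y1_n : y1P * nP = nP⁻¹ * y1P :=
  mul_eq_mul_of_coded y1P_coded nP_coded ni_coded y1P_coded (by decide +kernel)

theorem d_n : dP * nP = nP ^ 3 * dP :=
  mul_eq_mul_of_coded dP_coded nP_coded n3_coded dP_coded (by decide +kernel)

theorem x_pow : xP ^ 23 = 1 := by
  apply Equiv.ext
  intro q
  apply idx_injective
  rw [idx_pow_apply xP xC xP_coded, Equiv.Perm.one_apply]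
  have h : ∀ p < 24, iter (app xC) 23 p = p := by decide +kernel
  exact h _ (idx_lt q)

theorem x_ne_one : xP ≠ 1 := by
  intro h
  have h1 := xP_coded (dec 0)
  rw [h, Equiv.Perm.one_apply] at h1
  revert h1
  decide

theorem orderOf_xP : orderOf xP = 23 := by
  have : Fact (Nat.Prime 23) := ⟨by norm_num⟩
  exact orderOf_eq_prime x_pow x_ne_one

/-! ### The three searches -/

/-- The elements semiconjugating `x` to `x²`. -/
def SX : List (List ℕ) := searchAll (lvlE xC x2C edgesX) (finE xC x2C)
/-- The elements semiconjugating `n` to `n⁻¹`. -/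
def SN1 : List (List ℕ) := searchAll (lvlE nC niC edgesN) (finE nC niC)
/-- The elements semiconjugating `n` to `n³`. -/
def SN3 : List (List ℕ) := searchAll (lvlE nC n3C edgesN) (finE nC n3C)

theorem SX_listed : listedIn SX candN 23 = true := by decide +kernel
theorem SN1_listed : listedIn SN1 cand2 11 = true := by decide +kernel
theorem SN3_listed : listedIn SN3 cand3 11 = true := by decide +kernel

/-- The elements of `M₂₄` which conjugate `x` to `x²` are encoded by the list `candN`. -/
theorem semi_x (g : Equiv.Perm GolayPt) (hg : g ∈ M24) (h : g * xP = xP ^ 2 * g) :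
    InList candN 23 g := by
  obtain ⟨W, hW, hl, rfl⟩ := semi_search xP (xP ^ 2) xC x2C xP_coded x2_coded edgesX g hg h
  exact inList_of_listedIn SX_listed W hW hl

/-- The elements of `M₂₄` which invert `n` are encoded by the list `cand2`. -/
theorem semi_n1 (g : Equiv.Perm GolayPt) (hg : g ∈ M24) (h : g * nP = nP⁻¹ * g) :
    InList cand2 11 g := by
  obtain ⟨W, hW, hl, rfl⟩ := semi_search nP nP⁻¹ nC niC nP_coded ni_coded edgesN g hg h
  exact inList_of_listedIn SN1_listed W hW hl

/-- The elements of `M₂₄` which conjugate `n` to `n³` are encoded by the list `cand3`. -/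
theorem semi_n3 (g : Equiv.Perm GolayPt) (hg : g ∈ M24) (h : g * nP = nP ^ 3 * g) :
    InList cand3 11 g := by
  obtain ⟨W, hW, hl, rfl⟩ := semi_search nP (nP ^ 3) nC n3C nP_coded n3_coded edgesN g hg h
  exact inList_of_listedIn SN3_listed W hW hl

end Cfsg.Agent.Helper26.M24A
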