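import Mathlib
import Cfsg.Prelude.Def_Sporadic_a
import Cfsg.Agent.Lib.Helper26.M24Aut
import Cfsg.Agent.Lib.Helper26.Schreier
import Cfsg.Agent.Lib.Helper26.CZData

/-!
# The centralizer of a 2-central involution of `M₂₄` acts affinely on sixteen points

The pointwise stabilizer `grp 6` of the octad `O = {0, 1, 2, 3, 5, 14, 17, ∞}` is elementary
abelian of order 16 and regular on the 16 remaining points, which thereby become an affine
space over the field with two elements.  An element of `M₂₄` commuting with the involution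
`z ∈ grp 6` normalizes `grp 6`, hence acts on the 16 points as an affine map.
-/

set_option autoImplicit false

namespace Cfsg.Agent.Helper26.CZ

open Cfsg Cfsg.Agent.Helper26 Cfsg.Agent.Helper26.PermCert Cfsg.Agent.Helper26.CZD
  Cfsg.Agent.Helper26.M24A
open Cfsg.Agent.Helper29.M24
open Cfsg.Agent.S0358 (idx)

/-- The point with a given code. -/
def pt (c : ℕ) : ℕ := ptTab.getD c 0
/-- The code of a point (16 on the octad). -/
def lam (p : ℕ) : ℕ := lamTab.getD p 16
/-- The word of the translation by the vector with code `c`. -/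
def eW (c : ℕ) : List ℕ := tw 6 (pt c)

/-! ### The finite checks -/

theorem pt_mem : ∀ c < 16, pt c ∈ orb 6 ∧ lam (pt c) = c ∧ pt c < 24 := by decide +kernel

theorem pt_lam : ∀ p < 24, lam p ≤ 16 ∧ (lam p < 16 → pt (lam p) = p) := by decide +kernel

theorem eW_trans : ∀ c < 16, ∀ d < 16, appW (eW c) (pt d) = pt (c ^^^ d) := by decide +kernel

theorem gen_fix : ∀ j < ngen, 6 ≤ depthOf j → ∀ p < 24, lam p = 16 → app (gcode j) p = p := by
  decide +kernel

theorem z_fix : ∀ p < 24, (appW (eW 1) p = p ↔ lam p = 16) := by decide +kernel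

theorem bpt_O : ∀ i < 6, lam (bpt i) = 16 := by decide +kernel

theorem bpt_six : bpt 6 = pt 0 := by decide +kernel

/-! ### The translations -/

/-- The point of the affine space with code `c`. -/
def P (c : ℕ) : GolayPt := dec (pt c)

theorem idx_P (c : ℕ) (hc : c < 16) : idx (P c) = pt c :=
  idx_dec ⟨pt c, (pt_mem c hc).2.2⟩

theorem lam_P (c : ℕ) (hc : c < 16) : lam (idx (P c)) = c := by
  rw [idx_P c hc]; exact (pt_mem c hc).2.1

theorem P_lam (q : GolayPt) (h : lam (idx q) < 16) : P (lam (idx q)) = q := by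
  unfold P
  rw [(pt_lam (idx q) (idx_lt q)).2 h, dec_idx]

theorem lam_cases (q : GolayPt) : lam (idx q) < 16 ∨ lam (idx q) = 16 := by
  have := (pt_lam (idx q) (idx_lt q)).1
  omega

/-- The translation with code `c`. -/
def eP (c : ℕ) : Equiv.Perm GolayPt := evalW (eW c)

theorem eW_lt (c : ℕ) (hc : c < 16) : ∀ l ∈ eW c, l < ngen ∧ 6 ≤ depthOf l :=
  (ok3 6 (by norm_num) (pt c) (pt_mem c hc).1).1

theorem eP_mem (c : ℕ) (hc : c < 16) : eP c ∈ grp 6 := evalW_mem_grp 6 _ (eW_lt c hc)

theorem idx_eP (c : ℕ) (hc : c < 16) (q : GolayPt) : idx (eP c q) = appW (eW c) (idx q) :=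
  idx_evalW _ (fun l hl => (eW_lt c hc l hl).1) q

theorem eP_P (c d : ℕ) (hc : c < 16) (hd : d < 16) : eP c (P d) = P (c ^^^ d) := by
  apply idx_injective
  have hx : c ^^^ d < 16 := Nat.xor_lt_two_pow (n := 4) hc hd
  rw [idx_eP c hc, idx_P d hd, idx_P _ hx, eW_trans c hc d hd]

theorem grp6_fix (e : Equiv.Perm GolayPt) (he : e ∈ grp 6) (q : GolayPt) (hq : lam (idx q) = 16) :
    e q = q := by
  have hle : grp 6 ≤ MulAction.stabilizer (Equiv.Perm GolayPt) q := by
    unfold grp
    rw [Subgroup.closure_le]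
    rintro g ⟨j, hj, hd, rfl⟩
    rw [SetLike.mem_coe, MulAction.mem_stabilizer_iff, Equiv.Perm.smul_def]
    apply idx_injective
    rw [idx_gP j hj]
    exact gen_fix j hj hd (idx q) (idx_lt q) hq
  have := hle he
  rwa [MulAction.mem_stabilizer_iff, Equiv.Perm.smul_def] at this

theorem P_zero : P 0 = dec (bpt 6) := by
  unfold P; rw [bpt_six]

/-- Regularity: an element of `grp 6` is determined by the image of the origin. -/
theorem eq_eP (e : Equiv.Perm GolayPt) (he : e ∈ grp 6) (c : ℕ) (hc : c < 16)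
    (h : e (P 0) = P c) : e = eP c := by
  have h1 : (eP c)⁻¹ * e ∈ grp 6 := Subgroup.mul_mem _ (Subgroup.inv_mem _ (eP_mem c hc)) he
  have h2 : ((eP c)⁻¹ * e) (dec (bpt 6)) = dec (bpt 6) := by
    rw [← P_zero, Equiv.Perm.mul_apply, h]
    have := eP_P c 0 hc (by norm_num)
    rw [Nat.xor_zero] at this
    rw [← this, Equiv.Perm.inv_def, Equiv.symm_apply_apply]
  have h3 := (level 6 (by norm_num)).1 _ h1 h2
  rw [grp_seven, Subgroup.mem_bot] at h3
  have : e = eP c * ((eP c)⁻¹ * e) := by group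
  rw [this, h3, mul_one]

theorem grp6_not_O (e : Equiv.Perm GolayPt) (he : e ∈ grp 6) (q : GolayPt)
    (hq : lam (idx q) < 16) : lam (idx (e q)) < 16 := by
  rcases lam_cases (e q) with h | h
  · exact h
  · exfalso
    have h1 := grp6_fix e⁻¹ (Subgroup.inv_mem _ he) (e q) h
    rw [Equiv.Perm.inv_def, Equiv.symm_apply_apply] at h1
    rw [h1] at hq
    omega

theorem exists_eP (e : Equiv.Perm GolayPt) (he : e ∈ grp 6) : ∃ c < 16, e = eP c := by
  have h0 : lam (idx (P 0)) < 16 := by rw [lam_P 0 (by norm_num)]; norm_num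
  have h1 := grp6_not_O e he (P 0) h0
  exact ⟨_, h1, eq_eP e he _ h1 (P_lam _ h1).symm⟩

theorem eP_zero : eP 0 = 1 := by
  have := eq_eP 1 (Subgroup.one_mem _) 0 (by norm_num) rfl
  exact this.symm

theorem eP_mul (c d : ℕ) (hc : c < 16) (hd : d < 16) : eP c * eP d = eP (c ^^^ d) := by
  have hx : c ^^^ d < 16 := Nat.xor_lt_two_pow (n := 4) hc hd
  apply eq_eP _ (Subgroup.mul_mem _ (eP_mem c hc) (eP_mem d hd)) _ hx
  rw [Equiv.Perm.mul_apply]
  have := eP_P d 0 hd (by norm_num)
  rw [Nat.xor_zero] at this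
  rw [this, eP_P c d hc hd]

/-- The involution. -/
def zP : Equiv.Perm GolayPt := eP 1

theorem zP_mem : zP ∈ Cfsg.M24 := grp_le_M24 6 (eP_mem 1 (by norm_num))

theorem zP_fix_iff (q : GolayPt) : zP q = q ↔ lam (idx q) = 16 := by
  rw [← z_fix (idx q) (idx_lt q), ← idx_eP 1 (by norm_num)]
  exact ⟨fun h => congrArg idx h, fun h => idx_injective h⟩

end Cfsg.Agent.Helper26.CZ
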