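import Mathlib
import Cfsg.Agent.Lib.Helper26.CZa

/-!
# The affine action of the centralizer of `z` and its matrix

For `g ∈ M₂₄` commuting with `z`, `actC g` is the induced map on the codes of the 16 points.
It satisfies `actC g (c ⊕ d) = actC g c ⊕ actC g d ⊕ actC g 0`, so it is given by a
`5 × 5` matrix `matF (actC g)` in homogeneous coordinates `(x₀, 1, x₂, x₃, x₄)`.
-/

set_option autoImplicit false

namespace Cfsg.Agent.Helper26.CZ

open Cfsg Cfsg.Agent.Helper26 Cfsg.Agent.Helper26.PermCert Cfsg.Agent.Helper26.CZD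
  Cfsg.Agent.Helper26.M24A
open Cfsg.Agent.Helper29.M24
open Cfsg.Agent.S0358 (idx)
open Matrix

/-- The elements of `M₂₄` commuting with `z`. -/
def Comm (g : Equiv.Perm GolayPt) : Prop := g ∈ Cfsg.M24 ∧ g * zP = zP * g

theorem Comm.one : Comm 1 := ⟨Subgroup.one_mem _, by rw [one_mul, mul_one]⟩

theorem Comm.mul {g h : Equiv.Perm GolayPt} (hg : Comm g) (hh : Comm h) : Comm (g * h) :=
  ⟨Subgroup.mul_mem _ hg.1 hh.1, by rw [mul_assoc, hh.2, ← mul_assoc, hg.2, mul_assoc]⟩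

theorem Comm.inv {g : Equiv.Perm GolayPt} (hg : Comm g) : Comm g⁻¹ :=
  ⟨Subgroup.inv_mem _ hg.1, by
    have := hg.2
    calc g⁻¹ * zP = g⁻¹ * (zP * g) * g⁻¹ := by group
      _ = g⁻¹ * (g * zP) * g⁻¹ := by rw [this]
      _ = zP * g⁻¹ := by group⟩

theorem Comm.O_of {g : Equiv.Perm GolayPt} (hg : Comm g) (q : GolayPt) (hq : lam (idx q) = 16) :
    lam (idx (g q)) = 16 := by
  rw [← zP_fix_iff] at hq ⊢
  have := congrArg (fun σ : Equiv.Perm GolayPt => σ q) hg.2
  simp only [Equiv.Perm.mul_apply] at this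
  rw [hq] at this
  exact this.symm

theorem Comm.O_iff {g : Equiv.Perm GolayPt} (hg : Comm g) (q : GolayPt) :
    lam (idx (g q)) = 16 ↔ lam (idx q) = 16 := by
  constructor
  · intro h
    have := hg.inv.O_of (g q) h
    rwa [Equiv.Perm.inv_def, Equiv.symm_apply_apply] at this
  · exact hg.O_of q

theorem Comm.lt {g : Equiv.Perm GolayPt} (hg : Comm g) (q : GolayPt) (hq : lam (idx q) < 16) :
    lam (idx (g q)) < 16 := by
  rcases lam_cases (g q) with h | h
  · exact h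
  · have := (hg.O_iff q).1 h
    omega

theorem Comm.conj_mem {g : Equiv.Perm GolayPt} (hg : Comm g) (e : Equiv.Perm GolayPt)
    (he : e ∈ grp 6) : g * e * g⁻¹ ∈ grp 6 := by
  rw [mem_grp_iff 6 (by norm_num)]
  refine ⟨Subgroup.mul_mem _ (Subgroup.mul_mem _ hg.1 (grp_le_M24 6 he))
    (Subgroup.inv_mem _ hg.1), fun i hi => ?_⟩
  have hb : lam (idx (dec (bpt i))) = 16 := by
    rw [idx_dec_bpt i (by omega)]; exact bpt_O i hi
  have h1 : lam (idx (g⁻¹ (dec (bpt i)))) = 16 := hg.inv.O_of _ hb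
  rw [Equiv.Perm.mul_apply, Equiv.Perm.mul_apply, grp6_fix e he _ h1, Equiv.Perm.inv_def,
    Equiv.apply_symm_apply]

/-- The induced map on codes. -/
def actC (g : Equiv.Perm GolayPt) (c : ℕ) : ℕ := lam (idx (g (P c)))

theorem Comm.actC_lt {g : Equiv.Perm GolayPt} (hg : Comm g) (c : ℕ) (hc : c < 16) :
    actC g c < 16 := hg.lt (P c) (by rw [lam_P c hc]; exact hc)

theorem Comm.apply_P {g : Equiv.Perm GolayPt} (hg : Comm g) (c : ℕ) (hc : c < 16) :
    g (P c) = P (actC g c) := (P_lam _ (hg.actC_lt c hc)).symm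

/-- The code of the conjugate of a translation. -/
def conjC (g : Equiv.Perm GolayPt) (c : ℕ) : ℕ := lam (idx ((g * eP c * g⁻¹) (P 0)))

theorem Comm.conjC_spec {g : Equiv.Perm GolayPt} (hg : Comm g) (c : ℕ) (hc : c < 16) :
    conjC g c < 16 ∧ g * eP c * g⁻¹ = eP (conjC g c) := by
  have hm := hg.conj_mem (eP c) (eP_mem c hc)
  have h0 : lam (idx (P 0)) < 16 := by rw [lam_P 0 (by norm_num)]; norm_num
  have h1 : conjC g c < 16 := grp6_not_O _ hm (P 0) h0
  exact ⟨h1, eq_eP _ hm _ h1 (P_lam _ h1).symm⟩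

theorem Comm.actC_eq {g : Equiv.Perm GolayPt} (hg : Comm g) (c : ℕ) (hc : c < 16) :
    actC g c = conjC g c ^^^ actC g 0 := by
  obtain ⟨h1, h2⟩ := hg.conjC_spec c hc
  have h3 : g (P c) = (g * eP c * g⁻¹) (g (P 0)) := by
    rw [Equiv.Perm.mul_apply, Equiv.Perm.mul_apply, Equiv.Perm.inv_def, Equiv.symm_apply_apply]
    have := eP_P c 0 hc (by norm_num)
    rw [Nat.xor_zero] at this
    rw [this]
  rw [h2, hg.apply_P 0 (by norm_num), eP_P _ _ h1 (hg.actC_lt 0 (by norm_num))] at h3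
  have e : actC g c = lam (idx (g (P c))) := rfl
  rw [e, h3, lam_P _ (Nat.xor_lt_two_pow (n := 4) h1 (hg.actC_lt 0 (by norm_num)))]

theorem Comm.conjC_add {g : Equiv.Perm GolayPt} (hg : Comm g) (c d : ℕ) (hc : c < 16)
    (hd : d < 16) : conjC g (c ^^^ d) = conjC g c ^^^ conjC g d := by
  obtain ⟨h1, h2⟩ := hg.conjC_spec c hc
  obtain ⟨h3, h4⟩ := hg.conjC_spec d hd
  have hx : conjC g c ^^^ conjC g d < 16 := Nat.xor_lt_two_pow (n := 4) h1 h3
  have h5 : g * eP (c ^^^ d) * g⁻¹ = eP (conjC g c ^^^ conjC g d) := by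
    rw [← eP_mul c d hc hd, ← eP_mul _ _ h1 h3, ← h2, ← h4]; group
  have := eP_P _ 0 hx (by norm_num)
  rw [Nat.xor_zero] at this
  show lam (idx ((g * eP (c ^^^ d) * g⁻¹) (P 0))) = _
  rw [h5, this, lam_P _ hx]

/-- The key additivity property of the induced map. -/
theorem Comm.actC_xor {g : Equiv.Perm GolayPt} (hg : Comm g) (c d : ℕ) (hc : c < 16)
    (hd : d < 16) : actC g (c ^^^ d) = actC g c ^^^ actC g d ^^^ actC g 0 := by
  have hx : c ^^^ d < 16 := Nat.xor_lt_two_pow (n := 4) hc hd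
  rw [hg.actC_eq _ hx, hg.actC_eq c hc, hg.actC_eq d hd, hg.conjC_add c d hc hd]
  simp only [Nat.xor_assoc, Nat.xor_self, Nat.xor_zero, Nat.xor_comm (actC g 0)]

theorem actC_mul {g h : Equiv.Perm GolayPt} (hh : Comm h) (c : ℕ) (hc : c < 16) :
    actC (g * h) c = actC g (actC h c) := by
  show lam (idx ((g * h) (P c))) = lam (idx (g (P (actC h c))))
  rw [Equiv.Perm.mul_apply, hh.apply_P c hc]

theorem actC_one (c : ℕ) (hc : c < 16) : actC 1 c = c := by
  unfold actC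
  rw [Equiv.Perm.one_apply, lam_P c hc]

theorem actC_zP (c : ℕ) (hc : c < 16) : actC zP c = c ^^^ 1 := by
  unfold actC zP
  rw [eP_P 1 c (by norm_num) hc, lam_P _ (Nat.xor_lt_two_pow (n := 4) (by norm_num) hc),
    Nat.xor_comm]

end Cfsg.Agent.Helper26.CZ
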