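import Mathlib
import Cfsg.Agent.Lib.Helper26.CZb

/-!
# The matrix of an affine map of the sixteen points, in homogeneous coordinates
-/

set_option autoImplicit false

namespace Cfsg.Agent.Helper26.CZ

open Cfsg Cfsg.Agent.Helper26
open Matrix

/-- A Boolean as an element of the field with two elements. -/
def bz (b : Bool) : ZMod 2 := if b then 1 else 0

theorem bz_xor : ∀ a b : Bool, bz (a ^^ b) = bz a + bz b := by decide

/-- The homogeneous coordinate vector `(x₀, 1, x₂, x₃, x₄)` of the point with code `c`. -/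
def hv (c : ℕ) : Fin 5 → ZMod 2 :=
  ![bz (c.testBit 0), 1, bz (c.testBit 1), bz (c.testBit 2), bz (c.testBit 3)]

theorem one_add_one_add_one : (1 : ZMod 2) = 1 + 1 + 1 := by decide

theorem hv_xor3 (a b e : ℕ) : hv (a ^^^ b ^^^ e) = hv a + hv b + hv e := by
  have key : ∀ k, bz ((a ^^^ b ^^^ e).testBit k) =
      bz (a.testBit k) + bz (b.testBit k) + bz (e.testBit k) := by
    intro k
    rw [Nat.testBit_xor, Nat.testBit_xor, bz_xor, bz_xor]
  funext i
  fin_cases i
  · exact key 0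
  · exact one_add_one_add_one
  · exact key 1
  · exact key 2
  · exact key 3

theorem hv_inj : ∀ c < 16, ∀ d < 16, hv c = hv d → c = d := by decide

theorem hv_zero : hv 0 = ![0, 1, 0, 0, 0] := by decide
theorem hv_one : hv 1 = ![1, 1, 0, 0, 0] := by decide
theorem hv_two : hv 2 = ![0, 1, 1, 0, 0] := by decide
theorem hv_four : hv 4 = ![0, 1, 0, 1, 0] := by decide
theorem hv_eight : hv 8 = ![0, 1, 0, 0, 1] := by decide

/-- The matrix of the affine map `f`, from its values at the origin and the basis points. -/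
def matF (f : ℕ → ℕ) : Matrix (Fin 5) (Fin 5) (ZMod 2) :=
  Matrix.of fun i j => (![hv (f 1) i + hv (f 0) i, hv (f 0) i, hv (f 2) i + hv (f 0) i,
    hv (f 4) i + hv (f 0) i, hv (f 8) i + hv (f 0) i] : Fin 5 → ZMod 2) j

theorem add_add_cancel2 : ∀ x y : ZMod 2, x + y + y = x := by decide

theorem matF_zero (f : ℕ → ℕ) : matF f *ᵥ hv 0 = hv (f 0) := by
  funext i
  rw [hv_zero]
  simp [Matrix.mulVec, dotProduct, Fin.sum_univ_five, matF]

theorem matF_one (f : ℕ → ℕ) : matF f *ᵥ hv 1 = hv (f 1) := by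
  funext i
  rw [hv_one]
  simp [Matrix.mulVec, dotProduct, Fin.sum_univ_five, matF]
  exact add_add_cancel2 _ _

theorem matF_two (f : ℕ → ℕ) : matF f *ᵥ hv 2 = hv (f 2) := by
  funext i
  rw [hv_two]
  simp [Matrix.mulVec, dotProduct, Fin.sum_univ_five, matF]
  rw [add_comm]; exact add_add_cancel2 _ _

theorem matF_four (f : ℕ → ℕ) : matF f *ᵥ hv 4 = hv (f 4) := by
  funext i
  rw [hv_four]
  simp [Matrix.mulVec, dotProduct, Fin.sum_univ_five, matF]
  rw [add_comm]; exact add_add_cancel2 _ _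

theorem matF_eight (f : ℕ → ℕ) : matF f *ᵥ hv 8 = hv (f 8) := by
  funext i
  rw [hv_eight]
  simp [Matrix.mulVec, dotProduct, Fin.sum_univ_five, matF]
  rw [add_comm]; exact add_add_cancel2 _ _

/-- A property of codes that holds at `0, 1, 2, 4, 8` and is stable under `⊕` holds below 16. -/
theorem span16 (Q : ℕ → Prop) (h0 : Q 0) (h1 : Q 1) (h2 : Q 2) (h4 : Q 4) (h8 : Q 8)
    (hx : ∀ c d, c < 16 → d < 16 → Q c → Q d → Q (c ^^^ d)) : ∀ c < 16, Q c := by
  have h3 : Q 3 := hx 1 2 (by norm_num) (by norm_num) h1 h2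
  have h5 : Q 5 := hx 1 4 (by norm_num) (by norm_num) h1 h4
  have h6 : Q 6 := hx 2 4 (by norm_num) (by norm_num) h2 h4
  have h7 : Q 7 := hx 3 4 (by norm_num) (by norm_num) h3 h4
  have h9 : Q 9 := hx 1 8 (by norm_num) (by norm_num) h1 h8
  have h10 : Q 10 := hx 2 8 (by norm_num) (by norm_num) h2 h8
  have h11 : Q 11 := hx 3 8 (by norm_num) (by norm_num) h3 h8
  have h12 : Q 12 := hx 4 8 (by norm_num) (by norm_num) h4 h8
  have h13 : Q 13 := hx 5 8 (by norm_num) (by norm_num) h5 h8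
  have h14 : Q 14 := hx 6 8 (by norm_num) (by norm_num) h6 h8
  have h15 : Q 15 := hx 7 8 (by norm_num) (by norm_num) h7 h8
  intro c hc
  interval_cases c <;> assumption

/-- The matrix of an affine map computes the map. -/
theorem matF_mulVec (f : ℕ → ℕ)
    (hf : ∀ c d, c < 16 → d < 16 → f (c ^^^ d) = f c ^^^ f d ^^^ f 0) :
    ∀ c < 16, matF f *ᵥ hv c = hv (f c) := by
  refine span16 (fun c => matF f *ᵥ hv c = hv (f c)) (matF_zero f) (matF_one f) (matF_two f)
    (matF_four f) (matF_eight f) ?_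
  intro c d hc hd h1 h2
  have e : hv (c ^^^ d) = hv c + hv d + hv 0 := by
    have := hv_xor3 c d 0
    rwa [Nat.xor_zero] at this
  rw [e, Matrix.mulVec_add, Matrix.mulVec_add, h1, h2, matF_zero, hf c d hc hd, hv_xor3]

/-- Two matrices agreeing on the homogeneous vectors of the origin and the basis points agree. -/
theorem mat_ext (M N : Matrix (Fin 5) (Fin 5) (ZMod 2))
    (h0 : M *ᵥ hv 0 = N *ᵥ hv 0) (h1 : M *ᵥ hv 1 = N *ᵥ hv 1) (h2 : M *ᵥ hv 2 = N *ᵥ hv 2)
    (h4 : M *ᵥ hv 4 = N *ᵥ hv 4) (h8 : M *ᵥ hv 8 = N *ᵥ hv 8) : M = N := by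
  rw [hv_zero] at h0
  rw [hv_one] at h1
  rw [hv_two] at h2
  rw [hv_four] at h4
  rw [hv_eight] at h8
  ext i j
  have a0 := congrFun h0 i
  have a1 := congrFun h1 i
  have a2 := congrFun h2 i
  have a4 := congrFun h4 i
  have a8 := congrFun h8 i
  simp [Matrix.mulVec, dotProduct, Fin.sum_univ_five] at a0 a1 a2 a4 a8
  rw [a0] at a1 a2 a4 a8
  fin_cases j
  · exact add_right_cancel a1
  · exact a0
  · exact add_left_cancel a2
  · exact add_left_cancel a4
  · exact add_left_cancel a8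

theorem matF_congr (f f' : ℕ → ℕ) (h0 : f 0 = f' 0) (h1 : f 1 = f' 1) (h2 : f 2 = f' 2)
    (h4 : f 4 = f' 4) (h8 : f 8 = f' 8) : matF f = matF f' := by
  unfold matF
  rw [h0, h1, h2, h4, h8]

theorem matF_id : matF (fun c => c) = 1 := by decide

theorem matF_xor_one : matF (fun c => c ^^^ 1) = Matrix.transvection 0 1 1 := by decide

end Cfsg.Agent.Helper26.CZ
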