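import Mathlib
import Cfsg.Agent.Lib.Helper26.CZc

/-!
# The injective homomorphism from the centralizer of `z` in `M₂₄` to `SL₅(2)`
-/

set_option autoImplicit false

namespace Cfsg.Agent.Helper26.CZ

open Cfsg Cfsg.Agent.Helper26 Cfsg.Agent.Helper26.PermCert Cfsg.Agent.Helper26.CZD
  Cfsg.Agent.Helper26.M24A
open Cfsg.Agent.Helper29.M24
open Cfsg.Agent.S0358 (idx)
open Matrix

/-- The matrix of an element commuting with `z`. -/
def Ψmat (g : Equiv.Perm GolayPt) : Matrix (Fin 5) (Fin 5) (ZMod 2) := matF (actC g)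

theorem Comm.Ψ_mulVec {g : Equiv.Perm GolayPt} (hg : Comm g) (c : ℕ) (hc : c < 16) :
    Ψmat g *ᵥ hv c = hv (actC g c) :=
  matF_mulVec (actC g) (fun c d hc hd => hg.actC_xor c d hc hd) c hc

theorem Ψmat_mul {g h : Equiv.Perm GolayPt} (hg : Comm g) (hh : Comm h) :
    Ψmat (g * h) = Ψmat g * Ψmat h := by
  have key : ∀ c < 16, Ψmat (g * h) *ᵥ hv c = (Ψmat g * Ψmat h) *ᵥ hv c := by
    intro c hc
    rw [(hg.mul hh).Ψ_mulVec c hc, ← Matrix.mulVec_mulVec, hh.Ψ_mulVec c hc,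
      hg.Ψ_mulVec _ (hh.actC_lt c hc), actC_mul hh c hc]
  exact mat_ext _ _ (key 0 (by norm_num)) (key 1 (by norm_num)) (key 2 (by norm_num))
    (key 4 (by norm_num)) (key 8 (by norm_num))

theorem Ψmat_one : Ψmat 1 = 1 := by
  unfold Ψmat
  rw [matF_congr (actC 1) (fun c => c) (actC_one 0 (by norm_num)) (actC_one 1 (by norm_num))
    (actC_one 2 (by norm_num)) (actC_one 4 (by norm_num)) (actC_one 8 (by norm_num))]
  exact matF_id

theorem Ψmat_zP : Ψmat zP = Matrix.transvection 0 1 1 := by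
  unfold Ψmat
  rw [matF_congr (actC zP) (fun c => c ^^^ 1) (actC_zP 0 (by norm_num)) (actC_zP 1 (by norm_num))
    (actC_zP 2 (by norm_num)) (actC_zP 4 (by norm_num)) (actC_zP 8 (by norm_num))]
  exact matF_xor_one

theorem zP_sq : zP * zP = 1 := by
  unfold zP
  rw [eP_mul 1 1 (by norm_num) (by norm_num)]
  exact eP_zero

theorem zP_ne_one : zP ≠ 1 := by
  intro h
  have h1 := actC_zP 0 (by norm_num)
  rw [h, actC_one 0 (by norm_num)] at h1
  revert h1
  decide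

theorem Comm.zP : Comm zP := ⟨zP_mem, rfl⟩

theorem unit_zmod2 : ∀ x y : ZMod 2, x * y = 1 → x = 1 := by decide

theorem Comm.det {g : Equiv.Perm GolayPt} (hg : Comm g) : (Ψmat g).det = 1 := by
  have h1 : Ψmat g * Ψmat g⁻¹ = 1 := by
    rw [← Ψmat_mul hg hg.inv, mul_inv_cancel, Ψmat_one]
  have h2 := congrArg Matrix.det h1
  rw [Matrix.det_mul, Matrix.det_one] at h2
  exact unit_zmod2 _ _ h2

/-! ### Rigidity -/

theorem kW_lt : ∀ l ∈ kW, l < ngen := by decide

theorem kW_off : ∀ i < 7, lam (appW kW (bpt i)) < 16 := by decide +kernel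

theorem eq_one_of_fix (g : Equiv.Perm GolayPt) (hg : g ∈ Cfsg.M24)
    (h : ∀ q : GolayPt, lam (idx q) < 16 → g q = q) : g = 1 := by
  have hk : evalW kW ∈ Cfsg.M24 := by
    have := evalW_mem_grp 0 kW (fun l hl => ⟨kW_lt l hl, Nat.zero_le _⟩)
    exact grp_le_M24 0 this
  have h1 : (evalW kW)⁻¹ * g * evalW kW ∈ grp 7 := by
    rw [mem_grp_iff 7 (by norm_num)]
    refine ⟨Subgroup.mul_mem _ (Subgroup.mul_mem _ (Subgroup.inv_mem _ hk) hg) hk,
      fun i hi => ?_⟩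
    have h2 : lam (idx (evalW kW (dec (bpt i)))) < 16 := by
      rw [idx_evalW kW kW_lt, idx_dec_bpt i hi]
      exact kW_off i hi
    rw [Equiv.Perm.mul_apply, Equiv.Perm.mul_apply, h _ h2, Equiv.Perm.inv_def,
      Equiv.symm_apply_apply]
  rw [grp_seven, Subgroup.mem_bot] at h1
  have : g = evalW kW * ((evalW kW)⁻¹ * g * evalW kW) * (evalW kW)⁻¹ := by group
  rw [this, h1, mul_one, mul_inv_cancel]

theorem Comm.eq_one_of_Ψ {g : Equiv.Perm GolayPt} (hg : Comm g) (h : Ψmat g = 1) : g = 1 := by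
  apply eq_one_of_fix g hg.1
  intro q hq
  have h1 := hg.Ψ_mulVec _ hq
  rw [h, Matrix.one_mulVec] at h1
  have h2 := hv_inj _ hq _ (hg.actC_lt _ hq) h1
  have h3 := hg.apply_P _ hq
  rw [← h2, P_lam q hq] at h3
  exact h3

/-! ### The groups and the homomorphism -/

/-- The involution as an element of `M₂₄`. -/
def zM : ↥Cfsg.M24 := ⟨zP, zP_mem⟩

theorem orderOf_zM : orderOf zM = 2 := by
  have : Fact (Nat.Prime 2) := ⟨by norm_num⟩
  apply orderOf_eq_prime
  · apply Subtype.ext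
    rw [pow_two]
    exact zP_sq
  · intro h
    exact zP_ne_one (congrArg Subtype.val h)

/-- The centralizer of the involution. -/
abbrev CZg : Subgroup ↥Cfsg.M24 := Subgroup.centralizer ({zM} : Set ↥Cfsg.M24)

theorem comm_of (g : ↥CZg) : Comm ((g : ↥Cfsg.M24) : Equiv.Perm GolayPt) := by
  refine ⟨(g : ↥Cfsg.M24).2, ?_⟩
  have h := Subgroup.mem_centralizer_iff.1 g.2 zM rfl
  have h1 := congrArg Subtype.val h
  exact h1.symm

/-- The homomorphism to the special linear group. -/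
def ΨSL : ↥CZg →* Matrix.SpecialLinearGroup (Fin 5) (ZMod 2) where
  toFun g := ⟨Ψmat ((g : ↥Cfsg.M24) : Equiv.Perm GolayPt), (comm_of g).det⟩
  map_one' := Subtype.ext Ψmat_one
  map_mul' g h := Subtype.ext (Ψmat_mul (comm_of g) (comm_of h))

theorem ΨSL_coe (g : ↥CZg) :
    (ΨSL g : Matrix (Fin 5) (Fin 5) (ZMod 2)) = Ψmat ((g : ↥Cfsg.M24) : Equiv.Perm GolayPt) := rfl

theorem ΨSL_injective : Function.Injective ΨSL := by
  rw [injective_iff_map_eq_one]
  intro g hg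
  have h1 : Ψmat ((g : ↥Cfsg.M24) : Equiv.Perm GolayPt) = 1 := by
    rw [← ΨSL_coe, hg]; rfl
  have h2 := (comm_of g).eq_one_of_Ψ h1
  exact Subtype.ext (Subtype.ext h2)

/-- The image commutes with the transvection. -/
theorem ΨSL_comm (g : ↥CZg) :
    Matrix.transvection 0 1 1 * (ΨSL g : Matrix (Fin 5) (Fin 5) (ZMod 2)) =
      (ΨSL g : Matrix (Fin 5) (Fin 5) (ZMod 2)) * Matrix.transvection 0 1 1 := by
  rw [ΨSL_coe, ← Ψmat_zP, ← Ψmat_mul Comm.zP (comm_of g), ← Ψmat_mul (comm_of g) Comm.zP,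
    (comm_of g).2]

end Cfsg.Agent.Helper26.CZ
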