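import Mathlib
import Cfsg.Agent.Lib.Helper26.CZd

/-!
# Surjectivity: the centralizer of the transvection is generated by elements in the image

An element `A` of `SL₅(2)` commuting with `1 + E₀₁` factors as `L(w) * ι(B) * U(a, u)` with
`B ∈ SL₃(2)`; each factor is hit by the homomorphism `ΨSL`.
-/

set_option autoImplicit false

namespace Cfsg.Agent.Helper26.CZ

open Cfsg Cfsg.Agent.Helper26 Cfsg.Agent.Helper26.PermCert Cfsg.Agent.Helper26.CZD
  Cfsg.Agent.Helper26.M24A
open Cfsg.Agent.Helper29.M24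
open Cfsg.Agent.S0358 (idx)
open Matrix

/-! ### Elements given by words -/

/-- The check that a word gives an element commuting with `z` with matrix `N`. -/
def chkW (w : List ℕ) (N : Matrix (Fin 5) (Fin 5) (ZMod 2)) : Bool :=
  w.all (fun l => Nat.blt l ngen) &&
    allB 24 (fun p => Nat.beq (appW (w ++ eW 1) p) (appW (eW 1 ++ w) p)) &&
    decide (matF (fun c => lam (appW w (pt c))) = N)

theorem exists_of_chkW (w : List ℕ) (N : Matrix (Fin 5) (Fin 5) (ZMod 2))
    (h : chkW w N = true) : ∃ g : ↥CZg, (ΨSL g : Matrix (Fin 5) (Fin 5) (ZMod 2)) = N := by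
  unfold chkW at h
  rw [Bool.and_eq_true, Bool.and_eq_true, decide_eq_true_eq] at h
  obtain ⟨⟨h1, h2⟩, h3⟩ := h
  have hw : ∀ l ∈ w, l < ngen := by
    intro l hl
    have := List.all_eq_true.1 h1 l hl
    rwa [Nat.blt_eq] at this
  have hz : ∀ l ∈ eW 1, l < ngen := fun l hl => (eW_lt 1 (by norm_num) l hl).1
  have hM : evalW w ∈ Cfsg.M24 :=
    grp_le_M24 0 (evalW_mem_grp 0 w (fun l hl => ⟨hw l hl, Nat.zero_le _⟩))
  have hcomm : evalW w * zP = zP * evalW w := by
    unfold zP eP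
    rw [← evalW_append, ← evalW_append]
    apply evalW_eq_of_appW
    · intro j hj
      rcases List.mem_append.1 hj with h | h
      · exact hw j h
      · exact hz j h
    · intro j hj
      rcases List.mem_append.1 hj with h | h
      · exact hz j h
      · exact hw j h
    · intro x hx
      exact Nat.eq_of_beq_eq_true (allB_true h2 x hx)
  have hmem : (⟨evalW w, hM⟩ : ↥Cfsg.M24) ∈ CZg := by
    rw [Subgroup.mem_centralizer_iff]
    intro y hy
    rw [Set.mem_singleton_iff] at hy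
    rw [hy]
    apply Subtype.ext
    exact hcomm.symm
  refine ⟨⟨⟨evalW w, hM⟩, hmem⟩, ?_⟩
  rw [ΨSL_coe]
  show matF (actC (evalW w)) = N
  rw [← h3]
  have key : ∀ c < 16, actC (evalW w) c = lam (appW w (pt c)) := by
    intro c hc
    unfold actC
    rw [idx_evalW w hw, idx_P c hc]
  exact matF_congr _ _ (key 0 (by norm_num)) (key 1 (by norm_num)) (key 2 (by norm_num))
    (key 4 (by norm_num)) (key 8 (by norm_num))

/-! ### The three kinds of factors -/

/-- The lower unipotent factor. -/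
def Lmat (w0 w1 w2 : ZMod 2) : Matrix (Fin 5) (Fin 5) (ZMod 2) :=
  !![1, 0, 0, 0, 0; 0, 1, 0, 0, 0; 0, w0, 1, 0, 0; 0, w1, 0, 1, 0; 0, w2, 0, 0, 1]

/-- The upper unipotent factor. -/
def Umat (a u0 u1 u2 : ZMod 2) : Matrix (Fin 5) (Fin 5) (ZMod 2) :=
  !![1, a, u0, u1, u2; 0, 1, 0, 0, 0; 0, 0, 1, 0, 0; 0, 0, 0, 1, 0; 0, 0, 0, 0, 1]

/-- The block embedding of a three by three matrix. -/
def ι (B : Matrix (Fin 3) (Fin 3) (ZMod 2)) : Matrix (Fin 5) (Fin 5) (ZMod 2) :=
  !![1, 0, 0, 0, 0; 0, 1, 0, 0, 0; 0, 0, B 0 0, B 0 1, B 0 2; 0, 0, B 1 0, B 1 1, B 1 2;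
    0, 0, B 2 0, B 2 1, B 2 2]

theorem L_ok : ∀ w0 w1 w2 : ZMod 2,
    chkW (lW.getD (w0.val + 2 * w1.val + 4 * w2.val) []) (Lmat w0 w1 w2) = true := by
  decide +kernel

theorem U_ok : ∀ a u0 u1 u2 : ZMod 2,
    chkW (uW.getD (a.val + 2 * u0.val + 4 * u1.val + 8 * u2.val) []) (Umat a u0 u1 u2) = true := by
  decide +kernel

theorem T_ok : ∀ i j : Fin 3, i ≠ j →
    chkW (tW.getD (3 * i.val + j.val) []) (ι (Matrix.transvection i j 1)) = true := by
  decide +kernel

theorem ι_one : ι 1 = 1 := by decide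

theorem ι_mul (B C : Matrix (Fin 3) (Fin 3) (ZMod 2)) : ι (B * C) = ι B * ι C := by
  ext i j
  fin_cases i <;> fin_cases j <;>
    simp [ι, Matrix.mul_apply, Fin.sum_univ_five, Fin.sum_univ_three]

end Cfsg.Agent.Helper26.CZ
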