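import Mathlib
import Cfsg.Agent.Lib.Helper26.CZe

/-!
# The centralizer of a 2-central involution of `M₂₄` is isomorphic to the centralizer of a
transvection in `SL₅(2)`
-/

set_option autoImplicit false

namespace Cfsg.Agent.Helper26.CZ

open Cfsg Cfsg.Agent.Helper26
open Matrix

/-- The special linear groups. -/
abbrev SL5 := Matrix.SpecialLinearGroup (Fin 5) (ZMod 2)
/-- The special linear groups. -/
abbrev SL3 := Matrix.SpecialLinearGroup (Fin 3) (ZMod 2)

/-- The elements in the image of `ΨSL`. -/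
def Hit (A : SL5) : Prop := ∃ g : ↥CZg, ΨSL g = A

theorem Hit.one : Hit 1 := ⟨1, map_one _⟩

theorem Hit.mul {A B : SL5} (hA : Hit A) (hB : Hit B) : Hit (A * B) := by
  obtain ⟨g, rfl⟩ := hA
  obtain ⟨h, rfl⟩ := hB
  exact ⟨g * h, map_mul _ _ _⟩

theorem hit_of_mat (A : SL5)
    (h : ∃ g : ↥CZg, (ΨSL g : Matrix (Fin 5) (Fin 5) (ZMod 2)) = A.1) : Hit A := by
  obtain ⟨g, hg⟩ := h
  exact ⟨g, Subtype.ext hg⟩

/-! ### The block embedding -/

theorem ι_det (B : SL3) : (ι B.1).det = 1 := by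
  have h1 : ι B.1 * ι (B⁻¹).1 = 1 := by
    rw [← ι_mul, ← Matrix.SpecialLinearGroup.coe_mul, mul_inv_cancel,
      Matrix.SpecialLinearGroup.coe_one, ι_one]
  have h2 := congrArg Matrix.det h1
  rw [Matrix.det_mul, Matrix.det_one] at h2
  exact unit_zmod2 _ _ h2

/-- The block embedding of `SL₃(2)`. -/
def ιSL (B : SL3) : SL5 := ⟨ι B.1, ι_det B⟩

theorem ιSL_mul (B C : SL3) : ιSL (B * C) = ιSL B * ιSL C := by
  apply Subtype.ext
  show ι (B * C).1 = ι B.1 * ι C.1
  rw [Matrix.SpecialLinearGroup.coe_mul, ι_mul]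

theorem ιSL_one : ιSL 1 = 1 := by
  apply Subtype.ext
  show ι (1 : SL3).1 = 1
  rw [Matrix.SpecialLinearGroup.coe_one, ι_one]

theorem zmod2_cases : ∀ x : ZMod 2, x = 0 ∨ x = 1 := by decide

theorem hit_ι (B : SL3) : Hit (ιSL B) := by
  refine Matrix.SpecialLinearGroup.diagonal_transvection_induction'
    (fun B => Hit (ιSL B)) B ?_ ?_ ?_
  · intro i j hij c hc
    have hc1 : c = 1 := by
      rcases zmod2_cases c with h | h
      · exact absurd h hc
      · exact h
    subst hc1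
    have : Matrix.SpecialLinearGroup.diag2n hij (1 : ZMod 2) hc = 1 := by
      apply Subtype.ext
      rw [Matrix.SpecialLinearGroup.diag2n_coe, Matrix.SpecialLinearGroup.coe_one]
      ext r s
      simp [Matrix.diagonal_apply, Matrix.one_apply]
    show Hit (ιSL (Matrix.SpecialLinearGroup.diag2n hij (1 : ZMod 2) hc))
    rw [this, ιSL_one]
    exact Hit.one
  · intro i j hij a
    show Hit (ιSL (Matrix.SpecialLinearGroup.transvection hij a))
    rcases zmod2_cases a with h | h
    · subst h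
      rw [Matrix.SpecialLinearGroup.transvection_coeff_zero, ιSL_one]
      exact Hit.one
    · subst h
      exact hit_of_mat _ (exists_of_chkW _ _ (T_ok i j hij))
  · intro A B hA hB
    show Hit (ιSL (A * B))
    rw [ιSL_mul]
    exact hA.mul hB

/-! ### The shape of the matrices commuting with the transvection -/

/-- The transvection. -/
abbrev tM : Matrix (Fin 5) (Fin 5) (ZMod 2) := Matrix.transvection 0 1 1

theorem shape (M : Matrix (Fin 5) (Fin 5) (ZMod 2)) (h : tM * M = M * tM) :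
    M 1 0 = 0 ∧ M 2 0 = 0 ∧ M 3 0 = 0 ∧ M 4 0 = 0 ∧ M 1 2 = 0 ∧ M 1 3 = 0 ∧ M 1 4 = 0 ∧
      M 1 1 = M 0 0 := by
  have e : ∀ i j, (tM * M) i j = (M * tM) i j := fun i j => by rw [h]
  have e00 := e 0 0
  have e02 := e 0 2
  have e03 := e 0 3
  have e04 := e 0 4
  have e01 := e 0 1
  have e21 := e 2 1
  have e31 := e 3 1
  have e41 := e 4 1
  simp [tM, Matrix.transvection, Matrix.mul_apply, Fin.sum_univ_five, Matrix.add_apply,
    Matrix.one_apply, Matrix.single_apply, add_mul, mul_add] at e00 e02 e03 e04 e01 e21 e31 e41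
  refine ⟨e00, e21, e31, e41, e02, e03, e04, ?_⟩
  have h1 : M 0 1 + M 1 1 = M 0 1 + M 0 0 := by rw [e01, add_comm]
  exact add_left_cancel h1

end Cfsg.Agent.Helper26.CZ
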