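import Mathlib
import Cfsg.Agent.Lib.Helper26.CZf

/-!
# The isomorphism between the centralizer of `z` in `M₂₄` and the centralizer of a transvection
-/

set_option autoImplicit false

namespace Cfsg.Agent.Helper26.CZ

open Cfsg Cfsg.Agent.Helper26
open Matrix

/-- The lower right three by three block. -/
def Bof (M : Matrix (Fin 5) (Fin 5) (ZMod 2)) : Matrix (Fin 3) (Fin 3) (ZMod 2) :=
  !![M 2 2, M 2 3, M 2 4; M 3 2, M 3 3, M 3 4; M 4 2, M 4 3, M 4 4]

theorem Bof_one : Bof 1 = 1 := by decide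

theorem Bof_mul (M N : Matrix (Fin 5) (Fin 5) (ZMod 2)) (h2 : M 2 0 = 0) (h3 : M 3 0 = 0)
    (h4 : M 4 0 = 0) (k2 : N 1 2 = 0) (k3 : N 1 3 = 0) (k4 : N 1 4 = 0) :
    Bof (M * N) = Bof M * Bof N := by
  ext i j
  fin_cases i <;> fin_cases j <;>
    simp [Bof, Matrix.mul_apply, Fin.sum_univ_five, Fin.sum_univ_three, h2, h3, h4, k2, k3, k4]

theorem decomp (M : Matrix (Fin 5) (Fin 5) (ZMod 2)) (h00 : M 0 0 = 1) (h11 : M 1 1 = 1)
    (h10 : M 1 0 = 0) (h20 : M 2 0 = 0) (h30 : M 3 0 = 0) (h40 : M 4 0 = 0)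
    (h12 : M 1 2 = 0) (h13 : M 1 3 = 0) (h14 : M 1 4 = 0) :
    M = Lmat (M 2 1) (M 3 1) (M 4 1) * ι (Bof M) * Umat (M 0 1) (M 0 2) (M 0 3) (M 0 4) := by
  ext i j
  fin_cases i <;> fin_cases j <;>
    simp [Lmat, ι, Umat, Bof, Matrix.mul_apply, Fin.sum_univ_five, h00, h11, h10, h20, h30, h40,
      h12, h13, h14]

theorem ne_zero_zmod2 : ∀ x : ZMod 2, x ≠ 0 → x = 1 := by decide

theorem hit_of_comm (A : SL5) (h : tM * A.1 = A.1 * tM) : Hit A := by
  -- the inverse also commutes with the transvection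
  have hAA' : A.1 * (A⁻¹).1 = 1 := by
    rw [← Matrix.SpecialLinearGroup.coe_mul, mul_inv_cancel, Matrix.SpecialLinearGroup.coe_one]
  have hA'A : (A⁻¹).1 * A.1 = 1 := by
    rw [← Matrix.SpecialLinearGroup.coe_mul, inv_mul_cancel, Matrix.SpecialLinearGroup.coe_one]
  have h' : tM * (A⁻¹).1 = (A⁻¹).1 * tM := by
    calc tM * (A⁻¹).1 = ((A⁻¹).1 * A.1) * (tM * (A⁻¹).1) := by rw [hA'A, Matrix.one_mul]
      _ = (A⁻¹).1 * (A.1 * tM) * (A⁻¹).1 := by simp only [Matrix.mul_assoc]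
      _ = (A⁻¹).1 * (tM * A.1) * (A⁻¹).1 := by rw [h]
      _ = (A⁻¹).1 * tM * (A.1 * (A⁻¹).1) := by simp only [Matrix.mul_assoc]
      _ = (A⁻¹).1 * tM := by rw [hAA', Matrix.mul_one]
  obtain ⟨a10, a20, a30, a40, a12, a13, a14, a11⟩ := shape A.1 h
  obtain ⟨b10, b20, b30, b40, b12, b13, b14, b11⟩ := shape (A⁻¹).1 h'
  have a00 : A.1 0 0 = 1 := by
    apply ne_zero_zmod2
    intro h0
    have hdet := Matrix.det_eq_zero_of_column_eq_zero (A := A.1) 0 (by
      intro i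
      fin_cases i
      · exact h0
      · exact a10
      · exact a20
      · exact a30
      · exact a40)
    rw [A.2] at hdet
    revert hdet
    decide
  rw [a00] at a11
  -- the block is invertible
  have hB : (Bof A.1).det = 1 := by
    have h1 : Bof A.1 * Bof (A⁻¹).1 = 1 := by
      rw [← Bof_mul _ _ a20 a30 a40 b12 b13 b14, hAA', Bof_one]
    have h2 := congrArg Matrix.det h1
    rw [Matrix.det_mul, Matrix.det_one] at h2
    exact unit_zmod2 _ _ h2
  obtain ⟨gB, hgB⟩ := hit_ι ⟨Bof A.1, hB⟩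
  obtain ⟨gL, hgL⟩ := exists_of_chkW _ _ (L_ok (A.1 2 1) (A.1 3 1) (A.1 4 1))
  obtain ⟨gU, hgU⟩ := exists_of_chkW _ _ (U_ok (A.1 0 1) (A.1 0 2) (A.1 0 3) (A.1 0 4))
  refine ⟨gL * gB * gU, ?_⟩
  apply Subtype.ext
  rw [map_mul, map_mul, Matrix.SpecialLinearGroup.coe_mul, Matrix.SpecialLinearGroup.coe_mul, hgL,
    hgU, hgB]
  exact (decomp A.1 a00 a11 a10 a20 a30 a40 a12 a13 a14).symm

/-- The main theorem. -/
theorem main (s : SL5) (hs : (s : Matrix (Fin 5) (Fin 5) (ZMod 2)) = Matrix.transvection 0 1 1) :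
    ∃ z : ↥Cfsg.M24, orderOf z = 2 ∧
      Nonempty (↥(Subgroup.centralizer ({z} : Set ↥Cfsg.M24)) ≃*
        ↥(Subgroup.centralizer ({s} : Set SL5))) := by
  refine ⟨zM, orderOf_zM, ?_⟩
  have hmem : ∀ g : ↥CZg, ΨSL g ∈ Subgroup.centralizer ({s} : Set SL5) := by
    intro g
    rw [Subgroup.mem_centralizer_iff]
    intro y hy
    rw [Set.mem_singleton_iff] at hy
    rw [hy]
    apply Subtype.ext
    rw [Matrix.SpecialLinearGroup.coe_mul, Matrix.SpecialLinearGroup.coe_mul, hs]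
    exact ΨSL_comm g
  let f : ↥CZg →* ↥(Subgroup.centralizer ({s} : Set SL5)) := ΨSL.codRestrict _ hmem
  have hinj : Function.Injective f := by
    intro g h hgh
    apply ΨSL_injective
    exact congrArg Subtype.val hgh
  have hsurj : Function.Surjective f := by
    intro A
    have h1 := Subgroup.mem_centralizer_iff.1 A.2 s rfl
    have h2 : tM * (A : SL5).1 = (A : SL5).1 * tM := by
      have := congrArg Subtype.val h1
      rw [Matrix.SpecialLinearGroup.coe_mul, Matrix.SpecialLinearGroup.coe_mul, hs] at this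
      exact this
    obtain ⟨g, hg⟩ := hit_of_comm (A : SL5) h2
    exact ⟨g, Subtype.ext hg⟩
  exact ⟨MulEquiv.ofBijective f ⟨hinj, hsurj⟩⟩

end Cfsg.Agent.Helper26.CZ
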