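import Mathlib

/-!
# Centralizers: a bound from distinct conjugates, and splitting off a central involution
-/

set_option autoImplicit false

namespace Cfsg.Agent.Helper26.CentProd

variable {J : Type*} [Group J]

/-- If `t` has at least `n` distinct conjugates, then `|C(t)| * n ≤ |J|`. -/
theorem card_centralizer_mul_le [Finite J] (t : J) (n : ℕ) (g : ℕ → J)
    (hinj : ∀ i < n, ∀ j < n, g i * t * (g i)⁻¹ = g j * t * (g j)⁻¹ → i = j) :
    Nat.card (Subgroup.centralizer ({t} : Set J)) * n ≤ Nat.card J := by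
  set C := Subgroup.centralizer ({t} : Set J) with hC
  have h1 : n ≤ C.index := by
    have hf : Function.Injective (fun i : Fin n => (QuotientGroup.mk (g i.val) : J ⧸ C)) := by
      intro i j h
      have h2 : (g i.val)⁻¹ * g j.val ∈ C := QuotientGroup.eq.1 h
      rw [hC, Subgroup.mem_centralizer_iff] at h2
      have h3 := h2 t rfl
      apply Fin.ext
      apply hinj _ i.2 _ j.2
      have h4 : g j.val = g i.val * ((g i.val)⁻¹ * g j.val) := by group
      rw [h4, mul_assoc (g i.val) _ t, ← h3]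
      group
    have h5 := Nat.card_le_card_of_injective _ hf
    rwa [Nat.card_fin] at h5
  calc Nat.card C * n ≤ Nat.card C * C.index := Nat.mul_le_mul_left _ h1
    _ = Nat.card J := Subgroup.card_mul_index C

/-- Keys which are strictly increasing along a permutation of the indices are distinct. -/
theorem key_inj_of_sorted (n : ℕ) (KEY PI PINV : ℕ → ℕ)
    (h1 : ∀ i < n, PI i < n ∧ PINV (PI i) = i)
    (h2 : ∀ m, m + 1 < n → KEY (PINV m) < KEY (PINV (m + 1))) :
    ∀ i < n, ∀ j < n, KEY i = KEY j → i = j := by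
  have sorted_lt : ∀ m m', m < m' → m' < n → KEY (PINV m) < KEY (PINV m') := by
    intro m m' h hm'
    induction m' with
    | zero => exact absurd h (Nat.not_lt_zero m)
    | succ k ih =>
      rcases Nat.lt_succ_iff_lt_or_eq.1 h with h3 | h3
      · exact lt_trans (ih h3 (by omega)) (h2 k hm')
      · rw [h3]; exact h2 k hm'
  intro i hi j hj h
  obtain ⟨hi1, hi2⟩ := h1 i hi
  obtain ⟨hj1, hj2⟩ := h1 j hj
  have hk : KEY (PINV (PI i)) = KEY (PINV (PI j)) := by rw [hi2, hj2, h]
  have : PI i = PI j := by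
    rcases Nat.lt_trichotomy (PI i) (PI j) with h3 | h3 | h3
    · exact absurd hk (ne_of_lt (sorted_lt _ _ h3 hj1))
    · exact h3
    · exact absurd hk.symm (ne_of_lt (sorted_lt _ _ h3 hi1))
  rw [← hi2, ← hj2, this]

/-- An element of `zpowers t` with `t ^ 2 = 1` is `1` or `t`. -/
theorem eq_one_or_eq_of_mem_zpowers {t z : J} (ht : t ^ 2 = 1) (hz : z ∈ Subgroup.zpowers t) :
    z = 1 ∨ z = t := by
  obtain ⟨k, rfl⟩ := Subgroup.mem_zpowers_iff.1 hz
  have h2 : t ^ (2 : ℤ) = 1 := by
    rw [show (2 : ℤ) = ((2 : ℕ) : ℤ) from rfl, zpow_natCast, ht]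
  rcases Int.even_or_odd' k with ⟨m, rfl | rfl⟩
  · left; rw [zpow_mul, h2, one_zpow]
  · right; rw [zpow_add, zpow_mul, h2, one_zpow, one_mul, zpow_one]

/-- If `t` is an involution, `B` a subgroup of its centralizer not containing `t`, and
`|C(t)| ≤ 2 |B|`, then `C(t) ≅ 2 × B`. -/
theorem centralizer_equiv_prod [Finite J] (t : J) (ht : orderOf t = 2) (B : Subgroup J)
    (hB : B ≤ Subgroup.centralizer ({t} : Set J)) (htB : t ∉ B)
    (hcard : Nat.card (Subgroup.centralizer ({t} : Set J)) ≤ 2 * Nat.card B) :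
    Nonempty (Subgroup.centralizer ({t} : Set J) ≃* Multiplicative (ZMod 2) × B) := by
  have ht2 : t ^ 2 = 1 := by rw [← ht]; exact pow_orderOf_eq_one t
  set C := Subgroup.centralizer ({t} : Set J) with hC
  set Z := Subgroup.zpowers t with hZ
  have hcomm : ∀ (z : Z) (b : B), Commute (Z.subtype z) (B.subtype b) := by
    intro z b
    have hb := hB b.2
    rw [hC, Subgroup.mem_centralizer_iff] at hb
    have h1 : Commute t (b : J) := hb t rfl
    obtain ⟨k, hk⟩ := Subgroup.mem_zpowers_iff.1 z.2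
    show Commute (z : J) (b : J)
    rw [← hk]
    exact h1.zpow_left k
  let φ : Z × B →* J := MonoidHom.noncommCoprod Z.subtype B.subtype hcomm
  have hφ : ∀ p : Z × B, φ p = (p.1 : J) * (p.2 : J) := fun p => rfl
  have hmem : ∀ p : Z × B, φ p ∈ C := by
    intro p
    rw [hφ]
    apply C.mul_mem
    · rw [hC, Subgroup.mem_centralizer_iff]
      intro h hh
      rw [Set.mem_singleton_iff] at hh
      rw [hh]
      obtain ⟨k, hk⟩ := Subgroup.mem_zpowers_iff.1 p.1.2
      rw [← hk]
      exact ((Commute.refl t).zpow_right k).eq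
    · exact hB p.2.2
  let ψ : Z × B →* C := φ.codRestrict C hmem
  have hinj : Function.Injective ψ := by
    rw [injective_iff_map_eq_one]
    intro p hp
    have h1 : (p.1 : J) * (p.2 : J) = 1 := by
      have := congrArg Subtype.val hp
      exact this
    have h2 : (p.1 : J) = ((p.2 : J))⁻¹ := eq_inv_of_mul_eq_one_left h1
    have h3 : (p.1 : J) ∈ B := by rw [h2]; exact B.inv_mem p.2.2
    rcases eq_one_or_eq_of_mem_zpowers ht2 p.1.2 with h4 | h4
    · have h5 : (p.2 : J) = 1 := by rw [h4, one_mul] at h1; exact h1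
      exact Prod.ext (Subtype.ext h4) (Subtype.ext h5)
    · rw [h4] at h3; exact absurd h3 htB
  have hcZ : Nat.card Z = 2 := by rw [hZ, Nat.card_zpowers, ht]
  have hbij : Function.Bijective ψ := by
    apply hinj.bijective_of_nat_card_le
    rw [Nat.card_prod, hcZ]
    exact hcard
  have : Fact (Nat.Prime 2) := ⟨Nat.prime_two⟩
  have e1 : Z ≃* Multiplicative (ZMod 2) :=
    mulEquivOfPrimeCardEq hcZ (by rw [Nat.card_eq_fintype_card]; rfl)
  exact ⟨(MulEquiv.ofBijective ψ hbij).symm.trans (MulEquiv.prodCongr e1 (MulEquiv.refl _))⟩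

end Cfsg.Agent.Helper26.CentProd
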