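import Mathlib

set_option autoImplicit false

/-!
Coprime action on a finite abelian group: `H = C_H(A) × [H, A]`.
-/

namespace Cfsg.Agent.Helper26

open Finset

section
variable {H : Type*} [CommGroup H] [Finite H] (A : Subgroup (MulAut H))

/-- the norm map `s ↦ ∏_{β ∈ A} β s` -/
noncomputable def normMap : H →* H :=
  letI : Fintype A := Fintype.ofFinite A
  ∏ β : A, ((β : MulAut H) : H ≃* H).toMonoidHom

lemma normMap_apply (s : H) :
    letI : Fintype A := Fintype.ofFinite A
    normMap A s = ∏ β : A, (β : MulAut H) s := by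
  letI : Fintype A := Fintype.ofFinite A
  unfold normMap
  rw [MonoidHom.finset_prod_apply]
  rfl

lemma normMap_comp (α : A) (s : H) : normMap A ((α : MulAut H) s) = normMap A s := by
  letI : Fintype A := Fintype.ofFinite A
  rw [normMap_apply, normMap_apply]
  refine Fintype.prod_equiv (Equiv.mulRight α) _ _ (fun β => ?_)
  simp [MulAut.mul_apply]

lemma apply_normMap (α : A) (s : H) : (α : MulAut H) (normMap A s) = normMap A s := by
  letI : Fintype A := Fintype.ofFinite A
  rw [normMap_apply, map_prod]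
  refine Fintype.prod_equiv (Equiv.mulLeft α) _ _ (fun β => ?_)
  simp [MulAut.mul_apply]

lemma normMap_of_fixed {z : H} (hz : ∀ α ∈ A, α z = z) : normMap A z = z ^ Nat.card A := by
  letI : Fintype A := Fintype.ofFinite A
  rw [normMap_apply]
  rw [Finset.prod_congr rfl (fun (β : A) _ => hz (β : MulAut H) β.2)]
  rw [Finset.prod_const, Finset.card_univ, Nat.card_eq_fintype_card]

/-- the commutator generators -/
def commGens : Set H := {y | ∃ α ∈ A, ∃ x : H, y = x⁻¹ * α x}

lemma normMap_commGens {y : H} (hy : y ∈ Subgroup.closure (commGens A)) : normMap A y = 1 := by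
  have : Subgroup.closure (commGens A) ≤ (normMap A).ker := by
    rw [Subgroup.closure_le]
    rintro _ ⟨α, hα, x, rfl⟩
    rw [SetLike.mem_coe, MonoidHom.mem_ker, map_mul, map_inv]
    have := normMap_comp A ⟨α, hα⟩ x
    simp only at this
    rw [this, inv_mul_cancel]
  exact this hy

lemma pow_card_eq (s : H) :
    ∃ d ∈ Subgroup.closure (commGens A), s ^ Nat.card A = normMap A s * d := by
  letI : Fintype A := Fintype.ofFinite A
  refine ⟨∏ β : A, ((β : MulAut H) s)⁻¹ * s, ?_, ?_⟩
  · apply Subgroup.prod_mem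
    intro β _
    have : ((β : MulAut H) s)⁻¹ * s = (s⁻¹ * (β : MulAut H) s)⁻¹ := by
      rw [mul_inv_rev, inv_inv]
    rw [this]
    apply Subgroup.inv_mem
    exact Subgroup.subset_closure ⟨β, β.2, s, rfl⟩
  · rw [normMap_apply, ← Finset.prod_mul_distrib]
    simp only [mul_inv_cancel_left]
    rw [Finset.prod_const, Finset.card_univ, Nat.card_eq_fintype_card]

/-- `H = C_H(A) [H, A]` -/
theorem exists_fixed_mul_comm (hcop : (Nat.card H).Coprime (Nat.card A)) (s : H) :
    ∃ c d : H, s = c * d ∧ (∀ α ∈ A, α c = c) ∧ d ∈ Subgroup.closure (commGens A) := by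
  obtain ⟨t, ht⟩ := (powCoprime hcop).surjective s
  rw [powCoprime_apply] at ht
  obtain ⟨d, hd, hs⟩ := pow_card_eq A t
  refine ⟨normMap A t, d, ?_, ?_, hd⟩
  · rw [← ht, hs]
  · intro α hα
    exact apply_normMap A ⟨α, hα⟩ t

/-- `C_H(A) ∩ [H, A] = 1` -/
theorem eq_one_of_fixed_of_comm (hcop : (Nat.card H).Coprime (Nat.card A)) {z : H}
    (hz : ∀ α ∈ A, α z = z) (hz' : z ∈ Subgroup.closure (commGens A)) : z = 1 := by
  have h1 := normMap_commGens A hz'
  rw [normMap_of_fixed A hz] at h1
  apply (powCoprime hcop).injective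
  rw [powCoprime_apply, powCoprime_apply, h1, one_pow]

end

end Cfsg.Agent.Helper26
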