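import Mathlib
import Cfsg.Agent.Lib.Helper26.PermCert

/-!
# Straight-line programs on encoded permutations

A table of codes in which each entry beyond the first few is the product of two earlier entries;
if the first few entries encode elements of a subgroup, so do all of them.
-/

set_option autoImplicit false

namespace Cfsg.Agent.Helper26.PermSLP

open Cfsg Cfsg.Agent.Helper26 Cfsg.Agent.Helper26.PermCert
open Cfsg.Agent.Helper29.M24 (app idx_lt)
open Cfsg.Agent.S0358 (idx)

/-- The check of the node `k`: it is the product of the nodes `SA k` and `SB k`. -/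
def slpOK (SC SA SB : ℕ → ℕ) (k : ℕ) : Bool :=
  Nat.blt (SA k) k && Nat.blt (SB k) k &&
    seqN (SC k) fun c => seqN (SC (SA k)) fun a => seqN (SC (SB k)) fun b =>
      allB 24 fun p => Nat.beq (appN c p) (appN a (appN b p))

theorem slp_sound (SC SA SB : ℕ → ℕ) (nBase nS : ℕ) (K : Subgroup (Equiv.Perm GolayPt))
    (hbase : ∀ k < nBase, ∃ σ ∈ K, Coded σ (SC k))
    (hchk : ∀ k, nBase ≤ k → k < nS → slpOK SC SA SB k = true) :
    ∀ k < nS, ∃ σ ∈ K, Coded σ (SC k) := by
  intro k
  induction k using Nat.strong_induction_on with
  | _ k ih =>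
    intro hk
    by_cases hb : k < nBase
    · exact hbase k hb
    · have h := hchk k (by omega) hk
      unfold slpOK at h
      rw [Bool.and_eq_true, Bool.and_eq_true] at h
      simp only [seqN_eq] at h
      have hA : SA k < k := by
        have := h.1.1
        unfold Nat.blt at this
        have h3 := Nat.le_of_ble_eq_true this
        omega
      have hB : SB k < k := by
        have := h.1.2
        unfold Nat.blt at this
        have h3 := Nat.le_of_ble_eq_true this
        omega
      obtain ⟨σ, hσ, hσc⟩ := ih (SA k) hA (by omega)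
      obtain ⟨τ, hτ, hτc⟩ := ih (SB k) hB (by omega)
      refine ⟨σ * τ, K.mul_mem hσ hτ, ?_⟩
      intro q
      have h1 := Nat.eq_of_beq_eq_true (allB_true h.2 (idx q) (idx_lt q))
      simp only [appN_eq] at h1
      rw [Equiv.Perm.mul_apply, hσc, hτc, h1]

end Cfsg.Agent.Helper26.PermSLP
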