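import Mathlib
import Cfsg.Prelude.Def_Spor_Mathieu
import Cfsg.Agent.Lib.Helper29.M24Dodecad3
import Cfsg.Agent.Lib.Helper26.PermSLP
import Cfsg.Agent.Lib.Helper26.M24Aut

/-!
# Generating the small Mathieu groups `M₁₂` and `M₁₁`

The stabilizer `M₁₂` of the dodecad of squares is sharply 5-transitive on it; a subgroup of it
that contains transversals for the stabilizer chain of the points `0, 1, 2, 3, 4` of the dodecad
(from some level on) contains the corresponding stabilizer.
-/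

set_option autoImplicit false

namespace Cfsg.Agent.Helper26.DodSift

open scoped Pointwise
open Cfsg Cfsg.Agent.Helper26 Cfsg.Agent.Helper26.PermCert
open Cfsg.Agent.Helper29.M24 Cfsg.Agent.Helper29 Cfsg.Agent.Helper29.Dod3
open Cfsg.Agent.Helper27 (maskSet mem_maskSet qrWord_eq_ofMask maskSet_eq_support₂)
open Cfsg.Agent.S0358 (idx)

/-- The mask of the dodecad of squares. -/
def MASK : ℕ := 340831

theorem sqD_eq : Cfsg.Spor.squareDodecad = maskSet MASK := by
  unfold Cfsg.Spor.squareDodecad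
  rw [qrWord_eq_ofMask 0, ← maskSet_eq_support₂]
  congr 1

theorem sqD_mem : maskSet MASK ∈ Cfsg.dodecads := by
  have h : maskSet MASK = dod0 := dod0_eq.symm
  rw [h]
  exact dod0_mem

theorem smul_finset_eq_iff (g : Equiv.Perm GolayPt) (S : Finset GolayPt) :
    g • S = S ↔ ∀ q, g q ∈ S ↔ q ∈ S := by
  constructor
  · intro h q
    have h1 : g • q ∈ g • S ↔ q ∈ S := Finset.smul_mem_smul_finset_iff g
    rw [h] at h1
    exact h1
  · intro h
    ext p
    constructor
    · intro hp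
      obtain ⟨q, hq, rfl⟩ := Finset.mem_smul_finset.1 hp
      exact (h q).2 hq
    · intro hp
      refine Finset.mem_smul_finset.2 ⟨g⁻¹ p, ?_, ?_⟩
      · rw [← h]
        simpa using hp
      · simp

theorem mem_M12_iff (g : Equiv.Perm GolayPt) :
    g ∈ Cfsg.Spor.M12 ↔
      g ∈ Cfsg.M24 ∧ ∀ q, MASK.testBit (idx (g q)) = MASK.testBit (idx q) := by
  unfold Cfsg.Spor.M12
  rw [Subgroup.mem_inf]
  apply and_congr Iff.rfl
  rw [MulAction.mem_stabilizer_iff, sqD_eq, smul_finset_eq_iff]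
  constructor
  · intro h q
    have h1 := h q
    rw [mem_maskSet, mem_maskSet] at h1
    cases hb : MASK.testBit (idx q)
    · cases hb' : MASK.testBit (idx (g q))
      · rfl
      · rw [hb, hb'] at h1
        exact absurd (h1.1 rfl) (by simp)
    · exact h1.2 hb
  · intro h q
    rw [mem_maskSet, mem_maskSet, h q]

theorem M12_le : Cfsg.Spor.M12 ≤ Cfsg.M24 := fun g h => ((mem_M12_iff g).1 h).1

theorem mem_M11_iff (g : Equiv.Perm GolayPt) :
    g ∈ Cfsg.Spor.M11 ↔ g ∈ Cfsg.Spor.M12 ∧ g (some 0 : GolayPt) = some 0 := by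
  unfold Cfsg.Spor.M11
  rw [Subgroup.mem_inf]
  exact Iff.rfl

theorem M11_le : Cfsg.Spor.M11 ≤ Cfsg.Spor.M12 := fun g h => ((mem_M11_iff g).1 h).1

/-- Membership in `M₁₂` of an element of `M₂₄` given by a code. -/
theorem mem_M12_of_coded {σ : Equiv.Perm GolayPt} {c : ℕ} (hσ : Coded σ c) (h24 : σ ∈ Cfsg.M24)
    (h : ∀ p < 24, MASK.testBit (app c p) = MASK.testBit p) : σ ∈ Cfsg.Spor.M12 := by
  refine (mem_M12_iff σ).2 ⟨h24, fun q => ?_⟩
  rw [hσ]
  exact h _ (idx_lt q)

theorem dec_zero : dec 0 = (some 0 : GolayPt) := by decide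

/-! ### Sifting -/

theorem mask_small : ∀ i < 5, MASK.testBit i = true := by decide

/-- The five base points. -/
def basePts : Fin 5 ↪ GolayPt := ⟨fun i => dec i.val, by decide⟩

theorem eq_one_of_fix_five (σ : Equiv.Perm GolayPt) (hσ : σ ∈ Cfsg.Spor.M12)
    (hfix : ∀ j < 5, σ (dec j) = dec j) : σ = 1 := by
  have h12 : σ ∈ Cfsg.M24 ∧
      σ ∈ MulAction.stabilizer (Equiv.Perm GolayPt) Cfsg.Spor.squareDodecad :=
    Subgroup.mem_inf.1 hσ
  have h2 : σ • maskSet MASK = maskSet MASK := by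
    rw [← sqD_eq]; exact h12.2
  apply dodecad_rigid (maskSet MASK) sqD_mem basePts ?_ σ h12.1 h2
  · intro i
    exact hfix i.val i.isLt
  · intro i
    show dec i.val ∈ maskSet MASK
    rw [mem_maskSet, idx_dec ⟨i.val, by omega⟩]
    exact mask_small i.val i.isLt

theorem sift_step (K : Subgroup (Equiv.Perm GolayPt)) (hK : K ≤ Cfsg.Spor.M12) (i : ℕ)
    (hi : i < 5)
    (htr : ∀ q < 24, MASK.testBit q = true → (∀ j < i, q ≠ j) →
      ∃ t ∈ K, (∀ j < i, t (dec j) = dec j) ∧ t (dec i) = dec q)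
    (hnext : ∀ σ, σ ∈ Cfsg.Spor.M12 → (∀ j < i + 1, σ (dec j) = dec j) → σ ∈ K) :
    ∀ σ, σ ∈ Cfsg.Spor.M12 → (∀ j < i, σ (dec j) = dec j) → σ ∈ K := by
  intro σ hσ hfix
  obtain ⟨q, hq⟩ : ∃ q, q = idx (σ (dec i)) := ⟨_, rfl⟩
  have hq24 : q < 24 := by rw [hq]; exact idx_lt _
  have hdq : dec q = σ (dec i) := by rw [hq, dec_idx]
  have hmask : MASK.testBit q = true := by
    rw [hq, ((mem_M12_iff σ).1 hσ).2, idx_dec ⟨i, by omega⟩]
    exact mask_small i hi
  have hne : ∀ j < i, q ≠ j := by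
    intro j hj hqj
    have h1 : σ (dec i) = σ (dec j) := by rw [← hdq, hqj, hfix j hj]
    have h2 := σ.injective h1
    have h3 := congrArg idx h2
    rw [idx_dec ⟨i, by omega⟩, idx_dec ⟨j, by omega⟩] at h3
    exact absurd h3 (by simpa using (Nat.ne_of_gt hj))
  obtain ⟨t, htK, htfix, hti⟩ := htr q hq24 hmask hne
  have hσ' : t⁻¹ * σ ∈ K := by
    apply hnext
    · exact Subgroup.mul_mem _ (Subgroup.inv_mem _ (hK htK)) hσ
    · intro j hj
      rw [Equiv.Perm.mul_apply]
      by_cases hji : j < i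
      · rw [hfix j hji, Equiv.Perm.inv_eq_iff_eq, htfix j hji]
      · have : j = i := by omega
        rw [this, Equiv.Perm.inv_eq_iff_eq, hti, hdq]
  have : σ = t * (t⁻¹ * σ) := by group
  rw [this]
  exact Subgroup.mul_mem _ htK hσ'

/-- A subgroup of `M₁₂` with transversals from level `i0` on contains the stabilizer in `M₁₂` of
the first `i0` base points. -/
theorem sift_all (K : Subgroup (Equiv.Perm GolayPt)) (hK : K ≤ Cfsg.Spor.M12) (i0 : ℕ)
    (htr : ∀ i, i0 ≤ i → i < 5 → ∀ q < 24, MASK.testBit q = true → (∀ j < i, q ≠ j) →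
      ∃ t ∈ K, (∀ j < i, t (dec j) = dec j) ∧ t (dec i) = dec q) :
    ∀ σ, σ ∈ Cfsg.Spor.M12 → (∀ j < i0, σ (dec j) = dec j) → σ ∈ K := by
  have key : ∀ m, ∀ i, i + m = 5 → i0 ≤ i →
      ∀ σ, σ ∈ Cfsg.Spor.M12 → (∀ j < i, σ (dec j) = dec j) → σ ∈ K := by
    intro m
    induction m with
    | zero =>
      intro i hi _ σ hσ hfix
      have : i = 5 := by omega
      rw [this] at hfix
      rw [eq_one_of_fix_five σ hσ hfix]
      exact K.one_mem
    | succ m ih =>
      intro i hi hi0 σ hσ hfix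
      exact sift_step K hK i (by omega) (htr i hi0 (by omega))
        (ih (i + 1) (by omega) (by omega)) σ hσ hfix
  by_cases h5 : i0 ≤ 5
  · exact key (5 - i0) i0 (by omega) le_rfl
  · intro σ hσ hfix
    rw [eq_one_of_fix_five σ hσ (fun j hj => hfix j (by omega))]
    exact K.one_mem

/-! ### Transversals from a straight-line program -/

/-- The check of the transversal element for the level `i` and the point `q`. -/
def trOK (SC TR : ℕ → ℕ) (nS i q : ℕ) : Bool :=
  !(MASK.testBit q) || (List.range i).any (fun j => q == j) ||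
    (Nat.blt (TR (24 * i + q)) nS && (app (SC (TR (24 * i + q))) i == q) &&
      (List.range i).all fun j => app (SC (TR (24 * i + q))) j == j)

theorem tr_sound (SC TR : ℕ → ℕ) (nS i0 : ℕ) (K : Subgroup (Equiv.Perm GolayPt))
    (hnode : ∀ k < nS, ∃ σ ∈ K, Coded σ (SC k))
    (hchk : ∀ i < 5, i0 ≤ i → ∀ q < 24, trOK SC TR nS i q = true) :
    ∀ i, i0 ≤ i → i < 5 → ∀ q < 24, MASK.testBit q = true → (∀ j < i, q ≠ j) →
      ∃ t ∈ K, (∀ j < i, t (dec j) = dec j) ∧ t (dec i) = dec q := by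
  intro i hi0 hi q hq hmask hne
  have h := hchk i hi hi0 q hq
  unfold trOK at h
  rw [Bool.or_eq_true, Bool.or_eq_true] at h
  rcases h with (h | h) | h
  · rw [hmask] at h
    exact absurd h (by simp)
  · rw [List.any_eq_true] at h
    obtain ⟨j, hj, hqj⟩ := h
    rw [List.mem_range] at hj
    rw [beq_iff_eq] at hqj
    exact absurd hqj (hne j hj)
  · rw [Bool.and_eq_true, Bool.and_eq_true, beq_iff_eq, List.all_eq_true] at h
    obtain ⟨⟨h1, h2⟩, h3⟩ := h
    have hlt : TR (24 * i + q) < nS := by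
      unfold Nat.blt at h1
      have := Nat.le_of_ble_eq_true h1
      omega
    obtain ⟨t, htK, htc⟩ := hnode _ hlt
    refine ⟨t, htK, ?_, ?_⟩
    · intro j hj
      apply idx_injective
      have := h3 j (List.mem_range.2 hj)
      rw [beq_iff_eq] at this
      rw [htc, idx_dec ⟨j, by omega⟩, this]
    · apply idx_injective
      rw [htc, idx_dec ⟨i, by omega⟩, h2, idx_dec ⟨q, hq⟩]

end Cfsg.Agent.Helper26.DodSift
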