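import Mathlib
import Cfsg.Agent.Lib.Helper26.Schreier

/-!
# Packed 9 × 9 matrices over a field with four elements

A matrix is stored as a natural number of 162 bits: entry `(r, c)` occupies the bits
`18 * r + 2 * c` (coefficient of `1`) and `18 * r + 2 * c + 1` (coefficient of `ω`).
The product is computed with nine pairs of integer multiplications (`mmP`), and the soundness
theorem `decM_mmP` says that decoding commutes with the product, over any field of characteristic
two with a root `ω` of `x² + x + 1`.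
-/

set_option autoImplicit false

namespace Cfsg.Agent.Helper26.F4M

/-! ### Bit masks -/

/-- `∑_{t < n} 4 ^ t`. -/
def evenMask : ℕ → ℕ
  | 0 => 0
  | n + 1 => 4 * evenMask n + 1

theorem testBit_evenMask (n i : ℕ) :
    (evenMask n).testBit i = (decide (i < 2 * n) && decide (i % 2 = 0)) := by
  induction n generalizing i with
  | zero => simp [evenMask]
  | succ n ih =>
    rw [evenMask, show (4 : ℕ) = 2 ^ 2 from rfl,
      Nat.testBit_two_pow_mul_add _ (by norm_num : 1 < 2 ^ 2)]
    split
    · rename_i h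
      interval_cases i <;> simp <;> rfl
    · rename_i h
      rw [ih]
      have h1 : (i - 2 < 2 * n) = (i < 2 * (n + 1)) := by
        apply propext; omega
      have h2 : (i - 2) % 2 = i % 2 := by omega
      simp only [h1, h2]

/-- `∑_{t < n} 2 ^ (18 t)`. -/
def colMask : ℕ → ℕ
  | 0 => 0
  | n + 1 => 2 ^ 18 * colMask n + 1

/-- The even bits below `2 ^ 162`. -/
def mE : ℕ := 0x15555555555555555555555555555555555555555

theorem mE_eq : mE = evenMask 81 := by decide +kernel

/-- The lowest bit of each row. -/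
def mCol : ℕ := 0x1000040001000040001000040001000040001

theorem mCol_eq : mCol = colMask 9 := by decide +kernel

/-- One row. -/
def mRow : ℕ := 0x3ffff

theorem mRow_eq : mRow = 2 ^ 18 - 1 := by decide +kernel

theorem testBit_mE (i : ℕ) : mE.testBit i = (decide (i < 162) && decide (i % 2 = 0)) := by
  rw [mE_eq, testBit_evenMask]

theorem and_colMask_succ (X m : ℕ) :
    X &&& (2 ^ 18 * m + 1) = 2 ^ 18 * ((X >>> 18) &&& m) + (X &&& 1) := by
  apply Nat.eq_of_testBit_eq
  intro i
  have h1 : X &&& 1 < 2 ^ 18 := lt_of_le_of_lt Nat.and_le_right (by norm_num)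
  rw [Nat.testBit_and, Nat.testBit_two_pow_mul_add _ (by norm_num : 1 < 2 ^ 18),
    Nat.testBit_two_pow_mul_add _ h1]
  split
  · rw [Nat.testBit_and]
  · rename_i h
    rw [Nat.testBit_and, Nat.testBit_shiftRight]
    congr 2
    omega

/-- Multiplying a column selector by a row places copies of the row. -/
theorem testBit_colMask_mul (n X R : ℕ) (hR : R < 2 ^ 18) (r j : ℕ) (hr : r < n) (hj : j < 18) :
    ((X &&& colMask n) * R).testBit (18 * r + j) = (X.testBit (18 * r) && R.testBit j) := by
  induction n generalizing X r with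
  | zero => exact absurd hr (Nat.not_lt_zero r)
  | succ n ih =>
    rw [colMask, and_colMask_succ, Nat.add_mul, Nat.mul_assoc]
    have hx : X &&& 1 = 0 ∨ X &&& 1 = 1 := by
      have : X &&& 1 ≤ 1 := Nat.and_le_right
      omega
    have h1 : (X &&& 1) * R < 2 ^ 18 := by
      rcases hx with h | h <;> rw [h] <;> omega
    rw [Nat.testBit_two_pow_mul_add _ h1]
    rcases Nat.eq_zero_or_pos r with h0 | h0
    · subst h0
      rw [if_pos (by omega)]
      simp only [Nat.mul_zero, Nat.zero_add]
      rcases hx with h | h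
      · have : X.testBit 0 = false := by
          rw [Nat.testBit_zero]; simp only [decide_eq_false_iff_not]
          have := Nat.and_one_is_mod X; omega
        rw [h, this]; simp
      · have : X.testBit 0 = true := by
          rw [Nat.testBit_zero]; simp only [decide_eq_true_eq]
          have := Nat.and_one_is_mod X; omega
        rw [h, this]; simp
    · rw [if_neg (by omega)]
      have e : 18 * r + j - 18 = 18 * (r - 1) + j := by omega
      rw [e, ih (X >>> 18) (r - 1) (by omega), Nat.testBit_shiftRight]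
      congr 2
      omega

/-! ### Multiplication by `ω` -/

/-- Multiply every entry by `ω`. -/
def wmul (x : ℕ) : ℕ := ((x >>> 1) &&& mE) ||| (((x ^^^ (x >>> 1)) &&& mE) <<< 1)

theorem testBit_wmul_even (x t : ℕ) (ht : t < 81) :
    (wmul x).testBit (2 * t) = x.testBit (2 * t + 1) := by
  unfold wmul
  rw [Nat.testBit_or, Nat.testBit_and, Nat.testBit_shiftRight, Nat.testBit_shiftLeft,
    Nat.testBit_and, testBit_mE, testBit_mE]
  have h1 : (2 * t) % 2 = 0 := by omega
  have h2 : 2 * t < 162 := by omega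
  have h3 : (2 * t - 1) % 2 = 0 ↔ t = 0 := by omega
  rcases Nat.eq_zero_or_pos t with h0 | h0
  · subst h0; simp
  · have h4 : ¬ ((2 * t - 1) % 2 = 0) := by omega
    simp [h1, h2, h4, Nat.add_comm]

theorem testBit_wmul_odd (x t : ℕ) (ht : t < 81) :
    (wmul x).testBit (2 * t + 1) = (x.testBit (2 * t) ^^ x.testBit (2 * t + 1)) := by
  unfold wmul
  rw [Nat.testBit_or, Nat.testBit_and, Nat.testBit_shiftRight, Nat.testBit_shiftLeft,
    Nat.testBit_and, Nat.testBit_xor, Nat.testBit_shiftRight, testBit_mE, testBit_mE]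
  have h1 : ¬ ((2 * t + 1) % 2 = 0) := by omega
  have h2 : 2 * t + 1 - 1 = 2 * t := by omega
  have h3 : (2 * t) % 2 = 0 := by omega
  have h4 : 2 * t < 162 := by omega
  simp [h1, h2, h3, h4, Nat.add_comm]

theorem wmul_lt_row (x : ℕ) (hx : x < 2 ^ 18) : wmul x < 2 ^ 18 := by
  apply Nat.lt_pow_two_of_testBit
  intro i hi
  unfold wmul
  rw [Nat.testBit_or, Nat.testBit_and, Nat.testBit_shiftRight, Nat.testBit_shiftLeft,
    Nat.testBit_and, Nat.testBit_xor, Nat.testBit_shiftRight, testBit_mE, testBit_mE]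
  have h1 : x.testBit (1 + i) = false :=
    Nat.testBit_lt_two_pow (lt_of_lt_of_le hx (Nat.pow_le_pow_right (by norm_num) (by omega)))
  rw [h1]
  rcases Nat.lt_or_ge 18 i with h | h
  · have h2 : x.testBit (i - 1) = false :=
      Nat.testBit_lt_two_pow (lt_of_lt_of_le hx (Nat.pow_le_pow_right (by norm_num) (by omega)))
    have h3 : x.testBit (1 + (i - 1)) = false :=
      Nat.testBit_lt_two_pow (lt_of_lt_of_le hx (Nat.pow_le_pow_right (by norm_num) (by omega)))
    simp [h2, h3]
  · have : i = 18 := by omega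
    subst this
    simp

/-! ### The product -/

/-- Row `k`. -/
def rowP (Q k : ℕ) : ℕ := (Q >>> (18 * k)) &&& mRow

theorem rowP_lt (Q k : ℕ) : rowP Q k < 2 ^ 18 := by
  unfold rowP
  have : (Q >>> (18 * k)) &&& mRow ≤ mRow := Nat.and_le_right
  have h : mRow < 2 ^ 18 := by decide
  omega

theorem testBit_rowP (Q k j : ℕ) (hj : j < 18) : (rowP Q k).testBit j = Q.testBit (18 * k + j) := by
  unfold rowP
  rw [Nat.testBit_and, Nat.testBit_shiftRight, mRow_eq, Nat.testBit_two_pow_sub_one]
  simp [hj]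

/-- The contribution of column `k` of `P` and row `k` of `Q` to the product. -/
def mmStep (P Q k : ℕ) : ℕ :=
  ((P >>> (2 * k)) &&& mCol) * rowP Q k ^^^ ((P >>> (2 * k + 1)) &&& mCol) * wmul (rowP Q k)

theorem testBit_mmStep (P Q k r j : ℕ) (hr : r < 9) (hj : j < 18) :
    (mmStep P Q k).testBit (18 * r + j) =
      ((P.testBit (18 * r + 2 * k) && (rowP Q k).testBit j) ^^
        (P.testBit (18 * r + 2 * k + 1) && (wmul (rowP Q k)).testBit j)) := by
  unfold mmStep
  rw [Nat.testBit_xor, mCol_eq, testBit_colMask_mul 9 _ _ (rowP_lt Q k) r j hr hj,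
    testBit_colMask_mul 9 _ _ (wmul_lt_row _ (rowP_lt Q k)) r j hr hj,
    Nat.testBit_shiftRight, Nat.testBit_shiftRight]
  congr 3 <;> omega

/-- The packed product. -/
def mmP (P Q : ℕ) : ℕ :=
  mmStep P Q 0 ^^^ mmStep P Q 1 ^^^ mmStep P Q 2 ^^^ mmStep P Q 3 ^^^ mmStep P Q 4 ^^^
    mmStep P Q 5 ^^^ mmStep P Q 6 ^^^ mmStep P Q 7 ^^^ mmStep P Q 8

/-! ### Decoding -/

section Dec

variable {F : Type*} [Field F]

/-- A bit as a field element. -/
def b2f (b : Bool) : F := if b then 1 else 0

theorem b2f_and (a b : Bool) : (b2f (a && b) : F) = b2f a * b2f b := by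
  cases a <;> cases b <;> simp [b2f]

theorem b2f_xor (h2 : (2 : F) = 0) (a b : Bool) : (b2f (a ^^ b) : F) = b2f a + b2f b := by
  cases a <;> cases b <;> simp [b2f]
  rw [one_add_one_eq_two, h2]

/-- Decode a packed matrix. -/
def decM (ω : F) (P : ℕ) : Matrix (Fin 9) (Fin 9) F := fun r c =>
  b2f (P.testBit (18 * r.val + 2 * c.val)) + b2f (P.testBit (18 * r.val + 2 * c.val + 1)) * ω

theorem b2f_xor9 (h2 : (2 : F) = 0) (f : ℕ → Bool) :
    (b2f (f 0 ^^ f 1 ^^ f 2 ^^ f 3 ^^ f 4 ^^ f 5 ^^ f 6 ^^ f 7 ^^ f 8) : F) =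
      ∑ k : Fin 9, b2f (f k.val) := by
  rw [Fin.sum_univ_eq_sum_range (fun k => (b2f (f k) : F)) 9]
  simp only [Finset.sum_range_succ, Finset.sum_range_zero, zero_add, b2f_xor h2]

theorem testBit_mmP (P Q i : ℕ) :
    (mmP P Q).testBit i =
      ((mmStep P Q 0).testBit i ^^ (mmStep P Q 1).testBit i ^^ (mmStep P Q 2).testBit i ^^
        (mmStep P Q 3).testBit i ^^ (mmStep P Q 4).testBit i ^^ (mmStep P Q 5).testBit i ^^
        (mmStep P Q 6).testBit i ^^ (mmStep P Q 7).testBit i ^^ (mmStep P Q 8).testBit i) := by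
  simp only [mmP, Nat.testBit_xor]

theorem mmStep_key (h2 : (2 : F) = 0) (ω : F) (hω : ω ^ 2 + ω + 1 = 0) (P Q k : ℕ) (r c : Fin 9) :
    (b2f ((mmStep P Q k).testBit (18 * r.val + 2 * c.val)) : F) +
        b2f ((mmStep P Q k).testBit (18 * r.val + 2 * c.val + 1)) * ω =
      (b2f (P.testBit (18 * r.val + 2 * k)) + b2f (P.testBit (18 * r.val + 2 * k + 1)) * ω) *
        (b2f (Q.testBit (18 * k + 2 * c.val)) + b2f (Q.testBit (18 * k + 2 * c.val + 1)) * ω) := by
  have hc : 2 * c.val < 18 := by omega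
  have hc' : 2 * c.val + 1 < 18 := by omega
  have e1 : (mmStep P Q k).testBit (18 * r.val + 2 * c.val) =
      ((P.testBit (18 * r.val + 2 * k) && Q.testBit (18 * k + 2 * c.val)) ^^
        (P.testBit (18 * r.val + 2 * k + 1) && Q.testBit (18 * k + 2 * c.val + 1))) := by
    rw [testBit_mmStep P Q k r.val (2 * c.val) r.isLt hc, testBit_wmul_even _ c.val (by omega),
      testBit_rowP Q k _ hc, testBit_rowP Q k _ hc', Nat.add_assoc (18 * k)]
  have e2 : (mmStep P Q k).testBit (18 * r.val + 2 * c.val + 1) =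
      ((P.testBit (18 * r.val + 2 * k) && Q.testBit (18 * k + 2 * c.val + 1)) ^^
        (P.testBit (18 * r.val + 2 * k + 1) &&
          (Q.testBit (18 * k + 2 * c.val) ^^ Q.testBit (18 * k + 2 * c.val + 1)))) := by
    rw [Nat.add_assoc (18 * r.val), testBit_mmStep P Q k r.val (2 * c.val + 1) r.isLt hc',
      testBit_wmul_odd _ c.val (by omega),
      testBit_rowP Q k _ hc, testBit_rowP Q k _ hc', Nat.add_assoc (18 * k)]
  rw [e1, e2]
  simp only [b2f_xor h2, b2f_and]
  linear_combination
    (b2f (P.testBit (18 * r.val + 2 * k + 1)) * b2f (Q.testBit (18 * k + 2 * c.val + 1))) * hω -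
    (b2f (P.testBit (18 * r.val + 2 * k + 1)) * b2f (Q.testBit (18 * k + 2 * c.val + 1)) * ω ^ 2)
      * h2

/-- **Soundness of the packed product.** -/
theorem decM_mmP (h2 : (2 : F) = 0) (ω : F) (hω : ω ^ 2 + ω + 1 = 0) (P Q : ℕ) :
    decM ω (mmP P Q) = decM ω P * decM ω Q := by
  ext r c
  rw [Matrix.mul_apply]
  have hsum : ∑ k : Fin 9, decM ω P r k * decM ω Q k c =
      ∑ k : Fin 9, ((b2f ((mmStep P Q k.val).testBit (18 * r.val + 2 * c.val)) : F) +
        b2f ((mmStep P Q k.val).testBit (18 * r.val + 2 * c.val + 1)) * ω) :=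
    Finset.sum_congr rfl (fun k _ => (mmStep_key h2 ω hω P Q k.val r c).symm)
  rw [hsum, Finset.sum_add_distrib, ← Finset.sum_mul]
  show b2f ((mmP P Q).testBit (18 * r.val + 2 * c.val)) +
    b2f ((mmP P Q).testBit (18 * r.val + 2 * c.val + 1)) * ω = _
  rw [testBit_mmP, testBit_mmP,
    b2f_xor9 h2 (fun k => (mmStep P Q k).testBit (18 * r.val + 2 * c.val)),
    b2f_xor9 h2 (fun k => (mmStep P Q k).testBit (18 * r.val + 2 * c.val + 1))]

end Dec

/-! ### Scalars, identity, injectivity -/

section Dec2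

variable {F : Type*} [Field F]

theorem decM_wmul (h2 : (2 : F) = 0) (ω : F) (hω : ω ^ 2 + ω + 1 = 0) (X : ℕ) :
    decM ω (wmul X) = ω • decM ω X := by
  ext r c
  show b2f ((wmul X).testBit (18 * r.val + 2 * c.val)) +
      b2f ((wmul X).testBit (18 * r.val + 2 * c.val + 1)) * ω =
    ω * (b2f (X.testBit (18 * r.val + 2 * c.val)) +
      b2f (X.testBit (18 * r.val + 2 * c.val + 1)) * ω)
  have e : 18 * r.val + 2 * c.val = 2 * (9 * r.val + c.val) := by ring
  rw [e, testBit_wmul_even _ _ (by omega), testBit_wmul_odd _ _ (by omega), b2f_xor h2]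
  linear_combination (b2f (X.testBit (2 * (9 * r.val + c.val) + 1))) * hω -
    (b2f (X.testBit (2 * (9 * r.val + c.val) + 1)) * ω ^ 2) * h2

theorem omega_ne_zero (ω : F) (hω : ω ^ 2 + ω + 1 = 0) : ω ≠ 0 := by
  intro h
  rw [h] at hω
  simp at hω

theorem omega_ne_one (h2 : (2 : F) = 0) (ω : F) (hω : ω ^ 2 + ω + 1 = 0) : ω ≠ 1 := by
  intro h
  rw [h] at hω
  have : (1 : F) = 0 := by linear_combination hω - h2
  exact one_ne_zero this

theorem b2f_pair_inj (h2 : (2 : F) = 0) (ω : F) (hω : ω ^ 2 + ω + 1 = 0) (a b a' b' : Bool)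
    (h : (b2f a : F) + b2f b * ω = b2f a' + b2f b' * ω) : a = a' ∧ b = b' := by
  have h0 := omega_ne_zero ω hω
  have h1 := omega_ne_one h2 ω hω
  have h3 : (1 : F) + ω ≠ 0 := by
    intro h
    apply h1
    linear_combination h - h2
  cases a <;> cases b <;> cases a' <;> cases b' <;>
    simp only [b2f, if_true, if_false, Bool.false_eq_true] at h
  all_goals first
    | exact ⟨rfl, rfl⟩
    | (exfalso; first
        | exact h0 (by linear_combination h)
        | exact h0 (by linear_combination -h)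
        | exact h1 (by linear_combination h)
        | exact h1 (by linear_combination -h)
        | exact h3 (by linear_combination h)
        | exact h3 (by linear_combination -h)
        | exact one_ne_zero (α := F) (by linear_combination h)
        | exact one_ne_zero (α := F) (by linear_combination -h))

theorem decM_inj (h2 : (2 : F) = 0) (ω : F) (hω : ω ^ 2 + ω + 1 = 0) {P Q : ℕ}
    (hP : P < 2 ^ 162) (hQ : Q < 2 ^ 162) (h : decM ω P = decM ω Q) : P = Q := by
  apply Nat.eq_of_testBit_eq
  intro i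
  rcases Nat.lt_or_ge i 162 with hi | hi
  · have hr : i / 18 < 9 := by omega
    have hc : (i % 18) / 2 < 9 := by omega
    have := congrFun (congrFun h ⟨i / 18, hr⟩) ⟨(i % 18) / 2, hc⟩
    have key := b2f_pair_inj h2 ω hω _ _ _ _ this
    rcases Nat.mod_two_eq_zero_or_one i with he | he
    · have e : i = 18 * (i / 18) + 2 * ((i % 18) / 2) := by omega
      rw [e]; exact key.1
    · have e : i = 18 * (i / 18) + 2 * ((i % 18) / 2) + 1 := by omega
      rw [e]; exact key.2
  · have hp : (2 : ℕ) ^ 162 ≤ 2 ^ i := Nat.pow_le_pow_right (by norm_num) hi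
    rw [Nat.testBit_lt_two_pow (lt_of_lt_of_le hP hp),
      Nat.testBit_lt_two_pow (lt_of_lt_of_le hQ hp)]

/-- The packed identity matrix. -/
def idP : ℕ := 0x10000100001000010000100001000010000100001

theorem idP_bits : ∀ r c : Fin 9, idP.testBit (18 * r.val + 2 * c.val) = decide (r = c) ∧
    idP.testBit (18 * r.val + 2 * c.val + 1) = false := by decide +kernel

theorem decM_idP (ω : F) : decM ω idP = 1 := by
  ext r c
  show b2f (idP.testBit (18 * r.val + 2 * c.val)) +
    b2f (idP.testBit (18 * r.val + 2 * c.val + 1)) * ω = _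
  rw [(idP_bits r c).1, (idP_bits r c).2, Matrix.one_apply]
  by_cases h : r = c <;> simp [b2f, h]

theorem mmP_lt (P Q : ℕ) : mmP P Q < 2 ^ 162 := by
  apply Nat.lt_pow_two_of_testBit
  intro i hi
  rw [testBit_mmP]
  have key : ∀ k, (mmStep P Q k).testBit i = false := by
    intro k
    apply Nat.testBit_lt_two_pow
    have h1 : mmStep P Q k < 2 ^ 162 := by
      unfold mmStep
      apply Nat.xor_lt_two_pow
      · have ha : (P >>> (2 * k)) &&& mCol ≤ mCol := Nat.and_le_right
        have hb := rowP_lt Q k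
        calc (P >>> (2 * k) &&& mCol) * rowP Q k ≤ mCol * (2 ^ 18 - 1) :=
              Nat.mul_le_mul ha (Nat.le_sub_one_of_lt hb)
          _ < 2 ^ 162 := by decide
      · have ha : (P >>> (2 * k + 1)) &&& mCol ≤ mCol := Nat.and_le_right
        have hb := wmul_lt_row _ (rowP_lt Q k)
        calc (P >>> (2 * k + 1) &&& mCol) * wmul (rowP Q k) ≤ mCol * (2 ^ 18 - 1) :=
              Nat.mul_le_mul ha (Nat.le_sub_one_of_lt hb)
          _ < 2 ^ 162 := by decide
    exact lt_of_lt_of_le h1 (Nat.pow_le_pow_right (by norm_num) hi)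
  simp [key]

end Dec2

end Cfsg.Agent.Helper26.F4M
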