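import Mathlib
import Cfsg.Agent.Lib.Helper26.F4Mat

/-!
# More on packed 9 × 9 matrices over a field with four elements
-/

set_option autoImplicit false

namespace Cfsg.Agent.Helper26.F4M

theorem wmul_lt (x : ℕ) : wmul x < 2 ^ 162 := by
  apply Nat.lt_pow_two_of_testBit
  intro i hi
  unfold wmul
  rw [Nat.testBit_or, Nat.testBit_and, Nat.testBit_shiftLeft, Nat.testBit_and, testBit_mE,
    testBit_mE]
  have h1 : ¬ (i < 162) := by omega
  rcases Nat.lt_or_ge 162 i with h | h
  · have h2 : ¬ (i - 1 < 162) := by omega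
    simp [h1, h2]
  · have : i = 162 := by omega
    subst this
    simp

/-- The first column. -/
def mCol3' : ℕ := 0x30000c00030000c00030000c00030000c0003

theorem mCol3_bits : ∀ r c : Fin 9, mCol3'.testBit (18 * r.val + 2 * c.val) = decide (c = 0) ∧
    mCol3'.testBit (18 * r.val + 2 * c.val + 1) = decide (c = 0) := by decide +kernel

section

variable {F : Type*} [Field F]

/-- Keep the first column only. -/
def col0 (M : Matrix (Fin 9) (Fin 9) F) : Matrix (Fin 9) (Fin 9) F :=
  fun r c => if c = 0 then M r c else 0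

theorem decM_and_mCol3 (ω : F) (P : ℕ) : decM ω (P &&& mCol3') = col0 (decM ω P) := by
  ext r c
  show b2f ((P &&& mCol3').testBit (18 * r.val + 2 * c.val)) +
    b2f ((P &&& mCol3').testBit (18 * r.val + 2 * c.val + 1)) * ω = _
  rw [Nat.testBit_and, Nat.testBit_and, (mCol3_bits r c).1, (mCol3_bits r c).2]
  unfold col0
  by_cases h : c = 0
  · simp only [h, decide_true, Bool.and_true, if_true]
    rfl
  · simp only [h, decide_false, Bool.and_false, if_false]
    simp [b2f]

theorem col0_mul (M N : Matrix (Fin 9) (Fin 9) F) : col0 (M * N) = M * col0 N := by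
  ext r c
  by_cases h : c = 0
  · subst h
    show (if (0 : Fin 9) = 0 then (M * N) r 0 else 0) = ∑ j, M r j * col0 N j 0
    rw [if_pos rfl, Matrix.mul_apply]
    apply Finset.sum_congr rfl
    intro j _
    show _ = M r j * (if (0 : Fin 9) = 0 then N j 0 else 0)
    rw [if_pos rfl]
  · show (if c = 0 then (M * N) r c else 0) = ∑ j, M r j * col0 N j c
    rw [if_neg h]
    symm
    apply Finset.sum_eq_zero
    intro j _
    show M r j * (if c = 0 then N j c else 0) = 0
    rw [if_neg h, mul_zero]

theorem col0_smul (x : F) (M : Matrix (Fin 9) (Fin 9) F) : col0 (x • M) = x • col0 M := by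
  ext r c
  show (if c = 0 then x • M r c else 0) = x • (if c = 0 then M r c else 0)
  by_cases h : c = 0
  · rw [if_pos h, if_pos h]
  · rw [if_neg h, if_neg h, smul_zero]

end

/-- Packed power. -/
def powP (P : ℕ) : ℕ → ℕ
  | 0 => idP
  | n + 1 => mmP (powP P n) P

theorem decM_powP {F : Type*} [Field F] (h2 : (2 : F) = 0) (ω : F) (hω : ω ^ 2 + ω + 1 = 0)
    (P n : ℕ) : decM ω (powP P n) = decM ω P ^ n := by
  induction n with
  | zero => rw [powP, decM_idP, pow_zero]
  | succ n ih => rw [powP, decM_mmP h2 ω hω, ih, pow_succ]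

/-- The packed matrix unit at `(c, 0)`. -/
def unitP (c : ℕ) : ℕ := 1 <<< (18 * c)

theorem unitP_bits : ∀ c r c' : Fin 9,
    (unitP c.val).testBit (18 * r.val + 2 * c'.val) = decide (r = c ∧ c' = 0) ∧
    (unitP c.val).testBit (18 * r.val + 2 * c'.val + 1) = false := by decide +kernel

theorem decM_unitP {F : Type*} [Field F] (ω : F) (c r c' : Fin 9) :
    decM ω (unitP c.val) r c' = if r = c ∧ c' = 0 then 1 else 0 := by
  show b2f ((unitP c.val).testBit (18 * r.val + 2 * c'.val)) +
    b2f ((unitP c.val).testBit (18 * r.val + 2 * c'.val + 1)) * ω = _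
  rw [(unitP_bits c r c').1, (unitP_bits c r c').2]
  by_cases h : r = c ∧ c' = 0 <;> simp [b2f, h]

end Cfsg.Agent.Helper26.F4M
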