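import Mathlib
import Cfsg.Agent.Lib.Helper26.F4Mat2

/-!
# The entrywise squaring map on packed matrices over a field with four elements
-/

set_option autoImplicit false

namespace Cfsg.Agent.Helper26.F4M

/-- Square every entry: the coefficient of `1` becomes the sum of the two coefficients. -/
def frobP (x : ℕ) : ℕ := x ^^^ ((x >>> 1) &&& mE)

theorem testBit_frobP_even (x t : ℕ) (ht : t < 81) :
    (frobP x).testBit (2 * t) = (x.testBit (2 * t) ^^ x.testBit (2 * t + 1)) := by
  unfold frobP
  rw [Nat.testBit_xor, Nat.testBit_and, Nat.testBit_shiftRight, testBit_mE]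
  have h1 : (2 * t) % 2 = 0 := by omega
  have h2 : 2 * t < 162 := by omega
  simp [h1, h2, Nat.add_comm]

theorem testBit_frobP_odd (x t : ℕ) :
    (frobP x).testBit (2 * t + 1) = x.testBit (2 * t + 1) := by
  unfold frobP
  rw [Nat.testBit_xor, Nat.testBit_and, Nat.testBit_shiftRight, testBit_mE]
  simp

theorem frobP_lt (x : ℕ) (hx : x < 2 ^ 162) : frobP x < 2 ^ 162 := by
  unfold frobP
  apply Nat.xor_lt_two_pow hx
  exact lt_of_le_of_lt Nat.and_le_right (by decide +kernel)

section

variable {F : Type*} [Field F]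

theorem b2f_sq (b : Bool) : (b2f b : F) ^ 2 = b2f b := by
  cases b <;> simp [b2f]

/-- the squaring map of a field of characteristic two -/
def sqHom (h2 : (2 : F) = 0) : F →+* F where
  toFun x := x ^ 2
  map_one' := one_pow 2
  map_mul' x y := mul_pow x y 2
  map_zero' := by simp
  map_add' x y := by linear_combination (x * y) * h2

theorem sqHom_apply (h2 : (2 : F) = 0) (x : F) : sqHom h2 x = x ^ 2 := rfl

theorem sqHom_injective (h2 : (2 : F) = 0) : Function.Injective (sqHom h2) :=
  (sqHom h2).injective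

theorem decM_frobP (h2 : (2 : F) = 0) (ω : F) (hω : ω ^ 2 + ω + 1 = 0) (X : ℕ) :
    decM ω (frobP X) = (decM ω X).map (sqHom h2) := by
  ext r c
  show b2f ((frobP X).testBit (18 * r.val + 2 * c.val)) +
      b2f ((frobP X).testBit (18 * r.val + 2 * c.val + 1)) * ω =
    (b2f (X.testBit (18 * r.val + 2 * c.val)) +
      b2f (X.testBit (18 * r.val + 2 * c.val + 1)) * ω) ^ 2
  have e : 18 * r.val + 2 * c.val = 2 * (9 * r.val + c.val) := by ring
  rw [e, testBit_frobP_even _ _ (by omega), testBit_frobP_odd, b2f_xor h2]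
  have s1 := b2f_sq (F := F) (X.testBit (2 * (9 * r.val + c.val)))
  have s2 := b2f_sq (F := F) (X.testBit (2 * (9 * r.val + c.val) + 1))
  linear_combination (-1 : F) * s1 - (ω ^ 2) * s2 +
    (b2f (X.testBit (2 * (9 * r.val + c.val) + 1))) * hω -
    (b2f (X.testBit (2 * (9 * r.val + c.val) + 1)) * ω ^ 2 +
      b2f (X.testBit (2 * (9 * r.val + c.val))) *
        b2f (X.testBit (2 * (9 * r.val + c.val) + 1)) * ω) * h2

end

end Cfsg.Agent.Helper26.F4M
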