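import Mathlib
import Cfsg.Prelude.Def_FusionSystem
import Cfsg.Prelude.Def_TwoFusion
import Cfsg.Agent.Lib.Helper25.FusionSimpCrit
import Cfsg.Agent.Lib.Helper25.FusionSylow3
import Cfsg.Agent.Lib.Helper25.FusionAut
import Cfsg.Agent.Lib.Helper19.PGroupBasic

/-!
# A simplicity criterion for the fusion system of a group with a self-normalizing Sylow subgroup

If a Sylow `p`-subgroup `S` of a finite group `G` is its own normalizer and has no proper
nontrivial strongly closed subgroup, then the fusion system of `G` on `S` is simple.  The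
hypotheses are stated for one explicit `p`-subgroup of a subgroup `M` of an ambient group; they
force it to be a Sylow subgroup of `M` and transport to all the Sylow subgroups of `M`.
-/

set_option autoImplicit false

namespace Cfsg.Agent.Helper26.FusSimple

open Cfsg Cfsg.FusionSystem Cfsg.Agent.Helper25

section core

variable {G : Type*} [Group G]

/-- A subgroup strongly closed in the fusion system of the group is strongly closed
elementwise. -/
theorem isStronglyClosed_of_stronglyClosed {S T : Subgroup G}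
    (h : (groupFusionSystem S).StronglyClosed T) : IsStronglyClosed T S := by
  refine ⟨h.1, fun x hx g hg => ?_⟩
  have hR : Subgroup.zpowers x ≤ T := (Subgroup.zpowers_le).2 hx
  have hpow : ∀ y : Subgroup.zpowers x, g * (y : G) * g⁻¹ ∈ S := by
    rintro ⟨y, k, rfl⟩
    have e : g * x ^ k * g⁻¹ = (g * x * g⁻¹) ^ k := by
      rw [conj_zpow]
    show g * x ^ k * g⁻¹ ∈ S
    rw [e]
    exact S.zpow_mem hg k
  have hmem : conjHom (Subgroup.zpowers x) g ∈ (groupFusionSystem S).Hom (Subgroup.zpowers x) :=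
    ⟨hR.trans h.1, hpow, g, fun y => rfl⟩
  exact h.2 _ hR _ hmem ⟨x, Subgroup.mem_zpowers x⟩

/-- The criterion for one Sylow subgroup. -/
theorem isSimple_core [Finite G] (p : ℕ) [Fact p.Prime] (S : Sylow p G)
    (hne : (S : Subgroup G) ≠ ⊥)
    (hN : ∀ n : G, (∀ s ∈ (S : Subgroup G), n * s * n⁻¹ ∈ (S : Subgroup G)) →
      n ∈ (S : Subgroup G))
    (hsc : ∀ T : Subgroup G, IsStronglyClosed T (S : Subgroup G) → T ≠ ⊥ →
      (S : Subgroup G) ≤ T) :
    (groupFusionSystem (S : Subgroup G)).IsSimple p := by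
  have hF : (groupFusionSystem (S : Subgroup G)).IsSaturated p :=
    groupFusionSystem_isSaturated p S
  refine ⟨hF, hne, fun T E hE => ?_⟩
  obtain ⟨⟨hEsat, -, hinv⟩, -⟩ := hE
  have hsT := isStronglyClosed_of_stronglyClosed hinv.2.1
  by_cases hT : T = ⊥
  · exact Or.inl hT
  · right
    have hTS : T = (S : Subgroup G) := le_antisymm hsT.1 (hsc T hsT hT)
    subst hTS
    refine ⟨rfl, fun P => ?_⟩
    apply SimpCrit.hom_eq_of_autGroup_le hinv
    rw [groupFusionSystem_autGroup le_rfl]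
    intro β hβ
    obtain ⟨g, -, hgβ⟩ := (mem_autInducedBy_iff β).mp hβ
    have hgS : g ∈ (S : Subgroup G) := by
      apply hN
      intro s hs
      have := hgβ ⟨s, hs⟩
      rw [← this]
      exact (β ⟨s, hs⟩).2
    exact autInducedBy_le_autGroup E le_rfl ((mem_autInducedBy_iff β).mpr ⟨g, hgS, hgβ⟩)

end core

section data

variable {A : Type*} [Group A]

/-- A `p`-subgroup of `M` containing every element of `M` that normalizes it is a Sylow
`p`-subgroup of `M`. -/
theorem exists_sylow_eq (M : Subgroup A) [Finite M] (p : ℕ) [Fact p.Prime] (S0 : Subgroup A)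
    (hle : S0 ≤ M) (hp : IsPGroup p S0)
    (hN : ∀ n ∈ M, (∀ s ∈ S0, n * s * n⁻¹ ∈ S0) → n ∈ S0) :
    ∃ Q : Sylow p M, (Q : Subgroup M) = S0.subgroupOf M := by
  have hp' : IsPGroup p (S0.subgroupOf M) := hp.comap_subtype
  obtain ⟨Q, hQ⟩ := hp'.exists_le_sylow
  refine ⟨Q, le_antisymm ?_ hQ⟩
  have hnil : Group.IsNilpotent (Q : Subgroup M) := Q.isPGroup'.isNilpotent
  have hcond := Group.normalizerCondition_of_isNilpotent (G := (Q : Subgroup M))
  by_contra hcon
  set H : Subgroup (Q : Subgroup M) := (S0.subgroupOf M).subgroupOf (Q : Subgroup M) with hH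
  have hlt : H < ⊤ := by
    rw [lt_top_iff_ne_top]
    intro htop
    apply hcon
    intro x hx
    have : (⟨x, hx⟩ : (Q : Subgroup M)) ∈ H := by rw [htop]; exact Subgroup.mem_top _
    exact this
  have hlt2 := hcond H hlt
  obtain ⟨n, hnN, hnH⟩ := SetLike.exists_of_lt hlt2
  apply hnH
  show ((n : M) : A) ∈ S0
  apply hN _ (n : M).2
  intro s hs
  have hsQ : (⟨s, hle hs⟩ : M) ∈ (Q : Subgroup M) := hQ hs
  have hsH : (⟨⟨s, hle hs⟩, hsQ⟩ : (Q : Subgroup M)) ∈ H := hs
  have := (Subgroup.mem_normalizer_iff.mp hnN _).mp hsH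
  exact this

/-- **Criterion.**  Let `S0` be a `p`-subgroup of the finite group `M` which contains every
element of `M` normalizing it, and such that the only nontrivial subgroup of `S0` closed under
`M`-conjugation inside `S0` is `S0`.  Then the fusion system of `M` on any of its Sylow
`p`-subgroups is simple. -/
theorem isSimple_of_data (M : Subgroup A) [Finite M] (p : ℕ) [Fact p.Prime] (S0 : Subgroup A)
    (hle : S0 ≤ M) (hp : IsPGroup p S0) (hne : S0 ≠ ⊥)
    (hN : ∀ n ∈ M, (∀ s ∈ S0, n * s * n⁻¹ ∈ S0) → n ∈ S0)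
    (hsc : ∀ T : Subgroup A, T ≤ S0 → T ≠ ⊥ →
      (∀ x ∈ T, ∀ g ∈ M, g * x * g⁻¹ ∈ S0 → g * x * g⁻¹ ∈ T) → S0 ≤ T)
    (S : Sylow p M) : (groupFusionSystem (S : Subgroup M)).IsSimple p := by
  obtain ⟨Q, hQ⟩ := exists_sylow_eq M p S0 hle hp hN
  obtain ⟨g, hg⟩ := MulAction.exists_smul_eq M Q S
  have hS : ∀ x : M, x ∈ (S : Subgroup M) ↔ ((g⁻¹ * x * g : M) : A) ∈ S0 := by
    intro x
    rw [← hg, Sylow.coe_subgroup_smul, Subgroup.mem_pointwise_smul_iff_inv_smul_mem,
      MulAut.smul_def, MulAut.conj_inv_apply, hQ, Subgroup.mem_subgroupOf]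
  have hS' : ∀ y : M, (y : A) ∈ S0 → g * y * g⁻¹ ∈ (S : Subgroup M) := by
    intro y hy
    rw [hS]
    have e : g⁻¹ * (g * y * g⁻¹) * g = y := by group
    rw [e]; exact hy
  apply isSimple_core p S
  · intro hbot
    apply hne
    rw [eq_bot_iff]
    intro z hz
    have h1 := hS' ⟨z, hle hz⟩ hz
    rw [hbot, Subgroup.mem_bot] at h1
    have h2 : (⟨z, hle hz⟩ : M) = 1 := by
      have : (⟨z, hle hz⟩ : M) = g⁻¹ * (g * ⟨z, hle hz⟩ * g⁻¹) * g := by group
      rw [this, h1]; group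
    rw [Subgroup.mem_bot]
    exact congrArg Subtype.val h2
  · intro n hn
    rw [hS]
    apply hN _ (g⁻¹ * n * g : M).2
    intro s hs
    have h1 := hn _ (hS' ⟨s, hle hs⟩ hs)
    rw [hS] at h1
    have e : g⁻¹ * (n * (g * ⟨s, hle hs⟩ * g⁻¹) * n⁻¹) * g =
        (g⁻¹ * n * g) * ⟨s, hle hs⟩ * (g⁻¹ * n * g)⁻¹ := by group
    rw [e] at h1
    exact h1
  · intro T hT hTne
    set T0 : Subgroup A := (T.map (MulAut.conj g⁻¹).toMonoidHom).map M.subtype with hT0
    have hmemT0 : ∀ a : A, a ∈ T0 ↔ ∃ t ∈ T, ((g⁻¹ * t * g : M) : A) = a := by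
      intro a
      constructor
      · rintro ⟨y, ⟨t, ht, rfl⟩, rfl⟩
        refine ⟨t, ht, ?_⟩
        simp
      · rintro ⟨t, ht, rfl⟩
        refine ⟨g⁻¹ * t * g, ⟨t, ht, ?_⟩, rfl⟩
        simp
    have h1 : T0 ≤ S0 := by
      intro a ha
      obtain ⟨t, ht, rfl⟩ := (hmemT0 a).mp ha
      exact (hS t).mp (hT.1 ht)
    have h2 : T0 ≠ ⊥ := by
      intro hbot
      apply hTne
      rw [eq_bot_iff]
      intro t ht
      have : ((g⁻¹ * t * g : M) : A) ∈ T0 := (hmemT0 _).mpr ⟨t, ht, rfl⟩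
      rw [hbot, Subgroup.mem_bot] at this
      have h3 : g⁻¹ * t * g = 1 := Subtype.ext this
      rw [Subgroup.mem_bot]
      have : t = g * (g⁻¹ * t * g) * g⁻¹ := by group
      rw [this, h3]; group
    have h3 : ∀ x ∈ T0, ∀ h ∈ M, h * x * h⁻¹ ∈ S0 → h * x * h⁻¹ ∈ T0 := by
      intro x hx h hh hxS
      obtain ⟨t, ht, rfl⟩ := (hmemT0 x).mp hx
      rw [hmemT0]
      set h' : M := ⟨h, hh⟩ with hh'
      have hmem : (g * h' * g⁻¹) * t * (g * h' * g⁻¹)⁻¹ ∈ (S : Subgroup M) := by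
        rw [hS]
        have e : g⁻¹ * ((g * h' * g⁻¹) * t * (g * h' * g⁻¹)⁻¹) * g =
            h' * (g⁻¹ * t * g) * h'⁻¹ := by group
        rw [e]
        exact hxS
      have hmemT := hT.2 t ht (g * h' * g⁻¹) hmem
      refine ⟨_, hmemT, ?_⟩
      have e : g⁻¹ * ((g * h' * g⁻¹) * t * (g * h' * g⁻¹)⁻¹) * g =
          h' * (g⁻¹ * t * g) * h'⁻¹ := by group
      rw [e]
      rfl
    have h4 := hsc T0 h1 h2 h3
    intro s hs
    have h5 := h4 ((hS s).mp hs)
    obtain ⟨t, ht, hts⟩ := (hmemT0 _).mp h5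
    have h6 : g⁻¹ * t * g = g⁻¹ * s * g := Subtype.ext hts
    have h7 : t = s := by
      have : t = g * (g⁻¹ * t * g) * g⁻¹ := by group
      rw [this, h6]; group
    rw [← h7]; exact ht

/-- In a finite `p`-group `S0` whose only central elements are `1` and `z`, every nontrivial
subgroup normalized by `S0` contains `z`. -/
theorem mem_of_center (p : ℕ) [Fact p.Prime] (S0 T : Subgroup A) [Finite S0]
    (hp : IsPGroup p S0) (hT : T ≤ S0) (hne : T ≠ ⊥)
    (hnorm : ∀ x ∈ T, ∀ s ∈ S0, s * x * s⁻¹ ∈ T) (z : A)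
    (hz : ∀ c ∈ S0, (∀ s ∈ S0, s * c = c * s) → c = 1 ∨ c = z) : z ∈ T := by
  have hnormal : (T.subgroupOf S0).Normal := by
    constructor
    intro x hx s
    exact hnorm x hx s s.2
  have hne' : T.subgroupOf S0 ≠ ⊥ := by
    intro h
    apply hne
    rw [eq_bot_iff]
    intro t ht
    have : (⟨t, hT ht⟩ : S0) ∈ T.subgroupOf S0 := ht
    rw [h, Subgroup.mem_bot] at this
    rw [Subgroup.mem_bot]
    exact congrArg Subtype.val this
  have h1 := Cfsg.Agent.Helper19.normal_inf_center_ne_bot hp (T.subgroupOf S0) hne'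
  rw [Ne, eq_bot_iff] at h1
  by_contra hzT
  apply h1
  rintro ⟨c, hcS⟩ ⟨hcT, hcZ⟩
  have hcT' : c ∈ T := hcT
  rw [Subgroup.mem_bot]
  apply Subtype.ext
  show c = 1
  rcases hz c hcS (fun s hs => by
    have := Subgroup.mem_center_iff.mp hcZ ⟨s, hs⟩
    exact congrArg Subtype.val this) with h | h
  · exact h
  · exact absurd (h ▸ hcT') hzT

end data

end Cfsg.Agent.Helper26.FusSimple
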