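import Mathlib
import Cfsg.Prelude.Def_FusionSystem
import Cfsg.Agent.Lib.Helper25.FusionNormal
import Cfsg.Agent.Lib.Helper25.FusionNormal2

set_option autoImplicit false

/-!
Invariant subsystems: the image under an element of `Aut_F(T)` of a subgroup normal in an `F`-invariant
subsystem `E` over `T` is again normal in `E`.
-/

namespace Cfsg.Agent.Helper26

open Cfsg Cfsg.FusionSystem Cfsg.Agent.Helper25

variable {Ω : Type*} [Group Ω] {S T : Subgroup Ω}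

/-- the image of (the part in `T` of) a subgroup under an automorphism of `T` -/
abbrev autImage (α : MulAut T) (P : Subgroup Ω) : Subgroup Ω :=
  (P.subgroupOf T).map (T.subtype.comp α.toMonoidHom)

lemma mem_autImage {α : MulAut T} {P : Subgroup Ω} {y : Ω} :
    y ∈ autImage α P ↔ ∃ x : T, (x : Ω) ∈ P ∧ ((α x : T) : Ω) = y := by
  constructor
  · rintro ⟨x, hx, rfl⟩
    exact ⟨x, Subgroup.mem_subgroupOf.mp hx, rfl⟩
  · rintro ⟨x, hx, rfl⟩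
    exact ⟨x, Subgroup.mem_subgroupOf.mpr hx, rfl⟩

lemma autImage_le (α : MulAut T) (P : Subgroup Ω) : autImage α P ≤ T := by
  intro y hy
  obtain ⟨x, -, rfl⟩ := mem_autImage.mp hy
  exact (α x).2

lemma autImage_mono (α : MulAut T) {P Q : Subgroup Ω} (h : P ≤ Q) : autImage α P ≤ autImage α Q := by
  intro y hy
  obtain ⟨x, hx, rfl⟩ := mem_autImage.mp hy
  exact mem_autImage.mpr ⟨x, h hx, rfl⟩

lemma autImage_autImage (α β : MulAut T) (P : Subgroup Ω) :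
    autImage α (autImage β P) = autImage (α * β) P := by
  ext y
  rw [mem_autImage, mem_autImage]
  constructor
  · rintro ⟨x, hx, rfl⟩
    obtain ⟨z, hz, hzx⟩ := mem_autImage.mp hx
    refine ⟨z, hz, ?_⟩
    have : β z = x := Subtype.ext hzx
    rw [MulAut.mul_apply, this]
  · rintro ⟨z, hz, rfl⟩
    exact ⟨β z, mem_autImage.mpr ⟨z, hz, rfl⟩, rfl⟩

lemma autImage_one {P : Subgroup Ω} (hP : P ≤ T) : autImage (1 : MulAut T) P = P := by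
  ext y
  rw [mem_autImage]
  constructor
  · rintro ⟨x, hx, rfl⟩; exact hx
  · intro hy; exact ⟨⟨y, hP hy⟩, hy, rfl⟩

lemma autImage_sup (α : MulAut T) {P Q : Subgroup Ω} (hP : P ≤ T) (hQ : Q ≤ T) :
    autImage α (P ⊔ Q) = autImage α P ⊔ autImage α Q := by
  unfold autImage
  rw [Subgroup.subgroupOf_sup hP hQ, Subgroup.map_sup]

/-- **Conjugates of normal subgroups.** If `E` over `T` is invariant in `F` and `R` is normal in `E`, then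
so is the image of `R` under every element of `Aut_F(T)`. -/
theorem isNormal_autImage (F : FusionSystem S) (E : FusionSystem T) (hEF : E.IsInvariantIn F)
    {R : Subgroup Ω} (hR : E.IsNormal R) {α : MulAut T} (hα : α ∈ F.autGroup T) :
    E.IsNormal (autImage α R) := by
  obtain ⟨-, -, hinvar, -⟩ := hEF
  have hRT : R ≤ T := hR.1
  refine ⟨autImage_le α R, fun P φ hφ => ?_⟩
  have hPT : P ≤ T := (E.le_of_mem hφ).1
  have hφT : ∀ x : P, φ x ∈ T := (E.le_of_mem hφ).2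
  -- pull back along `α`
  obtain ⟨φ', hφ', hφ'spec⟩ := hinvar P hPT φ hφ α⁻¹ (Subgroup.inv_mem _ hα)
  have hP'T : autImage α⁻¹ P ≤ T := autImage_le _ _
  -- extend over `R`
  obtain ⟨ψ', hψ', hψ'ext, hψ'img⟩ := hR.2 (autImage α⁻¹ P) φ' hφ'
  have hKT : autImage α⁻¹ P ⊔ R ≤ T := sup_le hP'T hRT
  have hψ'T : ∀ y, ψ' y ∈ T := (E.le_of_mem hψ').2
  -- push forward along `α`
  obtain ⟨ψ, hψ, hψspec⟩ := hinvar (autImage α⁻¹ P ⊔ R) hKT ψ' hψ' α hα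
  have hK : autImage α (autImage α⁻¹ P ⊔ R) = P ⊔ autImage α R := by
    rw [autImage_sup α hP'T hRT, autImage_autImage, mul_inv_cancel, autImage_one hPT]
  refine ⟨ψ.comp (Subgroup.inclusion hK.ge), hom_transport E hK.symm hψ, fun x => ?_, ?_⟩
  · -- agrees with `φ` on `P`
    have hx' : ((α⁻¹ ⟨x, hPT x.2⟩ : T) : Ω) ∈ autImage α⁻¹ P :=
      mem_autImage.mpr ⟨⟨x, hPT x.2⟩, x.2, rfl⟩
    have hxK : ((α⁻¹ ⟨x, hPT x.2⟩ : T) : Ω) ∈ autImage α⁻¹ P ⊔ R := le_sup_left (a := autImage α⁻¹ P) hx'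
    have hαx : ((α ⟨((α⁻¹ ⟨x, hPT x.2⟩ : T) : Ω), hKT hxK⟩ : T) : Ω)
        ∈ autImage α (autImage α⁻¹ P ⊔ R) := mem_autImage.mpr ⟨_, hxK, rfl⟩
    have h1 := hψspec ⟨_, hxK⟩ (hψ'T _) hαx
    have h2 : ψ' ⟨((α⁻¹ ⟨x, hPT x.2⟩ : T) : Ω), hxK⟩ = φ' ⟨_, hx'⟩ := hψ'ext ⟨_, hx'⟩
    have h3 := hφ'spec x (hφT x) hx'
    have e1 : (Subgroup.inclusion hK.ge (Subgroup.inclusion le_sup_left x) :
        ↥(autImage α (autImage α⁻¹ P ⊔ R)))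
        = ⟨((α ⟨((α⁻¹ ⟨x, hPT x.2⟩ : T) : Ω), hKT hxK⟩ : T) : Ω), hαx⟩ := by
      apply Subtype.ext
      show (x : Ω) = ((α ⟨((α⁻¹ ⟨x, hPT x.2⟩ : T) : Ω), hKT hxK⟩ : T) : Ω)
      have : (⟨((α⁻¹ ⟨x, hPT x.2⟩ : T) : Ω), hKT hxK⟩ : T) = α⁻¹ ⟨x, hPT x.2⟩ := Subtype.ext rfl
      rw [this, MulAut.apply_inv_self]
    rw [MonoidHom.comp_apply, e1, h1]
    have e2 : (⟨ψ' ⟨((α⁻¹ ⟨x, hPT x.2⟩ : T) : Ω), hxK⟩, hψ'T _⟩ : T) = α⁻¹ ⟨φ x, hφT x⟩ := by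
      apply Subtype.ext
      show ψ' ⟨((α⁻¹ ⟨x, hPT x.2⟩ : T) : Ω), hxK⟩ = _
      rw [h2, h3]
    rw [e2, MulAut.apply_inv_self]
  · -- carries `α R` onto itself
    ext y
    rw [mem_map_subgroupOf]
    constructor
    · rintro ⟨z, hzK, hzR, rfl⟩
      obtain ⟨r, hr, rfl⟩ := mem_autImage.mp hzR
      have hrK : (r : Ω) ∈ autImage α⁻¹ P ⊔ R := le_sup_right (a := autImage α⁻¹ P) hr
      have hαr : ((α ⟨(r : Ω), hKT hrK⟩ : T) : Ω) ∈ autImage α (autImage α⁻¹ P ⊔ R) :=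
        mem_autImage.mpr ⟨_, hrK, rfl⟩
      have h1 := hψspec ⟨_, hrK⟩ (hψ'T _) hαr
      have e1 : (Subgroup.inclusion hK.ge ⟨((α r : T) : Ω), hzK⟩ :
          ↥(autImage α (autImage α⁻¹ P ⊔ R))) = ⟨((α ⟨(r : Ω), hKT hrK⟩ : T) : Ω), hαr⟩ :=
        Subtype.ext rfl
      rw [MonoidHom.comp_apply, e1, h1]
      have hψ'r : ψ' ⟨(r : Ω), hrK⟩ ∈ R :=
        hψ'img.le ((mem_map_subgroupOf ψ').mpr ⟨r, hrK, hr, rfl⟩)
      exact mem_autImage.mpr ⟨⟨ψ' ⟨(r : Ω), hrK⟩, hψ'T _⟩, hψ'r, rfl⟩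
    · intro hy
      obtain ⟨r, hr, rfl⟩ := mem_autImage.mp hy
      -- `r = ψ' r₀` with `r₀ ∈ R`
      have hr' : (r : Ω) ∈ (R.subgroupOf (autImage α⁻¹ P ⊔ R)).map ψ' := hψ'img.ge hr
      obtain ⟨r₀, hr₀K, hr₀R, hr₀⟩ := (mem_map_subgroupOf ψ').mp hr'
      have hαr₀ : ((α ⟨r₀, hKT hr₀K⟩ : T) : Ω) ∈ autImage α (autImage α⁻¹ P ⊔ R) :=
        mem_autImage.mpr ⟨_, hr₀K, rfl⟩
      have hαr₀' : ((α ⟨r₀, hKT hr₀K⟩ : T) : Ω) ∈ autImage α R :=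
        mem_autImage.mpr ⟨⟨r₀, hKT hr₀K⟩, hr₀R, rfl⟩
      refine ⟨((α ⟨r₀, hKT hr₀K⟩ : T) : Ω), hK.le hαr₀, hαr₀', ?_⟩
      have h1 := hψspec ⟨r₀, hr₀K⟩ (hψ'T _) hαr₀
      have e1 : (Subgroup.inclusion hK.ge ⟨((α ⟨r₀, hKT hr₀K⟩ : T) : Ω), hK.le hαr₀⟩ :
          ↥(autImage α (autImage α⁻¹ P ⊔ R))) = ⟨((α ⟨r₀, hKT hr₀K⟩ : T) : Ω), hαr₀⟩ :=
        Subtype.ext rfl
      rw [MonoidHom.comp_apply, e1, h1]
      congr 2
      exact Subtype.ext hr₀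

end Cfsg.Agent.Helper26
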