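import Mathlib
import Cfsg.Prelude.Def_SporadicCombinatorics
import Cfsg.Agent.Lib.Helper26.F4

/-!
# The hexacode: parametrization and transport to the concrete field `F4`
-/

set_option autoImplicit false

namespace Cfsg.Agent.Helper26.Hex

open Cfsg.Agent.Helper26

section general

variable {K : Type*} [Field K]

/-- The three generators. -/
def gen1 (ω : K) : Fin 6 → K := ![ω, ω ^ 2, ω ^ 2, ω, ω ^ 2, ω]
def gen2 (ω : K) : Fin 6 → K := ![ω ^ 2, ω, ω, ω ^ 2, ω ^ 2, ω]
def gen3 (ω : K) : Fin 6 → K := ![ω ^ 2, ω, ω ^ 2, ω, ω, ω ^ 2]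

/-- The word with coefficients `t`. -/
def word (ω : K) (t : K × K × K) : Fin 6 → K :=
  fun i => t.1 * gen1 ω i + t.2.1 * gen2 ω i + t.2.2 * gen3 ω i

theorem mem_hexacode_iff (ω : K) (x : Fin 6 → K) :
    x ∈ Cfsg.hexacode K ω ↔ ∃ t : K × K × K, word ω t = x := by
  unfold Cfsg.hexacode
  rw [Submodule.mem_span_triple]
  constructor
  · rintro ⟨a, b, c, rfl⟩
    exact ⟨(a, b, c), by ext i; fin_cases i <;> simp [word, gen1, gen2, gen3]⟩
  · rintro ⟨⟨a, b, c⟩, rfl⟩
    exact ⟨a, b, c, by ext i; fin_cases i <;> simp [word, gen1, gen2, gen3]⟩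

theorem word_sub (ω : K) (t t' : K × K × K) (i : Fin 6) :
    word ω (t - t') i = word ω t i - word ω t' i := by
  simp only [word, Prod.fst_sub, Prod.snd_sub]
  ring

variable {F : Type*} [Field F]

theorem map_gen1 (e : K ≃+* F) (ω : K) (i : Fin 6) : e (gen1 ω i) = gen1 (e ω) i := by
  fin_cases i <;> simp [gen1]

theorem map_gen2 (e : K ≃+* F) (ω : K) (i : Fin 6) : e (gen2 ω i) = gen2 (e ω) i := by
  fin_cases i <;> simp [gen2]

theorem map_gen3 (e : K ≃+* F) (ω : K) (i : Fin 6) : e (gen3 ω i) = gen3 (e ω) i := by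
  fin_cases i <;> simp [gen3]

theorem map_word (e : K ≃+* F) (ω : K) (t : K × K × K) (i : Fin 6) :
    e (word ω t i) = word (e ω) (e t.1, e t.2.1, e t.2.2) i := by
  simp only [word, map_add, map_mul, map_gen1, map_gen2, map_gen3]

/-- Membership in the hexacode transports along a field isomorphism. -/
theorem mem_hexacode_map (e : K ≃+* F) (ω : K) (x : Fin 6 → K) :
    (fun i => e (x i)) ∈ Cfsg.hexacode F (e ω) ↔ x ∈ Cfsg.hexacode K ω := by
  rw [mem_hexacode_iff, mem_hexacode_iff]
  constructor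
  · rintro ⟨⟨a, b, c⟩, h⟩
    refine ⟨(e.symm a, e.symm b, e.symm c), ?_⟩
    ext i
    apply e.injective
    rw [map_word]
    simp only [RingEquiv.apply_symm_apply]
    exact congrFun h i
  · rintro ⟨t, rfl⟩
    exact ⟨(e t.1, e t.2.1, e t.2.2), by ext i; rw [map_word]⟩

theorem wt_map (e : K ≃+* F) (x : Fin 6 → K) [DecidablePred fun i => e (x i) ≠ 0]
    [DecidablePred fun i => x i ≠ 0] :
    (Finset.univ.filter fun i => e (x i) ≠ 0).card = (Finset.univ.filter fun i => x i ≠ 0).card := by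
  congr 1
  ext i
  simp

end general

/-! ### Computations in `F4` -/

/-- The weight of a word over `F4`. -/
def wt4 (x : Fin 6 → F4) : ℕ := (Finset.univ.filter fun i => x i ≠ 0).card

theorem word4_eq_zero : ∀ t : F4 × F4 × F4, word F4.w t = 0 → t = 0 := by decide

theorem word4_injective : Function.Injective (word F4.w) := by
  intro t t' h
  have h1 : word F4.w (t - t') = 0 := by
    ext i
    rw [word_sub, h]
    simp
  have := word4_eq_zero _ h1
  exact sub_eq_zero.mp this

theorem wt4_cases : ∀ t : F4 × F4 × F4, word F4.w t ≠ 0 →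
    wt4 (word F4.w t) = 4 ∨ wt4 (word F4.w t) = 6 := by decide

theorem card_wt4_four :
    (Finset.univ.filter fun t : F4 × F4 × F4 => wt4 (word F4.w t) = 4).card = 45 := by decide

theorem card_wt4_six :
    (Finset.univ.filter fun t : F4 × F4 × F4 => wt4 (word F4.w t) = 6).card = 18 := by decide

end Cfsg.Agent.Helper26.Hex
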