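import Mathlib
import Cfsg.Prelude.Def_SporadicCombinatorics
import Cfsg.Agent.Lib.Helper26.Hexacode

/-!
# Monomial automorphisms of the hexacode: the computational part
-/

set_option autoImplicit false

namespace Cfsg.Agent.Helper26.Hex

open Cfsg.Agent.Helper26

section general

variable {K : Type*} [Field K]

/-- A monomial map with plain scalars. -/
def mono (σ : Equiv.Perm (Fin 6)) (d : Fin 6 → K) (x : Fin 6 → K) : Fin 6 → K :=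
  fun i => d i * x (σ.symm i)

theorem monomialMap_eq (σ : Equiv.Perm (Fin 6)) (c : Fin 6 → Kˣ) (x : Fin 6 → K) :
    Cfsg.monomialMap σ c x = mono σ (fun i => (c i : K)) x := rfl

/-- The monomial map preserves the hexacode. -/
def Pres (ω : K) (σ : Equiv.Perm (Fin 6)) (d : Fin 6 → K) : Prop :=
  ∀ x ∈ Cfsg.hexacode K ω, mono σ d x ∈ Cfsg.hexacode K ω

theorem gen1_mem (ω : K) : gen1 ω ∈ Cfsg.hexacode K ω :=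
  (mem_hexacode_iff ω _).mpr ⟨(1, 0, 0), by ext i; simp [word]⟩

theorem gen2_mem (ω : K) : gen2 ω ∈ Cfsg.hexacode K ω :=
  (mem_hexacode_iff ω _).mpr ⟨(0, 1, 0), by ext i; simp [word]⟩

theorem gen3_mem (ω : K) : gen3 ω ∈ Cfsg.hexacode K ω :=
  (mem_hexacode_iff ω _).mpr ⟨(0, 0, 1), by ext i; simp [word]⟩

theorem mono_word (ω : K) (σ : Equiv.Perm (Fin 6)) (d : Fin 6 → K) (t : K × K × K) :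
    mono σ d (word ω t) = t.1 • mono σ d (gen1 ω) + t.2.1 • mono σ d (gen2 ω) +
      t.2.2 • mono σ d (gen3 ω) := by
  ext i
  simp only [mono, word, Pi.add_apply, Pi.smul_apply, smul_eq_mul]
  ring

theorem pres_iff_gens (ω : K) (σ : Equiv.Perm (Fin 6)) (d : Fin 6 → K) :
    Pres ω σ d ↔ mono σ d (gen1 ω) ∈ Cfsg.hexacode K ω ∧ mono σ d (gen2 ω) ∈ Cfsg.hexacode K ω ∧
      mono σ d (gen3 ω) ∈ Cfsg.hexacode K ω := by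
  constructor
  · intro h
    exact ⟨h _ (gen1_mem ω), h _ (gen2_mem ω), h _ (gen3_mem ω)⟩
  · rintro ⟨h1, h2, h3⟩ x hx
    obtain ⟨t, rfl⟩ := (mem_hexacode_iff ω x).mp hx
    rw [mono_word]
    exact Submodule.add_mem _ (Submodule.add_mem _ (Submodule.smul_mem _ _ h1)
      (Submodule.smul_mem _ _ h2)) (Submodule.smul_mem _ _ h3)

variable {F : Type*} [Field F]

theorem pres_map (e : K ≃+* F) (ω : K) (σ : Equiv.Perm (Fin 6)) (d : Fin 6 → K) :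
    Pres (e ω) σ (fun j => e (d j)) ↔ Pres ω σ d := by
  rw [pres_iff_gens, pres_iff_gens]
  have h1 : mono σ (fun j => e (d j)) (gen1 (e ω)) = fun i => e (mono σ d (gen1 ω) i) := by
    ext i; simp only [mono, map_mul, map_gen1]
  have h2 : mono σ (fun j => e (d j)) (gen2 (e ω)) = fun i => e (mono σ d (gen2 ω) i) := by
    ext i; simp only [mono, map_mul, map_gen2]
  have h3 : mono σ (fun j => e (d j)) (gen3 (e ω)) = fun i => e (mono σ d (gen3 ω) i) := by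
    ext i; simp only [mono, map_mul, map_gen3]
  rw [h1, h2, h3, mem_hexacode_map, mem_hexacode_map, mem_hexacode_map]

end general

/-! ### Computations in `F4` -/

/-- Decoding from the first three coordinates. -/
def dec (y : Fin 6 → F4) : F4 × F4 × F4 :=
  (F4.w * y 0 + F4.w ^ 2 * y 1, F4.w ^ 2 * y 0 + F4.w ^ 2 * y 1 + y 2, y 1 + y 2)

/-- Decidable membership in the hexacode over `F4`. -/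
def inHex4 (y : Fin 6 → F4) : Prop := word F4.w (dec y) = y

instance (y : Fin 6 → F4) : Decidable (inHex4 y) := by unfold inHex4; infer_instance

theorem dec_word : ∀ t : F4 × F4 × F4, dec (word F4.w t) = t := by decide

theorem mem_hexacode4_iff (y : Fin 6 → F4) : y ∈ Cfsg.hexacode F4 F4.w ↔ inHex4 y := by
  rw [mem_hexacode_iff]
  constructor
  · rintro ⟨t, rfl⟩
    unfold inHex4
    rw [dec_word]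
  · intro h
    exact ⟨dec y, h⟩

/-- The scalars with exponents `k`. -/
def dvec (k : Fin 6 → Fin 3) : Fin 6 → F4 := fun i => F4.w ^ (k i).val

/-- The decidable preservation test. -/
def PresB (σ : Equiv.Perm (Fin 6)) (k : Fin 6 → Fin 3) : Prop :=
  inHex4 (mono σ (dvec k) (gen1 F4.w)) ∧ inHex4 (mono σ (dvec k) (gen2 F4.w)) ∧
    inHex4 (mono σ (dvec k) (gen3 F4.w))

instance (σ : Equiv.Perm (Fin 6)) (k : Fin 6 → Fin 3) : Decidable (PresB σ k) := by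
  unfold PresB; infer_instance

theorem pres4_iff (σ : Equiv.Perm (Fin 6)) (k : Fin 6 → Fin 3) :
    Pres F4.w σ (dvec k) ↔ PresB σ k := by
  rw [pres_iff_gens, mem_hexacode4_iff, mem_hexacode4_iff, mem_hexacode4_iff]
  rfl

theorem nonzero4 : ∀ y : F4, y ≠ 0 → ∃ k : Fin 3, y = F4.w ^ k.val := by decide

theorem diag4 : ∀ k0 k1 k2 k3 k4 k5 : Fin 3, PresB 1 ![k0, k1, k2, k3, k4, k5] →
    k0 = k1 ∧ k0 = k2 ∧ k0 = k3 ∧ k0 = k4 ∧ k0 = k5 := by decide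

theorem swap4 : ∀ k0 k1 k2 k3 k4 k5 : Fin 3,
    ¬ PresB (Equiv.swap 0 1) ![k0, k1, k2, k3, k4, k5] := by decide

/-- Exponent vectors making the three-cycles `swap a b * swap b c` monomial automorphisms. -/
def wit : Fin 6 → Fin 6 → Fin 6 → Fin 6 → Fin 3 :=
![
  ![![![0, 0, 0, 0, 0, 0], ![0, 0, 0, 0, 0, 0], ![0, 0, 0, 0, 0, 0], ![0, 0, 0, 0, 0, 0], ![0, 0, 0, 0, 0, 0], ![0, 0, 0, 0, 0, 0]],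
    ![![0, 0, 0, 0, 0, 0], ![0, 0, 0, 0, 0, 0], ![0, 0, 0, 0, 2, 1], ![0, 0, 0, 0, 1, 2], ![0, 0, 2, 1, 0, 0], ![0, 0, 1, 2, 0, 0]],
    ![![0, 0, 0, 0, 0, 0], ![0, 0, 0, 0, 1, 2], ![0, 0, 0, 0, 0, 0], ![0, 0, 0, 0, 2, 1], ![0, 2, 1, 0, 2, 1], ![0, 1, 2, 0, 2, 1]],
    ![![0, 0, 0, 0, 0, 0], ![0, 0, 0, 0, 2, 1], ![0, 0, 0, 0, 1, 2], ![0, 0, 0, 0, 0, 0], ![0, 1, 0, 2, 1, 2], ![0, 2, 0, 1, 1, 2]],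
    ![![0, 0, 0, 0, 0, 0], ![0, 0, 1, 2, 0, 0], ![0, 2, 2, 1, 1, 0], ![0, 1, 2, 1, 2, 0], ![0, 0, 0, 0, 0, 0], ![0, 0, 2, 1, 0, 0]],
    ![![0, 0, 0, 0, 0, 0], ![0, 0, 2, 1, 0, 0], ![0, 1, 1, 2, 0, 2], ![0, 2, 1, 2, 0, 1], ![0, 0, 1, 2, 0, 0], ![0, 0, 0, 0, 0, 0]]],
  ![![![0, 0, 0, 0, 0, 0], ![0, 0, 0, 0, 0, 0], ![0, 0, 0, 0, 1, 2], ![0, 0, 0, 0, 2, 1], ![0, 0, 1, 2, 0, 0], ![0, 0, 2, 1, 0, 0]],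
    ![![0, 0, 0, 0, 0, 0], ![0, 0, 0, 0, 0, 0], ![0, 0, 0, 0, 0, 0], ![0, 0, 0, 0, 0, 0], ![0, 0, 0, 0, 0, 0], ![0, 0, 0, 0, 0, 0]],
    ![![0, 0, 0, 0, 2, 1], ![0, 0, 0, 0, 0, 0], ![0, 0, 0, 0, 0, 0], ![0, 0, 0, 0, 1, 2], ![0, 2, 1, 2, 0, 1], ![0, 1, 2, 1, 2, 0]],
    ![![0, 0, 0, 0, 1, 2], ![0, 0, 0, 0, 0, 0], ![0, 0, 0, 0, 2, 1], ![0, 0, 0, 0, 0, 0], ![0, 1, 1, 2, 0, 2], ![0, 2, 2, 1, 1, 0]],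
    ![![0, 0, 2, 1, 0, 0], ![0, 0, 0, 0, 0, 0], ![0, 2, 0, 1, 1, 2], ![0, 1, 2, 0, 2, 1], ![0, 0, 0, 0, 0, 0], ![0, 0, 1, 2, 0, 0]],
    ![![0, 0, 1, 2, 0, 0], ![0, 0, 0, 0, 0, 0], ![0, 1, 0, 2, 1, 2], ![0, 2, 1, 0, 2, 1], ![0, 0, 2, 1, 0, 0], ![0, 0, 0, 0, 0, 0]]],
  ![![![0, 0, 0, 0, 0, 0], ![0, 0, 0, 0, 2, 1], ![0, 0, 0, 0, 0, 0], ![0, 0, 0, 0, 1, 2], ![0, 2, 2, 1, 1, 0], ![0, 1, 1, 2, 0, 2]],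
    ![![0, 0, 0, 0, 1, 2], ![0, 0, 0, 0, 0, 0], ![0, 0, 0, 0, 0, 0], ![0, 0, 0, 0, 2, 1], ![0, 2, 0, 1, 1, 2], ![0, 1, 0, 2, 1, 2]],
    ![![0, 0, 0, 0, 0, 0], ![0, 0, 0, 0, 0, 0], ![0, 0, 0, 0, 0, 0], ![0, 0, 0, 0, 0, 0], ![0, 0, 0, 0, 0, 0], ![0, 0, 0, 0, 0, 0]],
    ![![0, 0, 0, 0, 2, 1], ![0, 0, 0, 0, 1, 2], ![0, 0, 0, 0, 0, 0], ![0, 0, 0, 0, 0, 0], ![0, 2, 1, 1, 1, 1], ![0, 1, 2, 2, 2, 2]],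
    ![![0, 2, 1, 0, 2, 1], ![0, 2, 1, 2, 0, 1], ![0, 0, 0, 0, 0, 0], ![0, 1, 2, 2, 2, 2], ![0, 0, 0, 0, 0, 0], ![0, 2, 1, 1, 1, 1]],
    ![![0, 1, 2, 0, 2, 1], ![0, 1, 2, 1, 2, 0], ![0, 0, 0, 0, 0, 0], ![0, 2, 1, 1, 1, 1], ![0, 1, 2, 2, 2, 2], ![0, 0, 0, 0, 0, 0]]],
  ![![![0, 0, 0, 0, 0, 0], ![0, 0, 0, 0, 1, 2], ![0, 0, 0, 0, 2, 1], ![0, 0, 0, 0, 0, 0], ![0, 1, 2, 1, 2, 0], ![0, 2, 1, 2, 0, 1]],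
    ![![0, 0, 0, 0, 2, 1], ![0, 0, 0, 0, 0, 0], ![0, 0, 0, 0, 1, 2], ![0, 0, 0, 0, 0, 0], ![0, 1, 2, 0, 2, 1], ![0, 2, 1, 0, 2, 1]],
    ![![0, 0, 0, 0, 1, 2], ![0, 0, 0, 0, 2, 1], ![0, 0, 0, 0, 0, 0], ![0, 0, 0, 0, 0, 0], ![0, 1, 2, 2, 2, 2], ![0, 2, 1, 1, 1, 1]],
    ![![0, 0, 0, 0, 0, 0], ![0, 0, 0, 0, 0, 0], ![0, 0, 0, 0, 0, 0], ![0, 0, 0, 0, 0, 0], ![0, 0, 0, 0, 0, 0], ![0, 0, 0, 0, 0, 0]],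
    ![![0, 1, 0, 2, 1, 2], ![0, 1, 1, 2, 0, 2], ![0, 2, 1, 1, 1, 1], ![0, 0, 0, 0, 0, 0], ![0, 0, 0, 0, 0, 0], ![0, 1, 2, 2, 2, 2]],
    ![![0, 2, 0, 1, 1, 2], ![0, 2, 2, 1, 1, 0], ![0, 1, 2, 2, 2, 2], ![0, 0, 0, 0, 0, 0], ![0, 2, 1, 1, 1, 1], ![0, 0, 0, 0, 0, 0]]],
  ![![![0, 0, 0, 0, 0, 0], ![0, 0, 2, 1, 0, 0], ![0, 2, 1, 0, 2, 1], ![0, 1, 0, 2, 1, 2], ![0, 0, 0, 0, 0, 0], ![0, 0, 1, 2, 0, 0]],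
    ![![0, 0, 1, 2, 0, 0], ![0, 0, 0, 0, 0, 0], ![0, 2, 1, 2, 0, 1], ![0, 1, 1, 2, 0, 2], ![0, 0, 0, 0, 0, 0], ![0, 0, 2, 1, 0, 0]],
    ![![0, 2, 2, 1, 1, 0], ![0, 2, 0, 1, 1, 2], ![0, 0, 0, 0, 0, 0], ![0, 2, 1, 1, 1, 1], ![0, 0, 0, 0, 0, 0], ![0, 1, 2, 2, 2, 2]],
    ![![0, 1, 2, 1, 2, 0], ![0, 1, 2, 0, 2, 1], ![0, 1, 2, 2, 2, 2], ![0, 0, 0, 0, 0, 0], ![0, 0, 0, 0, 0, 0], ![0, 2, 1, 1, 1, 1]],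
    ![![0, 0, 0, 0, 0, 0], ![0, 0, 0, 0, 0, 0], ![0, 0, 0, 0, 0, 0], ![0, 0, 0, 0, 0, 0], ![0, 0, 0, 0, 0, 0], ![0, 0, 0, 0, 0, 0]],
    ![![0, 0, 2, 1, 0, 0], ![0, 0, 1, 2, 0, 0], ![0, 2, 1, 1, 1, 1], ![0, 1, 2, 2, 2, 2], ![0, 0, 0, 0, 0, 0], ![0, 0, 0, 0, 0, 0]]],
  ![![![0, 0, 0, 0, 0, 0], ![0, 0, 1, 2, 0, 0], ![0, 1, 2, 0, 2, 1], ![0, 2, 0, 1, 1, 2], ![0, 0, 2, 1, 0, 0], ![0, 0, 0, 0, 0, 0]],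
    ![![0, 0, 2, 1, 0, 0], ![0, 0, 0, 0, 0, 0], ![0, 1, 2, 1, 2, 0], ![0, 2, 2, 1, 1, 0], ![0, 0, 1, 2, 0, 0], ![0, 0, 0, 0, 0, 0]],
    ![![0, 1, 1, 2, 0, 2], ![0, 1, 0, 2, 1, 2], ![0, 0, 0, 0, 0, 0], ![0, 1, 2, 2, 2, 2], ![0, 2, 1, 1, 1, 1], ![0, 0, 0, 0, 0, 0]],
    ![![0, 2, 1, 2, 0, 1], ![0, 2, 1, 0, 2, 1], ![0, 2, 1, 1, 1, 1], ![0, 0, 0, 0, 0, 0], ![0, 1, 2, 2, 2, 2], ![0, 0, 0, 0, 0, 0]],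
    ![![0, 0, 1, 2, 0, 0], ![0, 0, 2, 1, 0, 0], ![0, 1, 2, 2, 2, 2], ![0, 2, 1, 1, 1, 1], ![0, 0, 0, 0, 0, 0], ![0, 0, 0, 0, 0, 0]],
    ![![0, 0, 0, 0, 0, 0], ![0, 0, 0, 0, 0, 0], ![0, 0, 0, 0, 0, 0], ![0, 0, 0, 0, 0, 0], ![0, 0, 0, 0, 0, 0], ![0, 0, 0, 0, 0, 0]]]]

theorem threeCycle4 : ∀ a b c : Fin 6, a ≠ b → b ≠ c → a ≠ c →
    PresB (Equiv.swap a b * Equiv.swap b c) (wit a b c) := by decide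

end Cfsg.Agent.Helper26.Hex
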