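import Mathlib
import Cfsg.Prelude.Def_FusionSystem
import Cfsg.Agent.Lib.Helper26.FusionInduction2

set_option autoImplicit false

/-!
A criterion for the hyperfocal subgroup of a saturated fusion system to lie in the kernel of a
homomorphism `c : S →* G` into a group all of whose elements have `p`-power order: it is enough that
`c` kills a strongly closed subgroup `T` and that, on each subgroup `P ≥ T`, every `α ∈ Aut_F(P)`
changes `c` by a conjugation of `G`.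
-/

namespace Cfsg.Agent.Helper26

open Cfsg Cfsg.FusionSystem Cfsg.Agent.Helper25

/-- an automorphism of order prime to `p` changing `f` by conjugation with an element of `p`-power order
does not change `f` -/
lemma apply_eq_of_conj {P G : Type*} [Group P] [Group G] {p : ℕ} (hp : p.Prime) (α : MulAut P)
    (hα : Nat.Coprime (orderOf α) p) (f : P → G) (a : G) (ha : ∃ m : ℕ, a ^ (p ^ m) = 1)
    (h : ∀ x, f (α x) = a * f x * a⁻¹) : ∀ x, f (α x) = f x := by
  have key : ∀ j : ℕ, ∀ x, f ((α ^ j) x) = a ^ j * f x * (a ^ j)⁻¹ := by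
    intro j
    induction j with
    | zero => intro x; simp
    | succ j ih =>
      intro x
      rw [pow_succ', MulAut.mul_apply, h, ih, pow_succ']
      group
  obtain ⟨m, hm⟩ := ha
  have hn : 0 < orderOf α := by
    apply Nat.pos_of_ne_zero
    intro h0
    rw [h0, Nat.coprime_zero_left] at hα
    exact hp.ne_one hα
  have hj1 : a ^ ((p ^ m) ^ (Nat.totient (orderOf α))) = 1 := by
    obtain ⟨k, hk⟩ := Nat.exists_eq_succ_of_ne_zero (Nat.totient_pos.mpr hn).ne'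
    rw [hk, pow_succ', pow_mul, hm, one_pow]
  have hj2 : α ^ ((p ^ m) ^ (Nat.totient (orderOf α))) = α := by
    have hmod : (p ^ m) ^ (Nat.totient (orderOf α)) ≡ 1 [MOD orderOf α] :=
      Nat.ModEq.pow_totient (Nat.Coprime.pow_left m hα.symm)
    rw [← pow_mod_orderOf, hmod, pow_mod_orderOf, pow_one]
  intro x
  have := key ((p ^ m) ^ (Nat.totient (orderOf α))) x
  rw [hj2, hj1] at this
  simpa using this

variable {Ω : Type*} [Group Ω] {S : Subgroup Ω}

/-- every map of the system changes `c` by a conjugation of `G` -/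
theorem exists_conj_of_hom [Finite S] (p : ℕ) [Fact p.Prime] (hS : IsPGroup p S)
    (F : FusionSystem S) (hF : F.IsSaturated p) {T : Subgroup Ω} (hT : F.StronglyClosed T)
    {G : Type*} [Group G] (c : S →* G)
    (hcT : ∀ (t : Ω) (ht : t ∈ T), c ⟨t, hT.1 ht⟩ = 1)
    (hbig : ∀ (P : Subgroup Ω) (hPS : P ≤ S), T ≤ P → ∀ α ∈ F.autGroup P, ∃ a : G, ∀ x : P,
      c ⟨((α x : P) : Ω), hPS (α x).2⟩ = a * c ⟨x, hPS x.2⟩ * a⁻¹)
    {R : Subgroup Ω} {φ : R →* Ω} (hφ : φ ∈ F.Hom R) :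
    ∃ a : G, ∀ (x : R) (hx : (x : Ω) ∈ S) (hφx : φ x ∈ S), c ⟨φ x, hφx⟩ = a * c ⟨x, hx⟩ * a⁻¹ := by
  refine stronglyClosed_induction p hS F hF hT
    (fun R φ => ∃ a : G, ∀ (x : R) (hx : (x : Ω) ∈ S) (hφx : φ x ∈ S),
      c ⟨φ x, hφx⟩ = a * c ⟨x, hx⟩ * a⁻¹) ?_ ?_ ?_ ?_ ?_ hφ
  · -- conjugation
    intro P g hPS hg
    refine ⟨c ⟨g, hg⟩, fun x hx hφx => ?_⟩
    rw [← map_inv, ← map_mul, ← map_mul]
    congr 1
  · -- composition
    rintro P Q φ ψ hφ hψ ⟨a, ha⟩ ⟨b, hb⟩ h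
    refine ⟨b * a, fun x hx hφx => ?_⟩
    have hφxS : φ x ∈ S := (F.le_of_mem hφ).2 x
    have h1 := hb ⟨φ x, h x⟩ hφxS hφx
    have h2 := ha x hx hφxS
    show c ⟨ψ ⟨φ x, h x⟩, hφx⟩ = _
    rw [h1, h2]
    group
  · -- inverse
    rintro P φ hφ ⟨a, ha⟩ ψ hψ hψφ
    refine ⟨a⁻¹, fun y hy hψy => ?_⟩
    obtain ⟨y, x, rfl⟩ := y
    have hxS : (x : Ω) ∈ S := (F.le_of_mem hφ).1 x.2
    have h1 := ha x hxS hy
    have h2 : ψ ⟨φ x, ⟨x, rfl⟩⟩ = (x : Ω) := hψφ x
    have h3 : c ⟨ψ ⟨φ x, ⟨x, rfl⟩⟩, hψy⟩ = c ⟨x, hxS⟩ := by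
      congr 1
      exact Subtype.ext h2
    rw [h3, h1]
    group
  · -- large subgroups
    intro P hPS hTP α hα
    obtain ⟨a, ha⟩ := hbig P hPS hTP α hα
    exact ⟨a, fun x hx hφx => ha x⟩
  · -- coset automorphisms
    intro P hPS γ hγ
    refine ⟨1, fun x hx hφx => ?_⟩
    have h1 := hγ.2 x
    have h2 := hcT _ h1
    have e : (⟨(P.subtype.comp γ.toMonoidHom) x, hφx⟩ : S)
        = ⟨x, hx⟩ * ⟨(x : Ω)⁻¹ * ((γ x : P) : Ω), hT.1 h1⟩ := by
      apply Subtype.ext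
      show ((γ x : P) : Ω) = (x : Ω) * ((x : Ω)⁻¹ * ((γ x : P) : Ω))
      group
    rw [e, map_mul, h2]
    group

/-- **Kernel criterion for the hyperfocal subgroup.** -/
theorem hyperfocal_le_ker [Finite S] (p : ℕ) [Fact p.Prime] (hS : IsPGroup p S)
    (F : FusionSystem S) (hF : F.IsSaturated p) {T : Subgroup Ω} (hT : F.StronglyClosed T)
    {G : Type*} [Group G] (hG : ∀ g : G, ∃ m : ℕ, g ^ (p ^ m) = 1) (c : S →* G)
    (hcT : ∀ (t : Ω) (ht : t ∈ T), c ⟨t, hT.1 ht⟩ = 1)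
    (hbig : ∀ (P : Subgroup Ω) (hPS : P ≤ S), T ≤ P → ∀ α ∈ F.autGroup P, ∃ a : G, ∀ x : P,
      c ⟨((α x : P) : Ω), hPS (α x).2⟩ = a * c ⟨x, hPS x.2⟩ * a⁻¹) :
    F.hyperfocalSubgroup p ≤ c.ker.map S.subtype := by
  have hp : p.Prime := Fact.out
  unfold FusionSystem.hyperfocalSubgroup
  rw [Subgroup.closure_le]
  rintro y ⟨P, α, x, hPS, hα, rfl⟩
  -- the subgroup of automorphisms not changing `c`
  let B : Subgroup (F.autGroup P) :=
    { carrier := {β | ∀ x : P, c ⟨(((β : MulAut P) x : P) : Ω), hPS ((β : MulAut P) x).2⟩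
        = c ⟨x, hPS x.2⟩}
      one_mem' := fun x => rfl
      mul_mem' := by
        intro β γ hβ hγ x
        have h1 := hγ x
        have h2 := hβ ((γ : MulAut P) x)
        show c ⟨((((β : MulAut P) * (γ : MulAut P)) x : P) : Ω), _⟩ = _
        simp only [MulAut.mul_apply]
        rw [h2, h1]
      inv_mem' := by
        intro β hβ x
        have h1 := hβ ((β : MulAut P)⁻¹ x)
        show c ⟨((((β : MulAut P)⁻¹) x : P) : Ω), _⟩ = _
        rw [← h1]
        congr 1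
        apply Subtype.ext
        simp }
  have hle : pResidual p (F.autGroup P) ≤ B := by
    unfold pResidual
    rw [Subgroup.closure_le]
    intro β hβ
    have hβ' : Nat.Coprime (orderOf (β : MulAut P)) p := by
      rw [Subgroup.orderOf_coe]; exact hβ
    have hβF : P.subtype.comp (β : MulAut P).toMonoidHom ∈ F.Hom P :=
      (mem_autGroup_iff F hPS _).mp β.2
    obtain ⟨a, ha⟩ := exists_conj_of_hom p hS F hF hT c hcT hbig hβF
    have := apply_eq_of_conj hp (β : MulAut P) hβ' (fun x : P => c ⟨x, hPS x.2⟩) a (hG a)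
      (fun x => ha x (hPS x.2) (hPS ((β : MulAut P) x).2))
    exact this
  have hαB := hle hα x
  refine ⟨⟨(x : Ω)⁻¹ * (((α : MulAut P) x : P) : Ω),
    S.mul_mem (S.inv_mem (hPS x.2)) (hPS ((α : MulAut P) x).2)⟩, ?_, rfl⟩
  show _ ∈ c.ker
  rw [MonoidHom.mem_ker]
  have e : (⟨(x : Ω)⁻¹ * (((α : MulAut P) x : P) : Ω),
      S.mul_mem (S.inv_mem (hPS x.2)) (hPS ((α : MulAut P) x).2)⟩ : S)
      = (⟨x, hPS x.2⟩ : S)⁻¹ * ⟨(((α : MulAut P) x : P) : Ω), hPS ((α : MulAut P) x).2⟩ := rfl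
  rw [e, map_mul, map_inv, hαB]
  group

end Cfsg.Agent.Helper26
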