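import Mathlib
import Cfsg.Agent.Lib.Helper26.Schreier

/-!
# Packed 7 × 7 matrices over `ZMod 11` (entrywise certified arithmetic)

A matrix is stored as a natural number with 4-bit digits, entry `(r, c)` at digit `7 * r + c`.
All checks below are Boolean functions evaluated by the kernel on stored data; the soundness
lemmas turn a successful check into an identity of actual matrices over `ZMod 11`.
-/

set_option autoImplicit false

namespace Cfsg.Agent.Helper26.J1A

open Matrix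

/-- 7 × 7 matrices over `ZMod 11`. -/
abbrev M7 := Matrix (Fin 7) (Fin 7) (ZMod 11)
/-- Vectors of length 7 over `ZMod 11`. -/
abbrev V7 := Fin 7 → ZMod 11

/-- The `k`-th 4-bit digit. -/
def dg (P k : ℕ) : ℕ := (P >>> (4 * k)) &&& 15

/-- Decode a packed matrix. -/
def decM (P : ℕ) : M7 := fun r c => ((dg P (7 * r.val + c.val) : ℕ) : ZMod 11)

/-- Decode a packed vector. -/
def decV (w : ℕ) : V7 := fun c => ((dg w c.val : ℕ) : ZMod 11)

/-- Entry `(r, c)` of the product of two packed matrices (unreduced). -/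
def ent (P Q r c : ℕ) : ℕ :=
  dg P (7 * r + 0) * dg Q (7 * 0 + c) + dg P (7 * r + 1) * dg Q (7 * 1 + c) +
  dg P (7 * r + 2) * dg Q (7 * 2 + c) + dg P (7 * r + 3) * dg Q (7 * 3 + c) +
  dg P (7 * r + 4) * dg Q (7 * 4 + c) + dg P (7 * r + 5) * dg Q (7 * 5 + c) +
  dg P (7 * r + 6) * dg Q (7 * 6 + c)

/-- Entry `r` of the product of a packed matrix and a packed vector (unreduced). -/
def rowdot (P w r : ℕ) : ℕ :=
  dg P (7 * r + 0) * dg w 0 + dg P (7 * r + 1) * dg w 1 +
  dg P (7 * r + 2) * dg w 2 + dg P (7 * r + 3) * dg w 3 +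
  dg P (7 * r + 4) * dg w 4 + dg P (7 * r + 5) * dg w 5 +
  dg P (7 * r + 6) * dg w 6

theorem decM_mul_apply (P Q : ℕ) (r c : Fin 7) :
    (decM P * decM Q) r c = ((ent P Q r.val c.val : ℕ) : ZMod 11) := by
  rw [Matrix.mul_apply, Fin.sum_univ_seven]
  simp only [decM, ent, Nat.cast_add, Nat.cast_mul]
  rfl

theorem decM_mulVec_apply (P w : ℕ) (r : Fin 7) :
    (decM P *ᵥ decV w) r = ((rowdot P w r.val : ℕ) : ZMod 11) := by
  rw [Matrix.mulVec, dotProduct, Fin.sum_univ_seven]
  simp only [decM, decV, rowdot, Nat.cast_add, Nat.cast_mul]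
  rfl

/-- Check `P * Q = P' * Q'` entrywise modulo 11. -/
def eqProd2 (P Q P' Q' : ℕ) : Bool :=
  allB 7 fun r => allB 7 fun c => Nat.beq (ent P Q r c % 11) (ent P' Q' r c % 11)

/-- Check `P * Q = R` entrywise modulo 11 (the digits of `R` need not be reduced). -/
def eqProd1 (P Q R : ℕ) : Bool :=
  allB 7 fun r => allB 7 fun c => Nat.beq (ent P Q r c % 11) (dg R (7 * r + c) % 11)

/-- Check `P *ᵥ w = w'` entrywise modulo 11. -/
def eqMulVec (P w w' : ℕ) : Bool :=
  allB 7 fun r => Nat.beq (rowdot P w r % 11) (dg w' r % 11)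

theorem eqProd2_sound {P Q P' Q' : ℕ} (h : eqProd2 P Q P' Q' = true) :
    decM P * decM Q = decM P' * decM Q' := by
  ext r c
  rw [decM_mul_apply, decM_mul_apply, ZMod.natCast_eq_natCast_iff']
  have h1 := allB_true (allB_true h r.val r.isLt) c.val c.isLt
  exact Nat.eq_of_beq_eq_true h1

theorem eqProd1_sound {P Q R : ℕ} (h : eqProd1 P Q R = true) :
    decM P * decM Q = decM R := by
  ext r c
  rw [decM_mul_apply]
  show _ = ((dg R (7 * r.val + c.val) : ℕ) : ZMod 11)
  rw [ZMod.natCast_eq_natCast_iff']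
  have h1 := allB_true (allB_true h r.val r.isLt) c.val c.isLt
  exact Nat.eq_of_beq_eq_true h1

theorem eqMulVec_sound {P w w' : ℕ} (h : eqMulVec P w w' = true) :
    decM P *ᵥ decV w = decV w' := by
  ext r
  rw [decM_mulVec_apply]
  show _ = ((dg w' r.val : ℕ) : ZMod 11)
  rw [ZMod.natCast_eq_natCast_iff']
  have h1 := allB_true h r.val r.isLt
  exact Nat.eq_of_beq_eq_true h1

/-- A numerical key of a vector (injectivity is not needed: only that it is a function). -/
def keyV (v : V7) : ℕ :=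
  (v 0).val + (v 1).val * 11 + (v 2).val * 11 ^ 2 + (v 3).val * 11 ^ 3 + (v 4).val * 11 ^ 4 +
    (v 5).val * 11 ^ 5 + (v 6).val * 11 ^ 6

/-- The key of `P *ᵥ w` computed on packed data. -/
def ptKey (P w : ℕ) : ℕ :=
  rowdot P w 0 % 11 + rowdot P w 1 % 11 * 11 + rowdot P w 2 % 11 * 11 ^ 2 +
    rowdot P w 3 % 11 * 11 ^ 3 + rowdot P w 4 % 11 * 11 ^ 4 + rowdot P w 5 % 11 * 11 ^ 5 +
    rowdot P w 6 % 11 * 11 ^ 6

theorem keyV_mulVec (P w : ℕ) : keyV (decM P *ᵥ decV w) = ptKey P w := by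
  simp only [keyV, ptKey, decM_mulVec_apply, ZMod.val_natCast]
  rfl

/-- The packed identity matrix. -/
def idP : ℕ := 1 + 16 ^ 8 + 16 ^ 16 + 16 ^ 24 + 16 ^ 32 + 16 ^ 40 + 16 ^ 48

theorem decM_idP : decM idP = 1 := by
  ext r c
  fin_cases r <;> fin_cases c <;> decide

end Cfsg.Agent.Helper26.J1A
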