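import Cfsg.Agent.Lib.Helper26.J1CDefs

/-! Kernel-evaluated checks for the involution centralizer data of `J₁`. -/

set_option autoImplicit false

namespace Cfsg.Agent.Helper26.J1CK

open Cfsg.Agent.Helper26 Cfsg.Agent.Helper26.J1A Cfsg.Agent.Helper26.J1D Cfsg.Agent.Helper26.J1C
  Cfsg.Agent.Helper26.J1CD Cfsg.Agent.Helper26.J1CC

theorem ctree_all : allR 1 1462 ctreeOK = true := by decide +kernel
theorem ckey_all : allB 1463 ckeyOK = true := by decide +kernel
theorem csort_all : allB 1462 csortOK = true := by decide +kernel
theorem ct0 : Nat.beq (CT 0) tP && Nat.beq (LL 0) idP = true := by decide +kernel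
theorem ltree_all : allR 1 59 ltreeOK = true := by decide +kernel
theorem lsch0_all : allB 60 (lschOK 0) = true := by decide +kernel
theorem lsch1_all : allB 60 (lschOK 1) = true := by decide +kernel
theorem lkey_all : allB 60 lkeyOK = true := by decide +kernel
theorem ldist_all : allB 60 ldistOK = true := by decide +kernel
theorem lcent_all : allR 1 59 lcentOK = true := by decide +kernel
theorem ht : eqProd1F (TT it) (UU kt) tP = true := by decide +kernel
theorem hx : eqProd1F (TT ix) (UU kx) xP = true := by decide +kernel
theorem hy : eqProd1F (TT iy) (UU ky) yP = true := by decide +kernel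
theorem htt : eqProd1F tP tP idP = true := by decide +kernel
theorem hxx : eqProd1F xP xP idP = true := by decide +kernel
theorem hyy : eqProd1F yP yP y2P = true := by decide +kernel
theorem hyyy : eqProd1F y2P yP idP = true := by decide +kernel
theorem hxy : eqProd1F xP yP xyP = true := by decide +kernel
theorem hxy2 : eqProd1F xyP xyP xy2P = true := by decide +kernel
theorem hxy4 : eqProd1F xy2P xy2P xy4P = true := by decide +kernel
theorem hxy5 : eqProd1F xy4P xyP idP = true := by decide +kernel
theorem hxt : eqProd2F xP tP tP xP = true := by decide +kernel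
theorem hyt : eqProd2F yP tP tP yP = true := by decide +kernel

end Cfsg.Agent.Helper26.J1CK
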