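import Mathlib
import Cfsg.Agent.Lib.Helper26.Schreier
import Cfsg.Agent.Lib.Helper26.J1Arith
import Cfsg.Agent.Lib.Helper26.J1Data

/-!
# Boolean checks on the `J₁` data
-/

set_option autoImplicit false

namespace Cfsg.Agent.Helper26.J1C

open Cfsg.Agent.Helper26 Cfsg.Agent.Helper26.J1A Cfsg.Agent.Helper26.J1D

/-- Packed generator. -/
def gP (g : ℕ) : ℕ := cond (Nat.beq g 0) gP0 gP1

/-- `TAU`. -/
def tau (g i : ℕ) : ℕ := cond (Nat.beq g 0) (TAU0 i) (TAU1 i)
/-- `SIG`. -/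
def sig (g i : ℕ) : ℕ := cond (Nat.beq g 0) (SIG0 i) (SIG1 i)

/-- forced `eqProd1` -/
def eqProd1F (P Q R : ℕ) : Bool :=
  seqN P fun P => seqN Q fun Q => seqN R fun R => eqProd1 P Q R

/-- forced `eqProd2` -/
def eqProd2F (P Q P' Q' : ℕ) : Bool :=
  seqN P fun P => seqN Q fun Q => seqN P' fun P' => seqN Q' fun Q' => eqProd2 P Q P' Q'

theorem eqProd1F_sound {P Q R : ℕ} (h : eqProd1F P Q R = true) : decM P * decM Q = decM R := by
  simp only [eqProd1F, seqN_eq] at h
  exact eqProd1_sound h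

theorem eqProd2F_sound {P Q P' Q' : ℕ} (h : eqProd2F P Q P' Q' = true) :
    decM P * decM Q = decM P' * decM Q' := by
  simp only [eqProd2F, seqN_eq] at h
  exact eqProd2_sound h

/-- The tree check at index `i`: `par i < i` and `TT i = g (lab i) * TT (par i)`. -/
def treeOK (i : ℕ) : Bool :=
  Nat.blt (PAR i) i && eqProd1F (gP (LAB i)) (TT (PAR i)) (TT i)

/-- Is `(g, i)` a tree edge (then the Schreier generator is trivial)? -/
def isTreeEdge (g i : ℕ) : Bool :=
  Nat.beq (sig g i) 0 && Nat.beq (PAR (tau g i)) i && Nat.beq (LAB (tau g i)) g &&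
    Nat.ble 1 (tau g i)

/-- The Schreier check for generator `g` at index `i`. -/
def schOK (g i : ℕ) : Bool :=
  Nat.blt (tau g i) nPts && Nat.blt (sig g i) nH &&
    (isTreeEdge g i || eqProd2F (gP g) (TT i) (TT (tau g i)) (UU (sig g i)))

/-- Key check. -/
def keyOK (i : ℕ) : Bool :=
  Nat.beq (ptKey (TT i) bP) (KEY i) && Nat.blt (PI i) nPts && Nat.beq (PINV (PI i)) i

/-- Sortedness check. -/
def sortOK (m : ℕ) : Bool := Nat.blt (KEY (PINV m)) (KEY (PINV (m + 1)))

/-- Packed generators of the stabilizer. -/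
def sP (s : ℕ) : ℕ := cond (Nat.beq s 0) (TT idx1) (TT idx2)

/-- `UTAU`. -/
def utau (s k : ℕ) : ℕ := cond (Nat.beq s 0) (UTAU0 k) (UTAU1 k)

/-- The tree check in the stabilizer. -/
def utreeOK (k : ℕ) : Bool :=
  Nat.blt (UPAR k) k && eqProd1F (sP (ULAB k)) (UU (UPAR k)) (UU k)

/-- Closure check in the stabilizer. -/
def uschOK (s k : ℕ) : Bool :=
  Nat.blt (utau s k) nH && eqProd1F (sP s) (UU k) (UU (utau s k))

/-- Key check in the stabilizer. -/
def ukeyOK (k : ℕ) : Bool := Nat.beq (ptKey (UU k) b2P) (HKEY k)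

/-- Pairwise distinct keys in the stabilizer. -/
def udistOK (k : ℕ) : Bool := allB k fun j => !(Nat.beq (HKEY j) (HKEY k))

end Cfsg.Agent.Helper26.J1C
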