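import Mathlib
import Cfsg.Agent.Lib.Helper26.Schreier
import Cfsg.Agent.Lib.Helper26.J1Arith
import Cfsg.Agent.Lib.Helper26.J1Data
import Cfsg.Agent.Lib.Helper26.J1Defs
import Cfsg.Agent.Lib.Helper26.J1CData

/-!
# Boolean checks on the data for the involution centralizer of `J₁`
-/

set_option autoImplicit false

namespace Cfsg.Agent.Helper26.J1CC

open Cfsg.Agent.Helper26 Cfsg.Agent.Helper26.J1A Cfsg.Agent.Helper26.J1D
  Cfsg.Agent.Helper26.J1C Cfsg.Agent.Helper26.J1CD

/-- The conjugation tree check at index `j`: `gen * CT (par j) = CT j * gen`. -/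
def ctreeOK (j : ℕ) : Bool :=
  Nat.blt (CPAR j) j && eqProd2F (gP (CLAB j)) (CT (CPAR j)) (CT j) (gP (CLAB j))

/-- Key check for the conjugates. -/
def ckeyOK (i : ℕ) : Bool :=
  Nat.beq (ptKey (CT i) cvP) (CKEY i) && Nat.blt (CPI i) nC && Nat.beq (CPINV (CPI i)) i

/-- Sortedness check for the conjugates. -/
def csortOK (m : ℕ) : Bool := Nat.blt (CKEY (CPINV m)) (CKEY (CPINV (m + 1)))

/-- Packed generators of the subgroup of order 60. -/
def lP (s : ℕ) : ℕ := cond (Nat.beq s 0) xP yP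

/-- `LTAU`. -/
def ltau (s k : ℕ) : ℕ := cond (Nat.beq s 0) (LTAU0 k) (LTAU1 k)

/-- The tree check in the subgroup of order 60. -/
def ltreeOK (k : ℕ) : Bool :=
  Nat.blt (LPAR k) k && eqProd1F (lP (LLAB k)) (LL (LPAR k)) (LL k)

/-- Closure check in the subgroup of order 60. -/
def lschOK (s k : ℕ) : Bool :=
  Nat.blt (ltau s k) 60 && eqProd1F (lP s) (LL k) (LL (ltau s k))

/-- Key check in the subgroup of order 60. -/
def lkeyOK (k : ℕ) : Bool := Nat.beq (ptKey (LL k) b3P) (LKEY k)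

/-- Pairwise distinct keys in the subgroup of order 60. -/
def ldistOK (k : ℕ) : Bool := allB k fun j => !(Nat.beq (LKEY j) (LKEY k))

/-- The `k`-th element of the subgroup of order 60 is not central. -/
def lcentOK (k : ℕ) : Bool :=
  !(eqProd2F (LL k) xP xP (LL k) && eqProd2F (LL k) yP yP (LL k))

end Cfsg.Agent.Helper26.J1CC
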