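import Cfsg.Agent.Lib.Helper26.J1Defs

/-! Kernel-evaluated checks for the `J₁` data (generated). -/

set_option autoImplicit false

namespace Cfsg.Agent.Helper26.J1K

open Cfsg.Agent.Helper26 Cfsg.Agent.Helper26.J1A Cfsg.Agent.Helper26.J1D Cfsg.Agent.Helper26.J1C

theorem tree_0 : allR 1 775 treeOK = true := by decide +kernel
theorem tree_1 : allR 776 775 treeOK = true := by decide +kernel
theorem tree_2 : allR 1551 775 treeOK = true := by decide +kernel
theorem tree_3 : allR 2326 773 treeOK = true := by decide +kernel

theorem tree_all : ∀ i, 1 ≤ i → i < nE → treeOK i = true := by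
  intro i h1 h2
  have h2' : i < 3099 := h2
  by_cases h_tree_0 : i < 776
  · exact allR_true tree_0 i (by omega) (by omega)
  by_cases h_tree_1 : i < 1551
  · exact allR_true tree_1 i (by omega) (by omega)
  by_cases h_tree_2 : i < 2326
  · exact allR_true tree_2 i (by omega) (by omega)
  by_cases h_tree_3 : i < 3099
  · exact allR_true tree_3 i (by omega) (by omega)
  omega

end Cfsg.Agent.Helper26.J1K
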