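import Cfsg.Agent.Lib.Helper26.J1Defs

/-! Kernel-evaluated checks for the `J₁` data (generated). -/

set_option autoImplicit false

namespace Cfsg.Agent.Helper26.J1K

open Cfsg.Agent.Helper26 Cfsg.Agent.Helper26.J1A Cfsg.Agent.Helper26.J1D Cfsg.Agent.Helper26.J1C

theorem sch0_0 : allR 0 770 (schOK 0) = true := by decide +kernel
theorem sch0_1 : allR 770 770 (schOK 0) = true := by decide +kernel
theorem sch0_2 : allR 1540 770 (schOK 0) = true := by decide +kernel
theorem sch0_3 : allR 2310 770 (schOK 0) = true := by decide +kernel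

theorem sch0_all : ∀ i, i < nPts → schOK 0 i = true := by
  intro i h2
  have h2' : i < 3080 := h2
  by_cases h_sch0_0 : i < 770
  · exact allR_true sch0_0 i (by omega) (by omega)
  by_cases h_sch0_1 : i < 1540
  · exact allR_true sch0_1 i (by omega) (by omega)
  by_cases h_sch0_2 : i < 2310
  · exact allR_true sch0_2 i (by omega) (by omega)
  by_cases h_sch0_3 : i < 3080
  · exact allR_true sch0_3 i (by omega) (by omega)
  omega

end Cfsg.Agent.Helper26.J1K
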