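import Cfsg.Agent.Lib.Helper26.J1Defs

/-! Kernel-evaluated checks for the `J₁` data (generated). -/

set_option autoImplicit false

namespace Cfsg.Agent.Helper26.J1K

open Cfsg.Agent.Helper26 Cfsg.Agent.Helper26.J1A Cfsg.Agent.Helper26.J1D Cfsg.Agent.Helper26.J1C

theorem key_all' : allB 3080 keyOK = true := by decide +kernel
theorem sort_all' : allB 3079 sortOK = true := by decide +kernel
theorem utree_all' : allR 1 56 utreeOK = true := by decide +kernel
theorem usch0_all' : allB 57 (uschOK 0) = true := by decide +kernel
theorem usch1_all' : allB 57 (uschOK 1) = true := by decide +kernel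
theorem ukey_all' : allB 57 ukeyOK = true := by decide +kernel
theorem udist_all' : allB 57 udistOK = true := by decide +kernel
theorem fix1' : eqMulVec (TT idx1) bP bP = true := by decide +kernel
theorem fix2' : eqMulVec (TT idx2) bP bP = true := by decide +kernel
theorem tt0' : Nat.beq (TT 0) idP && Nat.beq (UU 0) idP = true := by decide +kernel

end Cfsg.Agent.Helper26.J1K
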