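import Mathlib
import Cfsg.Prelude.Def_Spor_J1
import Cfsg.Agent.Lib.Helper26.J1Chk1
import Cfsg.Agent.Lib.Helper26.J1Chk2
import Cfsg.Agent.Lib.Helper26.J1Chk3
import Cfsg.Agent.Lib.Helper26.J1Chk4

/-!
# The order of `J₁ = ⟨X, Y⟩ ≤ GL₇(11)` by a certified Schreier–Sims computation
-/

set_option autoImplicit false

namespace Cfsg.Agent.Helper26.J1G

open Matrix
open Cfsg.Agent.Helper26 Cfsg.Agent.Helper26.J1A Cfsg.Agent.Helper26.J1D
  Cfsg.Agent.Helper26.J1C Cfsg.Agent.Helper26.J1K

/-- The ambient group. -/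
abbrev A := GL (Fin 7) (ZMod 11)

theorem smul_eq (g : A) (v : V7) : g • v = (g : M7) *ᵥ v := rfl

/-- The two generators. -/
def gen (g : ℕ) : A := cond (Nat.beq g 0) Cfsg.Spor.jankoX Cfsg.Spor.jankoY

theorem decM_gP0 : decM gP0 = Cfsg.jankoMatrixX := by
  ext r c
  fin_cases r <;> fin_cases c <;> decide

theorem decM_gP1 : decM gP1 = Cfsg.jankoMatrixY := by
  ext r c
  fin_cases r <;> fin_cases c <;> decide

theorem gen_val (g : ℕ) : (gen g : M7) = decM (gP g) := by
  unfold gen gP
  cases h : Nat.beq g 0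
  · exact decM_gP1.symm
  · exact decM_gP0.symm

theorem gen_mem (g : ℕ) :
    gen g ∈ Subgroup.closure ({Cfsg.Spor.jankoX, Cfsg.Spor.jankoY} : Set A) := by
  unfold gen
  cases h : Nat.beq g 0
  · exact Subgroup.subset_closure (by simp)
  · exact Subgroup.subset_closure (by simp)

/-- The straight-line elements. -/
def E : ℕ → A
  | i => if _h : 0 < i ∧ PAR i < i then gen (LAB i) * E (PAR i) else 1
termination_by i => i
decreasing_by exact _h.2

theorem E_zero : E 0 = 1 := by
  rw [E]; simp

theorem E_step (i : ℕ) (h1 : 0 < i) (h2 : PAR i < i) : E i = gen (LAB i) * E (PAR i) := by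
  rw [E]; simp [h1, h2]

theorem E_mem (i : ℕ) :
    E i ∈ Subgroup.closure ({Cfsg.Spor.jankoX, Cfsg.Spor.jankoY} : Set A) := by
  induction i using Nat.strong_induction_on with
  | _ i ih =>
    by_cases h : 0 < i ∧ PAR i < i
    · rw [E_step i h.1 h.2]
      exact Subgroup.mul_mem _ (gen_mem _) (ih _ h.2)
    · rw [E]; simp only [h, dite_false]; exact Subgroup.one_mem _

theorem TT_zero : TT 0 = idP := by
  have h := tt0'
  rw [Bool.and_eq_true] at h
  exact Nat.eq_of_beq_eq_true h.1

theorem UU_zero : UU 0 = idP := by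
  have h := tt0'
  rw [Bool.and_eq_true] at h
  exact Nat.eq_of_beq_eq_true h.2

theorem treeOK_spec {i : ℕ} (h1 : 1 ≤ i) (h2 : i < nE) :
    PAR i < i ∧ decM (gP (LAB i)) * decM (TT (PAR i)) = decM (TT i) := by
  have h := tree_all i h1 h2
  unfold treeOK at h
  rw [Bool.and_eq_true] at h
  refine ⟨?_, eqProd1F_sound h.2⟩
  have := h.1
  unfold Nat.blt at this
  have h3 := Nat.le_of_ble_eq_true this
  omega

theorem E_val (i : ℕ) (hi : i < nE) : (E i : M7) = decM (TT i) := by
  induction i using Nat.strong_induction_on with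
  | _ i ih =>
    rcases Nat.eq_zero_or_pos i with h0 | h0
    · rw [h0, E_zero, TT_zero, decM_idP]; rfl
    · obtain ⟨hp, heq⟩ := treeOK_spec h0 hi
      rw [E_step i h0 hp, Units.val_mul, gen_val, ih _ hp (lt_trans hp hi), heq]

/-- The two generators of the stabilizer. -/
def sgen (s : ℕ) : A := cond (Nat.beq s 0) (E idx1) (E idx2)

theorem sgen_val (s : ℕ) : (sgen s : M7) = decM (sP s) := by
  unfold sgen sP
  cases h : Nat.beq s 0
  · exact E_val idx2 (by decide)
  · exact E_val idx1 (by decide)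

/-- The generating set of the stabilizer. -/
def SH : Set A := {E idx1, E idx2}

theorem sgen_mem (s : ℕ) : sgen s ∈ Subgroup.closure SH := by
  unfold sgen SH
  cases h : Nat.beq s 0
  · exact Subgroup.subset_closure (by simp)
  · exact Subgroup.subset_closure (by simp)

/-- The elements of the stabilizer. -/
def U : ℕ → A
  | k => if _h : 0 < k ∧ UPAR k < k then sgen (ULAB k) * U (UPAR k) else 1
termination_by k => k
decreasing_by exact _h.2

theorem U_zero : U 0 = 1 := by
  rw [U]; simp

theorem U_step (k : ℕ) (h1 : 0 < k) (h2 : UPAR k < k) : U k = sgen (ULAB k) * U (UPAR k) := by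
  rw [U]; simp [h1, h2]

theorem U_mem (k : ℕ) : U k ∈ Subgroup.closure SH := by
  induction k using Nat.strong_induction_on with
  | _ k ih =>
    by_cases h : 0 < k ∧ UPAR k < k
    · rw [U_step k h.1 h.2]
      exact Subgroup.mul_mem _ (sgen_mem _) (ih _ h.2)
    · rw [U]; simp only [h, dite_false]; exact Subgroup.one_mem _

theorem utreeOK_spec {k : ℕ} (h1 : 1 ≤ k) (h2 : k < nH) :
    UPAR k < k ∧ decM (sP (ULAB k)) * decM (UU (UPAR k)) = decM (UU k) := by
  have h := allR_true utree_all' k h1 (by have : k < 57 := h2; omega)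
  unfold utreeOK at h
  rw [Bool.and_eq_true] at h
  refine ⟨?_, eqProd1F_sound h.2⟩
  have := h.1
  unfold Nat.blt at this
  have h3 := Nat.le_of_ble_eq_true this
  omega

theorem U_val (k : ℕ) (hk : k < nH) : (U k : M7) = decM (UU k) := by
  induction k using Nat.strong_induction_on with
  | _ k ih =>
    rcases Nat.eq_zero_or_pos k with h0 | h0
    · rw [h0, U_zero, UU_zero, decM_idP]; rfl
    · obtain ⟨hp, heq⟩ := utreeOK_spec h0 hk
      rw [U_step k h0 hp, Units.val_mul, sgen_val, ih _ hp (lt_trans hp hk), heq]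

/-- The second base point. -/
def b2 : V7 := decV b2P
/-- The first base point. -/
def b1 : V7 := decV bP

theorem U_key (k : ℕ) (hk : k < nH) : keyV (U k • b2) = HKEY k := by
  rw [smul_eq, U_val k hk, b2, keyV_mulVec]
  have h := allB_true ukey_all' k hk
  exact Nat.eq_of_beq_eq_true h

theorem HKEY_ne {j k : ℕ} (hjk : j < k) (hk : k < nH) : HKEY j ≠ HKEY k := by
  have h := allB_true (allB_true udist_all' k hk) j hjk
  intro heq
  rw [heq] at h
  simp at h

theorem U_inj : ∀ i < nH, ∀ j < nH, U i • b2 = U j • b2 → i = j := by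
  intro i hi j hj h
  have hk : HKEY i = HKEY j := by rw [← U_key i hi, ← U_key j hj, h]
  rcases Nat.lt_trichotomy i j with h1 | h1 | h1
  · exact absurd hk (HKEY_ne h1 hj)
  · exact h1
  · exact absurd hk.symm (HKEY_ne h1 hi)

theorem uschOK_spec (s : ℕ) (hs : s < 2) {k : ℕ} (hk : k < nH) :
    utau s k < nH ∧ sgen s * U k = U (utau s k) := by
  have h : uschOK s k = true := by
    interval_cases s
    · exact allB_true usch0_all' k hk
    · exact allB_true usch1_all' k hk
  unfold uschOK at h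
  rw [Bool.and_eq_true] at h
  have h1 : utau s k < nH := by
    have := h.1
    unfold Nat.blt at this
    have h3 := Nat.le_of_ble_eq_true this
    omega
  refine ⟨h1, ?_⟩
  apply Units.ext
  rw [Units.val_mul, sgen_val, U_val k hk, U_val _ h1]
  exact eqProd1F_sound h.2

theorem mem_SH {g : A} (hg : g ∈ SH) : ∃ s < 2, g = sgen s := by
  rcases hg with rfl | rfl
  · exact ⟨0, by norm_num, rfl⟩
  · exact ⟨1, by norm_num, rfl⟩

/-- The stabilizer has order 57 and consists of the `U k`. -/
theorem level2 : (∀ k ∈ Subgroup.closure SH, ∃ i < nH, k = U i) ∧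
    Nat.card (Subgroup.closure SH) = nH := by
  apply schreier_flat SH b2 nH U (by decide) U_zero (fun i _ => U_mem i) U_inj
  intro g hg i hi
  obtain ⟨s, hs, rfl⟩ := mem_SH hg
  exact ⟨utau s i, (uschOK_spec s hs hi).1, (uschOK_spec s hs hi).2⟩

/-- The generating set. -/
def SG : Set A := {Cfsg.Spor.jankoX, Cfsg.Spor.jankoY}

theorem mem_SG {g : A} (hg : g ∈ SG) : ∃ s < 2, g = gen s := by
  rcases hg with rfl | rfl
  · exact ⟨0, by norm_num, rfl⟩
  · exact ⟨1, by norm_num, rfl⟩

theorem E_key (i : ℕ) (hi : i < nPts) : keyV (E i • b1) = KEY i := by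
  rw [smul_eq, E_val i (lt_trans hi (by decide)), b1, keyV_mulVec]
  have h := allB_true key_all' i hi
  unfold keyOK at h
  rw [Bool.and_eq_true, Bool.and_eq_true] at h
  exact Nat.eq_of_beq_eq_true h.1.1

theorem PI_spec (i : ℕ) (hi : i < nPts) : PI i < nPts ∧ PINV (PI i) = i := by
  have h := allB_true key_all' i hi
  unfold keyOK at h
  rw [Bool.and_eq_true, Bool.and_eq_true] at h
  refine ⟨?_, Nat.eq_of_beq_eq_true h.2⟩
  have := h.1.2
  unfold Nat.blt at this
  have h3 := Nat.le_of_ble_eq_true this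
  omega

theorem sorted_step (m : ℕ) (hm : m + 1 < nPts) : KEY (PINV m) < KEY (PINV (m + 1)) := by
  have h := allB_true sort_all' m (by have : m + 1 < 3080 := hm; omega)
  unfold sortOK Nat.blt at h
  have h3 := Nat.le_of_ble_eq_true h
  omega

theorem sorted_lt {m m' : ℕ} (h : m < m') (hm' : m' < nPts) :
    KEY (PINV m) < KEY (PINV m') := by
  induction m' with
  | zero => exact absurd h (Nat.not_lt_zero m)
  | succ k ih =>
    rcases Nat.lt_succ_iff_lt_or_eq.1 h with h1 | h1
    · exact lt_trans (ih h1 (by omega)) (sorted_step k hm')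
    · rw [h1]; exact sorted_step k hm'

theorem KEY_inj {i j : ℕ} (hi : i < nPts) (hj : j < nPts) (h : KEY i = KEY j) : i = j := by
  obtain ⟨hi1, hi2⟩ := PI_spec i hi
  obtain ⟨hj1, hj2⟩ := PI_spec j hj
  have hk : KEY (PINV (PI i)) = KEY (PINV (PI j)) := by rw [hi2, hj2, h]
  have : PI i = PI j := by
    rcases Nat.lt_trichotomy (PI i) (PI j) with h1 | h1 | h1
    · exact absurd hk (ne_of_lt (sorted_lt h1 hj1))
    · exact h1
    · exact absurd hk.symm (ne_of_lt (sorted_lt h1 hi1))
  rw [← hi2, ← hj2, this]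

theorem E_inj : ∀ i < nPts, ∀ j < nPts, E i • b1 = E j • b1 → i = j := by
  intro i hi j hj h
  apply KEY_inj hi hj
  rw [← E_key i hi, ← E_key j hj, h]

theorem sgen_fix (s : ℕ) : sgen s • b1 = b1 := by
  rw [smul_eq, sgen_val, b1]
  unfold sP
  cases h : Nat.beq s 0
  · exact eqMulVec_sound fix2'
  · exact eqMulVec_sound fix1'

theorem H_fix : ∀ h ∈ Subgroup.closure SH, h • b1 = b1 := by
  intro h hh
  have hle : Subgroup.closure SH ≤ MulAction.stabilizer A b1 := by
    rw [Subgroup.closure_le]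
    intro g hg
    obtain ⟨s, _, rfl⟩ := mem_SH hg
    exact sgen_fix s
  exact hle hh

theorem H_le : Subgroup.closure SH ≤ Subgroup.closure SG := by
  rw [Subgroup.closure_le]
  intro g hg
  rcases hg with rfl | rfl
  · exact E_mem _
  · exact E_mem _

theorem schOK_spec (g : ℕ) (hg : g < 2) {i : ℕ} (hi : i < nPts) :
    tau g i < nPts ∧ sig g i < nH ∧ gen g * E i = E (tau g i) * U (sig g i) := by
  have h : schOK g i = true := by
    interval_cases g
    · exact sch0_all i hi
    · exact sch1_all i hi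
  unfold schOK at h
  rw [Bool.and_eq_true, Bool.and_eq_true] at h
  have h1 : tau g i < nPts := by
    have := h.1.1
    unfold Nat.blt at this
    have h3 := Nat.le_of_ble_eq_true this
    omega
  have h2 : sig g i < nH := by
    have := h.1.2
    unfold Nat.blt at this
    have h3 := Nat.le_of_ble_eq_true this
    omega
  refine ⟨h1, h2, ?_⟩
  rcases Bool.or_eq_true_iff.1 h.2 with h3 | h3
  · -- a tree edge
    unfold isTreeEdge at h3
    rw [Bool.and_eq_true, Bool.and_eq_true, Bool.and_eq_true] at h3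
    have e1 : sig g i = 0 := Nat.eq_of_beq_eq_true h3.1.1.1
    have e2 : PAR (tau g i) = i := Nat.eq_of_beq_eq_true h3.1.1.2
    have e3 : LAB (tau g i) = g := Nat.eq_of_beq_eq_true h3.1.2
    have e4 : 1 ≤ tau g i := Nat.le_of_ble_eq_true h3.2
    obtain ⟨hp, _⟩ := treeOK_spec e4 (lt_trans h1 (by decide))
    rw [E_step (tau g i) e4 hp, e1, e2, e3, U_zero, mul_one]
  · apply Units.ext
    rw [Units.val_mul, Units.val_mul, gen_val, E_val i (lt_trans hi (by decide)),
      E_val _ (lt_trans h1 (by decide)), U_val _ h2]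
    exact eqProd2F_sound h3

/-- The order of `⟨X, Y⟩`, and the stabilizer of the base point. -/
theorem level1 : (∀ k ∈ Subgroup.closure SG, k • b1 = b1 → k ∈ Subgroup.closure SH) ∧
    Nat.card (Subgroup.closure SG) = nPts * Nat.card (Subgroup.closure SH) := by
  apply schreier_idx SG (Subgroup.closure SH) b1 nPts E (by decide) E_zero
    (fun i _ => E_mem i) E_inj H_le H_fix
  intro g hg i hi
  obtain ⟨s, hs, rfl⟩ := mem_SG hg
  obtain ⟨h1, h2, h3⟩ := schOK_spec s hs hi
  refine ⟨tau s i, h1, ?_⟩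
  rw [mul_assoc, h3, ← mul_assoc, inv_mul_cancel, one_mul]
  exact U_mem _

theorem card_J1 : Nat.card (Subgroup.closure SG) = 175560 := by
  rw [level1.2, level2.2]; rfl

end Cfsg.Agent.Helper26.J1G
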