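import Mathlib

/-!
# A simplicity criterion via an element of prime order

`isSimpleGroup_of_prime_elt`: a finite group `G` with trivial centre containing an element `x` of
prime order `q` with `q ^ 2 ∤ |G|`, whose normal closure is `G`, and such that no prime power
`p ^ j ∣ |G|` (`p ≠ q`, `j > 0`) is congruent to `1` modulo `q`, is simple.
-/

set_option autoImplicit false

namespace Cfsg.Agent.Helper26.SimpleQ

open scoped Pointwise

variable {G : Type*} [Group G]

/-- An element `x` of prime order `q` normalizing a subgroup `P` of order `p ^ a`, where no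
`p ^ j` with `0 < j ≤ a` is `1` modulo `q`, centralizes `P`. -/
theorem centralizes_pgroup [Finite G] (q p : ℕ) [hq : Fact q.Prime] [hp : Fact p.Prime] (hpq : p ≠ q)
    (x : G) (hx : orderOf x = q) (P : Subgroup G) (a : ℕ) (hP : Nat.card P = p ^ a)
    (hnorm : ∀ n ∈ P, x * n * x⁻¹ ∈ P)
    (hmod : ∀ j, 0 < j → j ≤ a → ¬ (p ^ j ≡ 1 [MOD q])) : ∀ n ∈ P, x * n = n * x := by
  classical
  -- the group `Q = ⟨x⟩` acts on `P` by conjugation
  let Q : Subgroup G := Subgroup.zpowers x
  have hQnorm : ∀ k ∈ Q, ∀ n ∈ P, k * n * k⁻¹ ∈ P := by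
    intro k hk
    have hle : Q ≤ Subgroup.normalizer (P : Set G) := by
      rw [Subgroup.zpowers_le]
      rw [Subgroup.mem_normalizer_iff]
      intro n
      constructor
      · intro hn; exact hnorm n hn
      · intro hn
        -- conjugation by `x` is a bijection of the finite set `P`
        have hinj : Function.Injective (fun n : P => (⟨x * n.1 * x⁻¹, hnorm n.1 n.2⟩ : P)) := by
          intro n₁ n₂ h
          have h' : x * n₁.1 * x⁻¹ = x * n₂.1 * x⁻¹ := congrArg Subtype.val h
          have h'' : n₁.1 = n₂.1 := by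
            have := mul_right_cancel h'
            exact mul_left_cancel this
          exact Subtype.ext h''
        have hsurj := Finite.surjective_of_injective hinj
        obtain ⟨m, hm⟩ := hsurj ⟨x * n * x⁻¹, hn⟩
        have hm' : x * m.1 * x⁻¹ = x * n * x⁻¹ := congrArg Subtype.val hm
        have : m.1 = n := mul_left_cancel (mul_right_cancel hm')
        rw [← this]; exact m.2
    intro n hn
    exact ((Subgroup.mem_normalizer_iff.1 (hle hk)) n).1 hn
  let act : MulAction Q P :=
    { smul := fun k n => ⟨k.1 * n.1 * k.1⁻¹, hQnorm k.1 k.2 n.1 n.2⟩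
      one_smul := by intro n; apply Subtype.ext; show (1 : G) * n.1 * (1 : G)⁻¹ = n.1; simp
      mul_smul := by
        intro k₁ k₂ n; apply Subtype.ext
        show (k₁.1 * k₂.1) * n.1 * (k₁.1 * k₂.1)⁻¹ = k₁.1 * (k₂.1 * n.1 * k₂.1⁻¹) * k₁.1⁻¹
        group }
  have hsmul : ∀ (k : Q) (n : P), ((k • n : P) : G) = k.1 * n.1 * k.1⁻¹ := fun _ _ => rfl
  have hQcard : Nat.card Q = q := by rw [Nat.card_zpowers, hx]
  have hQp : IsPGroup q Q := IsPGroup.of_card (n := 1) (by rw [hQcard, pow_one])
  have hcong := hQp.card_modEq_card_fixedPoints P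
  -- the fixed points form the subgroup `C = P ⊓ C(x)`
  let C : Subgroup G := P ⊓ Subgroup.centralizer {x}
  have hfix : Nat.card (MulAction.fixedPoints Q P) = Nat.card C := by
    refine Nat.card_congr
      { toFun := fun n => ⟨n.1.1, n.1.2, ?_⟩
        invFun := fun c => ⟨⟨c.1, c.2.1⟩, ?_⟩
        left_inv := fun n => rfl
        right_inv := fun c => rfl }
    · show n.1.1 ∈ Subgroup.centralizer {x}
      rw [Subgroup.mem_centralizer_iff]
      intro y hy
      rw [Set.mem_singleton_iff] at hy
      subst hy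
      have := n.2 ⟨y, Subgroup.mem_zpowers y⟩
      have h2 : y * n.1.1 * y⁻¹ = n.1.1 := by
        have := congrArg Subtype.val this
        rwa [hsmul] at this
      calc y * n.1.1 = y * n.1.1 * y⁻¹ * y := by group
        _ = n.1.1 * y := by rw [h2]
    · intro k
      apply Subtype.ext
      rw [hsmul]
      have hk : k.1 ∈ Subgroup.centralizer {c.1} := by
        have hc : c.1 ∈ Subgroup.centralizer {x} := c.2.2
        have : x ∈ Subgroup.centralizer {c.1} := by
          rw [Subgroup.mem_centralizer_iff] at hc ⊢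
          intro y hy
          rw [Set.mem_singleton_iff] at hy
          subst hy
          exact (hc x rfl).symm
        exact (Subgroup.zpowers_le.2 this) k.2
      rw [Subgroup.mem_centralizer_iff] at hk
      have := hk c.1 rfl
      show k.1 * c.1 * k.1⁻¹ = c.1
      rw [← this]; group
  rw [hfix, hP] at hcong
  have hCle : C ≤ P := inf_le_left
  have hCdvd : Nat.card C ∣ p ^ a := by
    rw [← hP]; exact Subgroup.card_dvd_of_le hCle
  obtain ⟨b, hba, hCb⟩ := (Nat.dvd_prime_pow hp.out).1 hCdvd
  rw [hCb] at hcong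
  have hab : b = a := by
    by_contra hne
    have hlt : b < a := lt_of_le_of_ne hba hne
    have hcop : Nat.Coprime q (p ^ b) :=
      Nat.Coprime.pow_right b ((Nat.coprime_primes hq.out hp.out).2 (Ne.symm hpq))
    have h1 : p ^ b * p ^ (a - b) ≡ p ^ b * 1 [MOD q] := by
      rw [← pow_add, Nat.add_sub_cancel' hba, mul_one]; exact hcong
    have h2 := Nat.ModEq.cancel_left_of_coprime hcop h1
    exact hmod (a - b) (Nat.sub_pos_of_lt hlt) (Nat.sub_le a b) h2
  have hCP : C = P := by
    apply Subgroup.eq_of_le_of_card_ge hCle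
    rw [hCb, hP, hab]
  intro n hn
  have hnC : n ∈ C := by rw [hCP]; exact hn
  have h3 : n ∈ Subgroup.centralizer {x} := hnC.2
  rw [Subgroup.mem_centralizer_iff] at h3
  exact h3 x rfl


/-- In a finite group, if `x` has prime order `q`, `q ∤ |N|` for a normal subgroup `N`, and no
prime power `p ^ j ∣ |N|` (`p ≠ q`, `j > 0`) is `1` modulo `q`, then `x` centralizes `N`. -/
theorem centralizes_normal [Finite G] (q : ℕ) [hq : Fact q.Prime] (x : G) (hx : orderOf x = q)
    (N : Subgroup G) [hN : N.Normal] (hqN : ¬ q ∣ Nat.card N)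
    (hmod : ∀ p : ℕ, p.Prime → p ≠ q → ∀ j, 0 < j → p ^ j ∣ Nat.card N →
      ¬ (p ^ j ≡ 1 [MOD q])) : ∀ n ∈ N, x * n = n * x := by
  classical
  let C : Subgroup G := N ⊓ Subgroup.centralizer {x}
  have hCle : C ≤ N := inf_le_left
  have hN0 : Nat.card N ≠ 0 := Nat.card_pos.ne'
  have hC0 : Nat.card C ≠ 0 := Nat.card_pos.ne'
  have hdvd : Nat.card N ∣ Nat.card C := by
    rw [← Nat.factorization_le_iff_dvd hN0 hC0]
    intro p
    by_cases hp : p.Prime
    · by_cases hpq : p = q
      · rw [hpq, Nat.factorization_eq_zero_of_not_dvd hqN]; exact Nat.zero_le _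
      · have : Fact p.Prime := ⟨hp⟩
        -- a Sylow `p`-subgroup of `N` fixed by `x`
        let A : Subgroup (ConjAct G) := Subgroup.zpowers (ConjAct.toConjAct x)
        have hAcard : Nat.card A = q := by
          rw [Nat.card_zpowers, MulEquiv.orderOf_eq, hx]
        have hA : IsPGroup q A := IsPGroup.of_card (n := 1) (by rw [hAcard, pow_one])
        have hcard : ¬ q ∣ Nat.card (Sylow p N) := by
          intro hdiv
          have P0 : Sylow p N := default
          have h1 := Sylow.card_dvd_index P0
          have h2 : (P0 : Subgroup N).index ∣ Nat.card N := Subgroup.index_dvd_card _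
          exact hqN (hdiv.trans (h1.trans h2))
        obtain ⟨P, hPfix⟩ := hA.nonempty_fixed_point_of_prime_not_dvd_card (Sylow p N) hcard
        have hfix : (ConjAct.toConjAct x) • P = P :=
          hPfix ⟨ConjAct.toConjAct x, Subgroup.mem_zpowers _⟩
        set a := (Nat.card N).factorization p with ha
        have hPcard : Nat.card (P : Subgroup N) = p ^ a := P.card_eq_multiplicity
        let P' : Subgroup G := (P : Subgroup N).map N.subtype
        have hP'card : Nat.card P' = p ^ a := by
          rw [← hPcard]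
          exact Subgroup.card_map_of_injective N.subtype_injective
        have hnorm : ∀ n ∈ P', x * n * x⁻¹ ∈ P' := by
          rintro n ⟨m, hm, rfl⟩
          have h1 : ConjAct.toConjAct x • m ∈ ConjAct.toConjAct x • (P : Subgroup N) :=
            Subgroup.smul_mem_pointwise_smul m _ _ hm
          rw [← Sylow.pointwise_smul_def, hfix] at h1
          refine ⟨ConjAct.toConjAct x • m, h1, ?_⟩
          show ((ConjAct.toConjAct x • m : N) : G) = x * (m : G) * x⁻¹
          rw [ConjAct.Subgroup.val_conj_smul, ConjAct.toConjAct_smul]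
        have hmod' : ∀ j, 0 < j → j ≤ a → ¬ (p ^ j ≡ 1 [MOD q]) := by
          intro j hj hja
          refine hmod p hp hpq j hj ?_
          exact (pow_dvd_pow p hja).trans (Nat.ordProj_dvd _ p)
        have hcent := centralizes_pgroup q p hpq x hx P' a hP'card hnorm hmod'
        have hP'C : P' ≤ C := by
          intro n hn
          refine ⟨?_, ?_⟩
          · obtain ⟨m, _, rfl⟩ := hn
            exact m.2
          · show n ∈ Subgroup.centralizer {x}
            rw [Subgroup.mem_centralizer_iff]
            intro y hy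
            rw [Set.mem_singleton_iff] at hy
            subst hy
            exact hcent n hn
        have h3 : p ^ a ∣ Nat.card C := by
          rw [← hP'card]; exact Subgroup.card_dvd_of_le hP'C
        exact (hp.pow_dvd_iff_le_factorization hC0).1 h3
    · rw [Nat.factorization_eq_zero_of_not_prime _ hp]; exact Nat.zero_le _
  have hCN : C = N := by
    apply Subgroup.eq_of_le_of_card_ge hCle
    exact Nat.le_of_dvd Nat.card_pos hdvd
  intro n hn
  have hnC : n ∈ C := by rw [hCN]; exact hn
  have h3 : n ∈ Subgroup.centralizer {x} := hnC.2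
  rw [Subgroup.mem_centralizer_iff] at h3
  exact h3 x rfl

/-- **Simplicity criterion.** A finite group with trivial centre, containing an element `x` of
prime order `q` with `q ^ 2 ∤ |G|` whose normal closure is `G`, such that no prime power
`p ^ j ∣ |G|` (`p ≠ q`, `j > 0`) is `1` modulo `q`, is simple. -/
theorem isSimpleGroup_of_prime_elt [Finite G] (q : ℕ) [hq : Fact q.Prime] (x : G)
    (hx : orderOf x = q) (hq2 : ¬ q ^ 2 ∣ Nat.card G)
    (hncl : Subgroup.normalClosure {x} = ⊤) (hZ : Subgroup.center G = ⊥)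
    (hmod : ∀ p : ℕ, p.Prime → p ≠ q → ∀ j, 0 < j → p ^ j ∣ Nat.card G →
      ¬ (p ^ j ≡ 1 [MOD q])) : IsSimpleGroup G := by
  classical
  have hx1 : x ≠ 1 := by
    intro h
    rw [h, orderOf_one] at hx
    exact hq.out.one_lt.ne hx
  have : Nontrivial G := ⟨⟨x, 1, hx1⟩⟩
  refine { eq_bot_or_eq_top_of_normal := fun N hN => ?_ }
  have hG0 : Nat.card G ≠ 0 := Nat.card_pos.ne'
  have hqG : q ∣ Nat.card G := hx ▸ orderOf_dvd_natCard x
  have hfac : (Nat.card G).factorization q = 1 := by
    have h1 : 1 ≤ (Nat.card G).factorization q :=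
      (hq.out.pow_dvd_iff_le_factorization hG0).1 (by rwa [pow_one])
    have h2 : ¬ 2 ≤ (Nat.card G).factorization q := fun h =>
      hq2 ((hq.out.pow_dvd_iff_le_factorization hG0).2 h)
    omega
  by_cases hqN : q ∣ Nat.card N
  · right
    obtain ⟨y, hy⟩ := exists_prime_orderOf_dvd_card' q hqN
    have hyG : orderOf (y : G) = q := by rw [Subgroup.orderOf_coe, hy]
    let Px : Sylow q G := Sylow.ofCard (Subgroup.zpowers x)
      (by rw [Nat.card_zpowers, hx, hfac, pow_one])
    let Py : Sylow q G := Sylow.ofCard (Subgroup.zpowers (y : G))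
      (by rw [Nat.card_zpowers, hyG, hfac, pow_one])
    obtain ⟨g, hg⟩ := MulAction.exists_smul_eq G Py Px
    have hxP : x ∈ (Px : Subgroup G) := by
      rw [Sylow.coe_ofCard]; exact Subgroup.mem_zpowers x
    rw [← hg, Sylow.coe_subgroup_smul, Subgroup.mem_pointwise_smul_iff_inv_smul_mem,
      Sylow.coe_ofCard] at hxP
    have hyN : Subgroup.zpowers (y : G) ≤ N := Subgroup.zpowers_le.2 y.2
    have h1 : (MulAut.conj g)⁻¹ • x ∈ N := hyN hxP
    have h2 : x ∈ N := by
      have : x = g * ((MulAut.conj g)⁻¹ • x) * g⁻¹ := by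
        rw [MulAut.smul_def, ← map_inv, MulAut.conj_apply]; group
      rw [this]; exact hN.conj_mem _ h1 g
    rw [eq_top_iff, ← hncl]
    exact Subgroup.normalClosure_le_normal (Set.singleton_subset_iff.2 h2)
  · left
    have hNG : Nat.card N ∣ Nat.card G := Subgroup.card_subgroup_dvd_card N
    have hcent := centralizes_normal q x hx N hqN
      (fun p hp hpq j hj hdiv => hmod p hp hpq j hj (hdiv.trans hNG))
    -- the centralizer of `N` is a normal subgroup containing `x`
    have hxK : x ∈ Subgroup.centralizer (N : Set G) := by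
      rw [Subgroup.mem_centralizer_iff]
      intro n hn
      exact (hcent n hn).symm
    have hK : Subgroup.centralizer (N : Set G) = ⊤ := by
      rw [eq_top_iff, ← hncl]
      exact Subgroup.normalClosure_le_normal (Set.singleton_subset_iff.2 hxK)
    rw [eq_bot_iff, ← hZ]
    intro n hn
    rw [Subgroup.mem_center_iff]
    intro g
    have hg : g ∈ Subgroup.centralizer (N : Set G) := by rw [hK]; exact Subgroup.mem_top g
    rw [Subgroup.mem_centralizer_iff] at hg
    exact (hg n hn).symm

/-- If `a * b` lies in a normal subgroup `N` and `a`, `b` have coprime exponents, then both `a`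
and `b` lie in `N`. -/
theorem mem_of_mul_mem_of_coprime (N : Subgroup G) [N.Normal] (a b : G) (m n : ℕ)
    (ha : a ^ m = 1) (hb : b ^ n = 1) (hmn : Nat.Coprime m n) (hab : a * b ∈ N) :
    a ∈ N ∧ b ∈ N := by
  have h1 : (QuotientGroup.mk' N) a * (QuotientGroup.mk' N) b = 1 := by
    rw [← map_mul]; exact (QuotientGroup.eq_one_iff _).2 hab
  have h2 : (QuotientGroup.mk' N) b = ((QuotientGroup.mk' N) a)⁻¹ := by
    exact eq_inv_of_mul_eq_one_right h1
  have h3 : ((QuotientGroup.mk' N) a) ^ n = 1 := by
    have : ((QuotientGroup.mk' N) b) ^ n = 1 := by rw [← map_pow, hb, map_one]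
    rw [h2, inv_pow, inv_eq_one] at this
    exact this
  have h4 : ((QuotientGroup.mk' N) a) ^ m = 1 := by rw [← map_pow, ha, map_one]
  have h5 : (QuotientGroup.mk' N) a = 1 := by
    have hd1 := orderOf_dvd_of_pow_eq_one h3
    have hd2 := orderOf_dvd_of_pow_eq_one h4
    have hd : orderOf ((QuotientGroup.mk' N) a) ∣ Nat.gcd m n := Nat.dvd_gcd hd2 hd1
    rw [hmn.gcd_eq_one, Nat.dvd_one] at hd
    exact orderOf_eq_one_iff.1 hd
  have h6 : (QuotientGroup.mk' N) b = 1 := by rw [h2, h5, inv_one]
  exact ⟨(QuotientGroup.eq_one_iff _).1 h5, (QuotientGroup.eq_one_iff _).1 h6⟩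

/-- If `G` is generated by `a` and `b` of coprime exponents, the normal closure of `a * b` is
everything. -/
theorem normalClosure_mul_eq_top (a b : G) (m n : ℕ) (ha : a ^ m = 1) (hb : b ^ n = 1)
    (hmn : Nat.Coprime m n) (hgen : Subgroup.closure {a, b} = ⊤) :
    Subgroup.normalClosure {a * b} = ⊤ := by
  have hab : a * b ∈ Subgroup.normalClosure {a * b} :=
    Subgroup.subset_normalClosure (Set.mem_singleton _)
  obtain ⟨h1, h2⟩ := mem_of_mul_mem_of_coprime _ a b m n ha hb hmn hab
  rw [eq_top_iff, ← hgen, Subgroup.closure_le]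
  intro g hg
  rcases hg with rfl | rfl
  · exact h1
  · exact h2

end Cfsg.Agent.Helper26.SimpleQ
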