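import Mathlib
import Cfsg.Prelude.Def_Spor_J1
import Cfsg.Agent.Lib.Helper26.SimpleQ
import Cfsg.Agent.Lib.Helper26.J1Group
import Cfsg.Agent.Lib.Helper26.J1CChk
import Cfsg.Agent.Lib.Helper26.CentProd
import Cfsg.Agent.Lib.Helper2.Order60

/-!
# The centralizer of an involution in `J₁ = ⟨X, Y⟩ ≤ GL₇(11)` is `2 × A₅`
-/

set_option autoImplicit false

namespace Cfsg.Agent.Helper26.J1Z

open Matrix
open Cfsg.Agent.Helper26 Cfsg.Agent.Helper26.J1A Cfsg.Agent.Helper26.J1D
  Cfsg.Agent.Helper26.J1C Cfsg.Agent.Helper26.J1K Cfsg.Agent.Helper26.J1G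
  Cfsg.Agent.Helper26.J1CD Cfsg.Agent.Helper26.J1CC Cfsg.Agent.Helper26.J1CK

/-! ### Completeness of the Boolean product check -/

theorem allB_intro {n : ℕ} {f : ℕ → Bool} (h : ∀ i < n, f i = true) : allB n f = true := by
  induction n with
  | zero => rfl
  | succ k ih =>
    rw [allB_succ, h k (Nat.lt_succ_self k), ih (fun i hi => h i (Nat.lt_succ_of_lt hi))]
    rfl

theorem eqProd2_complete {P Q P' Q' : ℕ} (h : decM P * decM Q = decM P' * decM Q') :
    eqProd2 P Q P' Q' = true := by
  unfold eqProd2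
  apply allB_intro
  intro r hr
  apply allB_intro
  intro c hc
  have h1 := congrFun (congrFun h ⟨r, hr⟩) ⟨c, hc⟩
  rw [decM_mul_apply, decM_mul_apply, ZMod.natCast_eq_natCast_iff'] at h1
  have h2 : ent P Q r c % 11 = ent P' Q' r c % 11 := h1
  rw [h2]
  exact Nat.beq_refl _

theorem eqProd2F_complete {P Q P' Q' : ℕ} (h : decM P * decM Q = decM P' * decM Q') :
    eqProd2F P Q P' Q' = true := by
  simp only [eqProd2F, seqN_eq]
  exact eqProd2_complete h

/-! ### The three elements -/

/-- The involution. -/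
def tA : A := E it * U kt
/-- An involution centralizing `tA`. -/
def xA : A := E ix * U kx
/-- An element of order three centralizing `tA`. -/
def yA : A := E iy * U ky

theorem tA_val : (tA : M7) = decM tP := by
  rw [tA, Units.val_mul, E_val _ (by decide), U_val _ (by decide)]
  exact eqProd1F_sound ht

theorem xA_val : (xA : M7) = decM xP := by
  rw [xA, Units.val_mul, E_val _ (by decide), U_val _ (by decide)]
  exact eqProd1F_sound hx

theorem yA_val : (yA : M7) = decM yP := by
  rw [yA, Units.val_mul, E_val _ (by decide), U_val _ (by decide)]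
  exact eqProd1F_sound hy

theorem tA_mem : tA ∈ Subgroup.closure SG := Subgroup.mul_mem _ (E_mem _) (H_le (U_mem _))
theorem xA_mem : xA ∈ Subgroup.closure SG := Subgroup.mul_mem _ (E_mem _) (H_le (U_mem _))
theorem yA_mem : yA ∈ Subgroup.closure SG := Subgroup.mul_mem _ (E_mem _) (H_le (U_mem _))

theorem one_val : ((1 : A) : M7) = decM idP := by rw [decM_idP]; rfl

theorem tA_sq : tA ^ 2 = 1 := by
  apply Units.ext
  rw [pow_two, Units.val_mul, tA_val, eqProd1F_sound htt, one_val]

theorem xA_sq : xA ^ 2 = 1 := by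
  apply Units.ext
  rw [pow_two, Units.val_mul, xA_val, eqProd1F_sound hxx, one_val]

theorem yA_cube : yA ^ 3 = 1 := by
  apply Units.ext
  rw [pow_succ, pow_two, Units.val_mul, Units.val_mul, yA_val, eqProd1F_sound hyy,
    eqProd1F_sound hyyy, one_val]

theorem xyA_val : ((xA * yA : A) : M7) = decM xyP := by
  rw [Units.val_mul, xA_val, yA_val, eqProd1F_sound hxy]

theorem xyA_pow : (xA * yA) ^ 5 = 1 := by
  apply Units.ext
  have h : ∀ M : A, M ^ 5 = M * M * (M * M) * M := fun M => by
    simp only [pow_succ, pow_zero, one_mul, mul_assoc]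
  rw [h, Units.val_mul, Units.val_mul, Units.val_mul, xyA_val, eqProd1F_sound hxy2,
    eqProd1F_sound hxy4, eqProd1F_sound hxy5, one_val]

theorem tA_ne : tA ≠ 1 := by
  intro h
  have h1 : decM tP = 1 := by rw [← tA_val, h]; rfl
  have h2 := congrFun (congrFun h1 0) 0
  revert h2
  decide

theorem xyA_ne : xA * yA ≠ 1 := by
  intro h
  have h1 : decM xyP = 1 := by rw [← xyA_val, h]; rfl
  have h2 := congrFun (congrFun h1 0) 0
  revert h2
  decide

theorem comm_xt : xA * tA = tA * xA := by
  apply Units.ext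
  rw [Units.val_mul, Units.val_mul, xA_val, tA_val]
  exact eqProd2F_sound hxt

theorem comm_yt : yA * tA = tA * yA := by
  apply Units.ext
  rw [Units.val_mul, Units.val_mul, yA_val, tA_val]
  exact eqProd2F_sound hyt

/-! ### The conjugates of the involution -/

theorem CT_zero : CT 0 = tP := by
  have h := ct0
  rw [Bool.and_eq_true] at h
  exact Nat.eq_of_beq_eq_true h.1

theorem LL_zero : LL 0 = idP := by
  have h := ct0
  rw [Bool.and_eq_true] at h
  exact Nat.eq_of_beq_eq_true h.2

theorem ctreeOK_spec {j : ℕ} (h1 : 1 ≤ j) (h2 : j < nC) :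
    CPAR j < j ∧
      decM (gP (CLAB j)) * decM (CT (CPAR j)) = decM (CT j) * decM (gP (CLAB j)) := by
  have h := allR_true ctree_all j h1 (by have : j < 1463 := h2; omega)
  unfold ctreeOK at h
  rw [Bool.and_eq_true] at h
  refine ⟨?_, eqProd2F_sound h.2⟩
  have := h.1
  unfold Nat.blt at this
  have h3 := Nat.le_of_ble_eq_true this
  omega

theorem conj_exists (j : ℕ) (hj : j < nC) :
    ∃ g ∈ Subgroup.closure SG, ((g * tA * g⁻¹ : A) : M7) = decM (CT j) := by
  induction j using Nat.strong_induction_on with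
  | _ j ih =>
    rcases Nat.eq_zero_or_pos j with h0 | h0
    · refine ⟨1, Subgroup.one_mem _, ?_⟩
      rw [h0, CT_zero, one_mul, inv_one, mul_one, tA_val]
    · obtain ⟨hp, heq⟩ := ctreeOK_spec h0 hj
      obtain ⟨g0, hg0, hg0v⟩ := ih _ hp (lt_trans hp hj)
      refine ⟨gen (CLAB j) * g0, Subgroup.mul_mem _ (gen_mem _) hg0, ?_⟩
      have e1 : gen (CLAB j) * g0 * tA * (gen (CLAB j) * g0)⁻¹ =
          gen (CLAB j) * (g0 * tA * g0⁻¹) * (gen (CLAB j))⁻¹ := by group
      rw [e1, Units.val_mul, Units.val_mul, hg0v, gen_val, heq, ← gen_val, mul_assoc,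
        ← Units.val_mul, mul_inv_cancel, Units.val_one, mul_one]

/-- The key vector for the conjugates. -/
def cv : V7 := decV cvP

theorem CT_key (j : ℕ) (hj : j < nC) : keyV (decM (CT j) *ᵥ cv) = CKEY j := by
  rw [cv, keyV_mulVec]
  have h := allB_true ckey_all j hj
  unfold ckeyOK at h
  rw [Bool.and_eq_true, Bool.and_eq_true] at h
  exact Nat.eq_of_beq_eq_true h.1.1

theorem CPI_spec (i : ℕ) (hi : i < nC) : CPI i < nC ∧ CPINV (CPI i) = i := by
  have h := allB_true ckey_all i hi
  unfold ckeyOK at h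
  rw [Bool.and_eq_true, Bool.and_eq_true] at h
  refine ⟨?_, Nat.eq_of_beq_eq_true h.2⟩
  have := h.1.2
  unfold Nat.blt at this
  have h3 := Nat.le_of_ble_eq_true this
  omega

theorem csorted_step (m : ℕ) (hm : m + 1 < nC) : CKEY (CPINV m) < CKEY (CPINV (m + 1)) := by
  have h := allB_true csort_all m (by have : m + 1 < 1463 := hm; omega)
  unfold csortOK Nat.blt at h
  have h3 := Nat.le_of_ble_eq_true h
  omega

theorem CKEY_inj : ∀ i < nC, ∀ j < nC, CKEY i = CKEY j → i = j :=
  CentProd.key_inj_of_sorted nC CKEY CPI CPINV CPI_spec csorted_step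

/-! ### The subgroup of order 60 -/

/-- The two generators of the subgroup of order 60. -/
def lgen (s : ℕ) : A := cond (Nat.beq s 0) xA yA

theorem lgen_val (s : ℕ) : (lgen s : M7) = decM (lP s) := by
  unfold lgen lP
  cases h : Nat.beq s 0
  · exact yA_val
  · exact xA_val

/-- The generating set of the subgroup of order 60. -/
def S0 : Set A := {xA, yA}

theorem lgen_mem (s : ℕ) : lgen s ∈ Subgroup.closure S0 := by
  unfold lgen S0
  cases h : Nat.beq s 0
  · exact Subgroup.subset_closure (by simp)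
  · exact Subgroup.subset_closure (by simp)

/-- The elements of the subgroup of order 60. -/
def LA : ℕ → A
  | k => if _h : 0 < k ∧ LPAR k < k then lgen (LLAB k) * LA (LPAR k) else 1
termination_by k => k
decreasing_by exact _h.2

theorem LA_zero : LA 0 = 1 := by
  rw [LA]; simp

theorem LA_step (k : ℕ) (h1 : 0 < k) (h2 : LPAR k < k) :
    LA k = lgen (LLAB k) * LA (LPAR k) := by
  rw [LA]; simp [h1, h2]

theorem LA_mem (k : ℕ) : LA k ∈ Subgroup.closure S0 := by
  induction k using Nat.strong_induction_on with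
  | _ k ih =>
    by_cases h : 0 < k ∧ LPAR k < k
    · rw [LA_step k h.1 h.2]
      exact Subgroup.mul_mem _ (lgen_mem _) (ih _ h.2)
    · rw [LA]; simp only [h, dite_false]; exact Subgroup.one_mem _

theorem ltreeOK_spec {k : ℕ} (h1 : 1 ≤ k) (h2 : k < 60) :
    LPAR k < k ∧ decM (lP (LLAB k)) * decM (LL (LPAR k)) = decM (LL k) := by
  have h := allR_true ltree_all k h1 (by omega)
  unfold ltreeOK at h
  rw [Bool.and_eq_true] at h
  refine ⟨?_, eqProd1F_sound h.2⟩
  have := h.1
  unfold Nat.blt at this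
  have h3 := Nat.le_of_ble_eq_true this
  omega

theorem LA_val (k : ℕ) (hk : k < 60) : (LA k : M7) = decM (LL k) := by
  induction k using Nat.strong_induction_on with
  | _ k ih =>
    rcases Nat.eq_zero_or_pos k with h0 | h0
    · rw [h0, LA_zero, LL_zero, decM_idP]; rfl
    · obtain ⟨hp, heq⟩ := ltreeOK_spec h0 hk
      rw [LA_step k h0 hp, Units.val_mul, lgen_val, ih _ hp (lt_trans hp hk), heq]

/-- The base point for the subgroup of order 60. -/
def b3 : V7 := decV b3P

theorem LA_key (k : ℕ) (hk : k < 60) : keyV (LA k • b3) = LKEY k := by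
  rw [smul_eq, LA_val k hk, b3, keyV_mulVec]
  have h := allB_true lkey_all k hk
  exact Nat.eq_of_beq_eq_true h

theorem LKEY_ne {j k : ℕ} (hjk : j < k) (hk : k < 60) : LKEY j ≠ LKEY k := by
  have h := allB_true (allB_true ldist_all k hk) j hjk
  intro heq
  rw [heq] at h
  simp at h

theorem LA_inj : ∀ i < 60, ∀ j < 60, LA i • b3 = LA j • b3 → i = j := by
  intro i hi j hj h
  have hk : LKEY i = LKEY j := by rw [← LA_key i hi, ← LA_key j hj, h]
  rcases Nat.lt_trichotomy i j with h1 | h1 | h1
  · exact absurd hk (LKEY_ne h1 hj)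
  · exact h1
  · exact absurd hk.symm (LKEY_ne h1 hi)

theorem lschOK_spec (s : ℕ) (hs : s < 2) {k : ℕ} (hk : k < 60) :
    ltau s k < 60 ∧ lgen s * LA k = LA (ltau s k) := by
  have h : lschOK s k = true := by
    interval_cases s
    · exact allB_true lsch0_all k hk
    · exact allB_true lsch1_all k hk
  unfold lschOK at h
  rw [Bool.and_eq_true] at h
  have h1 : ltau s k < 60 := by
    have := h.1
    unfold Nat.blt at this
    have h3 := Nat.le_of_ble_eq_true this
    omega
  refine ⟨h1, ?_⟩
  apply Units.ext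
  rw [Units.val_mul, lgen_val, LA_val k hk, LA_val _ h1]
  exact eqProd1F_sound h.2

theorem mem_S0 {g : A} (hg : g ∈ S0) : ∃ s < 2, g = lgen s := by
  rcases hg with rfl | rfl
  · exact ⟨0, by norm_num, rfl⟩
  · exact ⟨1, by norm_num, rfl⟩

/-- The subgroup `⟨x, y⟩` has order 60 and consists of the `LA k`. -/
theorem level0 : (∀ k ∈ Subgroup.closure S0, ∃ i < 60, k = LA i) ∧
    Nat.card (Subgroup.closure S0) = 60 := by
  apply schreier_flat S0 b3 60 LA (by decide) LA_zero (fun i _ => LA_mem i) LA_inj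
  intro g hg i hi
  obtain ⟨s, hs, rfl⟩ := mem_S0 hg
  exact ⟨ltau s i, (lschOK_spec s hs hi).1, (lschOK_spec s hs hi).2⟩

theorem S0_le_centralizer : Subgroup.closure S0 ≤ Subgroup.centralizer ({tA} : Set A) := by
  rw [Subgroup.closure_le]
  intro g hg
  rw [SetLike.mem_coe, Subgroup.mem_centralizer_iff]
  intro h hh
  rw [Set.mem_singleton_iff] at hh
  rw [hh]
  rcases hg with rfl | rfl
  · exact comm_xt.symm
  · exact comm_yt.symm

theorem S0_le : Subgroup.closure S0 ≤ Subgroup.closure SG := by
  rw [Subgroup.closure_le]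
  intro g hg
  rcases hg with rfl | rfl
  · exact xA_mem
  · exact yA_mem

/-- An element of `⟨x, y⟩` commuting with `x` and `y` is trivial. -/
theorem central0_eq_one (z : A) (hz : z ∈ Subgroup.closure S0)
    (hcx : z * xA = xA * z) (hcy : z * yA = yA * z) : z = 1 := by
  obtain ⟨i, hi, rfl⟩ := level0.1 z hz
  rcases Nat.eq_zero_or_pos i with h0 | h0
  · rw [h0, LA_zero]
  · exfalso
    have h := allR_true lcent_all i h0 (by omega)
    unfold lcentOK at h
    have h1 : eqProd2F (LL i) xP xP (LL i) = true := by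
      apply eqProd2F_complete
      rw [← LA_val i hi, ← xA_val, ← Units.val_mul, ← Units.val_mul, hcx]
    have h2 : eqProd2F (LL i) yP yP (LL i) = true := by
      apply eqProd2F_complete
      rw [← LA_val i hi, ← yA_val, ← Units.val_mul, ← Units.val_mul, hcy]
    rw [h1, h2] at h
    simp at h

theorem tA_not_mem : tA ∉ Subgroup.closure S0 := by
  intro h
  exact tA_ne (central0_eq_one tA h comm_xt.symm comm_yt.symm)

/-! ### Simplicity of `⟨x, y⟩` -/

theorem hmod_60 : ∀ p : ℕ, p.Prime → p ≠ 5 → ∀ j, 0 < j → p ^ j ∣ 60 →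
    ¬ (p ^ j ≡ 1 [MOD 5]) := by
  intro p hp hp5 j hj hdvd
  have hle : p ^ j ≤ 60 := Nat.le_of_dvd (by norm_num) hdvd
  have hp2 : 2 ≤ p := hp.two_le
  have hj6 : j < 6 := by
    by_contra hcon
    have : 2 ^ 6 ≤ p ^ j :=
      le_trans (Nat.pow_le_pow_left hp2 6) (Nat.pow_le_pow_right (by omega) (by omega))
    omega
  have hp60 : p ≤ 60 := le_trans (Nat.le_self_pow hj.ne' p) hle
  interval_cases j <;> interval_cases p <;>
    first | omega | (exfalso; revert hp; decide) | (revert hdvd; decide)

theorem A0_simple : IsSimpleGroup (Subgroup.closure S0) := by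
  have hq : Fact (Nat.Prime 5) := ⟨by norm_num⟩
  let a : Subgroup.closure S0 := ⟨xA, Subgroup.subset_closure (by simp [S0])⟩
  let b : Subgroup.closure S0 := ⟨yA, Subgroup.subset_closure (by simp [S0])⟩
  have ha : a ^ 2 = 1 := Subtype.ext xA_sq
  have hb : b ^ 3 = 1 := Subtype.ext yA_cube
  have hgen : Subgroup.closure ({a, b} : Set (Subgroup.closure S0)) = ⊤ := by
    rw [eq_top_iff]
    intro g _
    let K : Subgroup A :=
      (Subgroup.closure ({a, b} : Set (Subgroup.closure S0))).map (Subgroup.closure S0).subtype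
    have haK : xA ∈ K := ⟨a, Subgroup.subset_closure (by simp), rfl⟩
    have hbK : yA ∈ K := ⟨b, Subgroup.subset_closure (by simp), rfl⟩
    have hle : Subgroup.closure S0 ≤ K := by
      rw [Subgroup.closure_le]
      intro y hy
      rcases hy with rfl | rfl
      · exact haK
      · exact hbK
    obtain ⟨k, hk, hkg⟩ := hle g.2
    have : k = g := Subtype.ext hkg
    rw [← this]; exact hk
  apply SimpleQ.isSimpleGroup_of_prime_elt 5 (a * b)
  · apply orderOf_eq_prime
    · exact Subtype.ext xyA_pow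
    · intro h
      exact xyA_ne (congrArg Subtype.val h)
  · rw [level0.2]; norm_num
  · exact SimpleQ.normalClosure_mul_eq_top a b 2 3 ha hb (by norm_num) hgen
  · rw [eq_bot_iff]
    intro z hz
    rw [Subgroup.mem_center_iff] at hz
    rw [Subgroup.mem_bot]
    apply Subtype.ext
    apply central0_eq_one z.1 z.2
    · exact (congrArg Subtype.val (hz a)).symm
    · exact (congrArg Subtype.val (hz b)).symm
  · rw [level0.2]; exact hmod_60

theorem A0_equiv : Nonempty (Subgroup.closure S0 ≃* alternatingGroup (Fin 5)) :=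
  have := A0_simple
  Cfsg.Agent.Helper2.simple_sixty_equiv_alternating level0.2

end Cfsg.Agent.Helper26.J1Z
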