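
/-! Additional packed constants for `J₁` (generated). -/

set_option autoImplicit false

namespace Cfsg.Agent.Helper26.J1D

def X2P : Nat := 0x10000000110000000100000001000000010000000100
def X4P : Nat := 0x1000000010000000100000001100000001000000010000
def X6P : Nat := 0x100000001000000010000000100000001000000011000000
def Y2P : Nat := 0x4838980843908888677873276a0a207a63a8830849037aa26
def Y4P : Nat := 0x13aa23831a283a11288181988a3a938a81a33a8a12318aa98
def LP : Nat := 0x53a72105100750753903002500a000058702079520000000
def phiP : Nat := 0x1
def BinvP : Nat := 0x3474916474916374916344916347916347416347496347491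
def ic0 : Nat := 0
def ic1 : Nat := 1
def ic2 : Nat := 3
def ic3 : Nat := 7
def ic4 : Nat := 2
def ic5 : Nat := 5
def ic6 : Nat := 11

end Cfsg.Agent.Helper26.J1D
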