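import Mathlib
import Cfsg.Agent.Lib.Helper26.J1Cent

/-!
# Data for a Frobenius subgroup of order 56 in the smallest Janko group
-/

set_option autoImplicit false

namespace Cfsg.Agent.Helper26.J1F

open Cfsg.Agent.Helper26 Cfsg.Agent.Helper26.J1A Cfsg.Agent.Helper26.J1D
  Cfsg.Agent.Helper26.J1C Cfsg.Agent.Helper26.J1K Cfsg.Agent.Helper26.J1G
  Cfsg.Agent.Helper26.J1CD Cfsg.Agent.Helper26.J1CC Cfsg.Agent.Helper26.J1CK

def e0P : ℕ := 0xa000000010000000a00000001000000010000000a0000000a
def e1P : ℕ := 0xa0000000a000000010000000a00000001000000010000000a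
def e2P : ℕ := 0xa0000000a0000000a000000010000000a0000000100000001
def e01P : ℕ := 0x10000000a0000000a0000000a000000010000000a00000001
def e02P : ℕ := 0x10000000a00000001000000010000000a0000000a0000000a
def e12P : ℕ := 0x1000000010000000a0000000a0000000a000000010000000a
def e012P : ℕ := 0xa00000001000000010000000a0000000a0000000a00000001

theorem hct : Nat.beq (CT 960) e0P = true := by decide +kernel
theorem h00 : eqProd1F e0P e0P idP = true := by decide +kernel
theorem h11 : eqProd1F e1P e1P idP = true := by decide +kernel
theorem h22 : eqProd1F e2P e2P idP = true := by decide +kernel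
theorem hc01 : eqProd2F e0P e1P e1P e0P = true := by decide +kernel
theorem hc02 : eqProd2F e0P e2P e2P e0P = true := by decide +kernel
theorem hc12 : eqProd2F e1P e2P e2P e1P = true := by decide +kernel
theorem hr0 : eqProd2F gP0 e0P e1P gP0 = true := by decide +kernel
theorem hr1 : eqProd2F gP0 e1P e2P gP0 = true := by decide +kernel
theorem hr2 : eqProd2F gP0 e2P e01P gP0 = true := by decide +kernel
theorem hp01 : eqProd1F e0P e1P e01P = true := by decide +kernel
theorem hp02 : eqProd1F e0P e2P e02P = true := by decide +kernel
theorem hp12 : eqProd1F e1P e2P e12P = true := by decide +kernel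
theorem hp012 : eqProd1F e01P e2P e012P = true := by decide +kernel

theorem ne_e0P : decM e0P ≠ 1 := by
  intro h
  have h2 := congrFun (congrFun h 0) 0
  revert h2
  decide

theorem ne_e1P : decM e1P ≠ 1 := by
  intro h
  have h2 := congrFun (congrFun h 0) 0
  revert h2
  decide

theorem ne_e2P : decM e2P ≠ 1 := by
  intro h
  have h2 := congrFun (congrFun h 2) 2
  revert h2
  decide

theorem ne_e01P : decM e01P ≠ 1 := by
  intro h
  have h2 := congrFun (congrFun h 1) 1
  revert h2
  decide

theorem ne_e02P : decM e02P ≠ 1 := by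
  intro h
  have h2 := congrFun (congrFun h 0) 0
  revert h2
  decide

theorem ne_e12P : decM e12P ≠ 1 := by
  intro h
  have h2 := congrFun (congrFun h 0) 0
  revert h2
  decide

theorem ne_e012P : decM e012P ≠ 1 := by
  intro h
  have h2 := congrFun (congrFun h 1) 1
  revert h2
  decide

end Cfsg.Agent.Helper26.J1F
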