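import Mathlib
import Cfsg.Agent.Lib.Helper26.J1Cent
import Cfsg.Agent.Lib.Helper26.J1FrobData
import Cfsg.Agent.Lib.Helper26.StemFrobC
import Cfsg.Agent.Lib.Helper20.Schur

/-!
# The Schur multiplier of the smallest Janko group is trivial
-/

set_option autoImplicit false

namespace Cfsg.Agent.Helper26.J1F

open Matrix
open Cfsg.Agent.Helper26 Cfsg.Agent.Helper26.J1A Cfsg.Agent.Helper26.J1D
  Cfsg.Agent.Helper26.J1C Cfsg.Agent.Helper26.J1K Cfsg.Agent.Helper26.J1G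
  Cfsg.Agent.Helper26.J1CD Cfsg.Agent.Helper26.J1CC Cfsg.Agent.Helper26.J1CK
  Cfsg.Agent.Helper26.J1Z
open Cfsg.Agent.Helper26.StemFrob
open Cfsg.Agent.Helper29.StemSylow

/-- the matrix of a conjugate -/
theorem conj_val (z e : A) (P Q R : ℕ) (hz : (z : M7) = decM P) (he : (e : M7) = decM Q)
    (h : decM P * decM Q = decM R * decM P) : ((z * e * z⁻¹ : A) : M7) = decM R := by
  have h1 : ((z * e * z⁻¹ : A) : M7) * (z : M7) = decM R * (z : M7) := by
    rw [hz, ← h, ← hz, ← he, ← Units.val_mul, ← Units.val_mul]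
    congr 1
    group
  exact (Units.mul_left_inj z).1 h1

theorem X_val : (Cfsg.Spor.jankoX : M7) = decM gP0 := gen_val 0

theorem X_memSG : Cfsg.Spor.jankoX ∈ Subgroup.closure SG :=
  Subgroup.subset_closure (by simp [SG])

/-- the Frobenius configuration inside the matrix group -/
theorem frobA : ∃ e0 e1 e2 : A, e0 ∈ Subgroup.closure SG ∧ e1 ∈ Subgroup.closure SG ∧
    e2 ∈ Subgroup.closure SG ∧ Frob56 e0 e1 e2 Cfsg.Spor.jankoX := by
  obtain ⟨g, hg, hgv⟩ := conj_exists 960 (by decide)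
  rw [Nat.eq_of_beq_eq_true hct] at hgv
  have m0' : g * tA * g⁻¹ ∈ Subgroup.closure SG :=
    Subgroup.mul_mem _ (Subgroup.mul_mem _ hg tA_mem) (Subgroup.inv_mem _ hg)
  obtain ⟨e0, m0, v0⟩ : ∃ e0 : A, e0 ∈ Subgroup.closure SG ∧ (e0 : M7) = decM e0P :=
    ⟨g * tA * g⁻¹, m0', hgv⟩
  obtain ⟨e1, he1⟩ : ∃ e1 : A, e1 = Cfsg.Spor.jankoX * e0 * Cfsg.Spor.jankoX⁻¹ := ⟨_, rfl⟩
  obtain ⟨e2, he2⟩ : ∃ e2 : A, e2 = Cfsg.Spor.jankoX * e1 * Cfsg.Spor.jankoX⁻¹ := ⟨_, rfl⟩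
  have m1 : e1 ∈ Subgroup.closure SG := by
    rw [he1]
    exact Subgroup.mul_mem _ (Subgroup.mul_mem _ X_memSG m0) (Subgroup.inv_mem _ X_memSG)
  have m2 : e2 ∈ Subgroup.closure SG := by
    rw [he2]
    exact Subgroup.mul_mem _ (Subgroup.mul_mem _ X_memSG m1) (Subgroup.inv_mem _ X_memSG)
  have v1 : (e1 : M7) = decM e1P := by
    rw [he1]; exact conj_val _ _ _ _ _ X_val v0 (eqProd2F_sound hr0)
  have v2 : (e2 : M7) = decM e2P := by
    rw [he2]; exact conj_val _ _ _ _ _ X_val v1 (eqProd2F_sound hr1)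
  have v01 : ((e0 * e1 : A) : M7) = decM e01P := by
    rw [Units.val_mul, v0, v1, eqProd1F_sound hp01]
  have v02 : ((e0 * e2 : A) : M7) = decM e02P := by
    rw [Units.val_mul, v0, v2, eqProd1F_sound hp02]
  have v12 : ((e1 * e2 : A) : M7) = decM e12P := by
    rw [Units.val_mul, v1, v2, eqProd1F_sound hp12]
  have v012 : ((e0 * e1 * e2 : A) : M7) = decM e012P := by
    rw [Units.val_mul, v01, v2, eqProd1F_sound hp012]
  have v3 : ((Cfsg.Spor.jankoX * e2 * Cfsg.Spor.jankoX⁻¹ : A) : M7) = decM e01P :=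
    conj_val _ _ _ _ _ X_val v2 (eqProd2F_sound hr2)
  have ne : ∀ (u : A) (P : ℕ), (u : M7) = decM P → decM P ≠ 1 → u ≠ 1 := by
    intro u P hu hP h
    apply hP
    rw [← hu, h]
    rfl
  refine ⟨e0, e1, e2, m0, m1, m2, ?_⟩
  refine ⟨?_, ?_, ?_, ?_, ?_, ?_, he1.symm, he2.symm, ?_, ne _ _ v0 ne_e0P, ne _ _ v1 ne_e1P,
    ne _ _ v2 ne_e2P, ne _ _ v01 ne_e01P, ne _ _ v02 ne_e02P, ne _ _ v12 ne_e12P,
    ne _ _ v012 ne_e012P⟩
  · apply Units.ext
    rw [Units.val_mul, v0, eqProd1F_sound h00, one_val]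
  · apply Units.ext
    rw [Units.val_mul, v1, eqProd1F_sound h11, one_val]
  · apply Units.ext
    rw [Units.val_mul, v2, eqProd1F_sound h22, one_val]
  · apply Units.ext
    rw [Units.val_mul, Units.val_mul, v0, v1]
    exact eqProd2F_sound hc01
  · apply Units.ext
    rw [Units.val_mul, Units.val_mul, v0, v2]
    exact eqProd2F_sound hc02
  · apply Units.ext
    rw [Units.val_mul, Units.val_mul, v1, v2]
    exact eqProd2F_sound hc12
  · apply Units.ext
    rw [v3, v01]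

/-- transport of the configuration to a subgroup -/
theorem frob_subtype {G : Type*} [Group G] (H : Subgroup G) {e0 e1 e2 z : G}
    (h : Frob56 e0 e1 e2 z) (m0 : e0 ∈ H) (m1 : e1 ∈ H) (m2 : e2 ∈ H) (mz : z ∈ H) :
    Frob56 (⟨e0, m0⟩ : H) ⟨e1, m1⟩ ⟨e2, m2⟩ ⟨z, mz⟩ := by
  refine ⟨Subtype.ext h.s0, Subtype.ext h.s1, Subtype.ext h.s2, Subtype.ext h.c01,
    Subtype.ext h.c02, Subtype.ext h.c12, Subtype.ext h.r0, Subtype.ext h.r1, Subtype.ext h.r2,
    fun e => h.n0 (congrArg Subtype.val e), fun e => h.n1 (congrArg Subtype.val e),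
    fun e => h.n2 (congrArg Subtype.val e), fun e => h.n01 (congrArg Subtype.val e),
    fun e => h.n02 (congrArg Subtype.val e), fun e => h.n12 (congrArg Subtype.val e),
    fun e => h.n012 (congrArg Subtype.val e)⟩

theorem hJ : Cfsg.Spor.J1 = Subgroup.closure SG := rfl

theorem card_J : Nat.card ↥Cfsg.Spor.J1 = 175560 := by rw [hJ]; exact card_J1

theorem not_sq_dvd (p : ℕ) (hp : p.Prime) (h2 : p ≠ 2) : ¬ p ^ 2 ∣ 175560 := by
  intro h
  have h1 : p ∣ 175560 := (dvd_pow_self p (by norm_num)).trans h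
  have hle : p ≤ 175560 := Nat.le_of_dvd (by norm_num) h1
  have hmem : p ∈ Nat.primeFactors 175560 := Nat.mem_primeFactors.2 ⟨hp, h1, by norm_num⟩
  have hpf : Nat.primeFactors 175560 = {2, 3, 5, 7, 11, 19} := by
    decide +kernel
  rw [hpf] at hmem
  simp only [Finset.mem_insert, Finset.mem_singleton] at hmem
  rcases hmem with rfl | rfl | rfl | rfl | rfl | rfl
  · exact h2 rfl
  all_goals revert h; decide

/-- every finite stem extension of the smallest Janko group is an isomorphism -/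
theorem ker_eq_bot (Γ : Type) [Group Γ] [Finite Γ] (σ : Γ →* ↥Cfsg.Spor.J1)
    (hσ : Cfsg.IsStemExtension σ) : σ.ker = ⊥ := by
  have hfin : Finite ↥Cfsg.Spor.J1 :=
    Nat.finite_of_card_ne_zero (by rw [card_J]; norm_num)
  obtain ⟨hs, hK, hK'⟩ := hσ
  apply ker_eq_bot_of_local σ hs hK hK'
  intro p hp
  by_cases h2 : p = 2
  · subst h2
    obtain ⟨e0, e1, e2, m0, m1, m2, hF⟩ := frobA
    have hF' := frob_subtype Cfsg.Spor.J1 hF (hJ ▸ m0) (hJ ▸ m1) (hJ ▸ m2) (hJ ▸ X_memSG)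
    exact hF'.local_two σ hs hK (by rw [card_J]; decide)
  · apply local_of_not_sq_dvd σ hs hK p hp
    rw [card_J]
    exact not_sq_dvd p hp h2

end Cfsg.Agent.Helper26.J1F
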