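import Cfsg.Agent.Lib.Helper26.J1ODefs

/-! Kernel-evaluated checks for the data on the automorphisms of `J₁` (generated). -/

set_option autoImplicit false

namespace Cfsg.Agent.Helper26.J1OK

open Cfsg.Agent.Helper26 Cfsg.Agent.Helper26.J1A Cfsg.Agent.Helper26.J1D Cfsg.Agent.Helper26.J1C
  Cfsg.Agent.Helper26.J1OD Cfsg.Agent.Helper26.J1OC

theorem chkC4 : allR 9364 2340 kcertOK = true := by decide +kernel

end Cfsg.Agent.Helper26.J1OK
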