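import Cfsg.Agent.Lib.Helper26.J1OChkC0
import Cfsg.Agent.Lib.Helper26.J1OChkC1
import Cfsg.Agent.Lib.Helper26.J1OChkC2
import Cfsg.Agent.Lib.Helper26.J1OChkC3
import Cfsg.Agent.Lib.Helper26.J1OChkC4
import Cfsg.Agent.Lib.Helper26.J1OChkY0
import Cfsg.Agent.Lib.Helper26.J1OChkY1
import Cfsg.Agent.Lib.Helper26.J1OChkY2
import Cfsg.Agent.Lib.Helper26.J1OChkY3
import Cfsg.Agent.Lib.Helper26.J1OChkY4
import Cfsg.Agent.Lib.Helper26.J1OChkX0
import Cfsg.Agent.Lib.Helper26.J1OChkX1

/-! Aggregated kernel-evaluated checks for the data on the automorphisms of `J₁` (generated). -/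

set_option autoImplicit false

namespace Cfsg.Agent.Helper26.J1OK

open Cfsg.Agent.Helper26 Cfsg.Agent.Helper26.J1A Cfsg.Agent.Helper26.J1D Cfsg.Agent.Helper26.J1C
  Cfsg.Agent.Helper26.J1OD Cfsg.Agent.Helper26.J1OC

theorem allC (j : ℕ) (hj : j < nK) : kcertOK j = true := by
  have hj' : j < 11704 := hj
  by_cases h0 : j < 2341
  · exact allR_true chkC0 j (by omega) (by omega)
  by_cases h1 : j < 4682
  · exact allR_true chkC1 j (by omega) (by omega)
  by_cases h2 : j < 7023
  · exact allR_true chkC2 j (by omega) (by omega)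
  by_cases h3 : j < 9364
  · exact allR_true chkC3 j (by omega) (by omega)
  exact allR_true chkC4 j (by omega) (by omega)

theorem allY (j : ℕ) (hj : j < nK) : yconjOK j = true := by
  have hj' : j < 11704 := hj
  by_cases h0 : j < 2341
  · exact allR_true chkY0 j (by omega) (by omega)
  by_cases h1 : j < 4682
  · exact allR_true chkY1 j (by omega) (by omega)
  by_cases h2 : j < 7023
  · exact allR_true chkY2 j (by omega) (by omega)
  by_cases h3 : j < 9364
  · exact allR_true chkY3 j (by omega) (by omega)
  exact allR_true chkY4 j (by omega) (by omega)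

theorem allX (j : ℕ) (hj : j < nK) : xconjOK j = true := by
  have hj' : j < 11704 := hj
  by_cases h0 : j < 5852
  · exact allR_true chkX0 j (by omega) (by omega)
  exact allR_true chkX1 j (by omega) (by omega)

theorem gd_all : allB 6 gdOK = true := by decide +kernel
theorem gd0 : Nat.beq (GD 0) gP1 = true := by decide +kernel
theorem kc01 : Nat.beq (KC 0) gP1 && Nat.beq (KC 1) y2P = true := by decide +kernel
theorem hn : eqProd1F (TT iN) (UU kN) nP = true := by decide +kernel
theorem hm : eqProd1F (TT iM) (UU kM) mP = true := by decide +kernel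
theorem hx2 : eqProd1F gP0 gP0 x2P = true := by decide +kernel
theorem hx3 : eqProd1F x2P gP0 x3P = true := by decide +kernel
theorem hy2 : eqProd1F gP1 gP1 y2P = true := by decide +kernel
theorem hy4 : eqProd1F y2P y2P y4P = true := by decide +kernel
theorem hnx : eqProd2F nP gP0 x3P nP = true := by decide +kernel
theorem hmy : eqProd2F mP gP1 y4P mP = true := by decide +kernel
theorem hw1 : eqProd1F gP0 gP1 w1P = true := by decide +kernel
theorem hw2 : eqProd1F w1P gP0 w2P = true := by decide +kernel
theorem hw3 : eqProd1F w2P gP1 w3P = true := by decide +kernel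
theorem hw4 : eqProd1F w3P gP1 w4P = true := by decide +kernel
theorem hw5 : eqProd1F w4P gP1 w5P = true := by decide +kernel
theorem hw6 : eqProd1F w5P gP1 w6P = true := by decide +kernel
theorem hw66 : eqProd1F w6P w6P idP = true := by decide +kernel
theorem hv2 : eqProd1F x2P gP1 v2P = true := by decide +kernel
theorem hv3 : eqProd1F v2P gP0 v3P = true := by decide +kernel
theorem hv4 : eqProd1F v3P gP1 v4P = true := by decide +kernel
theorem hv8 : eqProd1F v4P v4P v8P = true := by decide +kernel
theorem hv16 : eqProd1F v8P v8P v16P = true := by decide +kernel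
theorem hv20 : eqProd1F v16P v4P idP = true := by decide +kernel

end Cfsg.Agent.Helper26.J1OK
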