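import Mathlib
import Cfsg.Prelude.Def_SporadicB
import Cfsg.Agent.Lib.Helper26.Schreier
import Cfsg.Agent.Lib.Helper26.J1Arith
import Cfsg.Agent.Lib.Helper26.J1Data
import Cfsg.Agent.Lib.Helper26.J1Defs
import Cfsg.Agent.Lib.Helper26.J1OData

/-!
# Boolean checks on the data for the automorphisms of `J₁`

The functions evaluated by the kernel are written with the raw operations on `ℕ`; each is equal
(by unfolding) to a version written with the usual notation, which is used in the proofs.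
-/

set_option autoImplicit false

namespace Cfsg.Agent.Helper26.J1OC

open Matrix
open Cfsg.Agent.Helper26 Cfsg.Agent.Helper26.J1A Cfsg.Agent.Helper26.J1D
  Cfsg.Agent.Helper26.J1C Cfsg.Agent.Helper26.J1OD

/-! ### Raw versions of the arithmetic of `J1Arith` -/

/-- Raw version of `dg`. -/
def dgR (P k : ℕ) : ℕ := Nat.land (Nat.shiftRight P (Nat.mul 4 k)) 15

theorem dgR_eq (P k : ℕ) : dgR P k = dg P k := rfl

/-- Raw version of `ent`. -/
def entR (P Q r c : ℕ) : ℕ :=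
  Nat.add (Nat.add (Nat.add (Nat.add (Nat.add (Nat.add
  (Nat.mul (dgR P (Nat.add (Nat.mul 7 r) 0)) (dgR Q (Nat.add (Nat.mul 7 0) c)))
  (Nat.mul (dgR P (Nat.add (Nat.mul 7 r) 1)) (dgR Q (Nat.add (Nat.mul 7 1) c))))
  (Nat.mul (dgR P (Nat.add (Nat.mul 7 r) 2)) (dgR Q (Nat.add (Nat.mul 7 2) c))))
  (Nat.mul (dgR P (Nat.add (Nat.mul 7 r) 3)) (dgR Q (Nat.add (Nat.mul 7 3) c))))
  (Nat.mul (dgR P (Nat.add (Nat.mul 7 r) 4)) (dgR Q (Nat.add (Nat.mul 7 4) c))))
  (Nat.mul (dgR P (Nat.add (Nat.mul 7 r) 5)) (dgR Q (Nat.add (Nat.mul 7 5) c))))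
  (Nat.mul (dgR P (Nat.add (Nat.mul 7 r) 6)) (dgR Q (Nat.add (Nat.mul 7 6) c)))

theorem entR_eq (P Q r c : ℕ) : entR P Q r c = ent P Q r c := rfl

/-- Raw version of `eqProd2`. -/
def eqProd2R (P Q P' Q' : ℕ) : Bool :=
  allB 7 fun r => allB 7 fun c =>
    Nat.beq (Nat.mod (entR P Q r c) 11) (Nat.mod (entR P' Q' r c) 11)

theorem eqProd2R_eq (P Q P' Q' : ℕ) : eqProd2R P Q P' Q' = eqProd2 P Q P' Q' := rfl

/-- Forced raw version of `eqProd2`. -/
def eqProd2RF (P Q P' Q' : ℕ) : Bool :=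
  seqN P fun P => seqN Q fun Q => seqN P' fun P' => seqN Q' fun Q' => eqProd2R P Q P' Q'

theorem eqProd2RF_sound {P Q P' Q' : ℕ} (h : eqProd2RF P Q P' Q' = true) :
    decM P * decM Q = decM P' * decM Q' := by
  simp only [eqProd2RF, seqN_eq, eqProd2R_eq] at h
  exact eqProd2_sound h

/-- Raw version of `rowdot`. -/
def rowdotR (P w r : ℕ) : ℕ :=
  Nat.add (Nat.add (Nat.add (Nat.add (Nat.add (Nat.add
  (Nat.mul (dgR P (Nat.add (Nat.mul 7 r) 0)) (dgR w 0))
  (Nat.mul (dgR P (Nat.add (Nat.mul 7 r) 1)) (dgR w 1)))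
  (Nat.mul (dgR P (Nat.add (Nat.mul 7 r) 2)) (dgR w 2)))
  (Nat.mul (dgR P (Nat.add (Nat.mul 7 r) 3)) (dgR w 3)))
  (Nat.mul (dgR P (Nat.add (Nat.mul 7 r) 4)) (dgR w 4)))
  (Nat.mul (dgR P (Nat.add (Nat.mul 7 r) 5)) (dgR w 5)))
  (Nat.mul (dgR P (Nat.add (Nat.mul 7 r) 6)) (dgR w 6))

theorem rowdotR_eq (P w r : ℕ) : rowdotR P w r = rowdot P w r := rfl

/-! ### Packed products of a matrix and a vector -/

/-- Pack seven digits. -/
def packV (a0 a1 a2 a3 a4 a5 a6 : ℕ) : ℕ :=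
  a0 + a1 * 16 + a2 * 16 ^ 2 + a3 * 16 ^ 3 + a4 * 16 ^ 4 + a5 * 16 ^ 5 + a6 * 16 ^ 6

/-- Raw version of `packV`. -/
def packVR (a0 a1 a2 a3 a4 a5 a6 : ℕ) : ℕ :=
  Nat.add a0 (Nat.mul 16 (Nat.add a1 (Nat.mul 16 (Nat.add a2 (Nat.mul 16 (Nat.add a3
    (Nat.mul 16 (Nat.add a4 (Nat.mul 16 (Nat.add a5 (Nat.mul 16 a6)))))))))))

theorem packVR_eq (a0 a1 a2 a3 a4 a5 a6 : ℕ) :
    packVR a0 a1 a2 a3 a4 a5 a6 = packV a0 a1 a2 a3 a4 a5 a6 := by
  unfold packVR packV
  simp only [Nat.add_eq, Nat.mul_eq]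
  ring

theorem dg_eq (P k : ℕ) : dg P k = P / 16 ^ k % 16 := by
  unfold dg
  rw [Nat.shiftRight_eq_div_pow, show (15 : ℕ) = 2 ^ 4 - 1 from rfl,
    Nat.and_two_pow_sub_one_eq_mod, pow_mul]
  rfl

theorem dg_packV (a0 a1 a2 a3 a4 a5 a6 : ℕ) (h0 : a0 < 16) (h1 : a1 < 16) (h2 : a2 < 16)
    (h3 : a3 < 16) (h4 : a4 < 16) (h5 : a5 < 16) (h6 : a6 < 16) (r : Fin 7) :
    dg (packV a0 a1 a2 a3 a4 a5 a6) r.val = ![a0, a1, a2, a3, a4, a5, a6] r := by
  rw [dg_eq]
  unfold packV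
  fin_cases r <;> simp <;> omega

/-- The packed product of a packed matrix and a packed vector. -/
def mulVecP (P w : ℕ) : ℕ :=
  packV (rowdot P w 0 % 11) (rowdot P w 1 % 11) (rowdot P w 2 % 11) (rowdot P w 3 % 11)
    (rowdot P w 4 % 11) (rowdot P w 5 % 11) (rowdot P w 6 % 11)

/-- Raw version of `mulVecP`. -/
def mulVecPR (P w : ℕ) : ℕ :=
  packVR (Nat.mod (rowdotR P w 0) 11) (Nat.mod (rowdotR P w 1) 11) (Nat.mod (rowdotR P w 2) 11)
    (Nat.mod (rowdotR P w 3) 11) (Nat.mod (rowdotR P w 4) 11) (Nat.mod (rowdotR P w 5) 11)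
    (Nat.mod (rowdotR P w 6) 11)

theorem mulVecPR_eq (P w : ℕ) : mulVecPR P w = mulVecP P w := by
  unfold mulVecPR mulVecP
  rw [packVR_eq]
  rfl

theorem mulVecP_sound (P w : ℕ) : decV (mulVecP P w) = decM P *ᵥ decV w := by
  ext r
  rw [decM_mulVec_apply]
  unfold decV mulVecP
  have hlt : ∀ n : ℕ, n % 11 < 16 := fun n => lt_trans (Nat.mod_lt _ (by norm_num)) (by norm_num)
  rw [dg_packV _ _ _ _ _ _ _ (hlt _) (hlt _) (hlt _) (hlt _) (hlt _) (hlt _) (hlt _)]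
  fin_cases r <;> simp [ZMod.natCast_mod]

/-- Forced `mulVecP`. -/
def mvF (P w : ℕ) : ℕ := seqN P fun P => seqN w fun w => mulVecPR P w

theorem mvF_sound (P w : ℕ) : decV (mvF P w) = decM P *ᵥ decV w := by
  simp only [mvF, seqN_eq, mulVecPR_eq]
  exact mulVecP_sound P w

/-- One factor `X c X c⁴` of the first relation applied to a packed vector. -/
def r1step (c v : ℕ) : ℕ := mvF gP0 (mvF c (mvF gP0 (mvF c (mvF c (mvF c (mvF c v))))))

/-- The first relation `(X c X c⁴)²` applied to a packed vector. -/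
def r1chain (c v : ℕ) : ℕ := seqN c fun c => r1step c (r1step c v)

/-- One factor `X X c X c` of the second relation applied to a packed vector. -/
def r2step (c v : ℕ) : ℕ := mvF gP0 (mvF gP0 (mvF c (mvF gP0 (mvF c v))))

/-- The second relation `(X X c X c)⁵` applied to a packed vector. -/
def r2chain (c v : ℕ) : ℕ :=
  seqN c fun c => r2step c (r2step c (r2step c (r2step c (r2step c v))))

theorem allB_intro' : ∀ (n : ℕ) (f : ℕ → Bool), (∀ i < n, f i = true) → allB n f = true := by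
  intro n f
  induction n with
  | zero => intro _; rfl
  | succ k ih =>
    intro hf
    rw [allB_succ, hf k (Nat.lt_succ_self k), ih (fun i hi => hf i (Nat.lt_succ_of_lt hi))]
    rfl

/-- The two packed vectors differ modulo 11 somewhere. -/
def vecNe (w v : ℕ) : Bool :=
  seqN w fun w => !(allB 7 fun r => Nat.beq (Nat.mod (dgR w r) 11) (Nat.mod (dgR v r) 11))

theorem vecNe_sound {w v : ℕ} (h : vecNe w v = true) : decV w ≠ decV v := by
  intro heq
  simp only [vecNe, seqN_eq] at h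
  have h1 : (allB 7 fun r => Nat.beq (Nat.mod (dgR w r) 11) (Nat.mod (dgR v r) 11)) = true := by
    apply allB_intro'
    intro r hr
    have h2 := congrFun heq ⟨r, hr⟩
    unfold decV at h2
    rw [ZMod.natCast_eq_natCast_iff'] at h2
    have h3 : Nat.mod (dgR w r) 11 = Nat.mod (dgR v r) 11 := h2
    rw [h3]
    exact Nat.beq_refl _
  rw [h1] at h
  simp at h

/-- The basis vector `e_i`, packed. -/
def eV (i : ℕ) : ℕ := Nat.shiftLeft 1 (Nat.mul 4 i)

/-! ### The checks -/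

/-- Closure of the list of elements of order 5 under conjugation by `X`, which only permutes
the entries: `X * C = C' * X` says `C (r + 1) c = C' r (c - 1)`. -/
def xconjOK (j : ℕ) : Bool :=
  Nat.blt (KTAU0 j) nK &&
    seqN (KC j) fun C => seqN (KC (KTAU0 j)) fun C' =>
      allB 7 fun r => allB 7 fun c =>
        Nat.beq (dgR C (Nat.add (Nat.mul 7 (Nat.mod (Nat.add r 1) 7)) c))
          (dgR C' (Nat.add (Nat.mul 7 r) (Nat.mod (Nat.add c 6) 7)))

/-- Closure of the list of elements of order 5 under conjugation by `Y`. -/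
def yconjOK (j : ℕ) : Bool :=
  Nat.blt (KTAU1 j) nK && eqProd2RF gP1 (KC j) (KC (KTAU1 j)) gP1

/-- The certificate for the `j`-th element of order 5. -/
def kcertOK (j : ℕ) : Bool :=
  cond (Nat.beq (KCERT j) 0)
    (Nat.blt (KCV j) 7 && Nat.beq (KC j) (GD (KCV j)))
    (cond (Nat.beq (KCERT j) 1)
      (vecNe (r1chain (KC j) (eV (KCV j))) (eV (KCV j)))
      (vecNe (r2chain (KC j) (eV (KCV j))) (eV (KCV j))))

/-- The chain `GD (i + 1) = X * GD i * X⁻¹`. -/
def gdOK (i : ℕ) : Bool := eqProd2F gP0 (GD i) (GD (i + 1)) gP0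

theorem X_mul_apply (M : M7) (r c : Fin 7) : (Cfsg.jankoMatrixX * M) r c = M (r + 1) c := by
  rw [Matrix.mul_apply, Fin.sum_univ_seven]
  fin_cases r <;> simp [Cfsg.jankoMatrixX]

theorem mul_X_apply (M : M7) (r c : Fin 7) : (M * Cfsg.jankoMatrixX) r c = M r (c - 1) := by
  rw [Matrix.mul_apply, Fin.sum_univ_seven]
  fin_cases c <;> simp [Cfsg.jankoMatrixX]
  rfl

theorem xconjOK_sound {j : ℕ} (h : xconjOK j = true) :
    KTAU0 j < nK ∧
      Cfsg.jankoMatrixX * decM (KC j) = decM (KC (KTAU0 j)) * Cfsg.jankoMatrixX := by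
  unfold xconjOK at h
  rw [Bool.and_eq_true] at h
  simp only [seqN_eq] at h
  refine ⟨?_, ?_⟩
  · have := h.1
    unfold Nat.blt at this
    have h3 := Nat.le_of_ble_eq_true this
    omega
  · ext r c
    rw [X_mul_apply, mul_X_apply]
    have h1 := allB_true (allB_true h.2 r.val r.isLt) c.val c.isLt
    have h2 := Nat.eq_of_beq_eq_true h1
    unfold decM
    have e1 : ((r + 1 : Fin 7)).val = Nat.mod (Nat.add r.val 1) 7 := by
      rw [Fin.val_add]; rfl
    have e2 : ((c - 1 : Fin 7)).val = Nat.mod (Nat.add c.val 6) 7 := by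
      rw [Fin.val_sub]
      show (7 - 1 + c.val) % 7 = (c.val + 6) % 7
      congr 1
      omega
    rw [e1, e2]
    rw [dgR_eq, dgR_eq] at h2
    exact congrArg (Nat.cast (R := ZMod 11)) h2

end Cfsg.Agent.Helper26.J1OC
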