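import Mathlib
import Cfsg.Prelude.Def_Spor_J1
import Cfsg.Prelude.Def_Sporadic
import Cfsg.Agent.Lib.Helper26.SimpleQ
import Cfsg.Agent.Lib.Helper26.J1Group
import Cfsg.Agent.Lib.Helper26.J1Data2

/-!
# `J₁ = ⟨X, Y⟩ ≤ GL₇(11)` is simple of order 175560
-/

set_option autoImplicit false

namespace Cfsg.Agent.Helper26.J1S

open Matrix
open Cfsg.Agent.Helper26 Cfsg.Agent.Helper26.J1A Cfsg.Agent.Helper26.J1D
  Cfsg.Agent.Helper26.J1C Cfsg.Agent.Helper26.J1K Cfsg.Agent.Helper26.J1G

/-! ### Orders of the generators -/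

theorem hX2 : eqProd1 gP0 gP0 X2P = true := by decide +kernel
theorem hX4 : eqProd1 X2P X2P X4P = true := by decide +kernel
theorem hX6 : eqProd1 X4P X2P X6P = true := by decide +kernel
theorem hX7 : eqProd1 X6P gP0 idP = true := by decide +kernel
theorem hY2 : eqProd1 gP1 gP1 Y2P = true := by decide +kernel
theorem hY4 : eqProd1 Y2P Y2P Y4P = true := by decide +kernel
theorem hY5 : eqProd1 Y4P gP1 idP = true := by decide +kernel

theorem matX_pow : Cfsg.jankoMatrixX ^ 7 = 1 := by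
  have h : ∀ M : M7, M ^ 7 = M * M * (M * M) * (M * M) * M := fun M => by
    simp only [pow_succ, pow_zero, one_mul, mul_assoc]
  rw [← decM_gP0, h, eqProd1_sound hX2, eqProd1_sound hX4, eqProd1_sound hX6,
    eqProd1_sound hX7, decM_idP]

theorem matY_pow : Cfsg.jankoMatrixY ^ 5 = 1 := by
  have h : ∀ M : M7, M ^ 5 = M * M * (M * M) * M := fun M => by
    simp only [pow_succ, pow_zero, one_mul, mul_assoc]
  rw [← decM_gP1, h, eqProd1_sound hY2, eqProd1_sound hY4, eqProd1_sound hY5, decM_idP]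

theorem X_pow : Cfsg.Spor.jankoX ^ 7 = 1 := by
  apply Units.ext
  rw [Units.val_pow_eq_pow_val]
  exact matX_pow

theorem Y_pow : Cfsg.Spor.jankoY ^ 5 = 1 := by
  apply Units.ext
  rw [Units.val_pow_eq_pow_val]
  exact matY_pow

theorem detX : Cfsg.jankoMatrixX.det = 1 := by
  have h1 : Cfsg.jankoMatrixX * Cfsg.jankoMatrixX.transpose = 1 := Cfsg.Spor.jankoX.val_inv
  have h2 : Cfsg.jankoMatrixX.det * Cfsg.jankoMatrixX.det = 1 := by
    have := congrArg Matrix.det h1
    rwa [Matrix.det_mul, Matrix.det_transpose, Matrix.det_one] at this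
  have h7 : Cfsg.jankoMatrixX.det ^ 7 = 1 := by
    rw [← Matrix.det_pow, matX_pow, Matrix.det_one]
  calc Cfsg.jankoMatrixX.det
      = Cfsg.jankoMatrixX.det * (Cfsg.jankoMatrixX.det * Cfsg.jankoMatrixX.det) ^ 3 := by
        rw [h2]; simp
    _ = Cfsg.jankoMatrixX.det ^ 7 := by ring
    _ = 1 := h7

theorem detY : Cfsg.jankoMatrixY.det = 1 := by
  have h1 : Cfsg.jankoMatrixY * Cfsg.jankoMatrixY.transpose = 1 := Cfsg.Spor.jankoY.val_inv
  have h2 : Cfsg.jankoMatrixY.det * Cfsg.jankoMatrixY.det = 1 := by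
    have := congrArg Matrix.det h1
    rwa [Matrix.det_mul, Matrix.det_transpose, Matrix.det_one] at this
  have h5 : Cfsg.jankoMatrixY.det ^ 5 = 1 := by
    rw [← Matrix.det_pow, matY_pow, Matrix.det_one]
  calc Cfsg.jankoMatrixY.det
      = Cfsg.jankoMatrixY.det * (Cfsg.jankoMatrixY.det * Cfsg.jankoMatrixY.det) ^ 2 := by
        rw [h2]; simp
    _ = Cfsg.jankoMatrixY.det ^ 5 := by ring
    _ = 1 := h5

theorem det_eq_one : ∀ g ∈ Subgroup.closure SG, (g : M7).det = 1 := by
  intro g hg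
  induction hg using Subgroup.closure_induction with
  | mem x hx =>
    rcases hx with rfl | rfl
    · exact detX
    · exact detY
  | one => exact Matrix.det_one
  | mul x y _ _ hx hy => rw [Units.val_mul, Matrix.det_mul, hx, hy, one_mul]
  | inv x _ hx =>
    have h : (x : M7) * ((x⁻¹ : A) : M7) = 1 := by rw [← Units.val_mul, mul_inv_cancel]; rfl
    have := congrArg Matrix.det h
    rwa [Matrix.det_mul, hx, one_mul, Matrix.det_one] at this

/-! ### The element of order 19 -/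

theorem pow_sgen0 (m : ℕ) : ∃ k < nH, sgen 0 ^ m = U k ∧ k = (utau 0)^[m] 0 := by
  induction m with
  | zero => exact ⟨0, by decide, by rw [pow_zero, U_zero], rfl⟩
  | succ m ih =>
    obtain ⟨k, hk, h1, h2⟩ := ih
    obtain ⟨h3, h4⟩ := uschOK_spec 0 (by norm_num) hk
    refine ⟨utau 0 k, h3, ?_, ?_⟩
    · rw [pow_succ', h1, h4]
    · rw [Function.iterate_succ_apply', ← h2]

theorem iter19 : (utau 0)^[19] 0 = 0 := by decide +kernel

theorem sgen0_pow : sgen 0 ^ 19 = 1 := by
  obtain ⟨k, _, h1, h2⟩ := pow_sgen0 19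
  rw [h1, h2, iter19, U_zero]

theorem utau00 : utau 0 0 ≠ 0 := by decide +kernel

theorem sgen0_ne : sgen 0 ≠ 1 := by
  intro h
  obtain ⟨h3, h4⟩ := uschOK_spec 0 (by norm_num) (show 0 < nH by decide)
  rw [U_zero, mul_one, h] at h4
  have := U_inj 0 (by decide) _ h3 (by rw [U_zero, ← h4])
  exact utau00 this.symm

theorem orderOf_sgen0 : orderOf (sgen 0) = 19 := by
  have : Fact (Nat.Prime 19) := ⟨by norm_num⟩
  exact orderOf_eq_prime sgen0_pow sgen0_ne

/-- `s₁ = X³Y`. -/
theorem sgen0_eq : sgen 0 = Cfsg.Spor.jankoX ^ 3 * Cfsg.Spor.jankoY := by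
  have e1 : E 3080 = gen 1 * E 0 := E_step 3080 (by norm_num) (by decide +kernel)
  have e2 : E 3081 = gen 0 * E 3080 := E_step 3081 (by norm_num) (by decide +kernel)
  have e3 : E 3082 = gen 0 * E 3081 := E_step 3082 (by norm_num) (by decide +kernel)
  have e4 : E 3083 = gen 0 * E 3082 := E_step 3083 (by norm_num) (by decide +kernel)
  show E 3083 = _
  rw [e4, e3, e2, e1, E_zero, mul_one]
  show Cfsg.Spor.jankoX * (Cfsg.Spor.jankoX * (Cfsg.Spor.jankoX * Cfsg.Spor.jankoY)) = _
  rw [pow_succ, pow_two]; simp only [mul_assoc]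

/-! ### The centre -/

/-- A functional with `φ ⬝ b₁ = 1`. -/
def phiV : V7 := decV phiP

theorem Lid : decM LP * (decM (TT idx1) - 1) + Matrix.vecMulVec b1 phiV = 1 := by
  decide +kernel

theorem vecMulVec_mulVec' (b φ v : V7) : Matrix.vecMulVec b φ *ᵥ v = (φ ⬝ᵥ v) • b := by
  ext r
  simp only [Matrix.mulVec, dotProduct, Matrix.vecMulVec_apply, Pi.smul_apply, smul_eq_mul,
    Finset.sum_mul, mul_assoc]
  apply Finset.sum_congr rfl
  intro c _
  ring

/-- The fixed space of `s₁` is spanned by `b₁`. -/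
theorem fixed_s1 (v : V7) (hv : (sgen 0 : M7) *ᵥ v = v) : v = (phiV ⬝ᵥ v) • b1 := by
  have h := congrArg (fun M => M *ᵥ v) Lid
  simp only [Matrix.add_mulVec, Matrix.one_mulVec, ← Matrix.mulVec_mulVec, Matrix.sub_mulVec] at h
  have hs : (sgen 0 : M7) = decM (TT idx1) := sgen_val 0
  rw [← hs, hv, sub_self, Matrix.mulVec_zero, zero_add, vecMulVec_mulVec'] at h
  exact h.symm

/-- Seven orbit indices whose points span the space. -/
def icf : Fin 7 → ℕ := ![ic0, ic1, ic2, ic3, ic4, ic5, ic6]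

/-- The matrix of the seven orbit points, computed from the packed data. -/
def BmN : M7 := fun r c => ((rowdot (TT (icf c)) bP r.val : ℕ) : ZMod 11)

theorem BmN_inv : BmN * decM BinvP = 1 := by decide +kernel

theorem icf_lt (c : Fin 7) : icf c < nE := by
  fin_cases c <;> decide

theorem BmN_eq (r c : Fin 7) : (E (icf c) • b1) r = BmN r c := by
  rw [smul_eq, E_val _ (icf_lt c), b1, decM_mulVec_apply]
  rfl

theorem pow7_ZMod : ∀ x : ZMod 11, x ^ 7 = 1 → x = 1 := by decide

/-- The centre of `⟨X, Y⟩` is trivial. -/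
theorem central_eq_one (z : A) (hz : z ∈ Subgroup.closure SG)
    (hc : ∀ g ∈ Subgroup.closure SG, g * z = z * g) : z = 1 := by
  have hs : sgen 0 ∈ Subgroup.closure SG := H_le (sgen_mem 0)
  have h1 : sgen 0 • (z • b1) = z • b1 := by
    rw [← mul_smul, hc _ hs, mul_smul, sgen_fix]
  have h2 : z • b1 = (phiV ⬝ᵥ (z • b1)) • b1 := fixed_s1 _ (by rw [← smul_eq]; exact h1)
  generalize phiV ⬝ᵥ (z • b1) = lam at h2
  have h3 : ∀ i, z • (E i • b1) = lam • (E i • b1) := by
    intro i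
    rw [← mul_smul, ← hc _ (E_mem i), mul_smul, h2, smul_eq, smul_eq, Matrix.mulVec_smul]
  have h4 : (z : M7) * BmN = lam • BmN := by
    ext r c
    have := congrFun (h3 (icf c)) r
    rw [smul_eq] at this
    rw [Matrix.mul_apply, Matrix.smul_apply, ← BmN_eq, smul_eq_mul]
    rw [Pi.smul_apply, smul_eq_mul] at this
    rw [← this, Matrix.mulVec, dotProduct]
    apply Finset.sum_congr rfl
    intro k _
    rw [← BmN_eq, smul_eq]
  have h5 : (z : M7) = lam • (1 : M7) := by
    calc (z : M7) = (z : M7) * (BmN * decM BinvP) := by rw [BmN_inv, mul_one]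
      _ = lam • BmN * decM BinvP := by rw [← mul_assoc, h4]
      _ = lam • (1 : M7) := by rw [Matrix.smul_mul, BmN_inv]
  have h6 : lam ^ 7 = 1 := by
    have := det_eq_one z hz
    rw [h5, Matrix.det_smul, Matrix.det_one, mul_one, Fintype.card_fin] at this
    exact this
  have h7 : lam = 1 := pow7_ZMod lam h6
  apply Units.ext
  rw [h5, h7, one_smul]
  rfl

/-! ### Simplicity -/

theorem hmod_aux (N q p e : ℕ) (hmax : ¬ p ^ (e + 1) ∣ N)
    (hchk : ∀ j ∈ Finset.Icc 1 e, ¬ (p ^ j ≡ 1 [MOD q])) :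
    ∀ j, 0 < j → p ^ j ∣ N → ¬ (p ^ j ≡ 1 [MOD q]) := by
  intro j hj hd
  have hje : j ≤ e := by
    by_contra h
    exact hmax ((pow_dvd_pow p (by omega)).trans hd)
  exact hchk j (Finset.mem_Icc.2 ⟨hj, hje⟩)

theorem hmod_J1 : ∀ p : ℕ, p.Prime → p ≠ 19 → ∀ j, 0 < j → p ^ j ∣ 175560 →
    ¬ (p ^ j ≡ 1 [MOD 19]) := by
  intro p hp hp19 j hj hdvd
  have hpd : p ∣ 175560 := (dvd_pow_self p hj.ne').trans hdvd
  have hcases : p = 2 ∨ p = 3 ∨ p = 5 ∨ p = 7 ∨ p = 11 ∨ p = 19 := by
    have h : p ∣ 2 ^ 3 * (3 * (5 * (7 * (11 * 19)))) := by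
      have : (2 ^ 3 * (3 * (5 * (7 * (11 * 19)))) : ℕ) = 175560 := by norm_num
      rw [this]; exact hpd
    rcases (Nat.Prime.dvd_mul hp).1 h with h | h
    · left; exact (Nat.prime_dvd_prime_iff_eq hp Nat.prime_two).1 (hp.dvd_of_dvd_pow h)
    rcases (Nat.Prime.dvd_mul hp).1 h with h | h
    · right; left; exact (Nat.prime_dvd_prime_iff_eq hp Nat.prime_three).1 h
    rcases (Nat.Prime.dvd_mul hp).1 h with h | h
    · right; right; left; exact (Nat.prime_dvd_prime_iff_eq hp Nat.prime_five).1 h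
    rcases (Nat.Prime.dvd_mul hp).1 h with h | h
    · right; right; right; left
      exact (Nat.prime_dvd_prime_iff_eq hp (by norm_num)).1 h
    rcases (Nat.Prime.dvd_mul hp).1 h with h | h
    · right; right; right; right; left
      exact (Nat.prime_dvd_prime_iff_eq hp (by norm_num)).1 h
    · right; right; right; right; right
      exact (Nat.prime_dvd_prime_iff_eq hp (by norm_num)).1 h
  rcases hcases with rfl | rfl | rfl | rfl | rfl | rfl
  · exact hmod_aux 175560 19 2 3 (by norm_num) (by decide) j hj hdvd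
  · exact hmod_aux 175560 19 3 1 (by norm_num) (by decide) j hj hdvd
  · exact hmod_aux 175560 19 5 1 (by norm_num) (by decide) j hj hdvd
  · exact hmod_aux 175560 19 7 1 (by norm_num) (by decide) j hj hdvd
  · exact hmod_aux 175560 19 11 1 (by norm_num) (by decide) j hj hdvd
  · exact absurd rfl hp19

theorem X_mem : Cfsg.Spor.jankoX ∈ Subgroup.closure SG := Subgroup.subset_closure (by simp [SG])
theorem Y_mem : Cfsg.Spor.jankoY ∈ Subgroup.closure SG := Subgroup.subset_closure (by simp [SG])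

/-- `⟨X, Y⟩` is simple. -/
theorem J1_simple : IsSimpleGroup (Subgroup.closure SG) := by
  have hq : Fact (Nat.Prime 19) := ⟨by norm_num⟩
  let a : Subgroup.closure SG := ⟨Cfsg.Spor.jankoX ^ 3, Subgroup.pow_mem _ X_mem 3⟩
  let b : Subgroup.closure SG := ⟨Cfsg.Spor.jankoY, Y_mem⟩
  have hab : ((a * b : Subgroup.closure SG) : A) = sgen 0 := by
    rw [sgen0_eq]; rfl
  have ha : a ^ 7 = 1 := by
    apply Subtype.ext
    show (Cfsg.Spor.jankoX ^ 3) ^ 7 = 1
    rw [← pow_mul, mul_comm, pow_mul, X_pow, one_pow]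
  have hb : b ^ 5 = 1 := by
    apply Subtype.ext
    show Cfsg.Spor.jankoY ^ 5 = 1
    exact Y_pow
  have hgen : Subgroup.closure ({a, b} : Set (Subgroup.closure SG)) = ⊤ := by
    rw [eq_top_iff]
    intro g _
    let K : Subgroup A :=
      (Subgroup.closure ({a, b} : Set (Subgroup.closure SG))).map (Subgroup.closure SG).subtype
    have haK : Cfsg.Spor.jankoX ^ 3 ∈ K :=
      ⟨a, Subgroup.subset_closure (by simp), rfl⟩
    have hbK : Cfsg.Spor.jankoY ∈ K := ⟨b, Subgroup.subset_closure (by simp), rfl⟩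
    have hXK : Cfsg.Spor.jankoX ∈ K := by
      have h15 : (Cfsg.Spor.jankoX ^ 3) ^ 5 = Cfsg.Spor.jankoX := by
        rw [← pow_mul, show 3 * 5 = 7 * 2 + 1 from rfl, pow_succ, pow_mul, X_pow, one_pow, one_mul]
      rw [← h15]; exact K.pow_mem haK 5
    have hle : Subgroup.closure SG ≤ K := by
      rw [Subgroup.closure_le]
      intro y hy
      rcases hy with rfl | rfl
      · exact hXK
      · exact hbK
    obtain ⟨k, hk, hkg⟩ := hle g.2
    have : k = g := Subtype.ext hkg
    rw [← this]; exact hk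
  apply SimpleQ.isSimpleGroup_of_prime_elt 19 (a * b)
  · rw [← Subgroup.orderOf_coe, hab]; exact orderOf_sgen0
  · rw [card_J1]; norm_num
  · exact SimpleQ.normalClosure_mul_eq_top a b 7 5 ha hb (by norm_num) hgen
  · rw [eq_bot_iff]
    intro z hz
    rw [Subgroup.mem_center_iff] at hz
    rw [Subgroup.mem_bot]
    apply Subtype.ext
    apply central_eq_one z.1 z.2
    intro g hg
    exact congrArg Subtype.val (hz ⟨g, hg⟩)
  · rw [card_J1]; exact hmod_J1

end Cfsg.Agent.Helper26.J1S
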