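import Mathlib
import Cfsg.Prelude.Def_Spor_J1
import Cfsg.Prelude.Def_KGroupFacts
import Cfsg.Agent.Lib.Helper26.J1Group
import Cfsg.Agent.Lib.Helper26.J1Simple
import Cfsg.Agent.Lib.Helper26.J1OChk
import Cfsg.Agent.Lib.Helper26.AutInner

/-!
# Every automorphism of `J₁ = ⟨X, Y⟩ ≤ GL₇(11)` is inner
-/

set_option autoImplicit false

namespace Cfsg.Agent.Helper26.J1O

open Matrix
open Cfsg.Agent.Helper26 Cfsg.Agent.Helper26.J1A Cfsg.Agent.Helper26.J1D
  Cfsg.Agent.Helper26.J1C Cfsg.Agent.Helper26.J1K Cfsg.Agent.Helper26.J1G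
  Cfsg.Agent.Helper26.J1S Cfsg.Agent.Helper26.J1OD Cfsg.Agent.Helper26.J1OC
  Cfsg.Agent.Helper26.J1OK

/-- The matrix `X`. -/
abbrev Xm : M7 := Cfsg.jankoMatrixX
/-- The matrix `Y`. -/
abbrev Ym : M7 := Cfsg.jankoMatrixY

/-! ### The two relations -/

/-- The word `X C X C⁴`. -/
def r1M (C : M7) : M7 := Xm * C * Xm * C * C * C * C
/-- The word `X X C X C`. -/
def r2M (C : M7) : M7 := Xm * Xm * C * Xm * C

theorem r1step_sound (c v : ℕ) : decV (r1step c v) = r1M (decM c) *ᵥ decV v := by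
  unfold r1step r1M
  simp only [mvF_sound, decM_gP0, Matrix.mulVec_mulVec, Matrix.mul_assoc]

theorem r2step_sound (c v : ℕ) : decV (r2step c v) = r2M (decM c) *ᵥ decV v := by
  unfold r2step r2M
  simp only [mvF_sound, decM_gP0, Matrix.mulVec_mulVec, Matrix.mul_assoc]

theorem r1chain_sound (c v : ℕ) :
    decV (r1chain c v) = (r1M (decM c) * r1M (decM c)) *ᵥ decV v := by
  simp only [r1chain, seqN_eq, r1step_sound, Matrix.mulVec_mulVec]

theorem r2chain_sound (c v : ℕ) :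
    decV (r2chain c v) =
      (r2M (decM c) * r2M (decM c) * (r2M (decM c) * r2M (decM c)) * r2M (decM c)) *ᵥ
        decV v := by
  simp only [r2chain, seqN_eq, r2step_sound, Matrix.mulVec_mulVec, Matrix.mul_assoc]

theorem r1M_Y : r1M Ym = decM w6P := by
  unfold r1M Xm Ym
  rw [← decM_gP0, ← decM_gP1, eqProd1F_sound hw1, eqProd1F_sound hw2, eqProd1F_sound hw3,
    eqProd1F_sound hw4, eqProd1F_sound hw5, eqProd1F_sound hw6]

theorem r2M_Y : r2M Ym = decM v4P := by
  unfold r2M Xm Ym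
  rw [← decM_gP0, ← decM_gP1, eqProd1F_sound hx2, eqProd1F_sound hv2, eqProd1F_sound hv3,
    eqProd1F_sound hv4]

theorem rel1_Y : r1M Ym * r1M Ym = 1 := by
  rw [r1M_Y, eqProd1F_sound hw66, decM_idP]

theorem rel2_Y : r2M Ym * r2M Ym * (r2M Ym * r2M Ym) * r2M Ym = 1 := by
  rw [r2M_Y, eqProd1F_sound hv8, eqProd1F_sound hv16, eqProd1F_sound hv20, decM_idP]

/-! ### The certificates -/

theorem kcert_spec (j : ℕ) (hj : j < nK) :
    (∃ i < 7, KC j = GD i) ∨ r1M (decM (KC j)) * r1M (decM (KC j)) ≠ 1 ∨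
      r2M (decM (KC j)) * r2M (decM (KC j)) * (r2M (decM (KC j)) * r2M (decM (KC j))) *
        r2M (decM (KC j)) ≠ 1 := by
  have h := allC j hj
  unfold kcertOK at h
  cases h0 : Nat.beq (KCERT j) 0
  · rw [h0, cond_false] at h
    right
    cases h1 : Nat.beq (KCERT j) 1
    · rw [h1, cond_false] at h
      right
      intro hone
      apply vecNe_sound h
      rw [r2chain_sound, hone, Matrix.one_mulVec]
    · rw [h1, cond_true] at h
      left
      intro hone
      apply vecNe_sound h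
      rw [r1chain_sound, hone, Matrix.one_mulVec]
  · rw [h0, cond_true, Bool.and_eq_true] at h
    left
    refine ⟨KCV j, ?_, Nat.eq_of_beq_eq_true h.2⟩
    have := h.1
    unfold Nat.blt at this
    have h3 := Nat.le_of_ble_eq_true this
    omega

/-! ### Closure of the list under conjugation -/

/-- The elements of the ambient group which conjugate the list into itself. -/
def KcM : Submonoid A where
  carrier := {g | ∀ j < nK, ∃ j' < nK, (g : M7) * decM (KC j) = decM (KC j') * (g : M7)}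
  one_mem' := by
    intro j hj
    exact ⟨j, hj, by rw [Units.val_one, one_mul, mul_one]⟩
  mul_mem' := by
    intro a b ha hb j hj
    obtain ⟨j1, hj1, h1⟩ := hb j hj
    obtain ⟨j2, hj2, h2⟩ := ha j1 hj1
    refine ⟨j2, hj2, ?_⟩
    rw [Units.val_mul, Matrix.mul_assoc, h1, ← Matrix.mul_assoc, h2, Matrix.mul_assoc]

theorem KcM_inv {g : A} (hg : g ∈ KcM) : g⁻¹ ∈ KcM := by
  have h : g⁻¹ = g ^ (orderOf g - 1) := by
    apply inv_eq_of_mul_eq_one_right
    rw [← pow_succ', Nat.sub_add_cancel (orderOf_pos g), pow_orderOf_eq_one]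
  rw [h]
  exact KcM.pow_mem hg _

theorem X_mem_KcM : Cfsg.Spor.jankoX ∈ KcM := by
  intro j hj
  obtain ⟨h1, h2⟩ := xconjOK_sound (allX j hj)
  exact ⟨KTAU0 j, h1, h2⟩

theorem Y_mem_KcM : Cfsg.Spor.jankoY ∈ KcM := by
  intro j hj
  have h := allY j hj
  unfold yconjOK at h
  rw [Bool.and_eq_true] at h
  refine ⟨KTAU1 j, ?_, ?_⟩
  · have := h.1
    unfold Nat.blt at this
    have h3 := Nat.le_of_ble_eq_true this
    omega
  · have h2 := eqProd2RF_sound h.2
    rw [decM_gP1] at h2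
    exact h2

theorem closure_le_KcM : ∀ g ∈ Subgroup.closure SG, g ∈ KcM := by
  intro g hg
  induction hg using Subgroup.closure_induction with
  | mem x hx =>
    rcases hx with rfl | rfl
    · exact X_mem_KcM
    · exact Y_mem_KcM
  | one => exact KcM.one_mem
  | mul x y _ _ hx hy => exact KcM.mul_mem hx hy
  | inv x _ hx => exact KcM_inv hx

theorem KC_zero : KC 0 = gP1 := by
  have h := kc01
  rw [Bool.and_eq_true] at h
  exact Nat.eq_of_beq_eq_true h.1

theorem KC_one : KC 1 = y2P := by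
  have h := kc01
  rw [Bool.and_eq_true] at h
  exact Nat.eq_of_beq_eq_true h.2

theorem Y2_val : ((Cfsg.Spor.jankoY ^ 2 : A) : M7) = decM y2P := by
  rw [pow_two, Units.val_mul]
  show Ym * Ym = _
  unfold Ym
  rw [← decM_gP1, eqProd1F_sound hy2]

/-- Conjugates of `Y` and `Y²` are in the list. -/
theorem conj_mem_list (g : A) (hg : g ∈ Subgroup.closure SG) (e : ℕ) (he : e = 1 ∨ e = 2) :
    ∃ j < nK, ((g * Cfsg.Spor.jankoY ^ e * g⁻¹ : A) : M7) = decM (KC j) := by
  have hK := closure_le_KcM g hg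
  have key : ∀ j0 < nK, ((Cfsg.Spor.jankoY ^ e : A) : M7) = decM (KC j0) →
      ∃ j < nK, ((g * Cfsg.Spor.jankoY ^ e * g⁻¹ : A) : M7) = decM (KC j) := by
    intro j0 hj0 h0
    obtain ⟨j, hj, h⟩ := hK j0 hj0
    refine ⟨j, hj, ?_⟩
    rw [Units.val_mul, Units.val_mul, h0, h, Matrix.mul_assoc, ← Units.val_mul, mul_inv_cancel,
      Units.val_one, mul_one]
  rcases he with rfl | rfl
  · apply key 0 (by decide)
    rw [pow_one, KC_zero, decM_gP1]; rfl
  · apply key 1 (by decide)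
    rw [KC_one]; exact Y2_val

/-! ### The good elements -/

theorem GD_zero : GD 0 = gP1 := Nat.eq_of_beq_eq_true gd0

theorem GD_val (i : ℕ) (hi : i < 7) :
    ((Cfsg.Spor.jankoX ^ i * Cfsg.Spor.jankoY * (Cfsg.Spor.jankoX ^ i)⁻¹ : A) : M7) =
      decM (GD i) := by
  induction i with
  | zero =>
    rw [pow_zero, one_mul, inv_one, mul_one, GD_zero, decM_gP1]; rfl
  | succ i ih =>
    have h := allB_true gd_all i (by omega)
    unfold gdOK at h
    have h2 := eqProd2F_sound h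
    rw [decM_gP0] at h2
    have e1 : Cfsg.Spor.jankoX ^ (i + 1) * Cfsg.Spor.jankoY * (Cfsg.Spor.jankoX ^ (i + 1))⁻¹ =
        Cfsg.Spor.jankoX * (Cfsg.Spor.jankoX ^ i * Cfsg.Spor.jankoY *
          (Cfsg.Spor.jankoX ^ i)⁻¹) * Cfsg.Spor.jankoX⁻¹ := by
      rw [pow_succ']; group
    rw [e1, Units.val_mul, Units.val_mul, ih (by omega)]
    show Cfsg.jankoMatrixX * decM (GD i) * _ = _
    rw [h2, Matrix.mul_assoc]
    have e2 : Cfsg.jankoMatrixX * ((Cfsg.Spor.jankoX⁻¹ : A) : M7) = 1 := by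
      show ((Cfsg.Spor.jankoX : A) : M7) * ((Cfsg.Spor.jankoX⁻¹ : A) : M7) = 1
      rw [← Units.val_mul, mul_inv_cancel, Units.val_one]
    rw [e2, mul_one]

/-! ### The normalizing elements -/

/-- An element normalizing `⟨X⟩`. -/
def nA : A := E iN * U kN
/-- An element inverting `Y`. -/
def mA : A := E iM * U kM

theorem nA_val : (nA : M7) = decM nP := by
  rw [nA, Units.val_mul, E_val _ (by decide), U_val _ (by decide)]
  exact eqProd1F_sound hn

theorem mA_val : (mA : M7) = decM mP := by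
  rw [mA, Units.val_mul, E_val _ (by decide), U_val _ (by decide)]
  exact eqProd1F_sound hm

theorem nA_mem : nA ∈ Subgroup.closure SG := Subgroup.mul_mem _ (E_mem _) (H_le (U_mem _))
theorem mA_mem : mA ∈ Subgroup.closure SG := Subgroup.mul_mem _ (E_mem _) (H_le (U_mem _))

theorem X3_val : ((Cfsg.Spor.jankoX ^ 3 : A) : M7) = decM x3P := by
  rw [pow_succ, pow_two, Units.val_mul, Units.val_mul]
  show Xm * Xm * Xm = _
  unfold Xm
  rw [← decM_gP0, eqProd1F_sound hx2, eqProd1F_sound hx3]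

theorem Y4_val : ((Cfsg.Spor.jankoY ^ 4 : A) : M7) = decM y4P := by
  have h : Cfsg.Spor.jankoY ^ 4 = Cfsg.Spor.jankoY ^ 2 * Cfsg.Spor.jankoY ^ 2 := by
    rw [← pow_add]
  rw [h, Units.val_mul, Y2_val, eqProd1F_sound hy4]

theorem nA_conj : nA * Cfsg.Spor.jankoX * nA⁻¹ = Cfsg.Spor.jankoX ^ 3 := by
  have h : nA * Cfsg.Spor.jankoX = Cfsg.Spor.jankoX ^ 3 * nA := by
    apply Units.ext
    rw [Units.val_mul, Units.val_mul, nA_val, X3_val]
    have h2 := eqProd2F_sound hnx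
    rw [decM_gP0] at h2
    exact h2
  rw [h, mul_assoc, mul_inv_cancel, mul_one]

theorem mA_conj : mA * Cfsg.Spor.jankoY * mA⁻¹ = Cfsg.Spor.jankoY ^ 4 := by
  have h : mA * Cfsg.Spor.jankoY = Cfsg.Spor.jankoY ^ 4 * mA := by
    apply Units.ext
    rw [Units.val_mul, Units.val_mul, mA_val, Y4_val]
    have h2 := eqProd2F_sound hmy
    rw [decM_gP1] at h2
    exact h2
  rw [h, mul_assoc, mul_inv_cancel, mul_one]

theorem X_ne_one : Cfsg.Spor.jankoX ≠ 1 := by
  intro h
  have h1 := congrArg (fun g : A => (g : M7) 0 0) h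
  revert h1
  decide

theorem Y_ne_one : Cfsg.Spor.jankoY ≠ 1 := by
  intro h
  have h1 := congrArg (fun g : A => (g : M7) 0 1) h
  revert h1
  decide

theorem orderOf_X : orderOf Cfsg.Spor.jankoX = 7 := by
  have : Fact (Nat.Prime 7) := ⟨by norm_num⟩
  exact orderOf_eq_prime X_pow X_ne_one

theorem orderOf_Y : orderOf Cfsg.Spor.jankoY = 5 := by
  have : Fact (Nat.Prime 5) := ⟨by norm_num⟩
  exact orderOf_eq_prime Y_pow Y_ne_one

/-! ### All automorphisms are inner -/

/-- The group `J₁`. -/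
abbrev J := ↥(Subgroup.closure SG)

/-- The generator `X`. -/
def XJ : J := ⟨Cfsg.Spor.jankoX, X_mem⟩
/-- The generator `Y`. -/
def YJ : J := ⟨Cfsg.Spor.jankoY, Y_mem⟩
/-- The element normalizing `⟨X⟩`. -/
def nJ : J := ⟨nA, nA_mem⟩
/-- The element inverting `Y`. -/
def mJ : J := ⟨mA, mA_mem⟩

/-- The matrix of an element, as a monoid homomorphism. -/
def matH : J →* M7 := (Units.coeHom M7).comp (Subgroup.closure SG).subtype

theorem matH_apply (g : J) : matH g = ((g : A) : M7) := rfl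
theorem matH_XJ : matH XJ = Xm := rfl
theorem matH_YJ : matH YJ = Ym := rfl

theorem matH_injective : Function.Injective matH := by
  intro a b h
  exact Subtype.ext (Units.ext h)

theorem card_J : Nat.card J = 175560 := card_J1

instance : Finite J := Nat.finite_of_card_ne_zero (by rw [card_J]; norm_num)

theorem orderOf_XJ : orderOf XJ = 7 := by
  rw [← Subgroup.orderOf_coe]; exact orderOf_X

theorem orderOf_YJ : orderOf YJ = 5 := by
  rw [← Subgroup.orderOf_coe]; exact orderOf_Y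

theorem nJ_conj : nJ * XJ * nJ⁻¹ = XJ ^ 3 := Subtype.ext nA_conj
theorem mJ_conj : mJ * YJ * mJ⁻¹ = YJ ^ 4 := Subtype.ext mA_conj

theorem closure_XY : Subgroup.closure ({XJ, YJ} : Set J) = ⊤ := by
  rw [eq_top_iff]
  intro g _
  let K : Subgroup A :=
    (Subgroup.closure ({XJ, YJ} : Set J)).map (Subgroup.closure SG).subtype
  have hXK : Cfsg.Spor.jankoX ∈ K := ⟨XJ, Subgroup.subset_closure (by simp), rfl⟩
  have hYK : Cfsg.Spor.jankoY ∈ K := ⟨YJ, Subgroup.subset_closure (by simp), rfl⟩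
  have hle : Subgroup.closure SG ≤ K := by
    rw [Subgroup.closure_le]
    intro y hy
    rcases hy with rfl | rfl
    · exact hXK
    · exact hYK
  obtain ⟨k, hk, hkg⟩ := hle g.2
  have : k = g := Subtype.ext hkg
  rw [← this]; exact hk

theorem hR7 : ∀ k < 7, 0 < k → ∃ e : ℕ, ∃ r ∈ ({1} : Finset ℕ), k ≡ r * 3 ^ e [MOD 7] := by
  intro k hk hk0
  interval_cases k
  · exact ⟨0, 1, by simp, by decide⟩
  · exact ⟨2, 1, by simp, by decide⟩
  · exact ⟨1, 1, by simp, by decide⟩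
  · exact ⟨4, 1, by simp, by decide⟩
  · exact ⟨5, 1, by simp, by decide⟩
  · exact ⟨3, 1, by simp, by decide⟩

theorem hR5 : ∀ k < 5, 0 < k → ∃ e : ℕ, ∃ r ∈ ({1, 2} : Finset ℕ), k ≡ r * 4 ^ e [MOD 5] := by
  intro k hk hk0
  interval_cases k
  · exact ⟨0, 1, by simp, by decide⟩
  · exact ⟨0, 2, by simp, by decide⟩
  · exact ⟨1, 2, by simp, by decide⟩
  · exact ⟨1, 1, by simp, by decide⟩

/-- The first relation in the group. -/
theorem rel1_J : XJ * YJ * XJ * YJ * YJ * YJ * YJ * (XJ * YJ * XJ * YJ * YJ * YJ * YJ) = 1 := by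
  apply matH_injective
  simp only [map_mul, matH_XJ, matH_YJ, map_one]
  exact rel1_Y

/-- The word of the second relation. -/
def w2J (c : J) : J := XJ * XJ * c * XJ * c

theorem rel2_J : w2J YJ * w2J YJ * (w2J YJ * w2J YJ) * w2J YJ = 1 := by
  apply matH_injective
  simp only [w2J, map_mul, matH_XJ, matH_YJ, map_one]
  exact rel2_Y

/-- Every automorphism of `J₁` is inner. -/
theorem aut_inner (φ : MulAut J) : ∃ g : J, φ = MulAut.conj g := by
  have h7 : Fact (Nat.Prime 7) := ⟨by norm_num⟩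
  have h5 : Fact (Nat.Prime 5) := ⟨by norm_num⟩
  -- Step 1: we may assume that `φ` fixes `X`
  have hu : orderOf (φ XJ) = 7 := by rw [MulEquiv.orderOf_eq, orderOf_XJ]
  obtain ⟨g1, r, hr, h1⟩ := AutInner.exists_conj_rep 7 XJ nJ 3 orderOf_XJ
    (by rw [card_J]; norm_num) nJ_conj {1} hR7 (φ XJ) hu
  rw [Finset.mem_singleton] at hr
  subst hr
  rw [pow_one] at h1
  obtain ⟨φ1, hφ1⟩ : ∃ φ1 : MulAut J, φ1 = (MulAut.conj g1)⁻¹ * φ := ⟨_, rfl⟩
  have hX1 : φ1 XJ = XJ := by
    rw [hφ1, MulAut.mul_apply, h1, ← map_inv, MulAut.conj_apply]; group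
  -- Step 2: the image of `Y` is in the list
  have hc5 : orderOf (φ1 YJ) = 5 := by rw [MulEquiv.orderOf_eq, orderOf_YJ]
  obtain ⟨g2, e, he, h2⟩ := AutInner.exists_conj_rep 5 YJ mJ 4 orderOf_YJ
    (by rw [card_J]; norm_num) mJ_conj {1, 2} hR5 (φ1 YJ) hc5
  obtain ⟨j, hj, hjm⟩ : ∃ j < nK, matH (φ1 YJ) = decM (KC j) := by
    have he' : e = 1 ∨ e = 2 := by simpa using he
    obtain ⟨j, hj, h⟩ := conj_mem_list (g2 : A) g2.2 e he'
    exact ⟨j, hj, by rw [h2]; exact h⟩
  -- Step 3: the relations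
  have hrel1 : r1M (matH (φ1 YJ)) * r1M (matH (φ1 YJ)) = 1 := by
    have h := congrArg (fun g => matH (φ1 g)) rel1_J
    simp only [map_mul, map_one, hX1, matH_XJ] at h
    exact h
  have hrel2 : r2M (matH (φ1 YJ)) * r2M (matH (φ1 YJ)) *
      (r2M (matH (φ1 YJ)) * r2M (matH (φ1 YJ))) * r2M (matH (φ1 YJ)) = 1 := by
    have h := congrArg (fun g => matH (φ1 g)) rel2_J
    simp only [w2J, map_mul, map_one, hX1, matH_XJ] at h
    exact h
  rw [hjm] at hrel1 hrel2
  obtain ⟨i, hi, hgood⟩ : ∃ i < 7, KC j = GD i := by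
    rcases kcert_spec j hj with h | h | h
    · exact h
    · exact absurd hrel1 h
    · exact absurd hrel2 h
  have hY1 : φ1 YJ = XJ ^ i * YJ * (XJ ^ i)⁻¹ := by
    apply matH_injective
    rw [hjm, hgood, ← GD_val i hi]
    rfl
  -- Step 4: conclude
  obtain ⟨φ2, hφ2⟩ : ∃ φ2 : MulAut J, φ2 = (MulAut.conj (XJ ^ i))⁻¹ * φ1 := ⟨_, rfl⟩
  have hX2 : φ2 XJ = XJ := by
    rw [hφ2, MulAut.mul_apply, hX1, ← map_inv, MulAut.conj_apply]
    have hc : Commute (XJ ^ i) XJ := (Commute.refl XJ).pow_left i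
    rw [inv_inv, mul_assoc, ← hc.eq, ← mul_assoc, inv_mul_cancel, one_mul]
  have hY2 : φ2 YJ = YJ := by
    rw [hφ2, MulAut.mul_apply, hY1, ← map_inv, MulAut.conj_apply]; group
  have hone : φ2 = 1 := by
    apply AutInner.eq_one_of_fix_generators _ closure_XY
    intro s hs
    rcases hs with rfl | rfl
    · exact hX2
    · exact hY2
  refine ⟨g1 * XJ ^ i, ?_⟩
  have e1 : φ1 = MulAut.conj (XJ ^ i) := by
    have : φ1 = MulAut.conj (XJ ^ i) * φ2 := by rw [hφ2, mul_inv_cancel_left]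
    rw [this, hone, mul_one]
  have e2 : φ = MulAut.conj g1 * φ1 := by rw [hφ1, mul_inv_cancel_left]
  rw [e2, e1, ← map_mul]

theorem card_Out_J1 : Nat.card (Cfsg.Out J) = 1 := AutInner.card_Out_eq_one aut_inner

end Cfsg.Agent.Helper26.J1O
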