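import Cfsg.Agent.Lib.Helper26.J2Defs

/-! Kernel-evaluated checks for the Hall-Janko group on 100 points (generated). -/

set_option autoImplicit false

namespace Cfsg.Agent.Helper26.J2K

open Cfsg.Agent.Helper26 Cfsg.Agent.Helper26.PP Cfsg.Agent.Helper26.J2D Cfsg.Agent.Helper26.J2C

theorem usch1_0 : allR 0 1512 (uschOK 1) = true := by decide +kernel
theorem usch1_1 : allR 1512 1512 (uschOK 1) = true := by decide +kernel
theorem usch1_2 : allR 3024 1512 (uschOK 1) = true := by decide +kernel
theorem usch1_3 : allR 4536 1512 (uschOK 1) = true := by decide +kernel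

end Cfsg.Agent.Helper26.J2K
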