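import Cfsg.Agent.Lib.Helper26.J2Defs

/-! Kernel-evaluated checks for the Hall-Janko group on 100 points (generated). -/

set_option autoImplicit false

namespace Cfsg.Agent.Helper26.J2K

open Cfsg.Agent.Helper26 Cfsg.Agent.Helper26.PP Cfsg.Agent.Helper26.J2D Cfsg.Agent.Helper26.J2C

theorem tree_all' : allR 1 109 treeOK = true := by decide +kernel
theorem base_all' : allB 100 baseOK = true := by decide +kernel
theorem valid_c : validOK cP = true := by decide +kernel
theorem valid_d : validOK dP = true := by decide +kernel
theorem inv_c : pmul 100 cP cinvP = pid 100 ∧ pmul 100 cinvP cP = pid 100 := by decide +kernel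
theorem inv_d : pmul 100 dP dinvP = pid 100 ∧ pmul 100 dinvP dP = pid 100 := by decide +kernel
theorem pow_c : pmul 100 (pmul 100 (pmul 100 (pmul 100 cP cP) cP) cP) cP = pid 100 := by
  decide +kernel
theorem pow_d : pmul 100 (pmul 100 (pmul 100 (pmul 100 dP dP) dP) dP) dP = pid 100 := by
  decide +kernel
theorem sch0_all' : allB 100 (schOK 0) = true := by decide +kernel
theorem sch1_all' : allB 100 (schOK 1) = true := by decide +kernel
theorem orb_all' : allR 1 99 orbOK = true := by decide +kernel
theorem cnt1_eq : cnt1 = 63 := by decide +kernel
theorem ukey_all' : allB 6048 ukeyOK = true := by decide +kernel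
theorem usort_all' : allB 6047 usortOK = true := by decide +kernel
theorem ufix_all' : allB 6048 ufixOK = true := by decide +kernel
theorem TT_zero : TT 0 = pid 100 := by decide +kernel
theorem UU_zero : UU 0 = pid 100 := by decide +kernel

end Cfsg.Agent.Helper26.J2K
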