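import Cfsg.Agent.Lib.Helper26.J2ChkUT
import Cfsg.Agent.Lib.Helper26.J2ChkUA
import Cfsg.Agent.Lib.Helper26.J2ChkUB
import Cfsg.Agent.Lib.Helper26.J2ChkX

/-! Summary of the kernel-evaluated checks for the Hall-Janko group on 100 points (generated). -/

set_option autoImplicit false

namespace Cfsg.Agent.Helper26.J2K

open Cfsg.Agent.Helper26 Cfsg.Agent.Helper26.PP Cfsg.Agent.Helper26.J2D Cfsg.Agent.Helper26.J2C

theorem utree_all : ∀ i, 1 ≤ i → i < 6048 → utreeOK i = true := by
  intro i h1 h2
  by_cases h_utree_0 : i < 1513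
  · exact allR_true utree_0 i (by omega) (by omega)
  by_cases h_utree_1 : i < 3025
  · exact allR_true utree_1 i (by omega) (by omega)
  by_cases h_utree_2 : i < 4537
  · exact allR_true utree_2 i (by omega) (by omega)
  by_cases h_utree_3 : i < 6048
  · exact allR_true utree_3 i (by omega) (by omega)
  omega

theorem usch0_all : ∀ i, i < 6048 → uschOK 0 i = true := by
  intro i h2
  by_cases h_usch0_0 : i < 1512
  · exact allR_true usch0_0 i (by omega) (by omega)
  by_cases h_usch0_1 : i < 3024
  · exact allR_true usch0_1 i (by omega) (by omega)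
  by_cases h_usch0_2 : i < 4536
  · exact allR_true usch0_2 i (by omega) (by omega)
  by_cases h_usch0_3 : i < 6048
  · exact allR_true usch0_3 i (by omega) (by omega)
  omega

theorem usch1_all : ∀ i, i < 6048 → uschOK 1 i = true := by
  intro i h2
  by_cases h_usch1_0 : i < 1512
  · exact allR_true usch1_0 i (by omega) (by omega)
  by_cases h_usch1_1 : i < 3024
  · exact allR_true usch1_1 i (by omega) (by omega)
  by_cases h_usch1_2 : i < 4536
  · exact allR_true usch1_2 i (by omega) (by omega)
  by_cases h_usch1_3 : i < 6048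
  · exact allR_true usch1_3 i (by omega) (by omega)
  omega


end Cfsg.Agent.Helper26.J2K
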