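import Mathlib
import Cfsg.Agent.Lib.Helper26.Schreier

/-!
# Action-free forms of the Schreier–Sims step
-/

set_option autoImplicit false

namespace Cfsg.Agent.Helper26

/-- Schreier–Sims step without an action: the transversal elements `T i` (`i < n`) lie in
pairwise distinct left cosets of `H`, and left multiplication by the generators permutes the
cosets `T i * H`.  Then `closure S = ⨆ T i * H` and `|closure S| = n * |H|`. -/
theorem schreier_card {A : Type*} [Group A] [Finite A]
    (S : Set A) (H : Subgroup A) (n : ℕ) (T : ℕ → A)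
    (hn : 0 < n) (hT0 : T 0 = 1) (hTmem : ∀ i < n, T i ∈ Subgroup.closure S)
    (hinj : ∀ i < n, ∀ j < n, (T j)⁻¹ * T i ∈ H → i = j)
    (hHle : H ≤ Subgroup.closure S)
    (hstep : ∀ g ∈ S, ∀ i < n, ∃ j < n, (T j)⁻¹ * g * T i ∈ H) :
    (∀ k ∈ Subgroup.closure S, ∃ i < n, ∃ h ∈ H, k = T i * h) ∧
      Nat.card (Subgroup.closure S) = n * Nat.card H := by
  classical
  let X : Set A := {k | ∃ i < n, ∃ h ∈ H, k = T i * h}
  have hX1 : (1 : A) ∈ X := ⟨0, hn, 1, H.one_mem, by rw [hT0, one_mul]⟩
  have hXS : ∀ g ∈ S, ∀ k ∈ X, g * k ∈ X := by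
    rintro g hg k ⟨i, hi, h, hh, rfl⟩
    obtain ⟨j, hj, hsch⟩ := hstep g hg i hi
    refine ⟨j, hj, (T j)⁻¹ * g * T i * h, H.mul_mem hsch hh, ?_⟩
    group
  let Y : Subgroup A :=
    { carrier := {k | ∀ z ∈ X, k * z ∈ X}
      one_mem' := by intro z hz; simpa using hz
      mul_mem' := by
        intro a c ha hc z hz
        rw [mul_assoc]; exact ha _ (hc _ hz)
      inv_mem' := by
        intro a ha
        have hpow : ∀ m : ℕ, ∀ z ∈ X, a ^ m * z ∈ X := by
          intro m
          induction m with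
          | zero => intro z hz; simpa using hz
          | succ m ih =>
            intro z hz
            rw [pow_succ, mul_assoc]
            exact ih _ (ha _ hz)
        intro z hz
        have hinv : a⁻¹ = a ^ (orderOf a - 1) := by
          have h1 : 0 < orderOf a := orderOf_pos a
          have : a ^ (orderOf a - 1) * a = 1 := by
            rw [← pow_succ, Nat.sub_add_cancel h1, pow_orderOf_eq_one]
          exact (eq_inv_of_mul_eq_one_left this).symm
        rw [hinv]
        exact hpow _ z hz }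
  have hSY : S ⊆ Y := fun g hg z hz => hXS g hg z hz
  have hclY : Subgroup.closure S ≤ Y := (Subgroup.closure_le Y).2 hSY
  have hclX : ∀ k ∈ Subgroup.closure S, k ∈ X := by
    intro k hk
    have := hclY hk 1 hX1
    simpa using this
  refine ⟨hclX, ?_⟩
  let f : Fin n × H → Subgroup.closure S := fun x =>
    ⟨T x.1 * x.2, (Subgroup.closure S).mul_mem (hTmem _ x.1.2) (hHle x.2.2)⟩
  have hfinj : Function.Injective f := by
    rintro ⟨⟨i, hi⟩, ⟨h, hh⟩⟩ ⟨⟨i', hi'⟩, ⟨h', hh'⟩⟩ heq
    have heq' : T i * h = T i' * h' := congrArg Subtype.val heq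
    have hii : i = i' := by
      apply hinj i hi i' hi'
      have : (T i')⁻¹ * T i = h' * h⁻¹ := by
        rw [inv_mul_eq_iff_eq_mul, ← mul_assoc, ← heq', mul_assoc, mul_inv_cancel, mul_one]
      rw [this]
      exact H.mul_mem hh' (H.inv_mem hh)
    subst hii
    have hhh : h = h' := mul_left_cancel heq'
    subst hhh
    rfl
  have hfsurj : Function.Surjective f := by
    rintro ⟨k, hk⟩
    obtain ⟨i, hi, h, hh, rfl⟩ := hclX k hk
    exact ⟨⟨⟨i, hi⟩, ⟨h, hh⟩⟩, rfl⟩
  have hcard := Nat.card_congr (Equiv.ofBijective f ⟨hfinj, hfsurj⟩)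
  rw [← hcard, Nat.card_prod, Nat.card_fin]

/-- A listed set of pairwise distinct elements containing `1` and closed under left
multiplication by the generators is the whole generated subgroup. -/
theorem schreier_list {A : Type*} [Group A] [Finite A]
    (S : Set A) (n : ℕ) (T : ℕ → A)
    (hn : 0 < n) (hT0 : T 0 = 1) (hTmem : ∀ i < n, T i ∈ Subgroup.closure S)
    (hinj : ∀ i < n, ∀ j < n, T i = T j → i = j)
    (hstep : ∀ g ∈ S, ∀ i < n, ∃ j < n, g * T i = T j) :
    (∀ k ∈ Subgroup.closure S, ∃ i < n, k = T i) ∧ Nat.card (Subgroup.closure S) = n := by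
  have h := schreier_card S ⊥ n T hn hT0 hTmem
    (by
      intro i hi j hj hij
      rw [Subgroup.mem_bot, inv_mul_eq_one] at hij
      exact hinj i hi j hj hij.symm)
    bot_le
    (by
      intro g hg i hi
      obtain ⟨j, hj, hgj⟩ := hstep g hg i hi
      refine ⟨j, hj, ?_⟩
      rw [Subgroup.mem_bot, mul_assoc, hgj, inv_mul_cancel])
  refine ⟨?_, by rw [h.2, Subgroup.card_bot, mul_one]⟩
  intro k hk
  obtain ⟨i, hi, h', hh', rfl⟩ := h.1 k hk
  rw [Subgroup.mem_bot] at hh'
  exact ⟨i, hi, by rw [hh', mul_one]⟩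

end Cfsg.Agent.Helper26
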