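import Mathlib
import Cfsg.Agent.Lib.Helper26.Schreier2
import Cfsg.Agent.Lib.Helper26.J2Chk

/-!
# The Hall-Janko group as a group of permutations of 100 points: order 604800
-/

set_option autoImplicit false

namespace Cfsg.Agent.Helper26.J2G

open Cfsg.Agent.Helper26 Cfsg.Agent.Helper26.PP Cfsg.Agent.Helper26.J2D
  Cfsg.Agent.Helper26.J2C Cfsg.Agent.Helper26.J2K

/-- The ambient symmetric group. -/
abbrev A : Type := Equiv.Perm (Fin 100)

/-- The underlying map of a permutation. -/
def val : A →* Function.End (Fin 100) where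
  toFun σ := (σ : Fin 100 → Fin 100)
  map_one' := rfl
  map_mul' _ _ := rfl

theorem val_apply (σ : A) (x : Fin 100) : val σ x = σ x := rfl

theorem val_inj : Function.Injective val := fun _ _ h => Equiv.ext (congrFun h)

/-- Decoding. -/
def d100 (P : ℕ) : Function.End (Fin 100) := dec 100 P

theorem d_mul (P Q : ℕ) : d100 (pmul 100 P Q) = d100 P * d100 Q := dec_pmul 100 P Q

theorem d_one : d100 (pid 100) = 1 := dec_pid 100 (by norm_num)

theorem d_apply (P : ℕ) (x : Fin 100) : (d100 P x).val = ent P x.val % 100 := rfl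

/-- The permutation with a given code and inverse code. -/
def mkPerm (P Pinv : ℕ) (h : pmul 100 P Pinv = pid 100 ∧ pmul 100 Pinv P = pid 100) : A where
  toFun := d100 P
  invFun := d100 Pinv
  left_inv x := by
    have e : d100 Pinv * d100 P = 1 := by rw [← d_mul, h.2, d_one]
    exact congrFun e x
  right_inv x := by
    have e : d100 P * d100 Pinv = 1 := by rw [← d_mul, h.1, d_one]
    exact congrFun e x

/-- First generator. -/
def cE : A := mkPerm cP cinvP inv_c
/-- Second generator. -/
def dE : A := mkPerm dP dinvP inv_d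

theorem val_c : val cE = d100 cP := rfl
theorem val_d : val dE = d100 dP := rfl

/-- The two generators. -/
def gen (g : ℕ) : A := cond (Nat.beq g 0) cE dE

theorem gen_val (g : ℕ) : val (gen g) = d100 (gP g) := by
  unfold gen gP
  cases h : Nat.beq g 0
  · exact val_d
  · exact val_c

/-- The generating set. -/
def SG : Set A := {cE, dE}

theorem gen_mem (g : ℕ) : gen g ∈ Subgroup.closure SG := by
  unfold gen SG
  cases h : Nat.beq g 0
  · exact Subgroup.subset_closure (by simp)
  · exact Subgroup.subset_closure (by simp)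

theorem mem_SG {g : A} (hg : g ∈ SG) : ∃ s < 2, g = gen s := by
  rcases hg with rfl | rfl
  · exact ⟨0, by norm_num, rfl⟩
  · exact ⟨1, by norm_num, rfl⟩

/-- The straight-line elements. -/
def E : ℕ → A
  | i => if _h : 0 < i ∧ PAR i < i then gen (LAB i) * E (PAR i) else 1
termination_by i => i
decreasing_by exact _h.2

theorem E_zero : E 0 = 1 := by
  rw [E]; simp

theorem E_step (i : ℕ) (h1 : 0 < i) (h2 : PAR i < i) : E i = gen (LAB i) * E (PAR i) := by
  rw [E]; simp [h1, h2]

theorem E_mem (i : ℕ) : E i ∈ Subgroup.closure SG := by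
  induction i using Nat.strong_induction_on with
  | _ i ih =>
    by_cases h : 0 < i ∧ PAR i < i
    · rw [E_step i h.1 h.2]
      exact Subgroup.mul_mem _ (gen_mem _) (ih _ h.2)
    · rw [E]; simp only [h, dite_false]; exact Subgroup.one_mem _

theorem blt_lt {a b : ℕ} (h : Nat.blt a b = true) : a < b := by
  unfold Nat.blt at h
  have := Nat.le_of_ble_eq_true h
  omega

theorem treeOK_spec {i : ℕ} (h1 : 1 ≤ i) (h2 : i < nE) :
    PAR i < i ∧ TT i = pmul 100 (gP (LAB i)) (TT (PAR i)) := by
  have h := allR_true tree_all' i h1 (by have : i < 110 := h2; omega)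
  unfold treeOK at h
  rw [Bool.and_eq_true, pmF_eq] at h
  exact ⟨blt_lt h.1, Nat.eq_of_beq_eq_true h.2⟩

theorem E_val (i : ℕ) (hi : i < nE) : val (E i) = d100 (TT i) := by
  induction i using Nat.strong_induction_on with
  | _ i ih =>
    rcases Nat.eq_zero_or_pos i with h0 | h0
    · rw [h0, E_zero, TT_zero, d_one, map_one]
    · obtain ⟨hp, heq⟩ := treeOK_spec h0 hi
      rw [E_step i h0 hp, map_mul, gen_val, ih _ hp (lt_trans hp hi), heq, d_mul]

/-! ### Validity of the codes -/

theorem validOK_spec {P : ℕ} (h : validOK P = true) : ∀ i < 100, ent P i < 100 := by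
  intro i hi
  exact blt_lt (allB_true h i hi)

theorem gP_valid (g : ℕ) : ∀ i < 100, ent (gP g) i < 100 := by
  unfold gP
  cases h : Nat.beq g 0
  · exact validOK_spec valid_d
  · exact validOK_spec valid_c

theorem TT_canon (i : ℕ) (hi : i < nE) : Canon 100 (TT i) := by
  rcases Nat.eq_zero_or_pos i with h0 | h0
  · rw [h0, TT_zero]; exact canon_pid 100 (by norm_num)
  · rw [(treeOK_spec h0 hi).2]
    exact canon_pmul 100 _ _ (gP_valid _) (by norm_num)

/-! ### The point stabilizer -/

/-- The two generators of the point stabilizer. -/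
def hgen (s : ℕ) : A := cond (Nat.beq s 0) (E idx_h1) (E idx_h2)

theorem hgen_val (s : ℕ) : val (hgen s) = d100 (hP s) := by
  unfold hgen hP
  cases h : Nat.beq s 0
  · exact E_val idx_h2 (by decide)
  · exact E_val idx_h1 (by decide)

theorem hP_valid (s : ℕ) : ∀ i < 100, ent (hP s) i < 100 := by
  unfold hP
  cases h : Nat.beq s 0
  · exact (TT_canon idx_h2 (by decide)).2
  · exact (TT_canon idx_h1 (by decide)).2

/-- The generating set of the point stabilizer. -/
def SH : Set A := {E idx_h1, E idx_h2}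

theorem hgen_mem (s : ℕ) : hgen s ∈ Subgroup.closure SH := by
  unfold hgen SH
  cases h : Nat.beq s 0
  · exact Subgroup.subset_closure (by simp)
  · exact Subgroup.subset_closure (by simp)

theorem mem_SH {g : A} (hg : g ∈ SH) : ∃ s < 2, g = hgen s := by
  rcases hg with rfl | rfl
  · exact ⟨0, by norm_num, rfl⟩
  · exact ⟨1, by norm_num, rfl⟩

/-- The elements of the point stabilizer. -/
def U : ℕ → A
  | k => if _h : 0 < k ∧ UPAR k < k then hgen (ULAB k) * U (UPAR k) else 1
termination_by k => k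
decreasing_by exact _h.2

theorem U_zero : U 0 = 1 := by
  rw [U]; simp

theorem U_step (k : ℕ) (h1 : 0 < k) (h2 : UPAR k < k) : U k = hgen (ULAB k) * U (UPAR k) := by
  rw [U]; simp [h1, h2]

theorem U_mem (k : ℕ) : U k ∈ Subgroup.closure SH := by
  induction k using Nat.strong_induction_on with
  | _ k ih =>
    by_cases h : 0 < k ∧ UPAR k < k
    · rw [U_step k h.1 h.2]
      exact Subgroup.mul_mem _ (hgen_mem _) (ih _ h.2)
    · rw [U]; simp only [h, dite_false]; exact Subgroup.one_mem _

theorem utreeOK_spec {k : ℕ} (h1 : 1 ≤ k) (h2 : k < nH) :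
    UPAR k < k ∧ UU k = pmul 100 (hP (ULAB k)) (UU (UPAR k)) := by
  have h := utree_all k h1 h2
  unfold utreeOK at h
  rw [Bool.and_eq_true, pmF_eq] at h
  exact ⟨blt_lt h.1, Nat.eq_of_beq_eq_true h.2⟩

theorem U_val (k : ℕ) (hk : k < nH) : val (U k) = d100 (UU k) := by
  induction k using Nat.strong_induction_on with
  | _ k ih =>
    rcases Nat.eq_zero_or_pos k with h0 | h0
    · rw [h0, U_zero, UU_zero, d_one, map_one]
    · obtain ⟨hp, heq⟩ := utreeOK_spec h0 hk
      rw [U_step k h0 hp, map_mul, hgen_val, ih _ hp (lt_trans hp hk), heq, d_mul]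

theorem UU_canon (k : ℕ) (hk : k < nH) : Canon 100 (UU k) := by
  rcases Nat.eq_zero_or_pos k with h0 | h0
  · rw [h0, UU_zero]; exact canon_pid 100 (by norm_num)
  · rw [(utreeOK_spec h0 hk).2]
    exact canon_pmul 100 _ _ (hP_valid _) (by norm_num)

theorem uschOK_spec (s : ℕ) (hs : s < 2) {k : ℕ} (hk : k < nH) :
    utau s k < nH ∧ pmul 100 (hP s) (UU k) = UU (utau s k) := by
  have h : uschOK s k = true := by
    interval_cases s
    · exact usch0_all k hk
    · exact usch1_all k hk
  unfold uschOK at h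
  rw [Bool.and_eq_true, pmF_eq] at h
  exact ⟨blt_lt h.1, Nat.eq_of_beq_eq_true h.2⟩

theorem UPI_spec (k : ℕ) (hk : k < nH) : UPI k < nH ∧ UPINV (UPI k) = k := by
  have h := allB_true ukey_all' k hk
  unfold ukeyOK at h
  rw [Bool.and_eq_true] at h
  exact ⟨blt_lt h.1, Nat.eq_of_beq_eq_true h.2⟩

theorem usorted_step (m : ℕ) (hm : m + 1 < nH) : UU (UPINV m) < UU (UPINV (m + 1)) := by
  have h := allB_true usort_all' m (by have : m + 1 < 6048 := hm; omega)
  exact blt_lt h

theorem usorted_lt {m m' : ℕ} (h : m < m') (hm' : m' < nH) :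
    UU (UPINV m) < UU (UPINV m') := by
  induction m' with
  | zero => exact absurd h (Nat.not_lt_zero m)
  | succ k ih =>
    rcases Nat.lt_succ_iff_lt_or_eq.1 h with h1 | h1
    · exact lt_trans (ih h1 (by omega)) (usorted_step k hm')
    · rw [h1]; exact usorted_step k hm'

theorem UU_inj {i j : ℕ} (hi : i < nH) (hj : j < nH) (h : UU i = UU j) : i = j := by
  obtain ⟨hi1, hi2⟩ := UPI_spec i hi
  obtain ⟨hj1, hj2⟩ := UPI_spec j hj
  have hk : UU (UPINV (UPI i)) = UU (UPINV (UPI j)) := by rw [hi2, hj2, h]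
  have : UPI i = UPI j := by
    rcases Nat.lt_trichotomy (UPI i) (UPI j) with h1 | h1 | h1
    · exact absurd hk (ne_of_lt (usorted_lt h1 hj1))
    · exact h1
    · exact absurd hk.symm (ne_of_lt (usorted_lt h1 hi1))
  rw [← hi2, ← hj2, this]

theorem U_inj : ∀ i < nH, ∀ j < nH, U i = U j → i = j := by
  intro i hi j hj h
  apply UU_inj hi hj
  apply dec_inj (UU_canon i hi) (UU_canon j hj)
  show d100 (UU i) = d100 (UU j)
  rw [← U_val i hi, ← U_val j hj, h]

theorem U_step_gen (s : ℕ) (hs : s < 2) {k : ℕ} (hk : k < nH) :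
    utau s k < nH ∧ hgen s * U k = U (utau s k) := by
  obtain ⟨h1, h2⟩ := uschOK_spec s hs hk
  refine ⟨h1, val_inj ?_⟩
  rw [map_mul, hgen_val, U_val k hk, U_val _ h1, ← d_mul, h2]

/-- The point stabilizer has order 6048 and consists of the `U k`. -/
theorem level2 : (∀ k ∈ Subgroup.closure SH, ∃ i < nH, k = U i) ∧
    Nat.card (Subgroup.closure SH) = nH := by
  apply schreier_list SH nH U (by decide) U_zero (fun i _ => U_mem i) U_inj
  intro g hg i hi
  obtain ⟨s, hs, rfl⟩ := mem_SH hg
  exact ⟨utau s i, (U_step_gen s hs hi).1, (U_step_gen s hs hi).2⟩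

theorem H_le : Subgroup.closure SH ≤ Subgroup.closure SG := by
  rw [Subgroup.closure_le]
  intro g hg
  rcases hg with rfl | rfl
  · exact E_mem _
  · exact E_mem _

/-- The stabilizer elements fix the point `0`. -/
theorem U_fix (k : ℕ) (hk : k < nH) : U k 0 = 0 := by
  have h := allB_true ufix_all' k hk
  unfold ufixOK at h
  have h' : ent (UU k) 0 = 0 := Nat.eq_of_beq_eq_true h
  apply Fin.ext
  have e : (val (U k) 0).val = ent (UU k) 0 % 100 := by rw [U_val k hk]; rfl
  rw [val_apply] at e
  rw [e, h']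
  rfl

/-- The transversal element `i` maps `0` to `i`. -/
theorem E_base (i : ℕ) (hi : i < nPts) : (E i 0).val = i := by
  have h := allB_true base_all' i hi
  unfold baseOK at h
  have h' : ent (TT i) 0 = i := Nat.eq_of_beq_eq_true h
  have e : (val (E i) 0).val = ent (TT i) 0 % 100 := by
    rw [E_val i (lt_trans hi (by decide))]; rfl
  rw [val_apply] at e
  rw [e, h']
  exact Nat.mod_eq_of_lt hi

theorem E_inj : ∀ i < nPts, ∀ j < nPts, (E j)⁻¹ * E i ∈ Subgroup.closure SH → i = j := by
  intro i hi j hj h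
  obtain ⟨k, hk, hk2⟩ := level2.1 _ h
  have hE : E i = E j * U k := by rw [← hk2, mul_inv_cancel_left]
  have h0 : E i 0 = E j 0 := by
    rw [hE, Equiv.Perm.mul_apply, U_fix k hk]
  have := congrArg Fin.val h0
  rw [E_base i hi, E_base j hj] at this
  exact this

theorem schOK_spec (g : ℕ) (hg : g < 2) {i : ℕ} (hi : i < nPts) :
    tau g i < nPts ∧ sig g i < nH ∧ gen g * E i = E (tau g i) * U (sig g i) := by
  have h : schOK g i = true := by
    interval_cases g
    · exact allB_true sch0_all' i hi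
    · exact allB_true sch1_all' i hi
  unfold schOK at h
  rw [Bool.and_eq_true, Bool.and_eq_true, pmF_eq, pmF_eq] at h
  obtain ⟨⟨h1, h2⟩, h3⟩ := h
  have h1 := blt_lt h1
  have h2 := blt_lt h2
  refine ⟨h1, h2, val_inj ?_⟩
  rw [map_mul, map_mul, gen_val, E_val i (lt_trans hi (by decide)),
    E_val _ (lt_trans h1 (by decide)), U_val _ h2, ← d_mul, ← d_mul,
    Nat.eq_of_beq_eq_true h3]

/-- The coset decomposition and the order of `⟨c, d⟩`. -/
theorem level1 : (∀ k ∈ Subgroup.closure SG, ∃ i < nPts, ∃ h ∈ Subgroup.closure SH,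
      k = E i * h) ∧
    Nat.card (Subgroup.closure SG) = nPts * Nat.card (Subgroup.closure SH) := by
  apply schreier_card SG (Subgroup.closure SH) nPts E (by decide) E_zero
    (fun i _ => E_mem i) E_inj H_le
  intro g hg i hi
  obtain ⟨s, hs, rfl⟩ := mem_SG hg
  obtain ⟨h1, h2, h3⟩ := schOK_spec s hs hi
  refine ⟨tau s i, h1, ?_⟩
  rw [mul_assoc, h3, ← mul_assoc, inv_mul_cancel, one_mul]
  exact U_mem _

/-- The group. -/
def G : Subgroup A := Subgroup.closure SG

theorem card_G : Nat.card G = 604800 := by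
  show Nat.card (Subgroup.closure SG) = 604800
  rw [level1.2, level2.2]; rfl

end Cfsg.Agent.Helper26.J2G
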