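import Mathlib
import Cfsg.Agent.Lib.Helper26.Schreier
import Cfsg.Agent.Lib.Helper26.PermPack
import Cfsg.Agent.Lib.Helper26.J2Data

/-!
# Boolean checks on the data for the Hall-Janko group on 100 points
-/

set_option autoImplicit false

namespace Cfsg.Agent.Helper26.J2C

open Cfsg.Agent.Helper26 Cfsg.Agent.Helper26.PP Cfsg.Agent.Helper26.J2D

/-- Forced product of packed permutations of 100 points. -/
def pmF (P Q : ℕ) : ℕ := seqN P fun P => seqN Q fun Q => pmul 100 P Q

theorem pmF_eq (P Q : ℕ) : pmF P Q = pmul 100 P Q := by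
  simp only [pmF, seqN_eq]

/-- Packed generator. -/
def gP (g : ℕ) : ℕ := cond (Nat.beq g 0) cP dP

/-- The image of the point `i` under the generator `g`. -/
def tau (g i : ℕ) : ℕ := ent (gP g) i

/-- `SIG`. -/
def sig (g i : ℕ) : ℕ := cond (Nat.beq g 0) (SIG0 i) (SIG1 i)

/-- All entries are points. -/
def validOK (P : ℕ) : Bool := allB 100 fun i => Nat.blt (ent P i) 100

/-- The tree check at index `i`. -/
def treeOK (i : ℕ) : Bool :=
  Nat.blt (PAR i) i && Nat.beq (TT i) (pmF (gP (LAB i)) (TT (PAR i)))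

/-- The transversal element `i` maps `0` to `i`. -/
def baseOK (i : ℕ) : Bool := Nat.beq (ent (TT i) 0) i

/-- The Schreier check. -/
def schOK (g i : ℕ) : Bool :=
  Nat.blt (tau g i) nPts && Nat.blt (sig g i) nH &&
    Nat.beq (pmF (gP g) (TT i)) (pmF (TT (tau g i)) (UU (sig g i)))

/-- Packed generators of the stabilizer. -/
def hP (s : ℕ) : ℕ := cond (Nat.beq s 0) (TT idx_h1) (TT idx_h2)

/-- `UTAU`. -/
def utau (s k : ℕ) : ℕ := cond (Nat.beq s 0) (UTAU0 k) (UTAU1 k)

/-- The tree check in the stabilizer. -/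
def utreeOK (k : ℕ) : Bool :=
  Nat.blt (UPAR k) k && Nat.beq (UU k) (pmF (hP (ULAB k)) (UU (UPAR k)))

/-- Closure check in the stabilizer. -/
def uschOK (s k : ℕ) : Bool :=
  Nat.blt (utau s k) nH && Nat.beq (pmF (hP s) (UU k)) (UU (utau s k))

/-- Key check in the stabilizer. -/
def ukeyOK (k : ℕ) : Bool := Nat.blt (UPI k) nH && Nat.beq (UPINV (UPI k)) k

/-- Sortedness in the stabilizer. -/
def usortOK (m : ℕ) : Bool := Nat.blt (UU (UPINV m)) (UU (UPINV (m + 1)))

/-- The stabilizer elements fix the point `0`. -/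
def ufixOK (k : ℕ) : Bool := Nat.beq (ent (UU k) 0) 0

/-- The base point of the class of `x`. -/
def clsPt (x : ℕ) : ℕ := cond (Nat.beq (CLS x) 1) pt1 pt2

/-- Every point other than `0` is the image of `pt1` or `pt2` under a stabilizer element. -/
def orbOK (x : ℕ) : Bool :=
  Nat.blt (KX x) nH && Nat.beq (ent (UU (KX x)) (clsPt x)) x &&
    (Nat.beq (CLS x) 1 || Nat.beq (CLS x) 2)

/-- The number of points in class 1. -/
def cnt1 : ℕ := Nat.rec 0 (fun x acc => cond (Nat.beq (CLS x) 1) (acc + 1) acc) 100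

end Cfsg.Agent.Helper26.J2C
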