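import Mathlib
import Cfsg.Agent.Lib.Helper26.J2Core

/-!
# The Hall-Janko group on 100 points is primitive and simple
-/

set_option autoImplicit false

namespace Cfsg.Agent.Helper26.J2G

open MulAction
open scoped Pointwise
open Cfsg.Agent.Helper26 Cfsg.Agent.Helper26.PP Cfsg.Agent.Helper26.J2D
  Cfsg.Agent.Helper26.J2C Cfsg.Agent.Helper26.J2K

theorem c_mem : cE ∈ G := Subgroup.subset_closure (by simp [SG])
theorem d_mem : dE ∈ G := Subgroup.subset_closure (by simp [SG])

/-- `c` in `G`. -/
def cG : G := ⟨cE, c_mem⟩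
/-- `d` in `G`. -/
def dG : G := ⟨dE, d_mem⟩

theorem closure_cd : Subgroup.closure ({cG, dG} : Set G) = ⊤ := by
  rw [eq_top_iff]
  intro g _
  let K : Subgroup A := (Subgroup.closure ({cG, dG} : Set G)).map G.subtype
  have haK : cE ∈ K := ⟨cG, Subgroup.subset_closure (by simp), rfl⟩
  have hbK : dE ∈ K := ⟨dG, Subgroup.subset_closure (by simp), rfl⟩
  have hle : G ≤ K := by
    unfold G
    rw [Subgroup.closure_le]
    intro y hy
    rcases hy with rfl | rfl
    · exact haK
    · exact hbK
  obtain ⟨k, hk, hkg⟩ := hle g.2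
  have : k = g := Subtype.ext hkg
  rw [← this]; exact hk

theorem c_pow : cE ^ 5 = 1 := by
  apply val_inj
  rw [map_pow, val_c, map_one, ← d_one, ← pow_c, d_mul, d_mul, d_mul, d_mul]
  simp only [pow_succ, pow_zero, one_mul]

theorem d_pow : dE ^ 5 = 1 := by
  apply val_inj
  rw [map_pow, val_d, map_one, ← d_one, ← pow_d, d_mul, d_mul, d_mul, d_mul]
  simp only [pow_succ, pow_zero, one_mul]

theorem cG_pow : cG ^ 5 = 1 := Subtype.ext c_pow
theorem dG_pow : dG ^ 5 = 1 := Subtype.ext d_pow

theorem smul_G (g : G) (x : Fin 100) : g • x = (g : A) x := rfl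

theorem E_base' (x : Fin 100) : E x.val 0 = x := Fin.ext (E_base x.val x.isLt)

instance pretransitive_G : IsPretransitive G (Fin 100) := by
  refine ⟨fun x y => ⟨⟨E y.val * (E x.val)⁻¹,
    Subgroup.mul_mem _ (E_mem _) (Subgroup.inv_mem _ (E_mem _))⟩, ?_⟩⟩
  rw [smul_G]
  show (E y.val * (E x.val)⁻¹) x = y
  rw [Equiv.Perm.mul_apply]
  have h : (E x.val)⁻¹ x = 0 := by
    rw [Equiv.Perm.inv_def, Equiv.symm_apply_eq, E_base']
  rw [h, E_base']

/-- The stabilizer elements as elements of `G`. -/
def UG (k : ℕ) : G := ⟨U k, H_le (U_mem k)⟩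

theorem CLS_zero : CLS 0 = 0 := by decide +kernel

theorem orbOK_spec (x : Fin 100) (hx : x ≠ 0) :
    KX x.val < nH ∧ ent (UU (KX x.val)) (clsPt x.val) = x.val ∧
      (CLS x.val = 1 ∨ CLS x.val = 2) := by
  have h1 : 1 ≤ x.val := by
    rcases Nat.eq_zero_or_pos x.val with h | h
    · exact absurd (Fin.ext h) hx
    · exact h
  have h := allR_true orb_all' x.val h1 (by have := x.isLt; omega)
  unfold orbOK at h
  rw [Bool.and_eq_true, Bool.and_eq_true, Bool.or_eq_true] at h
  obtain ⟨⟨h1, h2⟩, h3⟩ := h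
  refine ⟨blt_lt h1, Nat.eq_of_beq_eq_true h2, ?_⟩
  rcases h3 with h3 | h3
  · left; exact Nat.eq_of_beq_eq_true h3
  · right; exact Nat.eq_of_beq_eq_true h3

theorem clsPt_lt (x : ℕ) : clsPt x < 100 := by
  unfold clsPt
  cases Nat.beq (CLS x) 1 <;> decide

theorem clsPt_congr {x y : ℕ} (h : CLS x = CLS y) : clsPt x = clsPt y := by
  unfold clsPt; rw [h]

/-- Every point other than `0` is the image of its class point under a stabilizer element. -/
theorem U_orb (x : Fin 100) (hx : x ≠ 0) :
    U (KX x.val) ⟨clsPt x.val, clsPt_lt _⟩ = x := by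
  obtain ⟨h1, h2, _⟩ := orbOK_spec x hx
  apply Fin.ext
  have e : (val (U (KX x.val)) ⟨clsPt x.val, clsPt_lt _⟩).val =
      ent (UU (KX x.val)) (clsPt x.val) % 100 := by
    rw [U_val _ h1]; rfl
  rw [val_apply] at e
  rw [e, h2]
  exact Nat.mod_eq_of_lt x.isLt

theorem card_cls1 :
    (Finset.univ.filter (fun x : Fin 100 => x = 0 ∨ CLS x.val = 1)).card = 64 := by
  decide +kernel

theorem card_cls2 :
    (Finset.univ.filter (fun x : Fin 100 => x = 0 ∨ CLS x.val = 2)).card = 37 := by
  decide +kernel

section Blocks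

variable {B : Set (Fin 100)} (h0 : (0 : Fin 100) ∈ B) (hB : IsBlock G B)

include h0 hB

theorem UG_smul (k : ℕ) (hk : k < nH) : UG k • B = B := by
  apply hB.smul_eq_of_mem h0
  rw [smul_G]
  show U k 0 ∈ B
  rw [U_fix k hk]
  exact h0

theorem U_mem_B (k : ℕ) (hk : k < nH) {x : Fin 100} (hx : x ∈ B) : U k x ∈ B := by
  have h := UG_smul h0 hB k hk
  rw [← h]
  exact ⟨x, hx, rfl⟩

theorem U_inv_mem_B (k : ℕ) (hk : k < nH) {x : Fin 100} (hx : U k x ∈ B) : x ∈ B := by
  have h := UG_smul h0 hB k hk
  rw [← h] at hx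
  obtain ⟨y, hy, hyx⟩ := hx
  have : y = x := (U k).injective hyx
  rw [← this]; exact hy

/-- A block containing `0` and a point of some class contains the whole class. -/
theorem class_mem {x y : Fin 100} (hx : x ∈ B) (hx0 : x ≠ 0) (hy0 : y ≠ 0)
    (hc : CLS x.val = CLS y.val) : y ∈ B := by
  have hp : (⟨clsPt x.val, clsPt_lt _⟩ : Fin 100) ∈ B := by
    apply U_inv_mem_B h0 hB (KX x.val) (orbOK_spec x hx0).1
    rw [U_orb x hx0]
    exact hx
  have e : (⟨clsPt x.val, clsPt_lt _⟩ : Fin 100) = ⟨clsPt y.val, clsPt_lt _⟩ :=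
    Fin.ext (clsPt_congr hc)
  rw [e] at hp
  have := U_mem_B h0 hB (KX y.val) (orbOK_spec y hy0).1 hp
  rw [U_orb y hy0] at this
  exact this

theorem block_trivial : IsTrivialBlock B := by
  classical
  have hdvd : B.ncard ∣ 100 := by
    have := hB.ncard_dvd_card ⟨0, h0⟩
    rwa [Nat.card_eq_fintype_card, Fintype.card_fin] at this
  by_cases c1 : ∃ x ∈ B, x ≠ 0 ∧ CLS x.val = 1
  · by_cases c2 : ∃ x ∈ B, x ≠ 0 ∧ CLS x.val = 2
    · right
      obtain ⟨x1, hx1, hx10, hc1⟩ := c1
      obtain ⟨x2, hx2, hx20, hc2⟩ := c2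
      rw [Set.eq_univ_iff_forall]
      intro y
      by_cases hy : y = 0
      · rw [hy]; exact h0
      · rcases (orbOK_spec y hy).2.2 with h | h
        · exact class_mem h0 hB hx1 hx10 hy (by rw [hc1, h])
        · exact class_mem h0 hB hx2 hx20 hy (by rw [hc2, h])
    · exfalso
      obtain ⟨x1, hx1, hx10, hc1⟩ := c1
      have hBeq : B = ↑(Finset.univ.filter (fun x : Fin 100 => x = 0 ∨ CLS x.val = 1)) := by
        ext y
        simp only [Finset.coe_filter, Finset.mem_univ, true_and, Set.mem_ofPred_eq]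
        constructor
        · intro hy
          by_cases hy0 : y = 0
          · left; exact hy0
          · rcases (orbOK_spec y hy0).2.2 with h | h
            · right; exact h
            · exact absurd ⟨y, hy, hy0, h⟩ c2
        · rintro (hy | hy)
          · rw [hy]; exact h0
          · have hy0 : y ≠ 0 := by
              intro h; rw [h] at hy
              have := CLS_zero
              rw [show ((0 : Fin 100) : ℕ) = 0 from rfl] at hy
              omega
            exact class_mem h0 hB hx1 hx10 hy0 (by rw [hc1, hy])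
      rw [hBeq, Set.ncard_coe_finset, card_cls1] at hdvd
      omega
  · by_cases c2 : ∃ x ∈ B, x ≠ 0 ∧ CLS x.val = 2
    · exfalso
      obtain ⟨x2, hx2, hx20, hc2⟩ := c2
      have hBeq : B = ↑(Finset.univ.filter (fun x : Fin 100 => x = 0 ∨ CLS x.val = 2)) := by
        ext y
        simp only [Finset.coe_filter, Finset.mem_univ, true_and, Set.mem_ofPred_eq]
        constructor
        · intro hy
          by_cases hy0 : y = 0
          · left; exact hy0
          · rcases (orbOK_spec y hy0).2.2 with h | h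
            · exact absurd ⟨y, hy, hy0, h⟩ c1
            · right; exact h
        · rintro (hy | hy)
          · rw [hy]; exact h0
          · have hy0 : y ≠ 0 := by
              intro h; rw [h] at hy
              have := CLS_zero
              rw [show ((0 : Fin 100) : ℕ) = 0 from rfl] at hy
              omega
            exact class_mem h0 hB hx2 hx20 hy0 (by rw [hc2, hy])
      rw [hBeq, Set.ncard_coe_finset, card_cls2] at hdvd
      omega
    · left
      intro x hx y hy
      have hx0 : x = 0 := by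
        by_contra hx0
        rcases (orbOK_spec x hx0).2.2 with h | h
        · exact c1 ⟨x, hx, hx0, h⟩
        · exact c2 ⟨x, hx, hx0, h⟩
      have hy0 : y = 0 := by
        by_contra hy0
        rcases (orbOK_spec y hy0).2.2 with h | h
        · exact c1 ⟨y, hy, hy0, h⟩
        · exact c2 ⟨y, hy, hy0, h⟩
      rw [hx0, hy0]

end Blocks

instance preprimitive_G : IsPreprimitive G (Fin 100) :=
  IsPreprimitive.of_isTrivialBlock_base 0 (fun h0 hB => block_trivial h0 hB)

/-- The group is simple. -/
theorem simple_G : IsSimpleGroup G := by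
  have hnt : Nontrivial G := by
    have : 1 < Nat.card G := by rw [card_G]; norm_num
    have hfin : Finite G := Nat.finite_of_card_ne_zero (by rw [card_G]; norm_num)
    exact Finite.one_lt_card_iff_nontrivial.mp this
  refine { eq_bot_or_eq_top_of_normal := fun N hN => ?_ }
  by_cases hbot : N = ⊥
  · left; exact hbot
  right
  -- `N` acts transitively
  have hfix : fixedPoints N (Fin 100) ≠ Set.univ := by
    intro h
    apply hbot
    rw [Subgroup.eq_bot_iff_forall]
    intro n hn
    apply Subtype.ext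
    apply Equiv.ext
    intro x
    have hx : x ∈ fixedPoints N (Fin 100) := by rw [h]; trivial
    exact hx ⟨n, hn⟩
  have htr : IsPretransitive N (Fin 100) :=
    IsQuasiPreprimitive.isPretransitive_of_normal hfix
  have hidx : (stabilizer N (0 : Fin 100)).index = 100 := by
    rw [index_stabilizer_of_transitive, Nat.card_eq_fintype_card, Fintype.card_fin]
  have hdvd : 100 ∣ Nat.card N := by
    have h := Subgroup.index_dvd_card (stabilizer N (0 : Fin 100))
    rw [hidx] at h
    exact h
  have hcard : Nat.card (G ⧸ N) * Nat.card N = 604800 := by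
    rw [← card_G]
    exact (Subgroup.card_eq_card_quotient_mul_card_subgroup N).symm
  have hq : Nat.Coprime 5 (Nat.card (G ⧸ N)) := by
    obtain ⟨m, hm⟩ := hdvd
    rw [hm] at hcard
    have h6048 : Nat.card (G ⧸ N) * m = 6048 := by
      have : Nat.card (G ⧸ N) * m * 100 = 6048 * 100 := by
        have e : (6048 * 100 : ℕ) = 604800 := by norm_num
        rw [e, ← hcard]; ring
      exact Nat.eq_of_mul_eq_mul_right (by norm_num) this
    have hd : Nat.card (G ⧸ N) ∣ 6048 := Dvd.intro _ h6048
    exact Nat.Coprime.coprime_dvd_right hd (by norm_num)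
  have hfinq : Finite (G ⧸ N) :=
    Nat.finite_of_card_ne_zero (by intro h; rw [h] at hcard; omega)
  have key : ∀ x : G, x ^ 5 = 1 → x ∈ N := by
    intro x hx
    have h1 : (QuotientGroup.mk' N x) ^ 5 = 1 := by rw [← map_pow, hx, map_one]
    have h2 : orderOf (QuotientGroup.mk' N x) ∣ 5 := orderOf_dvd_of_pow_eq_one h1
    have h3 : orderOf (QuotientGroup.mk' N x) ∣ Nat.card (G ⧸ N) := orderOf_dvd_natCard _
    have h4 : orderOf (QuotientGroup.mk' N x) = 1 :=
      Nat.eq_one_of_dvd_coprimes hq h2 h3
    rw [orderOf_eq_one_iff] at h4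
    exact (QuotientGroup.eq_one_iff x).mp h4
  rw [eq_top_iff, ← closure_cd, Subgroup.closure_le]
  intro g hg
  rcases hg with rfl | rfl
  · exact key _ cG_pow
  · exact key _ dG_pow

end Cfsg.Agent.Helper26.J2G
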