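import Cfsg.Agent.Lib.Helper26.J3Defs2
import Cfsg.Agent.Lib.Helper26.F4Mat2
import Cfsg.Agent.Lib.Helper26.J3DataG

/-! Kernel-evaluated checks: the 43 defining generators of `3.J₃` lie in the group generated by
the two chosen ones, and conversely. -/

set_option autoImplicit false

namespace Cfsg.Agent.Helper26.J3K

open Cfsg.Agent.Helper26 Cfsg.Agent.Helper26.F4M Cfsg.Agent.Helper26.J3D Cfsg.Agent.Helper26.J3C

/-- A packed generator is a product of a transversal element and a stabilizer element. -/
def genOK (P I K : ℕ → ℕ) (z : ℕ) : Bool :=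
  Nat.beq (P z) (mmP (TT (I z)) (UU (K z))) && Nat.blt (I z) nPts && Nat.blt (K z) nH

theorem genA_all : allB 9 (genOK GPA GIA GKA) = true := by decide +kernel
theorem genE_all : allB 9 (genOK GPE GIE GKE) = true := by decide +kernel
theorem genD_all : allB 9 (genOK GPD GID GKD) = true := by decide +kernel
theorem genB_all : allR 1 8 (genOK GPB GIB GKB) = true := by decide +kernel
theorem genC_all : allR 1 8 (genOK GPC GIC GKC) = true := by decide +kernel

theorem gE0 : GPE 0 = gP0 := by decide +kernel
theorem gCD : mmP (GPC 1) (GPD 4) = gP1 := by decide +kernel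
theorem powC : powP (GPC 1) 2 = idP := by decide +kernel
theorem powD : powP (GPD 4) 9 = idP := by decide +kernel

end Cfsg.Agent.Helper26.J3K
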