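import Cfsg.Agent.Lib.Helper26.J3DefsI

/-! Kernel-evaluated checks for the orbit of `3.J₃` on isotropic lines (generated). -/

set_option autoImplicit false

namespace Cfsg.Agent.Helper26.J3K

open Cfsg.Agent.Helper26 Cfsg.Agent.Helper26.F4M Cfsg.Agent.Helper26.J3D Cfsg.Agent.Helper26.J3C

theorem chk_3_0 : chk 7 (0 ^^^ (3 <<< (18 * 8))) (0 + (3 <<< (2 * 8))) (!false) = true := by decide +kernel
theorem chk_3_1 : chk 7 ((0 ^^^ (3 <<< (18 * 8))) ^^^ (1 <<< (18 * 7))) ((0 + (3 <<< (2 * 8))) + (1 <<< (2 * 7))) (!(!false)) = true := by decide +kernel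
theorem chk_3_2 : chk 7 ((0 ^^^ (3 <<< (18 * 8))) ^^^ (2 <<< (18 * 7))) ((0 + (3 <<< (2 * 8))) + (2 <<< (2 * 7))) (!(!false)) = true := by decide +kernel
theorem chk_3_3 : chk 7 ((0 ^^^ (3 <<< (18 * 8))) ^^^ (3 <<< (18 * 7))) ((0 + (3 <<< (2 * 8))) + (3 <<< (2 * 7))) (!(!false)) = true := by decide +kernel

end Cfsg.Agent.Helper26.J3K
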