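import Cfsg.Agent.Lib.Helper26.J3ChkIT0
import Cfsg.Agent.Lib.Helper26.J3ChkIC0
import Cfsg.Agent.Lib.Helper26.J3ChkIT1
import Cfsg.Agent.Lib.Helper26.J3ChkIC1
import Cfsg.Agent.Lib.Helper26.J3ChkIT2
import Cfsg.Agent.Lib.Helper26.J3ChkIC2
import Cfsg.Agent.Lib.Helper26.J3ChkIT3
import Cfsg.Agent.Lib.Helper26.J3ChkIC3

/-! Summary of the kernel-evaluated checks for the orbit on isotropic lines (generated). -/

set_option autoImplicit false

namespace Cfsg.Agent.Helper26.J3K

open Cfsg.Agent.Helper26 Cfsg.Agent.Helper26.F4M Cfsg.Agent.Helper26.J3D Cfsg.Agent.Helper26.J3C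

theorem xtree_all : ∀ i, 1 ≤ i → i < 43605 → xtreeOK i = true := by
  intro i h1 h2
  by_cases h_xtree_0_0 : i < 3701
  · exact allR_true xtree_0_0 i (by omega) (by omega)
  by_cases h_xtree_0_1 : i < 7401
  · exact allR_true xtree_0_1 i (by omega) (by omega)
  by_cases h_xtree_0_2 : i < 11101
  · exact allR_true xtree_0_2 i (by omega) (by omega)
  by_cases h_xtree_1_0 : i < 14801
  · exact allR_true xtree_1_0 i (by omega) (by omega)
  by_cases h_xtree_1_1 : i < 18501
  · exact allR_true xtree_1_1 i (by omega) (by omega)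
  by_cases h_xtree_1_2 : i < 22201
  · exact allR_true xtree_1_2 i (by omega) (by omega)
  by_cases h_xtree_2_0 : i < 25901
  · exact allR_true xtree_2_0 i (by omega) (by omega)
  by_cases h_xtree_2_1 : i < 29601
  · exact allR_true xtree_2_1 i (by omega) (by omega)
  by_cases h_xtree_2_2 : i < 33301
  · exact allR_true xtree_2_2 i (by omega) (by omega)
  by_cases h_xtree_3_0 : i < 37001
  · exact allR_true xtree_3_0 i (by omega) (by omega)
  by_cases h_xtree_3_1 : i < 40701
  · exact allR_true xtree_3_1 i (by omega) (by omega)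
  by_cases h_xtree_3_2 : i < 43605
  · exact allR_true xtree_3_2 i (by omega) (by omega)
  omega

theorem XV_zero : XV 0 = V0P := by decide +kernel

theorem chk_all : chk 9 0 0 false = true := by
  rw [chk_succ, chk_succ 7, chk_succ 7, chk_succ 7, chk_succ 7]
  simp only [chk_0_0, chk_0_1, chk_0_2, chk_0_3, chk_1_0, chk_1_1, chk_1_2, chk_1_3, chk_2_0, chk_2_1, chk_2_2, chk_2_3, chk_3_0, chk_3_1, chk_3_2, chk_3_3, Bool.and_self]

end Cfsg.Agent.Helper26.J3K
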