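import Cfsg.Agent.Lib.Helper26.J3Defs2

/-! Kernel-evaluated checks for the `3.J₃` data (generated). -/

set_option autoImplicit false

namespace Cfsg.Agent.Helper26.J3K

open Cfsg.Agent.Helper26 Cfsg.Agent.Helper26.F4M Cfsg.Agent.Helper26.J3D Cfsg.Agent.Helper26.J3C

theorem key_0_0 : allR 0 1938 keyOK2 = true := by decide +kernel
theorem key_0_1 : allR 1938 1938 keyOK2 = true := by decide +kernel
theorem key_0_2 : allR 3876 1938 keyOK2 = true := by decide +kernel
theorem sort_0_0 : allR 0 1938 sortOK = true := by decide +kernel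
theorem sort_0_1 : allR 1938 1938 sortOK = true := by decide +kernel
theorem sort_0_2 : allR 3876 1938 sortOK = true := by decide +kernel

theorem key_part0 : ∀ i, 0 ≤ i → i < 5814 → keyOK2 i = true := by
  intro i h1 h2
  by_cases h_0 : i < 1938
  · exact allR_true key_0_0 i (by omega) (by omega)
  by_cases h_1 : i < 3876
  · exact allR_true key_0_1 i (by omega) (by omega)
  by_cases h_2 : i < 5814
  · exact allR_true key_0_2 i (by omega) (by omega)
  omega

theorem sort_part0 : ∀ i, 0 ≤ i → i < 5814 → sortOK i = true := by
  intro i h1 h2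
  by_cases h_0 : i < 1938
  · exact allR_true sort_0_0 i (by omega) (by omega)
  by_cases h_1 : i < 3876
  · exact allR_true sort_0_1 i (by omega) (by omega)
  by_cases h_2 : i < 5814
  · exact allR_true sort_0_2 i (by omega) (by omega)
  omega

end Cfsg.Agent.Helper26.J3K
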