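import Cfsg.Agent.Lib.Helper26.J3Defs2

/-! Kernel-evaluated checks for the `3.J₃` data (generated). -/

set_option autoImplicit false

namespace Cfsg.Agent.Helper26.J3K

open Cfsg.Agent.Helper26 Cfsg.Agent.Helper26.F4M Cfsg.Agent.Helper26.J3D Cfsg.Agent.Helper26.J3C

theorem key_1_0 : allR 5814 1938 keyOK2 = true := by decide +kernel
theorem key_1_1 : allR 7752 1938 keyOK2 = true := by decide +kernel
theorem key_1_2 : allR 9690 1938 keyOK2 = true := by decide +kernel
theorem sort_1_0 : allR 5814 1938 sortOK = true := by decide +kernel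
theorem sort_1_1 : allR 7752 1938 sortOK = true := by decide +kernel
theorem sort_1_2 : allR 9690 1938 sortOK = true := by decide +kernel

theorem key_part1 : ∀ i, 5814 ≤ i → i < 11628 → keyOK2 i = true := by
  intro i h1 h2
  by_cases h_0 : i < 7752
  · exact allR_true key_1_0 i (by omega) (by omega)
  by_cases h_1 : i < 9690
  · exact allR_true key_1_1 i (by omega) (by omega)
  by_cases h_2 : i < 11628
  · exact allR_true key_1_2 i (by omega) (by omega)
  omega

theorem sort_part1 : ∀ i, 5814 ≤ i → i < 11628 → sortOK i = true := by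
  intro i h1 h2
  by_cases h_0 : i < 7752
  · exact allR_true sort_1_0 i (by omega) (by omega)
  by_cases h_1 : i < 9690
  · exact allR_true sort_1_1 i (by omega) (by omega)
  by_cases h_2 : i < 11628
  · exact allR_true sort_1_2 i (by omega) (by omega)
  omega

end Cfsg.Agent.Helper26.J3K
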