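import Cfsg.Agent.Lib.Helper26.J3Defs2

/-! Kernel-evaluated checks for the `3.J₃` data (generated). -/

set_option autoImplicit false

namespace Cfsg.Agent.Helper26.J3K

open Cfsg.Agent.Helper26 Cfsg.Agent.Helper26.F4M Cfsg.Agent.Helper26.J3D Cfsg.Agent.Helper26.J3C

theorem key_2_0 : allR 11628 1938 keyOK2 = true := by decide +kernel
theorem key_2_1 : allR 13566 1938 keyOK2 = true := by decide +kernel
theorem key_2_2 : allR 15504 1938 keyOK2 = true := by decide +kernel
theorem sort_2_0 : allR 11628 1938 sortOK = true := by decide +kernel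
theorem sort_2_1 : allR 13566 1938 sortOK = true := by decide +kernel
theorem sort_2_2 : allR 15504 1938 sortOK = true := by decide +kernel

theorem key_part2 : ∀ i, 11628 ≤ i → i < 17442 → keyOK2 i = true := by
  intro i h1 h2
  by_cases h_0 : i < 13566
  · exact allR_true key_2_0 i (by omega) (by omega)
  by_cases h_1 : i < 15504
  · exact allR_true key_2_1 i (by omega) (by omega)
  by_cases h_2 : i < 17442
  · exact allR_true key_2_2 i (by omega) (by omega)
  omega

theorem sort_part2 : ∀ i, 11628 ≤ i → i < 17442 → sortOK i = true := by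
  intro i h1 h2
  by_cases h_0 : i < 13566
  · exact allR_true sort_2_0 i (by omega) (by omega)
  by_cases h_1 : i < 15504
  · exact allR_true sort_2_1 i (by omega) (by omega)
  by_cases h_2 : i < 17442
  · exact allR_true sort_2_2 i (by omega) (by omega)
  omega

end Cfsg.Agent.Helper26.J3K
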