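import Cfsg.Agent.Lib.Helper26.J3Defs2

/-! Kernel-evaluated checks for the `3.J₃` data (generated). -/

set_option autoImplicit false

namespace Cfsg.Agent.Helper26.J3K

open Cfsg.Agent.Helper26 Cfsg.Agent.Helper26.F4M Cfsg.Agent.Helper26.J3D Cfsg.Agent.Helper26.J3C

theorem key_3_0 : allR 17442 1938 keyOK2 = true := by decide +kernel
theorem key_3_1 : allR 19380 1938 keyOK2 = true := by decide +kernel
theorem key_3_2 : allR 21318 1938 keyOK2 = true := by decide +kernel
theorem sort_3_0 : allR 17442 1938 sortOK = true := by decide +kernel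
theorem sort_3_1 : allR 19380 1938 sortOK = true := by decide +kernel
theorem sort_3_2 : allR 21318 1937 sortOK = true := by decide +kernel

theorem key_part3 : ∀ i, 17442 ≤ i → i < 23256 → keyOK2 i = true := by
  intro i h1 h2
  by_cases h_0 : i < 19380
  · exact allR_true key_3_0 i (by omega) (by omega)
  by_cases h_1 : i < 21318
  · exact allR_true key_3_1 i (by omega) (by omega)
  by_cases h_2 : i < 23256
  · exact allR_true key_3_2 i (by omega) (by omega)
  omega

theorem sort_part3 : ∀ i, 17442 ≤ i → i < 23255 → sortOK i = true := by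
  intro i h1 h2
  by_cases h_0 : i < 19380
  · exact allR_true sort_3_0 i (by omega) (by omega)
  by_cases h_1 : i < 21318
  · exact allR_true sort_3_1 i (by omega) (by omega)
  by_cases h_2 : i < 23255
  · exact allR_true sort_3_2 i (by omega) (by omega)
  omega

end Cfsg.Agent.Helper26.J3K
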