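import Cfsg.Agent.Lib.Helper26.J3DefsL

/-! Kernel-evaluated checks for the subgroup of order 24480 of `3.J₃` (generated). -/

set_option autoImplicit false

namespace Cfsg.Agent.Helper26.J3K

open Cfsg.Agent.Helper26 Cfsg.Agent.Helper26.F4M Cfsg.Agent.Helper26.J3D Cfsg.Agent.Helper26.J3C

theorem lsort_0_0 : allR 0 4080 lsortOK = true := by decide +kernel
theorem lsort_0_1 : allR 4080 4080 lsortOK = true := by decide +kernel
theorem lsort_0_2 : allR 8160 4080 lsortOK = true := by decide +kernel
theorem lsort_0_3 : allR 12240 4080 lsortOK = true := by decide +kernel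
theorem lsort_0_4 : allR 16320 4080 lsortOK = true := by decide +kernel
theorem lsort_0_5 : allR 20400 4079 lsortOK = true := by decide +kernel

end Cfsg.Agent.Helper26.J3K
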