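import Cfsg.Agent.Lib.Helper26.J3ChkLT0
import Cfsg.Agent.Lib.Helper26.J3ChkLA0
import Cfsg.Agent.Lib.Helper26.J3ChkLB0
import Cfsg.Agent.Lib.Helper26.J3ChkLT1
import Cfsg.Agent.Lib.Helper26.J3ChkLA1
import Cfsg.Agent.Lib.Helper26.J3ChkLB1
import Cfsg.Agent.Lib.Helper26.J3ChkLT2
import Cfsg.Agent.Lib.Helper26.J3ChkLA2
import Cfsg.Agent.Lib.Helper26.J3ChkLB2
import Cfsg.Agent.Lib.Helper26.J3ChkLK0
import Cfsg.Agent.Lib.Helper26.J3ChkLS0

/-! Summary of the kernel-evaluated checks for the subgroup of order 24480 (generated). -/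

set_option autoImplicit false

namespace Cfsg.Agent.Helper26.J3K

open Cfsg.Agent.Helper26 Cfsg.Agent.Helper26.F4M Cfsg.Agent.Helper26.J3D Cfsg.Agent.Helper26.J3C

theorem ltree_all : ∀ i, 1 ≤ i → i < 24480 → ltreeOK i = true := by
  intro i h1 h2
  by_cases h_ltree_0_0 : i < 2041
  · exact allR_true ltree_0_0 i (by omega) (by omega)
  by_cases h_ltree_0_1 : i < 4081
  · exact allR_true ltree_0_1 i (by omega) (by omega)
  by_cases h_ltree_0_2 : i < 6121
  · exact allR_true ltree_0_2 i (by omega) (by omega)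
  by_cases h_ltree_0_3 : i < 8161
  · exact allR_true ltree_0_3 i (by omega) (by omega)
  by_cases h_ltree_1_0 : i < 10201
  · exact allR_true ltree_1_0 i (by omega) (by omega)
  by_cases h_ltree_1_1 : i < 12241
  · exact allR_true ltree_1_1 i (by omega) (by omega)
  by_cases h_ltree_1_2 : i < 14281
  · exact allR_true ltree_1_2 i (by omega) (by omega)
  by_cases h_ltree_1_3 : i < 16321
  · exact allR_true ltree_1_3 i (by omega) (by omega)
  by_cases h_ltree_2_0 : i < 18361
  · exact allR_true ltree_2_0 i (by omega) (by omega)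
  by_cases h_ltree_2_1 : i < 20401
  · exact allR_true ltree_2_1 i (by omega) (by omega)
  by_cases h_ltree_2_2 : i < 22441
  · exact allR_true ltree_2_2 i (by omega) (by omega)
  by_cases h_ltree_2_3 : i < 24480
  · exact allR_true ltree_2_3 i (by omega) (by omega)
  omega

theorem lsch0_all : ∀ i, i < 24480 → lschOK 0 i = true := by
  intro i h2
  by_cases h_lsch0_0_0 : i < 2040
  · exact allR_true lsch0_0_0 i (by omega) (by omega)
  by_cases h_lsch0_0_1 : i < 4080
  · exact allR_true lsch0_0_1 i (by omega) (by omega)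
  by_cases h_lsch0_0_2 : i < 6120
  · exact allR_true lsch0_0_2 i (by omega) (by omega)
  by_cases h_lsch0_0_3 : i < 8160
  · exact allR_true lsch0_0_3 i (by omega) (by omega)
  by_cases h_lsch0_1_0 : i < 10200
  · exact allR_true lsch0_1_0 i (by omega) (by omega)
  by_cases h_lsch0_1_1 : i < 12240
  · exact allR_true lsch0_1_1 i (by omega) (by omega)
  by_cases h_lsch0_1_2 : i < 14280
  · exact allR_true lsch0_1_2 i (by omega) (by omega)
  by_cases h_lsch0_1_3 : i < 16320
  · exact allR_true lsch0_1_3 i (by omega) (by omega)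
  by_cases h_lsch0_2_0 : i < 18360
  · exact allR_true lsch0_2_0 i (by omega) (by omega)
  by_cases h_lsch0_2_1 : i < 20400
  · exact allR_true lsch0_2_1 i (by omega) (by omega)
  by_cases h_lsch0_2_2 : i < 22440
  · exact allR_true lsch0_2_2 i (by omega) (by omega)
  by_cases h_lsch0_2_3 : i < 24480
  · exact allR_true lsch0_2_3 i (by omega) (by omega)
  omega

theorem lsch1_all : ∀ i, i < 24480 → lschOK 1 i = true := by
  intro i h2
  by_cases h_lsch1_0_0 : i < 2040
  · exact allR_true lsch1_0_0 i (by omega) (by omega)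
  by_cases h_lsch1_0_1 : i < 4080
  · exact allR_true lsch1_0_1 i (by omega) (by omega)
  by_cases h_lsch1_0_2 : i < 6120
  · exact allR_true lsch1_0_2 i (by omega) (by omega)
  by_cases h_lsch1_0_3 : i < 8160
  · exact allR_true lsch1_0_3 i (by omega) (by omega)
  by_cases h_lsch1_1_0 : i < 10200
  · exact allR_true lsch1_1_0 i (by omega) (by omega)
  by_cases h_lsch1_1_1 : i < 12240
  · exact allR_true lsch1_1_1 i (by omega) (by omega)
  by_cases h_lsch1_1_2 : i < 14280
  · exact allR_true lsch1_1_2 i (by omega) (by omega)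
  by_cases h_lsch1_1_3 : i < 16320
  · exact allR_true lsch1_1_3 i (by omega) (by omega)
  by_cases h_lsch1_2_0 : i < 18360
  · exact allR_true lsch1_2_0 i (by omega) (by omega)
  by_cases h_lsch1_2_1 : i < 20400
  · exact allR_true lsch1_2_1 i (by omega) (by omega)
  by_cases h_lsch1_2_2 : i < 22440
  · exact allR_true lsch1_2_2 i (by omega) (by omega)
  by_cases h_lsch1_2_3 : i < 24480
  · exact allR_true lsch1_2_3 i (by omega) (by omega)
  omega

theorem lkey_all : ∀ i, i < 24480 → lkeyOK i = true := by
  intro i h2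
  by_cases h_lkey_0_0 : i < 4080
  · exact allR_true lkey_0_0 i (by omega) (by omega)
  by_cases h_lkey_0_1 : i < 8160
  · exact allR_true lkey_0_1 i (by omega) (by omega)
  by_cases h_lkey_0_2 : i < 12240
  · exact allR_true lkey_0_2 i (by omega) (by omega)
  by_cases h_lkey_0_3 : i < 16320
  · exact allR_true lkey_0_3 i (by omega) (by omega)
  by_cases h_lkey_0_4 : i < 20400
  · exact allR_true lkey_0_4 i (by omega) (by omega)
  by_cases h_lkey_0_5 : i < 24480
  · exact allR_true lkey_0_5 i (by omega) (by omega)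
  omega

theorem lsort_all : ∀ i, i < 24479 → lsortOK i = true := by
  intro i h2
  by_cases h_lsort_0_0 : i < 4080
  · exact allR_true lsort_0_0 i (by omega) (by omega)
  by_cases h_lsort_0_1 : i < 8160
  · exact allR_true lsort_0_1 i (by omega) (by omega)
  by_cases h_lsort_0_2 : i < 12240
  · exact allR_true lsort_0_2 i (by omega) (by omega)
  by_cases h_lsort_0_3 : i < 16320
  · exact allR_true lsort_0_3 i (by omega) (by omega)
  by_cases h_lsort_0_4 : i < 20400
  · exact allR_true lsort_0_4 i (by omega) (by omega)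
  by_cases h_lsort_0_5 : i < 24479
  · exact allR_true lsort_0_5 i (by omega) (by omega)
  omega

theorem LL_zero : LL 0 = idP := by decide +kernel
theorem lP0_eq : lP0 = wmul gP1 := by decide +kernel
theorem lP1_eq : lP1 = mmP (TT iT) (UU kT) := by decide +kernel
theorem iT_lt : iT < nPts := by decide +kernel
theorem kT_lt : kT < nH := by decide +kernel
theorem LL_jz : LL jz = wmul idP := by decide +kernel
theorem jz_lt : jz < nL := by decide +kernel

end Cfsg.Agent.Helper26.J3K
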