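import Cfsg.Agent.Lib.Helper26.J3Defs

/-! Kernel-evaluated checks for the `3.J₃` data (generated). -/

set_option autoImplicit false

namespace Cfsg.Agent.Helper26.J3K

open Cfsg.Agent.Helper26 Cfsg.Agent.Helper26.F4M Cfsg.Agent.Helper26.J3D Cfsg.Agent.Helper26.J3C

theorem sch0_0_0 : allR 0 1938 (schOK 0) = true := by decide +kernel
theorem sch0_0_1 : allR 1938 1938 (schOK 0) = true := by decide +kernel
theorem sch0_0_2 : allR 3876 1938 (schOK 0) = true := by decide +kernel
theorem sch0_0_3 : allR 5814 1938 (schOK 0) = true := by decide +kernel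
theorem sch0_0_4 : allR 7752 1938 (schOK 0) = true := by decide +kernel
theorem sch0_0_5 : allR 9690 1938 (schOK 0) = true := by decide +kernel

theorem sch0_part0 : ∀ i, 0 ≤ i → i < 11628 → schOK 0 i = true := by
  intro i h1 h2
  have h2' : i < 11628 := h2
  by_cases h_sch0_0_0 : i < 1938
  · exact allR_true sch0_0_0 i (by omega) (by omega)
  by_cases h_sch0_0_1 : i < 3876
  · exact allR_true sch0_0_1 i (by omega) (by omega)
  by_cases h_sch0_0_2 : i < 5814
  · exact allR_true sch0_0_2 i (by omega) (by omega)
  by_cases h_sch0_0_3 : i < 7752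
  · exact allR_true sch0_0_3 i (by omega) (by omega)
  by_cases h_sch0_0_4 : i < 9690
  · exact allR_true sch0_0_4 i (by omega) (by omega)
  by_cases h_sch0_0_5 : i < 11628
  · exact allR_true sch0_0_5 i (by omega) (by omega)
  omega

end Cfsg.Agent.Helper26.J3K
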