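import Cfsg.Agent.Lib.Helper26.J3Defs

/-! Kernel-evaluated checks for the `3.J₃` data (generated). -/

set_option autoImplicit false

namespace Cfsg.Agent.Helper26.J3K

open Cfsg.Agent.Helper26 Cfsg.Agent.Helper26.F4M Cfsg.Agent.Helper26.J3D Cfsg.Agent.Helper26.J3C

theorem sch0_1_0 : allR 11628 1938 (schOK 0) = true := by decide +kernel
theorem sch0_1_1 : allR 13566 1938 (schOK 0) = true := by decide +kernel
theorem sch0_1_2 : allR 15504 1938 (schOK 0) = true := by decide +kernel
theorem sch0_1_3 : allR 17442 1938 (schOK 0) = true := by decide +kernel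
theorem sch0_1_4 : allR 19380 1938 (schOK 0) = true := by decide +kernel
theorem sch0_1_5 : allR 21318 1938 (schOK 0) = true := by decide +kernel

theorem sch0_part1 : ∀ i, 11628 ≤ i → i < 23256 → schOK 0 i = true := by
  intro i h1 h2
  have h2' : i < 23256 := h2
  by_cases h_sch0_1_0 : i < 13566
  · exact allR_true sch0_1_0 i (by omega) (by omega)
  by_cases h_sch0_1_1 : i < 15504
  · exact allR_true sch0_1_1 i (by omega) (by omega)
  by_cases h_sch0_1_2 : i < 17442
  · exact allR_true sch0_1_2 i (by omega) (by omega)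
  by_cases h_sch0_1_3 : i < 19380
  · exact allR_true sch0_1_3 i (by omega) (by omega)
  by_cases h_sch0_1_4 : i < 21318
  · exact allR_true sch0_1_4 i (by omega) (by omega)
  by_cases h_sch0_1_5 : i < 23256
  · exact allR_true sch0_1_5 i (by omega) (by omega)
  omega

end Cfsg.Agent.Helper26.J3K
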