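import Cfsg.Agent.Lib.Helper26.J3Defs

/-! Kernel-evaluated checks for the `3.J₃` data (generated). -/

set_option autoImplicit false

namespace Cfsg.Agent.Helper26.J3K

open Cfsg.Agent.Helper26 Cfsg.Agent.Helper26.F4M Cfsg.Agent.Helper26.J3D Cfsg.Agent.Helper26.J3C

theorem tree_0_0 : allR 1 1952 treeOK = true := by decide +kernel
theorem tree_0_1 : allR 1953 1952 treeOK = true := by decide +kernel
theorem tree_0_2 : allR 3905 1952 treeOK = true := by decide +kernel
theorem tree_0_3 : allR 5857 1952 treeOK = true := by decide +kernel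
theorem tree_0_4 : allR 7809 1952 treeOK = true := by decide +kernel
theorem tree_0_5 : allR 9761 1952 treeOK = true := by decide +kernel

theorem tree_part0 : ∀ i, 1 ≤ i → i < 11713 → treeOK i = true := by
  intro i h1 h2
  have h2' : i < 11713 := h2
  by_cases h_tree_0_0 : i < 1953
  · exact allR_true tree_0_0 i (by omega) (by omega)
  by_cases h_tree_0_1 : i < 3905
  · exact allR_true tree_0_1 i (by omega) (by omega)
  by_cases h_tree_0_2 : i < 5857
  · exact allR_true tree_0_2 i (by omega) (by omega)
  by_cases h_tree_0_3 : i < 7809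
  · exact allR_true tree_0_3 i (by omega) (by omega)
  by_cases h_tree_0_4 : i < 9761
  · exact allR_true tree_0_4 i (by omega) (by omega)
  by_cases h_tree_0_5 : i < 11713
  · exact allR_true tree_0_5 i (by omega) (by omega)
  omega

end Cfsg.Agent.Helper26.J3K
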