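import Cfsg.Agent.Lib.Helper26.J3Defs

/-! Kernel-evaluated checks for the `3.J₃` data (generated). -/

set_option autoImplicit false

namespace Cfsg.Agent.Helper26.J3K

open Cfsg.Agent.Helper26 Cfsg.Agent.Helper26.F4M Cfsg.Agent.Helper26.J3D Cfsg.Agent.Helper26.J3C

theorem utree_0 : allR 1 1620 utreeOK = true := by decide +kernel
theorem utree_1 : allR 1621 1620 utreeOK = true := by decide +kernel
theorem utree_2 : allR 3241 1620 utreeOK = true := by decide +kernel
theorem utree_3 : allR 4861 1619 utreeOK = true := by decide +kernel

theorem utree_all : ∀ i, 1 ≤ i → i < nH → utreeOK i = true := by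
  intro i h1 h2
  have h2' : i < 6480 := h2
  by_cases h_utree_0 : i < 1621
  · exact allR_true utree_0 i (by omega) (by omega)
  by_cases h_utree_1 : i < 3241
  · exact allR_true utree_1 i (by omega) (by omega)
  by_cases h_utree_2 : i < 4861
  · exact allR_true utree_2 i (by omega) (by omega)
  by_cases h_utree_3 : i < 6480
  · exact allR_true utree_3 i (by omega) (by omega)
  omega

end Cfsg.Agent.Helper26.J3K
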