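import Cfsg.Agent.Lib.Helper26.J3Defs

/-! Kernel-evaluated checks for the `3.J₃` data (generated). -/

set_option autoImplicit false

namespace Cfsg.Agent.Helper26.J3K

open Cfsg.Agent.Helper26 Cfsg.Agent.Helper26.F4M Cfsg.Agent.Helper26.J3D Cfsg.Agent.Helper26.J3C

theorem usch1_0 : allR 0 1620 (uschOK 1) = true := by decide +kernel
theorem usch1_1 : allR 1620 1620 (uschOK 1) = true := by decide +kernel
theorem usch1_2 : allR 3240 1620 (uschOK 1) = true := by decide +kernel
theorem usch1_3 : allR 4860 1620 (uschOK 1) = true := by decide +kernel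

theorem usch1_all : ∀ i, 0 ≤ i → i < nH → uschOK 1 i = true := by
  intro i h1 h2
  have h2' : i < 6480 := h2
  by_cases h_usch1_0 : i < 1620
  · exact allR_true usch1_0 i (by omega) (by omega)
  by_cases h_usch1_1 : i < 3240
  · exact allR_true usch1_1 i (by omega) (by omega)
  by_cases h_usch1_2 : i < 4860
  · exact allR_true usch1_2 i (by omega) (by omega)
  by_cases h_usch1_3 : i < 6480
  · exact allR_true usch1_3 i (by omega) (by omega)
  omega

end Cfsg.Agent.Helper26.J3K
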