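import Cfsg.Agent.Lib.Helper26.J3Defs

/-! Kernel-evaluated checks for the `3.J₃` data (generated). -/

set_option autoImplicit false

namespace Cfsg.Agent.Helper26.J3K

open Cfsg.Agent.Helper26 Cfsg.Agent.Helper26.F4M Cfsg.Agent.Helper26.J3D Cfsg.Agent.Helper26.J3C

theorem ukey_all' : allB 6480 ukeyOK = true := by decide +kernel
theorem usort_all' : allB 6479 usortOK = true := by decide +kernel

end Cfsg.Agent.Helper26.J3K
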