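import Cfsg.Agent.Lib.Helper26.J3Defs2
import Cfsg.Agent.Lib.Helper26.F4Mat2

/-! Kernel-evaluated checks for the `3.J₃` data: orders, scalars, fixed points. -/

set_option autoImplicit false

namespace Cfsg.Agent.Helper26.J3K

open Cfsg.Agent.Helper26 Cfsg.Agent.Helper26.F4M Cfsg.Agent.Helper26.J3D Cfsg.Agent.Helper26.J3C

/-- The packed product `a * b`. -/
def abP : ℕ := mmP gP0 gP1

theorem powA : powP gP0 3 = idP := by decide +kernel
theorem powB : powP gP1 17 = idP := by decide +kernel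
theorem powAB : powP abP 19 = idP := by decide +kernel
theorem abP_ne : abP ≠ idP := by decide +kernel
theorem UU_kz : UU kz = wmul idP := by decide +kernel
theorem kz_lt : kz < nH := by decide +kernel

/-- Three words in the line stabilizer whose only common fixed point is `0`. -/
def wA : List ℕ := [0]
/-- `b⁻¹ a b`. -/
def wB : List ℕ := [1, 1, 1, 1, 1, 1, 1, 1, 1, 1, 1, 1, 1, 1, 1, 1, 0, 1]
/-- `b⁻⁴ a b⁴`. -/
def wC : List ℕ := [1, 1, 1, 1, 1, 1, 1, 1, 1, 1, 1, 1, 1, 0, 1, 1, 1, 1]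

theorem wA_lt : ∀ g ∈ wA, g < 2 := by decide
theorem wB_lt : ∀ g ∈ wB, g < 2 := by decide
theorem wC_lt : ∀ g ∈ wC, g < 2 := by decide

theorem wact_zero : wact wA 0 = 0 ∧ wact wB 0 = 0 ∧ wact wC 0 = 0 := by decide +kernel

/-- The common fixed point check. -/
def fixOK (i : ℕ) : Bool :=
  !(Nat.beq (wact wA i) i) || !(Nat.beq (wact wB i) i) || !(Nat.beq (wact wC i) i) || Nat.beq i 0

theorem fix_all' : allB 23256 fixOK = true := by decide +kernel

/-- Indices of the coordinate lines. -/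
def icf (c : ℕ) : ℕ :=
  cond (Nat.beq c 0) ic0 (cond (Nat.beq c 1) ic1 (cond (Nat.beq c 2) ic2 (cond (Nat.beq c 3) ic3
    (cond (Nat.beq c 4) ic4 (cond (Nat.beq c 5) ic5 (cond (Nat.beq c 6) ic6
      (cond (Nat.beq c 7) ic7 ic8)))))))

/-- The coordinate line check: returns the exponent plus one. -/
def coordE (c : ℕ) : ℕ :=
  seqN (TT (icf c) &&& mCol3) fun x => seqN (unitP c) fun u =>
    cond (Nat.beq x u) 1 (cond (Nat.beq x (wmul u)) 2 (cond (Nat.beq x (wmul (wmul u))) 3 0))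

theorem coord_all' : allB 9 (fun c => Nat.ble 1 (coordE c) && Nat.blt (icf c) nPts) = true := by
  decide +kernel

end Cfsg.Agent.Helper26.J3K
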