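import Mathlib
import Cfsg.Agent.Lib.Helper26.Schreier2
import Cfsg.Agent.Lib.Helper26.J3ChkT0
import Cfsg.Agent.Lib.Helper26.J3ChkT1
import Cfsg.Agent.Lib.Helper26.J3ChkS00
import Cfsg.Agent.Lib.Helper26.J3ChkS01
import Cfsg.Agent.Lib.Helper26.J3ChkS10
import Cfsg.Agent.Lib.Helper26.J3ChkS11
import Cfsg.Agent.Lib.Helper26.J3ChkK0
import Cfsg.Agent.Lib.Helper26.J3ChkK1
import Cfsg.Agent.Lib.Helper26.J3ChkK2
import Cfsg.Agent.Lib.Helper26.J3ChkK3
import Cfsg.Agent.Lib.Helper26.F4Mat2
import Cfsg.Agent.Lib.Helper26.J3ChkU0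
import Cfsg.Agent.Lib.Helper26.J3ChkU1
import Cfsg.Agent.Lib.Helper26.J3ChkU2
import Cfsg.Agent.Lib.Helper26.J3ChkU3
import Cfsg.Agent.Lib.Helper26.J3ChkU4

/-!
# The group `3.J₃` generated by two packed 9 × 9 matrices over a field with four elements

Generic over an ambient group `A` with an injective homomorphism to the 9 × 9 matrices.
-/

set_option autoImplicit false

namespace Cfsg.Agent.Helper26.J3G

open Matrix
open Cfsg.Agent.Helper26 Cfsg.Agent.Helper26.F4M Cfsg.Agent.Helper26.J3D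
  Cfsg.Agent.Helper26.J3C Cfsg.Agent.Helper26.J3K

/-- The 9 × 9 matrices. -/
abbrev M9 (F : Type*) := Matrix (Fin 9) (Fin 9) F

/-- An ambient group with an injective homomorphism to the matrices, and two elements mapping to
the two packed generators. -/
structure Setup (F : Type*) [Field F] (A : Type*) [Group A] where
  /-- the root of `x² + x + 1` -/
  ω : F
  h2 : (2 : F) = 0
  hω : ω ^ 2 + ω + 1 = 0
  /-- the matrix of an element -/
  val : A →* M9 F
  inj : Function.Injective val
  /-- first generator -/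
  a : A
  /-- second generator -/
  b : A
  ha : val a = decM ω gP0
  hb : val b = decM ω gP1

namespace Setup

variable {F : Type*} [Field F] {A : Type*} [Group A] (S : Setup F A)

/-- Decoding. -/
def dec (P : ℕ) : M9 F := decM S.ω P

theorem dec_mul (P Q : ℕ) : S.dec (mmP P Q) = S.dec P * S.dec Q :=
  decM_mmP S.h2 S.ω S.hω P Q

theorem dec_inj {P Q : ℕ} (hP : P < 2 ^ 162) (hQ : Q < 2 ^ 162) (h : S.dec P = S.dec Q) :
    P = Q :=
  decM_inj S.h2 S.ω S.hω hP hQ h

theorem dec_idP : S.dec idP = 1 := decM_idP S.ω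

/-- The two generators. -/
def gen (g : ℕ) : A := cond (Nat.beq g 0) S.a S.b

theorem gen_val (g : ℕ) : S.val (S.gen g) = S.dec (gP g) := by
  unfold gen gP
  cases h : Nat.beq g 0
  · exact S.hb
  · exact S.ha

/-- The generating set. -/
def SG : Set A := {S.a, S.b}

theorem gen_mem (g : ℕ) : S.gen g ∈ Subgroup.closure S.SG := by
  unfold gen SG
  cases h : Nat.beq g 0
  · exact Subgroup.subset_closure (by simp)
  · exact Subgroup.subset_closure (by simp)

theorem mem_SG {g : A} (hg : g ∈ S.SG) : ∃ s < 2, g = S.gen s := by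
  rcases hg with rfl | rfl
  · exact ⟨0, by norm_num, rfl⟩
  · exact ⟨1, by norm_num, rfl⟩

/-- The straight-line elements. -/
def E : ℕ → A
  | i => if _h : 0 < i ∧ PAR i < i then S.gen (LAB i) * E (PAR i) else 1
termination_by i => i
decreasing_by exact _h.2

theorem E_zero : S.E 0 = 1 := by
  rw [E]; simp

theorem E_step (i : ℕ) (h1 : 0 < i) (h2 : PAR i < i) :
    S.E i = S.gen (LAB i) * S.E (PAR i) := by
  rw [E]; simp [h1, h2]

theorem E_mem (i : ℕ) : S.E i ∈ Subgroup.closure S.SG := by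
  induction i using Nat.strong_induction_on with
  | _ i ih =>
    by_cases h : 0 < i ∧ PAR i < i
    · rw [S.E_step i h.1 h.2]
      exact Subgroup.mul_mem _ (S.gen_mem _) (ih _ h.2)
    · rw [E]; simp only [h, dite_false]; exact Subgroup.one_mem _

end Setup

/-! ### Facts from the kernel checks (independent of the field) -/

theorem blt_lt {a b : ℕ} (h : Nat.blt a b = true) : a < b := by
  unfold Nat.blt at h
  have := Nat.le_of_ble_eq_true h
  omega

theorem tree_all (i : ℕ) (h1 : 1 ≤ i) (h2 : i < nE) : treeOK i = true := by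
  by_cases h : i < 11713
  · exact tree_part0 i h1 h
  · exact tree_part1 i (by omega) h2

theorem TT_zero : TT 0 = idP := by decide +kernel
theorem UU_zero : UU 0 = idP := by decide +kernel

theorem treeOK_spec {i : ℕ} (h1 : 1 ≤ i) (h2 : i < nE) :
    PAR i < i ∧ TT i = mmP (gP (LAB i)) (TT (PAR i)) := by
  have h := tree_all i h1 h2
  unfold treeOK at h
  rw [Bool.and_eq_true, mmPF_eq] at h
  exact ⟨blt_lt h.1, Nat.eq_of_beq_eq_true h.2⟩

theorem TT_lt (i : ℕ) (hi : i < nE) : TT i < 2 ^ 162 := by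
  rcases Nat.eq_zero_or_pos i with h0 | h0
  · rw [h0, TT_zero]; decide
  · rw [(treeOK_spec h0 hi).2]; exact mmP_lt _ _

theorem utreeOK_spec {k : ℕ} (h1 : 1 ≤ k) (h2 : k < nH) :
    UPAR k < k ∧ UU k = mmP (hP (ULAB k)) (UU (UPAR k)) := by
  have h := utree_all k h1 h2
  unfold utreeOK at h
  rw [Bool.and_eq_true, mmPF_eq] at h
  exact ⟨blt_lt h.1, Nat.eq_of_beq_eq_true h.2⟩

theorem UU_lt (k : ℕ) (hk : k < nH) : UU k < 2 ^ 162 := by
  rcases Nat.eq_zero_or_pos k with h0 | h0
  · rw [h0, UU_zero]; decide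
  · rw [(utreeOK_spec h0 hk).2]; exact mmP_lt _ _

theorem uschOK_spec (s : ℕ) (hs : s < 2) {k : ℕ} (hk : k < nH) :
    utau s k < nH ∧ mmP (hP s) (UU k) = UU (utau s k) := by
  have h : uschOK s k = true := by
    interval_cases s
    · exact usch0_all k (Nat.zero_le k) hk
    · exact usch1_all k (Nat.zero_le k) hk
  unfold uschOK at h
  rw [Bool.and_eq_true, mmPF_eq] at h
  exact ⟨blt_lt h.1, Nat.eq_of_beq_eq_true h.2⟩

theorem UPI_spec (k : ℕ) (hk : k < nH) : UPI k < nH ∧ UPINV (UPI k) = k := by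
  have h := allB_true ukey_all' k hk
  unfold ukeyOK at h
  rw [Bool.and_eq_true] at h
  exact ⟨blt_lt h.1, Nat.eq_of_beq_eq_true h.2⟩

theorem usorted_step (m : ℕ) (hm : m + 1 < nH) : UU (UPINV m) < UU (UPINV (m + 1)) := by
  have h := allB_true usort_all' m (by have : m + 1 < 6480 := hm; omega)
  exact blt_lt h

theorem usorted_lt {m m' : ℕ} (h : m < m') (hm' : m' < nH) :
    UU (UPINV m) < UU (UPINV m') := by
  induction m' with
  | zero => exact absurd h (Nat.not_lt_zero m)
  | succ k ih =>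
    rcases Nat.lt_succ_iff_lt_or_eq.1 h with h1 | h1
    · exact lt_trans (ih h1 (by omega)) (usorted_step k hm')
    · rw [h1]; exact usorted_step k hm'

theorem UU_inj {i j : ℕ} (hi : i < nH) (hj : j < nH) (h : UU i = UU j) : i = j := by
  obtain ⟨hi1, hi2⟩ := UPI_spec i hi
  obtain ⟨hj1, hj2⟩ := UPI_spec j hj
  have hk : UU (UPINV (UPI i)) = UU (UPINV (UPI j)) := by rw [hi2, hj2, h]
  have : UPI i = UPI j := by
    rcases Nat.lt_trichotomy (UPI i) (UPI j) with h1 | h1 | h1
    · exact absurd hk (ne_of_lt (usorted_lt h1 hj1))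
    · exact h1
    · exact absurd hk.symm (ne_of_lt (usorted_lt h1 hi1))
  rw [← hi2, ← hj2, this]

/-! ### Line keys -/

theorem key_all (i : ℕ) (hi : i < nPts) : keyOK2 i = true := by
  have hi' : i < 23256 := hi
  by_cases h0 : i < 5814
  · exact key_part0 i (Nat.zero_le i) h0
  by_cases h1 : i < 11628
  · exact key_part1 i (by omega) h1
  by_cases h2 : i < 17442
  · exact key_part2 i (by omega) h2
  · exact key_part3 i (by omega) hi'

theorem sort_all (m : ℕ) (hm : m + 1 < nPts) : sortOK m = true := by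
  have hm' : m + 1 < 23256 := hm
  by_cases h0 : m < 5814
  · exact sort_part0 m (Nat.zero_le m) h0
  by_cases h1 : m < 11628
  · exact sort_part1 m (by omega) h1
  by_cases h2 : m < 17442
  · exact sort_part2 m (by omega) h2
  · exact sort_part3 m (by omega) (by omega)

theorem mCol3_eq : mCol3 = mCol3' := rfl

/-- The masked first column. -/
def colX (i : ℕ) : ℕ := TT i &&& mCol3

theorem lineKey_eq (P : ℕ) :
    lineKey P = min (P &&& mCol3) (min (wmul (P &&& mCol3)) (wmul (wmul (P &&& mCol3)))) := by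
  simp only [lineKey, seqN_eq, minN_eq]

theorem cyc_spec (i : ℕ) (hi : i < nPts) : wmul (wmul (wmul (colX i))) = colX i := by
  have h := key_all i hi
  unfold keyOK2 at h
  rw [Bool.and_eq_true, Bool.and_eq_true] at h
  have h1 := h.1.1
  simp only [cycOK2, seqN_eq] at h1
  exact Nat.eq_of_beq_eq_true h1

theorem PI_spec (i : ℕ) (hi : i < nPts) : PI i < nPts ∧ PINV (PI i) = i := by
  have h := key_all i hi
  unfold keyOK2 at h
  rw [Bool.and_eq_true, Bool.and_eq_true] at h
  exact ⟨blt_lt h.1.2, Nat.eq_of_beq_eq_true h.2⟩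

theorem sorted_step (m : ℕ) (hm : m + 1 < nPts) :
    lineKey (TT (PINV m)) < lineKey (TT (PINV (m + 1))) :=
  blt_lt (sort_all m hm)

theorem sorted_lt {m m' : ℕ} (h : m < m') (hm' : m' < nPts) :
    lineKey (TT (PINV m)) < lineKey (TT (PINV m')) := by
  induction m' with
  | zero => exact absurd h (Nat.not_lt_zero m)
  | succ k ih =>
    rcases Nat.lt_succ_iff_lt_or_eq.1 h with h1 | h1
    · exact lt_trans (ih h1 (by omega)) (sorted_step k hm')
    · rw [h1]; exact sorted_step k hm'

theorem lineKey_inj {i j : ℕ} (hi : i < nPts) (hj : j < nPts)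
    (h : lineKey (TT i) = lineKey (TT j)) : i = j := by
  obtain ⟨hi1, hi2⟩ := PI_spec i hi
  obtain ⟨hj1, hj2⟩ := PI_spec j hj
  have hk : lineKey (TT (PINV (PI i))) = lineKey (TT (PINV (PI j))) := by rw [hi2, hj2, h]
  have : PI i = PI j := by
    rcases Nat.lt_trichotomy (PI i) (PI j) with h1 | h1 | h1
    · exact absurd hk (ne_of_lt (sorted_lt h1 hj1))
    · exact h1
    · exact absurd hk.symm (ne_of_lt (sorted_lt h1 hi1))
  rw [← hi2, ← hj2, this]

/-- Proportional first columns have the same key. -/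
theorem colX_rel_inj {i j : ℕ} (hi : i < nPts) (hj : j < nPts)
    (h : colX i = colX j ∨ colX i = wmul (colX j) ∨ colX i = wmul (wmul (colX j))) : i = j := by
  apply lineKey_inj hi hj
  rw [lineKey_eq, lineKey_eq]
  have hc := cyc_spec j hj
  unfold colX at h hc
  have k1 : ∀ x y z : ℕ, min y (min z x) = min x (min y z) := by intro x y z; omega
  have k2 : ∀ x y z : ℕ, min z (min x y) = min x (min y z) := by intro x y z; omega
  rcases h with h | h | h
  · rw [h]
  · rw [h, hc]; exact k1 _ _ _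
  · rw [h, hc]; exact k2 _ _ _

theorem ufix_spec (k : ℕ) (hk : k < nH) :
    UU k &&& mCol3 = 1 ∨ UU k &&& mCol3 = 2 ∨ UU k &&& mCol3 = 3 := by
  have h := allB_true ufix_all' k hk
  simp only [ufixE, seqN_eq] at h
  by_cases h1 : Nat.beq (UU k &&& mCol3) 1 = true
  · left; exact Nat.eq_of_beq_eq_true h1
  by_cases h2 : Nat.beq (UU k &&& mCol3) 2 = true
  · right; left; exact Nat.eq_of_beq_eq_true h2
  by_cases h3 : Nat.beq (UU k &&& mCol3) 3 = true
  · right; right; exact Nat.eq_of_beq_eq_true h3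
  · rw [Bool.not_eq_true] at h1 h2 h3
    rw [h1, h2, h3] at h
    simp at h

end Cfsg.Agent.Helper26.J3G
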