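import Mathlib
import Cfsg.Agent.Lib.Helper26.J3Core

/-!
# The order of `3.J₃`: the two Schreier–Sims levels
-/

set_option autoImplicit false

namespace Cfsg.Agent.Helper26.J3G

open Matrix
open Cfsg.Agent.Helper26 Cfsg.Agent.Helper26.F4M Cfsg.Agent.Helper26.J3D
  Cfsg.Agent.Helper26.J3C Cfsg.Agent.Helper26.J3K

namespace Setup

variable {F : Type*} [Field F] {A : Type*} [Group A] (S : Setup F A)

theorem E_val (i : ℕ) (hi : i < nE) : S.val (S.E i) = S.dec (TT i) := by
  induction i using Nat.strong_induction_on with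
  | _ i ih =>
    rcases Nat.eq_zero_or_pos i with h0 | h0
    · rw [h0, S.E_zero, TT_zero, S.dec_idP, map_one]
    · obtain ⟨hp, heq⟩ := treeOK_spec h0 hi
      rw [S.E_step i h0 hp, map_mul, S.gen_val, ih _ hp (lt_trans hp hi), heq, S.dec_mul]

/-- The two generators of the line stabilizer. -/
def hgen (s : ℕ) : A := cond (Nat.beq s 0) (S.E idx_h1) (S.E idx_h2)

theorem hgen_val (s : ℕ) : S.val (S.hgen s) = S.dec (hP s) := by
  unfold hgen hP
  cases h : Nat.beq s 0
  · exact S.E_val idx_h2 (by decide)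
  · exact S.E_val idx_h1 (by decide)

/-- The generating set of the line stabilizer. -/
def SH : Set A := {S.E idx_h1, S.E idx_h2}

theorem hgen_mem (s : ℕ) : S.hgen s ∈ Subgroup.closure S.SH := by
  unfold hgen SH
  cases h : Nat.beq s 0
  · exact Subgroup.subset_closure (by simp)
  · exact Subgroup.subset_closure (by simp)

theorem mem_SH {g : A} (hg : g ∈ S.SH) : ∃ s < 2, g = S.hgen s := by
  rcases hg with rfl | rfl
  · exact ⟨0, by norm_num, rfl⟩
  · exact ⟨1, by norm_num, rfl⟩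

/-- The elements of the line stabilizer. -/
def U : ℕ → A
  | k => if _h : 0 < k ∧ UPAR k < k then S.hgen (ULAB k) * U (UPAR k) else 1
termination_by k => k
decreasing_by exact _h.2

theorem U_zero : S.U 0 = 1 := by
  rw [U]; simp

theorem U_step (k : ℕ) (h1 : 0 < k) (h2 : UPAR k < k) :
    S.U k = S.hgen (ULAB k) * S.U (UPAR k) := by
  rw [U]; simp [h1, h2]

theorem U_mem (k : ℕ) : S.U k ∈ Subgroup.closure S.SH := by
  induction k using Nat.strong_induction_on with
  | _ k ih =>
    by_cases h : 0 < k ∧ UPAR k < k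
    · rw [S.U_step k h.1 h.2]
      exact Subgroup.mul_mem _ (S.hgen_mem _) (ih _ h.2)
    · rw [U]; simp only [h, dite_false]; exact Subgroup.one_mem _

theorem U_val (k : ℕ) (hk : k < nH) : S.val (S.U k) = S.dec (UU k) := by
  induction k using Nat.strong_induction_on with
  | _ k ih =>
    rcases Nat.eq_zero_or_pos k with h0 | h0
    · rw [h0, S.U_zero, UU_zero, S.dec_idP, map_one]
    · obtain ⟨hp, heq⟩ := utreeOK_spec h0 hk
      rw [S.U_step k h0 hp, map_mul, S.hgen_val, ih _ hp (lt_trans hp hk), heq, S.dec_mul]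

theorem U_inj : ∀ i < nH, ∀ j < nH, S.U i = S.U j → i = j := by
  intro i hi j hj h
  apply UU_inj hi hj
  apply S.dec_inj (UU_lt i hi) (UU_lt j hj)
  rw [← S.U_val i hi, ← S.U_val j hj, h]

theorem U_step_gen (s : ℕ) (hs : s < 2) {k : ℕ} (hk : k < nH) :
    utau s k < nH ∧ S.hgen s * S.U k = S.U (utau s k) := by
  obtain ⟨h1, h2⟩ := uschOK_spec s hs hk
  refine ⟨h1, S.inj ?_⟩
  rw [map_mul, S.hgen_val, S.U_val k hk, S.U_val _ h1, ← S.dec_mul, h2]

variable [Finite A]

/-- The line stabilizer has order 6480 and consists of the `U k`. -/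
theorem level2 : (∀ k ∈ Subgroup.closure S.SH, ∃ i < nH, k = S.U i) ∧
    Nat.card (Subgroup.closure S.SH) = nH := by
  apply schreier_list S.SH nH S.U (by decide) S.U_zero (fun i _ => S.U_mem i) S.U_inj
  intro g hg i hi
  obtain ⟨s, hs, rfl⟩ := S.mem_SH hg
  exact ⟨utau s i, (S.U_step_gen s hs hi).1, (S.U_step_gen s hs hi).2⟩

theorem H_le : Subgroup.closure S.SH ≤ Subgroup.closure S.SG := by
  rw [Subgroup.closure_le]
  intro g hg
  rcases hg with rfl | rfl
  · exact S.E_mem _
  · exact S.E_mem _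

/-- The first column of a stabilizer element is a nonzero multiple of `e₀`. -/
theorem U_col0 (k : ℕ) (hk : k < nH) :
    ∃ e : ℕ, e < 3 ∧ col0 (S.dec (UU k)) = S.ω ^ e • col0 (1 : M9 F) := by
  have h1 : col0 (1 : M9 F) = S.dec 1 := by
    rw [← S.dec_idP]
    show col0 (decM S.ω idP) = _
    rw [← decM_and_mCol3]
    rfl
  have h2 : S.dec 2 = S.ω • S.dec 1 := by
    have : (2 : ℕ) = wmul 1 := by decide
    rw [this]
    exact decM_wmul S.h2 S.ω S.hω 1
  have h3 : S.dec 3 = S.ω • S.dec 2 := by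
    have : (3 : ℕ) = wmul 2 := by decide
    rw [this]
    exact decM_wmul S.h2 S.ω S.hω 2
  have hc : col0 (S.dec (UU k)) = S.dec (UU k &&& mCol3) := by
    show col0 (decM S.ω (UU k)) = _
    rw [← decM_and_mCol3]
    rfl
  rcases ufix_spec k hk with h | h | h
  · exact ⟨0, by norm_num, by rw [hc, h, h1, pow_zero, one_smul]⟩
  · exact ⟨1, by norm_num, by rw [hc, h, h2, h1, pow_one]⟩
  · exact ⟨2, by norm_num, by rw [hc, h, h3, h2, h1, pow_two, mul_smul]⟩

theorem colX_lt (i : ℕ) : colX i < 2 ^ 162 := by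
  unfold colX
  have : TT i &&& mCol3 ≤ mCol3 := Nat.and_le_right
  have h : mCol3 < 2 ^ 162 := by decide
  omega

theorem dec_colX (i : ℕ) : S.dec (colX i) = col0 (S.dec (TT i)) := by
  show decM S.ω (TT i &&& mCol3) = _
  rw [mCol3_eq, decM_and_mCol3]
  rfl

theorem E_inj : ∀ i < nPts, ∀ j < nPts,
    (S.E j)⁻¹ * S.E i ∈ Subgroup.closure S.SH → i = j := by
  intro i hi j hj h
  obtain ⟨k, hk, hk2⟩ := S.level2.1 _ h
  have hE : S.E i = S.E j * S.U k := by rw [← hk2, mul_inv_cancel_left]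
  have hv : S.dec (TT i) = S.dec (TT j) * S.dec (UU k) := by
    rw [← S.E_val i (lt_trans hi (by decide)), ← S.E_val j (lt_trans hj (by decide)),
      ← S.U_val k hk, ← map_mul, hE]
  obtain ⟨e, he, hcol⟩ := S.U_col0 k hk
  have hc : col0 (S.dec (TT i)) = S.ω ^ e • col0 (S.dec (TT j)) := by
    rw [hv, col0_mul, hcol, Matrix.mul_smul, ← col0_mul, mul_one]
  rw [← S.dec_colX, ← S.dec_colX] at hc
  apply colX_rel_inj hi hj
  interval_cases e
  · left
    apply S.dec_inj (colX_lt i) (colX_lt j)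
    rw [hc, pow_zero, one_smul]
  · right; left
    apply S.dec_inj (colX_lt i) (wmul_lt _)
    rw [hc, pow_one]
    exact (decM_wmul S.h2 S.ω S.hω _).symm
  · right; right
    apply S.dec_inj (colX_lt i) (wmul_lt _)
    rw [hc, pow_two, mul_smul]
    show _ = decM S.ω (wmul (wmul (colX j)))
    rw [decM_wmul S.h2 S.ω S.hω, decM_wmul S.h2 S.ω S.hω]
    rfl

theorem schOK_spec (g : ℕ) (hg : g < 2) {i : ℕ} (hi : i < nPts) :
    tau g i < nPts ∧ sig g i < nH ∧ S.gen g * S.E i = S.E (tau g i) * S.U (sig g i) := by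
  have h : schOK g i = true := by
    have hi' : i < 23256 := hi
    interval_cases g
    · by_cases h0 : i < 11628
      · exact sch0_part0 i (Nat.zero_le i) h0
      · exact sch0_part1 i (by omega) hi'
    · by_cases h0 : i < 11628
      · exact sch1_part0 i (Nat.zero_le i) h0
      · exact sch1_part1 i (by omega) hi'
  unfold schOK at h
  rw [Bool.and_eq_true, Bool.and_eq_true] at h
  have h1 : tau g i < nPts := blt_lt h.1.1
  have h2 : sig g i < nH := blt_lt h.1.2
  refine ⟨h1, h2, ?_⟩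
  rcases Bool.or_eq_true_iff.1 h.2 with h3 | h3
  · unfold isTreeEdge at h3
    rw [Bool.and_eq_true, Bool.and_eq_true, Bool.and_eq_true] at h3
    have e1 : sig g i = 0 := Nat.eq_of_beq_eq_true h3.1.1.1
    have e2 : PAR (tau g i) = i := Nat.eq_of_beq_eq_true h3.1.1.2
    have e3 : LAB (tau g i) = g := Nat.eq_of_beq_eq_true h3.1.2
    have e4 : 1 ≤ tau g i := Nat.le_of_ble_eq_true h3.2
    obtain ⟨hp, _⟩ := treeOK_spec e4 (lt_trans h1 (by decide))
    rw [S.E_step (tau g i) e4 hp, e1, e2, e3, S.U_zero, mul_one]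
  · apply S.inj
    rw [map_mul, map_mul, S.gen_val, S.E_val i (lt_trans hi (by decide)),
      S.E_val _ (lt_trans h1 (by decide)), S.U_val _ h2, ← S.dec_mul, ← S.dec_mul]
    rw [mmPF_eq, mmPF_eq] at h3
    rw [Nat.eq_of_beq_eq_true h3]

/-- The coset decomposition and the order of `⟨a, b⟩`. -/
theorem level1 : (∀ k ∈ Subgroup.closure S.SG, ∃ i < nPts, ∃ h ∈ Subgroup.closure S.SH,
      k = S.E i * h) ∧
    Nat.card (Subgroup.closure S.SG) = nPts * Nat.card (Subgroup.closure S.SH) := by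
  apply schreier_card S.SG (Subgroup.closure S.SH) nPts S.E (by decide) S.E_zero
    (fun i _ => S.E_mem i) S.E_inj S.H_le
  intro g hg i hi
  obtain ⟨s, hs, rfl⟩ := S.mem_SG hg
  obtain ⟨h1, h2, h3⟩ := S.schOK_spec s hs hi
  refine ⟨tau s i, h1, ?_⟩
  rw [mul_assoc, h3, ← mul_assoc, inv_mul_cancel, one_mul]
  exact S.U_mem _

theorem card_G : Nat.card (Subgroup.closure S.SG) = 150698880 := by
  rw [S.level1.2, S.level2.2]; rfl

end Setup

end Cfsg.Agent.Helper26.J3G
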