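import Mathlib
import Cfsg.Agent.Lib.Helper26.J3Core2
import Cfsg.Agent.Lib.Helper26.J3ChkX

/-!
# `3.J₃`: orders of the generators, the centre
-/

set_option autoImplicit false

namespace Cfsg.Agent.Helper26.J3G

open Matrix
open Cfsg.Agent.Helper26 Cfsg.Agent.Helper26.F4M Cfsg.Agent.Helper26.J3D
  Cfsg.Agent.Helper26.J3C Cfsg.Agent.Helper26.J3K

namespace Setup

variable {F : Type*} [Field F] {A : Type*} [Group A] (S : Setup F A)

theorem dec_powP (P n : ℕ) : S.dec (powP P n) = S.dec P ^ n :=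
  decM_powP S.h2 S.ω S.hω P n

theorem a_pow : S.a ^ 3 = 1 := by
  apply S.inj
  rw [map_pow, map_one, S.ha]
  show S.dec gP0 ^ 3 = 1
  rw [← S.dec_powP, powA, S.dec_idP]

theorem b_pow : S.b ^ 17 = 1 := by
  apply S.inj
  rw [map_pow, map_one, S.hb]
  show S.dec gP1 ^ 17 = 1
  rw [← S.dec_powP, powB, S.dec_idP]

theorem ab_val : S.val (S.a * S.b) = S.dec abP := by
  rw [map_mul, S.ha, S.hb]
  show S.dec gP0 * S.dec gP1 = _
  rw [← S.dec_mul]; rfl

theorem ab_pow : (S.a * S.b) ^ 19 = 1 := by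
  apply S.inj
  rw [map_pow, map_one, S.ab_val, ← S.dec_powP, powAB, S.dec_idP]

theorem abP_lt : abP < 2 ^ 162 := mmP_lt _ _

theorem ab_ne_one : S.a * S.b ≠ 1 := by
  intro h
  have h1 : S.dec abP = S.dec idP := by rw [← S.ab_val, h, map_one, S.dec_idP]
  exact abP_ne (S.dec_inj abP_lt (by decide) h1)

/-- The scalar `ω`. -/
def zeta : A := S.U kz

theorem zeta_val : S.val S.zeta = S.ω • (1 : M9 F) := by
  unfold zeta
  rw [S.U_val kz kz_lt, UU_kz]
  show decM S.ω (wmul idP) = _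
  rw [decM_wmul S.h2 S.ω S.hω, decM_idP]

theorem zeta_mem_H : S.zeta ∈ Subgroup.closure S.SH := S.U_mem kz

/-- The product of a word. -/
def wprod (w : List ℕ) : A := (w.map S.gen).prod

theorem wprod_mem (w : List ℕ) : S.wprod w ∈ Subgroup.closure S.SG := by
  unfold wprod
  apply Subgroup.list_prod_mem
  intro x hx
  obtain ⟨g, _, rfl⟩ := List.mem_map.1 hx
  exact S.gen_mem g

variable [Finite A]

theorem wprod_act (w : List ℕ) (hw : ∀ g ∈ w, g < 2) (i : ℕ) (hi : i < nPts) :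
    wact w i < nPts ∧ ∃ h ∈ Subgroup.closure S.SH, S.wprod w * S.E i = S.E (wact w i) * h := by
  induction w with
  | nil =>
    refine ⟨hi, 1, Subgroup.one_mem _, ?_⟩
    simp [wprod, wact]
  | cons g w ih =>
    obtain ⟨h1, h, hh, heq⟩ := ih (fun x hx => hw x (List.mem_cons_of_mem _ hx))
    have hg : g < 2 := hw g (List.mem_cons_self ..)
    obtain ⟨h3, h4, h5⟩ := S.schOK_spec g hg h1
    refine ⟨h3, S.U (sig g (wact w i)) * h, Subgroup.mul_mem _ (S.U_mem _) hh, ?_⟩
    have e1 : S.wprod (g :: w) = S.gen g * S.wprod w := by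
      simp [wprod]
    have e2 : wact (g :: w) i = tau g (wact w i) := rfl
    rw [e1, e2, mul_assoc, heq, ← mul_assoc, h5, mul_assoc]

/-- A word fixing the index `0` lies in the line stabilizer. -/
theorem wprod_mem_H (w : List ℕ) (hw : ∀ g ∈ w, g < 2) (h0 : wact w 0 = 0) :
    S.wprod w ∈ Subgroup.closure S.SH := by
  obtain ⟨_, h, hh, heq⟩ := S.wprod_act w hw 0 (by decide)
  rw [S.E_zero, mul_one, h0, S.E_zero, one_mul] at heq
  rw [heq]; exact hh

/-- If `z` is central in `⟨a, b⟩` and lies in the coset `E i * H`, then every word in the line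
stabilizer fixes `i`. -/
theorem central_fix (z : A) (hc : ∀ g ∈ Subgroup.closure S.SG, g * z = z * g)
    (i : ℕ) (hi : i < nPts) (h : A) (hh : h ∈ Subgroup.closure S.SH) (hz : z = S.E i * h)
    (w : List ℕ) (hw : ∀ g ∈ w, g < 2) (h0 : wact w 0 = 0) : wact w i = i := by
  obtain ⟨h1, h', hh', heq⟩ := S.wprod_act w hw i hi
  have hwH := S.wprod_mem_H w hw h0
  have hcomm := hc _ (S.wprod_mem w)
  symm
  apply S.E_inj i hi _ h1
  -- `E (wact w i) * (h' * h) = E i * (h * wprod w)`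
  have e : S.E (wact w i) * (h' * h) = S.E i * (h * S.wprod w) := by
    rw [← mul_assoc, ← heq, mul_assoc, ← hz, hcomm, hz, mul_assoc]
  have e2 : (S.E (wact w i))⁻¹ * S.E i = (h' * h) * (h * S.wprod w)⁻¹ := by
    rw [eq_mul_inv_iff_mul_eq, mul_assoc, ← e, ← mul_assoc, inv_mul_cancel, one_mul]
  rw [e2]
  exact Subgroup.mul_mem _ (Subgroup.mul_mem _ hh' hh)
    (Subgroup.inv_mem _ (Subgroup.mul_mem _ hh hwH))

theorem fix_spec (i : ℕ) (hi : i < nPts) (hA : wact wA i = i) (hB : wact wB i = i)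
    (hC : wact wC i = i) : i = 0 := by
  have h := allB_true fix_all' i hi
  unfold fixOK at h
  rw [hA, hB, hC] at h
  simp only [Nat.beq_refl, Bool.not_true, Bool.false_or] at h
  exact Nat.eq_of_beq_eq_true h

/-- A central element of `⟨a, b⟩` lies in the line stabilizer. -/
theorem central_mem_H (z : A) (hz : z ∈ Subgroup.closure S.SG)
    (hc : ∀ g ∈ Subgroup.closure S.SG, g * z = z * g) : z ∈ Subgroup.closure S.SH := by
  obtain ⟨i, hi, h, hh, hzi⟩ := S.level1.1 z hz
  have hA := S.central_fix z hc i hi h hh hzi wA wA_lt wact_zero.1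
  have hB := S.central_fix z hc i hi h hh hzi wB wB_lt wact_zero.2.1
  have hC := S.central_fix z hc i hi h hh hzi wC wC_lt wact_zero.2.2
  have h0 := fix_spec i hi hA hB hC
  rw [hzi, h0, S.E_zero, one_mul]
  exact hh

theorem coord_spec (c : Fin 9) : icf c.val < nPts ∧
    ∃ e : ℕ, e < 3 ∧ col0 (S.dec (TT (icf c.val))) = S.ω ^ e • S.dec (unitP c.val) := by
  have h := allB_true coord_all' c.val c.isLt
  rw [Bool.and_eq_true] at h
  refine ⟨blt_lt h.2, ?_⟩
  have h1 := h.1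
  simp only [coordE, seqN_eq] at h1
  have hcol : col0 (S.dec (TT (icf c.val))) = S.dec (TT (icf c.val) &&& mCol3) := by
    rw [← S.dec_colX]; rfl
  by_cases k1 : Nat.beq (TT (icf c.val) &&& mCol3) (unitP c.val) = true
  · refine ⟨0, by norm_num, ?_⟩
    rw [hcol, Nat.eq_of_beq_eq_true k1, pow_zero, one_smul]
  by_cases k2 : Nat.beq (TT (icf c.val) &&& mCol3) (wmul (unitP c.val)) = true
  · refine ⟨1, by norm_num, ?_⟩
    rw [hcol, Nat.eq_of_beq_eq_true k2, pow_one]
    exact decM_wmul S.h2 S.ω S.hω _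
  by_cases k3 : Nat.beq (TT (icf c.val) &&& mCol3) (wmul (wmul (unitP c.val))) = true
  · refine ⟨2, by norm_num, ?_⟩
    rw [hcol, Nat.eq_of_beq_eq_true k3, pow_two, mul_smul]
    show decM S.ω (wmul (wmul (unitP c.val))) = _
    rw [decM_wmul S.h2 S.ω S.hω, decM_wmul S.h2 S.ω S.hω]
    rfl
  · rw [Bool.not_eq_true] at k1 k2 k3
    rw [k1, k2, k3] at h1
    simp at h1

theorem omega_pow_ne_zero (e : ℕ) : S.ω ^ e ≠ 0 :=
  pow_ne_zero e (omega_ne_zero S.ω S.hω)

/-- A central element of `⟨a, b⟩` is a scalar `ω ^ e`. -/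
theorem central_scalar (z : A) (hz : z ∈ Subgroup.closure S.SG)
    (hc : ∀ g ∈ Subgroup.closure S.SG, g * z = z * g) :
    ∃ e : ℕ, e < 3 ∧ S.val z = S.ω ^ e • (1 : M9 F) := by
  obtain ⟨k, hk, hzk⟩ := S.level2.1 z (S.central_mem_H z hz hc)
  obtain ⟨e, he, hcol⟩ := S.U_col0 k hk
  refine ⟨e, he, ?_⟩
  have hvz : S.val z = S.dec (UU k) := by rw [hzk, S.U_val k hk]
  ext r c
  obtain ⟨hic, e', _, hcoord⟩ := S.coord_spec c
  -- `z` commutes with `E (icf c)`
  have hcomm : S.val z * S.dec (TT (icf c.val)) = S.dec (TT (icf c.val)) * S.val z := by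
    rw [← S.E_val _ (lt_trans hic (by decide)), ← map_mul, ← map_mul, hc _ (S.E_mem _)]
  have h1 : S.val z * col0 (S.dec (TT (icf c.val))) =
      S.ω ^ e • col0 (S.dec (TT (icf c.val))) := by
    rw [← col0_mul, hcomm, col0_mul, hvz, hcol, Matrix.mul_smul, ← col0_mul, mul_one]
  rw [hcoord, Matrix.mul_smul, smul_comm] at h1
  have h2 : S.val z * S.dec (unitP c.val) = S.ω ^ e • S.dec (unitP c.val) :=
    smul_right_injective _ (S.omega_pow_ne_zero e') h1
  have h3 := congrFun (congrFun h2 r) 0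
  rw [Matrix.mul_apply, Matrix.smul_apply] at h3
  have h4 : ∑ j, S.val z r j * S.dec (unitP c.val) j 0 = S.val z r c := by
    rw [Finset.sum_eq_single c]
    · show _ * decM S.ω (unitP c.val) c 0 = _
      rw [decM_unitP]; simp
    · intro j _ hj
      show _ * decM S.ω (unitP c.val) j 0 = _
      rw [decM_unitP]; simp [hj]
    · intro h; exact absurd (Finset.mem_univ c) h
  rw [h4] at h3
  rw [h3]
  show _ • decM S.ω (unitP c.val) r 0 = _
  rw [decM_unitP, Matrix.smul_apply, Matrix.one_apply]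
  by_cases hrc : r = c <;> simp [hrc]

end Setup

end Cfsg.Agent.Helper26.J3G
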