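import Mathlib
import Cfsg.Agent.Lib.Helper26.SimpleQ

/-!
# The centre of a central quotient, and a helper for the arithmetic hypothesis of `SimpleQ`
-/

set_option autoImplicit false

namespace Cfsg.Agent.Helper26.SimpleQ

variable {G : Type*} [Group G]

/-- If the commutator of `g` and `y` is central of exponent `m`, and `y ^ n = 1` with `m`, `n`
coprime, then `g` and `y` commute. -/
theorem comm_of_central_commutator (g y : G) (m n : ℕ)
    (hc : g * y * g⁻¹ * y⁻¹ ∈ Subgroup.center G) (hy : y ^ n = 1)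
    (hm : (g * y * g⁻¹ * y⁻¹) ^ m = 1) (hmn : Nat.Coprime m n) : g * y = y * g := by
  set c := g * y * g⁻¹ * y⁻¹ with hcdef
  have hcy : g * y * g⁻¹ = c * y := by rw [hcdef]; group
  have hcomm : Commute c y := by
    rw [Subgroup.mem_center_iff] at hc
    exact (hc y).symm
  have h1 : (c * y) ^ n = 1 := by
    rw [← hcy, conj_pow, hy, mul_one, mul_inv_cancel]
  have h2 : c ^ n = 1 := by
    rw [hcomm.mul_pow, hy, mul_one] at h1
    exact h1
  have h3 : c = 1 := by
    have hd1 := orderOf_dvd_of_pow_eq_one h2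
    have hd2 := orderOf_dvd_of_pow_eq_one hm
    have hd : orderOf c ∣ Nat.gcd m n := Nat.dvd_gcd hd2 hd1
    rw [hmn.gcd_eq_one, Nat.dvd_one] at hd
    exact orderOf_eq_one_iff.1 hd
  have h4 : g * y * g⁻¹ = y := by rw [hcy, h3, one_mul]
  calc g * y = g * y * g⁻¹ * g := by group
    _ = y * g := by rw [h4]

/-- If `G` is generated by two elements whose orders are coprime to the exponent of the centre,
then the central quotient has trivial centre. -/
theorem center_quotient_eq_bot (u v : G) (m n k : ℕ)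
    (hgen : Subgroup.closure {u, v} = ⊤) (hu : u ^ n = 1) (hv : v ^ k = 1)
    (hm : ∀ c ∈ Subgroup.center G, c ^ m = 1) (hmn : Nat.Coprime m n) (hmk : Nat.Coprime m k) :
    Subgroup.center (G ⧸ Subgroup.center G) = ⊥ := by
  rw [eq_bot_iff]
  intro q hq
  obtain ⟨g, rfl⟩ := QuotientGroup.mk_surjective q
  rw [Subgroup.mem_center_iff] at hq
  have hcomm : ∀ y : G, g * y * g⁻¹ * y⁻¹ ∈ Subgroup.center G := by
    intro y
    have h1 := hq (y : G ⧸ Subgroup.center G)
    rw [← QuotientGroup.eq_one_iff]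
    have : ((g * y * g⁻¹ * y⁻¹ : G) : G ⧸ Subgroup.center G) =
        (g : G ⧸ Subgroup.center G) * y * (g : G ⧸ Subgroup.center G)⁻¹ *
          (y : G ⧸ Subgroup.center G)⁻¹ := rfl
    rw [this, ← h1]
    group
  have h1 := comm_of_central_commutator g u m n (hcomm u) hu (hm _ (hcomm u)) hmn
  have h2 := comm_of_central_commutator g v m k (hcomm v) hv (hm _ (hcomm v)) hmk
  have hle : Subgroup.closure {u, v} ≤ Subgroup.centralizer {g} := by
    rw [Subgroup.closure_le]
    intro y hy
    show y ∈ Subgroup.centralizer {g}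
    rw [Subgroup.mem_centralizer_iff]
    intro x hx
    rw [Set.mem_singleton_iff] at hx
    subst hx
    rcases hy with rfl | rfl
    · exact h1
    · exact h2
  rw [hgen] at hle
  have hg : g ∈ Subgroup.center G := by
    rw [Subgroup.mem_center_iff]
    intro y
    have hy : y ∈ Subgroup.centralizer {g} := hle (Subgroup.mem_top y)
    rw [Subgroup.mem_centralizer_iff] at hy
    exact (hy g rfl).symm
  rw [Subgroup.mem_bot]
  exact (QuotientGroup.eq_one_iff g).2 hg

/-- Helper for the arithmetic hypothesis of `isSimpleGroup_of_prime_elt`. -/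
theorem hmod_of_le (N q p e : ℕ) (hmax : ¬ p ^ (e + 1) ∣ N)
    (hchk : ∀ j ∈ Finset.Icc 1 e, ¬ (p ^ j ≡ 1 [MOD q])) :
    ∀ j, 0 < j → p ^ j ∣ N → ¬ (p ^ j ≡ 1 [MOD q]) := by
  intro j hj hd
  have hje : j ≤ e := by
    by_contra h
    exact hmax ((pow_dvd_pow p (by omega)).trans hd)
  exact hchk j (Finset.mem_Icc.2 ⟨hj, hje⟩)

theorem hmod_J3 : ∀ p : ℕ, p.Prime → p ≠ 19 → ∀ j, 0 < j → p ^ j ∣ 50232960 →
    ¬ (p ^ j ≡ 1 [MOD 19]) := by
  intro p hp hp19 j hj hdvd
  have hpd : p ∣ 50232960 := (dvd_pow_self p hj.ne').trans hdvd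
  have hcases : p = 2 ∨ p = 3 ∨ p = 5 ∨ p = 17 ∨ p = 19 := by
    have h : p ∣ 2 ^ 7 * (3 ^ 5 * (5 * (17 * 19))) := by
      have : (2 ^ 7 * (3 ^ 5 * (5 * (17 * 19))) : ℕ) = 50232960 := by norm_num
      rw [this]; exact hpd
    rcases (Nat.Prime.dvd_mul hp).1 h with h | h
    · left; exact (Nat.prime_dvd_prime_iff_eq hp Nat.prime_two).1 (hp.dvd_of_dvd_pow h)
    rcases (Nat.Prime.dvd_mul hp).1 h with h | h
    · right; left; exact (Nat.prime_dvd_prime_iff_eq hp Nat.prime_three).1 (hp.dvd_of_dvd_pow h)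
    rcases (Nat.Prime.dvd_mul hp).1 h with h | h
    · right; right; left; exact (Nat.prime_dvd_prime_iff_eq hp Nat.prime_five).1 h
    rcases (Nat.Prime.dvd_mul hp).1 h with h | h
    · right; right; right; left
      exact (Nat.prime_dvd_prime_iff_eq hp (by norm_num)).1 h
    · right; right; right; right
      exact (Nat.prime_dvd_prime_iff_eq hp (by norm_num)).1 h
  rcases hcases with rfl | rfl | rfl | rfl | rfl
  · exact hmod_of_le 50232960 19 2 7 (by norm_num) (by decide) j hj hdvd
  · exact hmod_of_le 50232960 19 3 5 (by norm_num) (by decide) j hj hdvd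
  · exact hmod_of_le 50232960 19 5 1 (by norm_num) (by decide) j hj hdvd
  · exact hmod_of_le 50232960 19 17 1 (by norm_num) (by decide) j hj hdvd
  · exact absurd rfl hp19

end Cfsg.Agent.Helper26.SimpleQ
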