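import Mathlib
import Cfsg.Agent.Lib.Helper26.J3Core3
import Cfsg.Agent.Lib.Helper26.SimpleQ2

/-!
# `3.J₃`: the centre has order 3 and the central quotient is simple of order 50232960
-/

set_option autoImplicit false

namespace Cfsg.Agent.Helper26.J3G

open Matrix
open Cfsg.Agent.Helper26 Cfsg.Agent.Helper26.F4M Cfsg.Agent.Helper26.J3D
  Cfsg.Agent.Helper26.J3C Cfsg.Agent.Helper26.J3K

namespace Setup

variable {F : Type*} [Field F] {A : Type*} [Group A] (S : Setup F A)

/-- The group `⟨a, b⟩`. -/
def G : Subgroup A := Subgroup.closure S.SG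

theorem omega_cube : S.ω ^ 3 = 1 := by
  have := S.hω
  linear_combination (S.ω - 1) * this

theorem a_mem : S.a ∈ S.G := Subgroup.subset_closure (by simp [SG])
theorem b_mem : S.b ∈ S.G := Subgroup.subset_closure (by simp [SG])

/-- `a` in `⟨a, b⟩`. -/
def a' : S.G := ⟨S.a, S.a_mem⟩
/-- `b` in `⟨a, b⟩`. -/
def b' : S.G := ⟨S.b, S.b_mem⟩

theorem closure_ab' : Subgroup.closure ({S.a', S.b'} : Set S.G) = ⊤ := by
  rw [eq_top_iff]
  intro g _
  let K : Subgroup A := (Subgroup.closure ({S.a', S.b'} : Set S.G)).map S.G.subtype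
  have haK : S.a ∈ K := ⟨S.a', Subgroup.subset_closure (by simp), rfl⟩
  have hbK : S.b ∈ K := ⟨S.b', Subgroup.subset_closure (by simp), rfl⟩
  have hle : S.G ≤ K := by
    unfold G
    rw [Subgroup.closure_le]
    intro y hy
    rcases hy with rfl | rfl
    · exact haK
    · exact hbK
  obtain ⟨k, hk, hkg⟩ := hle g.2
  have : k = g := Subtype.ext hkg
  rw [← this]; exact hk

variable [Finite A]

theorem zeta_mem : S.zeta ∈ S.G := S.H_le S.zeta_mem_H

/-- The scalar `ω` in `⟨a, b⟩`. -/
def zeta' : S.G := ⟨S.zeta, S.zeta_mem⟩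

theorem zeta'_pow_val (e : ℕ) : S.val ((S.zeta' ^ e : S.G) : A) = S.ω ^ e • (1 : M9 F) := by
  show S.val (S.zeta ^ e) = _
  rw [map_pow, S.zeta_val, smul_pow, one_pow]

theorem zeta'_central : S.zeta' ∈ Subgroup.center S.G := by
  rw [Subgroup.mem_center_iff]
  intro g
  apply Subtype.ext
  apply S.inj
  show S.val (g.1 * S.zeta) = S.val (S.zeta * g.1)
  rw [map_mul, map_mul, S.zeta_val, Matrix.mul_smul, Matrix.smul_mul, mul_one, one_mul]

theorem center_eq : Subgroup.center S.G = Subgroup.zpowers S.zeta' := by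
  apply le_antisymm
  · intro z hz
    rw [Subgroup.mem_center_iff] at hz
    have hc : ∀ g ∈ Subgroup.closure S.SG, g * z.1 = z.1 * g := by
      intro g hg
      exact congrArg Subtype.val (hz ⟨g, hg⟩)
    obtain ⟨e, _, hval⟩ := S.central_scalar z.1 z.2 hc
    have : z = S.zeta' ^ e := by
      apply Subtype.ext
      apply S.inj
      rw [hval, S.zeta'_pow_val]
    rw [this]
    exact Subgroup.pow_mem _ (Subgroup.mem_zpowers _) e
  · rw [Subgroup.zpowers_le]
    exact S.zeta'_central

theorem orderOf_zeta' : orderOf S.zeta' = 3 := by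
  have : Fact (Nat.Prime 3) := ⟨by norm_num⟩
  apply orderOf_eq_prime
  · apply Subtype.ext
    apply S.inj
    rw [S.zeta'_pow_val, S.omega_cube, one_smul]
    show _ = S.val 1
    rw [map_one]
  · intro h
    have h1 : S.val ((S.zeta' ^ 1 : S.G) : A) = S.val 1 := by rw [pow_one, h]; rfl
    rw [S.zeta'_pow_val, pow_one, map_one] at h1
    have h2 := congrFun (congrFun h1 0) 0
    simp only [Matrix.smul_apply, Matrix.one_apply_eq, smul_eq_mul, mul_one] at h2
    exact omega_ne_one S.h2 S.ω S.hω h2

/-- The centre of `⟨a, b⟩` has order 3. -/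
theorem card_center : Nat.card (Subgroup.center S.G) = 3 := by
  rw [S.center_eq, Nat.card_zpowers, S.orderOf_zeta']

theorem card_G' : Nat.card S.G = 150698880 := S.card_G

/-- The central quotient has order 50232960. -/
theorem card_quot : Nat.card (S.G ⧸ Subgroup.center S.G) = 50232960 := by
  have h := Subgroup.card_eq_card_quotient_mul_card_subgroup (Subgroup.center S.G)
  rw [S.card_center, S.card_G'] at h
  omega

theorem center_pow (c : S.G) (hc : c ∈ Subgroup.center S.G) : c ^ 3 = 1 := by
  have h : (⟨c, hc⟩ : Subgroup.center S.G) ^ Nat.card (Subgroup.center S.G) = 1 :=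
    pow_card_eq_one'
  rw [S.card_center] at h
  exact congrArg Subtype.val h

theorem a'_pow : S.a' ^ 3 = 1 := Subtype.ext S.a_pow
theorem b'_pow : S.b' ^ 17 = 1 := Subtype.ext S.b_pow
theorem ab'_pow : (S.a' * S.b') ^ 19 = 1 := Subtype.ext S.ab_pow

theorem ab'_not_central : S.a' * S.b' ∉ Subgroup.center S.G := by
  intro h
  have h3 := S.center_pow _ h
  have h19 := S.ab'_pow
  have hd : orderOf (S.a' * S.b') ∣ Nat.gcd 3 19 :=
    Nat.dvd_gcd (orderOf_dvd_of_pow_eq_one h3) (orderOf_dvd_of_pow_eq_one h19)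
  have : orderOf (S.a' * S.b') = 1 := by
    have e : Nat.gcd 3 19 = 1 := by norm_num
    rw [e, Nat.dvd_one] at hd
    exact hd
  rw [orderOf_eq_one_iff] at this
  exact S.ab_ne_one (congrArg Subtype.val this)

/-- The central quotient is simple. -/
theorem simple_quot : IsSimpleGroup (S.G ⧸ Subgroup.center S.G) := by
  have hq : Fact (Nat.Prime 19) := ⟨by norm_num⟩
  let π := QuotientGroup.mk' (Subgroup.center S.G)
  have hgen : Subgroup.closure ({π S.a', π S.b'} : Set (S.G ⧸ Subgroup.center S.G)) = ⊤ := by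
    have h1 : (Subgroup.closure ({S.a', S.b'} : Set S.G)).map π = ⊤ := by
      rw [S.closure_ab', Subgroup.map_top_of_surjective π (QuotientGroup.mk'_surjective _)]
    rw [MonoidHom.map_closure] at h1
    rw [← h1]
    congr 1
    ext x
    simp [Set.image_pair]
  have hx19 : (π S.a' * π S.b') ^ 19 = 1 := by
    rw [← map_mul, ← map_pow, S.ab'_pow, map_one]
  have hx1 : π S.a' * π S.b' ≠ 1 := by
    intro h
    rw [← map_mul] at h
    exact S.ab'_not_central ((QuotientGroup.eq_one_iff _).1 h)
  apply SimpleQ.isSimpleGroup_of_prime_elt 19 (π S.a' * π S.b')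
  · exact orderOf_eq_prime hx19 hx1
  · rw [S.card_quot]; norm_num
  · apply SimpleQ.normalClosure_mul_eq_top (π S.a') (π S.b') 3 17 _ _ (by norm_num) hgen
    · rw [← map_pow, S.a'_pow, map_one]
    · rw [← map_pow, S.b'_pow, map_one]
  · have hgen2 : Subgroup.closure ({S.b', S.a' * S.b'} : Set S.G) = ⊤ := by
      rw [eq_top_iff, ← S.closure_ab', Subgroup.closure_le]
      intro y hy
      rcases hy with rfl | rfl
      · have hb : S.b' ∈ Subgroup.closure ({S.b', S.a' * S.b'} : Set S.G) :=
          Subgroup.subset_closure (by simp)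
        have hab : S.a' * S.b' ∈ Subgroup.closure ({S.b', S.a' * S.b'} : Set S.G) :=
          Subgroup.subset_closure (by simp)
        have h := Subgroup.mul_mem _ hab (Subgroup.inv_mem _ hb)
        rwa [mul_inv_cancel_right] at h
      · exact Subgroup.subset_closure (by simp)
    exact SimpleQ.center_quotient_eq_bot S.b' (S.a' * S.b') 3 17 19 hgen2 S.b'_pow S.ab'_pow
      S.center_pow (by norm_num) (by norm_num)
  · rw [S.card_quot]; exact SimpleQ.hmod_J3

end Setup

end Cfsg.Agent.Helper26.J3G
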