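import Mathlib
import Cfsg.Agent.Lib.Helper26.J3Core4
import Cfsg.Agent.Lib.Helper26.J3ChkI

/-!
# `3.J₃` is transitive on the isotropic lines of its 9-space
-/

set_option autoImplicit false

namespace Cfsg.Agent.Helper26.J3G

open Matrix
open Cfsg.Agent.Helper26 Cfsg.Agent.Helper26.F4M Cfsg.Agent.Helper26.J3D
  Cfsg.Agent.Helper26.J3C Cfsg.Agent.Helper26.J3K

/-! ### Encoding digits -/

/-- The packed first column with digits `d`. -/
def enc (d : ℕ → ℕ) : ℕ → ℕ → ℕ
  | 0, P => P
  | k + 1, P => enc d k (P ^^^ (d k <<< (18 * k)))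

/-- The parity of the weight. -/
def par (d : ℕ → ℕ) : ℕ → Bool → Bool
  | 0, p => p
  | k + 1, p => par d k (if d k = 0 then p else !p)

theorem chk_spec (d : ℕ → ℕ) (hd : ∀ i, d i < 4) :
    ∀ (r P c : ℕ) (p : Bool), chk r P c p = true →
      ∃ c', leafOK (enc d r P) c' (par d r p) = true := by
  intro r
  induction r with
  | zero => intro P c p h; exact ⟨c, h⟩
  | succ k ih =>
    intro P c p h
    rw [chk_succ] at h
    simp only [Bool.and_eq_true] at h
    obtain ⟨⟨⟨h0, h1⟩, h2⟩, h3⟩ := h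
    show ∃ c', leafOK (enc d k (P ^^^ (d k <<< (18 * k)))) c'
      (par d k (if d k = 0 then p else !p)) = true
    have hk := hd k
    rcases (by omega : d k = 0 ∨ d k = 1 ∨ d k = 2 ∨ d k = 3) with e | e | e | e
    · rw [e, Nat.zero_shiftLeft, Nat.xor_zero, if_pos rfl]
      exact ih P c p h0
    · rw [e, if_neg (by norm_num)]
      exact ih _ _ _ h1
    · rw [e, if_neg (by norm_num)]
      exact ih _ _ _ h2
    · rw [e, if_neg (by norm_num)]
      exact ih _ _ _ h3

theorem xtreeOK_spec {j : ℕ} (h1 : 1 ≤ j) (h2 : j < nIso) :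
    XPAR j < j ∧ XV j = mmP (gP (XLAB j)) (XV (XPAR j)) := by
  have h := xtree_all j h1 h2
  unfold xtreeOK at h
  rw [Bool.and_eq_true, mmPF_eq] at h
  exact ⟨blt_lt h.1, Nat.eq_of_beq_eq_true h.2⟩

theorem shift_two : ∀ k : Fin 9, 2 <<< (18 * k.val) = wmul (unitP k.val) := by decide +kernel

theorem shift_three : ∀ k : Fin 9, 3 <<< (18 * k.val) = unitP k.val ^^^ wmul (unitP k.val) := by
  decide +kernel

/-! ### Decoding -/

section

variable {F : Type*} [Field F]

/-- The value of a digit. -/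
def digitVal (ω : F) (d : ℕ) : F := b2f (d.testBit 0) + b2f (d.testBit 1) * ω

theorem digitVal_zero (ω : F) : digitVal ω 0 = 0 := by simp [digitVal, b2f]
theorem digitVal_one (ω : F) : digitVal ω 1 = 1 := by
  have h0 : Nat.testBit 1 0 = true := by decide
  have h1 : Nat.testBit 1 1 = false := by decide
  simp [digitVal, b2f, h0, h1]
theorem digitVal_two (ω : F) : digitVal ω 2 = ω := by
  have h0 : Nat.testBit 2 0 = false := by decide
  have h1 : Nat.testBit 2 1 = true := by decide
  simp [digitVal, b2f, h0, h1]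
theorem digitVal_three (ω : F) : digitVal ω 3 = 1 + ω := by
  have h0 : Nat.testBit 3 0 = true := by decide
  have h1 : Nat.testBit 3 1 = true := by decide
  simp [digitVal, b2f, h0, h1]

theorem decM_zero (ω : F) : decM ω 0 = 0 := by
  ext r c
  simp [decM, b2f]

variable (h2 : (2 : F) = 0) (ω : F) (hω : ω ^ 2 + ω + 1 = 0)

include h2 in
theorem decM_xor (P Q : ℕ) : decM ω (P ^^^ Q) = decM ω P + decM ω Q := by
  ext r c
  show b2f ((P ^^^ Q).testBit _) + b2f ((P ^^^ Q).testBit _) * ω =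
    (b2f _ + b2f _ * ω) + (b2f _ + b2f _ * ω)
  rw [Nat.testBit_xor, Nat.testBit_xor, b2f_xor h2, b2f_xor h2]
  ring

include h2 hω in
theorem decM_digit (d : ℕ) (hd : d < 4) (k : ℕ) (hk : k < 9) :
    decM ω (d <<< (18 * k)) = digitVal ω d • decM ω (unitP k) := by
  interval_cases d
  · rw [Nat.zero_shiftLeft, decM_zero, digitVal_zero, zero_smul]
  · rw [digitVal_one, one_smul]
    rfl
  · rw [digitVal_two, shift_two ⟨k, hk⟩, decM_wmul h2 ω hω]
  · rw [digitVal_three, shift_three ⟨k, hk⟩, decM_xor h2, decM_wmul h2 ω hω, add_smul, one_smul]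

include h2 hω in
theorem decM_enc (d : ℕ → ℕ) (hd : ∀ i, d i < 4) : ∀ r : ℕ, r ≤ 9 → ∀ P : ℕ,
    decM ω (enc d r P) =
      decM ω P + ∑ k ∈ Finset.range r, digitVal ω (d k) • decM ω (unitP k) := by
  intro r
  induction r with
  | zero => intro _ P; simp [enc]
  | succ k ih =>
    intro hk P
    show decM ω (enc d k (P ^^^ (d k <<< (18 * k)))) = _
    rw [ih (by omega), decM_xor h2, decM_digit h2 ω hω (d k) (hd k) k (by omega),
      Finset.sum_range_succ]
    abel

include h2 hω in
theorem enc_entry (d : ℕ → ℕ) (hd : ∀ i, d i < 4) (r c : Fin 9) :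
    decM ω (enc d 9 0) r c = if c = 0 then digitVal ω (d r.val) else 0 := by
  rw [decM_enc h2 ω hω d hd 9 le_rfl 0, decM_zero, zero_add, Matrix.sum_apply]
  simp only [Matrix.smul_apply, smul_eq_mul]
  rw [← Fin.sum_univ_eq_sum_range (fun k => digitVal ω (d k) * decM ω (unitP k) r c) 9]
  simp only [decM_unitP]
  by_cases hc : c = 0
  · simp [hc]
  · simp [hc]

include h2 hω in
theorem digitVal_cube (d : ℕ) (hd : d < 4) :
    digitVal ω d ^ 3 = if d = 0 then 0 else 1 := by
  interval_cases d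
  · simp [digitVal_zero]
  · simp [digitVal_one]
  · rw [digitVal_two, if_neg (by norm_num)]
    linear_combination (ω - 1) * hω
  · rw [digitVal_three, if_neg (by norm_num)]
    linear_combination (ω + 2) * hω - h2

include h2 in
theorem b2f_not (p : Bool) : (b2f (!p) : F) = b2f p + 1 := by
  cases p
  · simp [b2f]
  · simp only [b2f, Bool.not_true, if_true]
    rw [one_add_one_eq_two, h2]
    simp

include h2 hω in
theorem b2f_par (d : ℕ → ℕ) (hd : ∀ i, d i < 4) : ∀ (r : ℕ) (p : Bool),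
    (b2f (par d r p) : F) = b2f p + ∑ k ∈ Finset.range r, digitVal ω (d k) ^ 3 := by
  intro r
  induction r with
  | zero => intro p; simp [par]
  | succ k ih =>
    intro p
    show (b2f (par d k (if d k = 0 then p else !p)) : F) = _
    rw [ih, Finset.sum_range_succ, digitVal_cube h2 ω hω (d k) (hd k)]
    by_cases e : d k = 0
    · rw [if_pos e, if_pos e]; ring
    · rw [if_neg e, if_neg e, b2f_not h2]; ring

end

/-! ### Column matrices -/

section

variable {F : Type*} [Field F]

/-- The matrix with first column `v` and zero elsewhere. -/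
def colMat (v : Fin 9 → F) : M9 F := fun r c => if c = 0 then v r else 0

theorem mul_colMat (M : M9 F) (v : Fin 9 → F) : M * colMat v = colMat (M *ᵥ v) := by
  ext r c
  rw [Matrix.mul_apply]
  by_cases hc : c = 0
  · simp only [colMat, hc, if_true]
    rfl
  · simp [colMat, hc]

theorem colMat_smul (c : F) (v : Fin 9 → F) : colMat (c • v) = c • colMat v := by
  ext r k
  by_cases hk : k = 0
  · simp [colMat, hk]
  · simp [colMat, hk]

theorem colMat_inj {v w : Fin 9 → F} (h : colMat v = colMat w) : v = w := by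
  funext r
  have := congrFun (congrFun h r) 0
  simpa [colMat] using this

end

namespace Setup

variable {F : Type*} [Field F] {A : Type*} [Group A] [Finite A] (S : Setup F A)

/-- The elements moving the base isotropic vector to the orbit vectors. -/
def XE : ℕ → A
  | j => if _h : 0 < j ∧ XPAR j < j then S.gen (XLAB j) * XE (XPAR j) else 1
termination_by j => j
decreasing_by exact _h.2

theorem XE_zero : S.XE 0 = 1 := by
  rw [XE]; simp

theorem XE_step (j : ℕ) (h1 : 0 < j) (h2 : XPAR j < j) :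
    S.XE j = S.gen (XLAB j) * S.XE (XPAR j) := by
  rw [XE]; simp [h1, h2]

theorem XE_mem (j : ℕ) : S.XE j ∈ S.G := by
  induction j using Nat.strong_induction_on with
  | _ j ih =>
    by_cases h : 0 < j ∧ XPAR j < j
    · rw [S.XE_step j h.1 h.2]
      exact Subgroup.mul_mem _ (S.gen_mem _) (ih _ h.2)
    · rw [XE]; simp only [h, dite_false]; exact Subgroup.one_mem _

theorem XE_val (j : ℕ) (hj : j < nIso) : S.val (S.XE j) * S.dec V0P = S.dec (XV j) := by
  induction j using Nat.strong_induction_on with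
  | _ j ih =>
    rcases Nat.eq_zero_or_pos j with h0 | h0
    · rw [h0, S.XE_zero, map_one, one_mul, XV_zero]
    · obtain ⟨hp, heq⟩ := xtreeOK_spec h0 hj
      rw [S.XE_step j h0 hp, map_mul, mul_assoc, ih _ hp (lt_trans hp hj), S.gen_val, heq,
        S.dec_mul]

/-- Every nonzero isotropic vector is a multiple of an orbit vector. -/
theorem iso_mem (hF4 : ∀ x : F, ∃ d < 4, x = digitVal S.ω d) (v : Fin 9 → F) (hv : v ≠ 0)
    (hiso : ∑ r, v r ^ 3 = 0) :
    ∃ j < nIso, ∃ e < 3, colMat v = S.ω ^ e • (S.val (S.XE j) * S.dec V0P) := by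
  choose d' hd' hv' using fun r : Fin 9 => hF4 (v r)
  let d : ℕ → ℕ := fun k => if h : k < 9 then d' ⟨k, h⟩ else 0
  have hd : ∀ i, d i < 4 := by
    intro i
    by_cases h : i < 9
    · simp only [d, h, dite_true]; exact hd' _
    · simp only [d, h, dite_false]; norm_num
  have hdv : ∀ r : Fin 9, digitVal S.ω (d r.val) = v r := by
    intro r
    simp only [d, r.isLt, dite_true]
    exact (hv' r).symm
  have hP : S.dec (enc d 9 0) = colMat v := by
    ext r c
    show decM S.ω (enc d 9 0) r c = _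
    rw [enc_entry S.h2 S.ω S.hω d hd r c, hdv]
    rfl
  obtain ⟨c', hc'⟩ := chk_spec d hd 9 0 0 false chk_all
  unfold leafOK at hc'
  rw [Bool.or_eq_true, Bool.or_eq_true] at hc'
  rcases hc' with (h | h) | h
  · exfalso
    apply hv
    have h0 : enc d 9 0 = 0 := Nat.eq_of_beq_eq_true h
    rw [h0] at hP
    apply colMat_inj
    rw [← hP]
    show decM S.ω 0 = _
    rw [decM_zero]
    ext r c
    simp [colMat]
  · exfalso
    have hb := b2f_par S.h2 S.ω S.hω d hd 9 false
    rw [h, ← Fin.sum_univ_eq_sum_range (fun k => digitVal S.ω (d k) ^ 3) 9] at hb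
    simp only [hdv] at hb
    rw [hiso] at hb
    simp [b2f] at hb
  · rw [Bool.and_eq_true, seqN_eq] at h
    obtain ⟨hj, hm⟩ := h
    have hj' := blt_lt hj
    refine ⟨ISO c', hj', ?_⟩
    unfold match3 at hm
    rw [Bool.or_eq_true, Bool.or_eq_true] at hm
    rw [← hP, S.XE_val _ hj']
    rcases hm with (hm | hm) | hm
    · exact ⟨0, by norm_num, by rw [Nat.eq_of_beq_eq_true hm, pow_zero, one_smul]⟩
    · refine ⟨1, by norm_num, ?_⟩
      rw [Nat.eq_of_beq_eq_true hm, pow_one]
      exact decM_wmul S.h2 S.ω S.hω _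
    · refine ⟨2, by norm_num, ?_⟩
      rw [Nat.eq_of_beq_eq_true hm, pow_two, mul_smul]
      show decM S.ω (wmul (wmul _)) = _
      rw [decM_wmul S.h2 S.ω S.hω, decM_wmul S.h2 S.ω S.hω]
      rfl

/-- The group is transitive on isotropic lines. -/
theorem iso_trans (hF4 : ∀ x : F, ∃ d < 4, x = digitVal S.ω d) (v w : Fin 9 → F) (hv : v ≠ 0)
    (hw : w ≠ 0) (hvi : ∑ r, v r ^ 3 = 0) (hwi : ∑ r, w r ^ 3 = 0) :
    ∃ g ∈ S.G, ∃ c : F, c ≠ 0 ∧ S.val g *ᵥ v = c • w := by
  obtain ⟨j, hj, e, he, h1⟩ := S.iso_mem hF4 v hv hvi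
  obtain ⟨k, hk, f, hf, h2⟩ := S.iso_mem hF4 w hw hwi
  have hω0 : S.ω ≠ 0 := omega_ne_zero S.ω S.hω
  refine ⟨S.XE k * (S.XE j)⁻¹, Subgroup.mul_mem _ (S.XE_mem k) (Subgroup.inv_mem _ (S.XE_mem j)),
    S.ω ^ e * (S.ω ^ f)⁻¹, mul_ne_zero (pow_ne_zero _ hω0) (inv_ne_zero (pow_ne_zero _ hω0)), ?_⟩
  apply colMat_inj
  rw [← mul_colMat, h1, colMat_smul, h2, Matrix.mul_smul, ← mul_assoc, ← map_mul,
    inv_mul_cancel_right, smul_smul, mul_assoc (S.ω ^ e), inv_mul_cancel₀ (pow_ne_zero _ hω0),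
    mul_one]

end Setup

end Cfsg.Agent.Helper26.J3G
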