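import Mathlib
import Cfsg.Agent.Lib.Helper26.J3Core4
import Cfsg.Agent.Lib.Helper26.J3ChkL

/-!
# A subgroup of order 24480 of `3.J₃` containing the centre
-/

set_option autoImplicit false

namespace Cfsg.Agent.Helper26.J3G

open Matrix
open Cfsg.Agent.Helper26 Cfsg.Agent.Helper26.F4M Cfsg.Agent.Helper26.J3D
  Cfsg.Agent.Helper26.J3C Cfsg.Agent.Helper26.J3K

/-! ### Facts from the kernel checks -/

theorem ltreeOK_spec {k : ℕ} (h1 : 1 ≤ k) (h2 : k < nL) :
    LPAR k < k ∧ LL k = mmP (lP (LLAB k)) (LL (LPAR k)) := by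
  have h := ltree_all k h1 h2
  unfold ltreeOK at h
  rw [Bool.and_eq_true, mmPF_eq] at h
  exact ⟨blt_lt h.1, Nat.eq_of_beq_eq_true h.2⟩

theorem LL_lt (k : ℕ) (hk : k < nL) : LL k < 2 ^ 162 := by
  rcases Nat.eq_zero_or_pos k with h0 | h0
  · rw [h0, LL_zero]; decide
  · rw [(ltreeOK_spec h0 hk).2]; exact mmP_lt _ _

theorem lschOK_spec (s : ℕ) (hs : s < 2) {k : ℕ} (hk : k < nL) :
    ltau s k < nL ∧ mmP (lP s) (LL k) = LL (ltau s k) := by
  have h : lschOK s k = true := by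
    interval_cases s
    · exact lsch0_all k hk
    · exact lsch1_all k hk
  unfold lschOK at h
  rw [Bool.and_eq_true, mmPF_eq] at h
  exact ⟨blt_lt h.1, Nat.eq_of_beq_eq_true h.2⟩

theorem LPI_spec (k : ℕ) (hk : k < nL) : LPI k < nL ∧ LPINV (LPI k) = k := by
  have h := lkey_all k hk
  unfold lkeyOK at h
  rw [Bool.and_eq_true] at h
  exact ⟨blt_lt h.1, Nat.eq_of_beq_eq_true h.2⟩

theorem lsorted_step (m : ℕ) (hm : m + 1 < nL) : LL (LPINV m) < LL (LPINV (m + 1)) := by
  have h := lsort_all m (by have : m + 1 < 24480 := hm; omega)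
  exact blt_lt h

theorem lsorted_lt {m m' : ℕ} (h : m < m') (hm' : m' < nL) :
    LL (LPINV m) < LL (LPINV m') := by
  induction m' with
  | zero => exact absurd h (Nat.not_lt_zero m)
  | succ k ih =>
    rcases Nat.lt_succ_iff_lt_or_eq.1 h with h1 | h1
    · exact lt_trans (ih h1 (by omega)) (lsorted_step k hm')
    · rw [h1]; exact lsorted_step k hm'

theorem LL_inj {i j : ℕ} (hi : i < nL) (hj : j < nL) (h : LL i = LL j) : i = j := by
  obtain ⟨hi1, hi2⟩ := LPI_spec i hi
  obtain ⟨hj1, hj2⟩ := LPI_spec j hj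
  have hk : LL (LPINV (LPI i)) = LL (LPINV (LPI j)) := by rw [hi2, hj2, h]
  have : LPI i = LPI j := by
    rcases Nat.lt_trichotomy (LPI i) (LPI j) with h1 | h1 | h1
    · exact absurd hk (ne_of_lt (lsorted_lt h1 hj1))
    · exact h1
    · exact absurd hk.symm (ne_of_lt (lsorted_lt h1 hi1))
  rw [← hi2, ← hj2, this]

namespace Setup

variable {F : Type*} [Field F] {A : Type*} [Group A] [Finite A] (S : Setup F A)

/-- The two generators of the subgroup. -/
def lgen (s : ℕ) : A := cond (Nat.beq s 0) (S.zeta * S.b) (S.E iT * S.U kT)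

theorem lgen_val (s : ℕ) : S.val (S.lgen s) = S.dec (lP s) := by
  unfold lgen lP
  cases h : Nat.beq s 0
  · simp only [cond_false]
    rw [map_mul, S.E_val iT (lt_trans iT_lt (by decide)), S.U_val kT kT_lt, lP1_eq]
    exact (S.dec_mul _ _).symm
  · simp only [cond_true]
    rw [map_mul, S.zeta_val, S.hb, lP0_eq, smul_mul_assoc, one_mul]
    exact (decM_wmul S.h2 S.ω S.hω gP1).symm

/-- The generating set of the subgroup. -/
def SL : Set A := {S.zeta * S.b, S.E iT * S.U kT}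

theorem lgen_mem (s : ℕ) : S.lgen s ∈ Subgroup.closure S.SL := by
  unfold lgen SL
  cases h : Nat.beq s 0
  · exact Subgroup.subset_closure (by simp)
  · exact Subgroup.subset_closure (by simp)

theorem mem_SL {g : A} (hg : g ∈ S.SL) : ∃ s < 2, g = S.lgen s := by
  rcases hg with rfl | rfl
  · exact ⟨0, by norm_num, rfl⟩
  · exact ⟨1, by norm_num, rfl⟩

/-- The elements of the subgroup. -/
def Lel : ℕ → A
  | k => if _h : 0 < k ∧ LPAR k < k then S.lgen (LLAB k) * Lel (LPAR k) else 1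
termination_by k => k
decreasing_by exact _h.2

theorem Lel_zero : S.Lel 0 = 1 := by
  rw [Lel]; simp

theorem Lel_step (k : ℕ) (h1 : 0 < k) (h2 : LPAR k < k) :
    S.Lel k = S.lgen (LLAB k) * S.Lel (LPAR k) := by
  rw [Lel]; simp [h1, h2]

theorem Lel_mem (k : ℕ) : S.Lel k ∈ Subgroup.closure S.SL := by
  induction k using Nat.strong_induction_on with
  | _ k ih =>
    by_cases h : 0 < k ∧ LPAR k < k
    · rw [S.Lel_step k h.1 h.2]
      exact Subgroup.mul_mem _ (S.lgen_mem _) (ih _ h.2)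
    · rw [Lel]; simp only [h, dite_false]; exact Subgroup.one_mem _

theorem Lel_val (k : ℕ) (hk : k < nL) : S.val (S.Lel k) = S.dec (LL k) := by
  induction k using Nat.strong_induction_on with
  | _ k ih =>
    rcases Nat.eq_zero_or_pos k with h0 | h0
    · rw [h0, S.Lel_zero, LL_zero, S.dec_idP, map_one]
    · obtain ⟨hp, heq⟩ := ltreeOK_spec h0 hk
      rw [S.Lel_step k h0 hp, map_mul, S.lgen_val, ih _ hp (lt_trans hp hk), heq, S.dec_mul]

theorem Lel_inj : ∀ i < nL, ∀ j < nL, S.Lel i = S.Lel j → i = j := by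
  intro i hi j hj h
  apply LL_inj hi hj
  apply S.dec_inj (LL_lt i hi) (LL_lt j hj)
  rw [← S.Lel_val i hi, ← S.Lel_val j hj, h]

theorem Lel_step_gen (s : ℕ) (hs : s < 2) {k : ℕ} (hk : k < nL) :
    ltau s k < nL ∧ S.lgen s * S.Lel k = S.Lel (ltau s k) := by
  obtain ⟨h1, h2⟩ := lschOK_spec s hs hk
  refine ⟨h1, S.inj ?_⟩
  rw [map_mul, S.lgen_val, S.Lel_val k hk, S.Lel_val _ h1, ← S.dec_mul, h2]

/-- The subgroup has order 24480 and consists of the `Lel k`. -/
theorem levelL : (∀ k ∈ Subgroup.closure S.SL, ∃ i < nL, k = S.Lel i) ∧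
    Nat.card (Subgroup.closure S.SL) = nL := by
  apply schreier_list S.SL nL S.Lel (by decide) S.Lel_zero (fun i _ => S.Lel_mem i) S.Lel_inj
  intro g hg i hi
  obtain ⟨s, hs, rfl⟩ := S.mem_SL hg
  exact ⟨ltau s i, (S.Lel_step_gen s hs hi).1, (S.Lel_step_gen s hs hi).2⟩

/-- The subgroup. -/
def L : Subgroup A := Subgroup.closure S.SL

theorem card_L : Nat.card S.L = 24480 := S.levelL.2

theorem L_le : S.L ≤ S.G := by
  unfold L G
  rw [Subgroup.closure_le]
  intro g hg
  rcases hg with rfl | rfl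
  · exact Subgroup.mul_mem _ S.zeta_mem S.b_mem
  · exact Subgroup.mul_mem _ (S.E_mem _) (S.H_le (S.U_mem _))

theorem zeta_mem_L : S.zeta ∈ S.L := by
  have h : S.zeta = S.Lel jz := by
    apply S.inj
    rw [S.zeta_val, S.Lel_val jz jz_lt, LL_jz]
    show _ = decM S.ω (wmul idP)
    rw [decM_wmul S.h2 S.ω S.hω, decM_idP]
  rw [h]
  exact S.Lel_mem jz

end Setup

end Cfsg.Agent.Helper26.J3G
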