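import Mathlib
import Cfsg.Agent.Lib.Helper26.J3Core4

/-!
# The orbit of `3.J₃` on the line through the first basis vector
-/

set_option autoImplicit false

namespace Cfsg.Agent.Helper26.J3G

open Matrix
open Cfsg.Agent.Helper26 Cfsg.Agent.Helper26.F4M Cfsg.Agent.Helper26.J3D
  Cfsg.Agent.Helper26.J3C Cfsg.Agent.Helper26.J3K

section

variable {F : Type*} [Field F]

theorem col0_eq_iff (M N : M9 F) (c : F) :
    col0 M = c • col0 N ↔ M *ᵥ Pi.single 0 1 = c • (N *ᵥ Pi.single 0 1) := by
  rw [Matrix.mulVec_single_one, Matrix.mulVec_single_one]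
  constructor
  · intro h
    funext r
    have := congrFun (congrFun h r) 0
    simpa [col0] using this
  · intro h
    ext r k
    have := congrFun h r
    by_cases hk : k = 0
    · subst hk
      simpa [col0] using this
    · simp [col0, hk]

end

namespace Setup

variable {F : Type*} [Field F] {A : Type*} [Group A] [Finite A] (S : Setup F A)

/-- Proportional first columns of transversal elements. -/
theorem col0_rel_inj {i j : ℕ} (hi : i < nPts) (hj : j < nPts) (e : ℕ) (he : e < 3)
    (hc : col0 (S.dec (TT i)) = S.ω ^ e • col0 (S.dec (TT j))) : i = j := by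
  rw [← S.dec_colX, ← S.dec_colX] at hc
  apply colX_rel_inj hi hj
  interval_cases e
  · left
    apply S.dec_inj (colX_lt i) (colX_lt j)
    rw [hc, pow_zero, one_smul]
  · right; left
    apply S.dec_inj (colX_lt i) (wmul_lt _)
    rw [hc, pow_one]
    exact (decM_wmul S.h2 S.ω S.hω _).symm
  · right; right
    apply S.dec_inj (colX_lt i) (wmul_lt _)
    rw [hc, pow_two, mul_smul]
    show _ = decM S.ω (wmul (wmul (colX j)))
    rw [decM_wmul S.h2 S.ω S.hω, decM_wmul S.h2 S.ω S.hω]
    rfl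

/-- The first column of an element of the group. -/
theorem col0_mem (g : A) (hg : g ∈ S.G) :
    ∃ i < nPts, ∃ e < 3, col0 (S.val g) = S.ω ^ e • col0 (S.val (S.E i)) := by
  obtain ⟨i, hi, h, hh, rfl⟩ := S.level1.1 g hg
  obtain ⟨k, hk, rfl⟩ := S.level2.1 h hh
  obtain ⟨e, he, hcol⟩ := S.U_col0 k hk
  refine ⟨i, hi, e, he, ?_⟩
  rw [map_mul, col0_mul, S.U_val k hk, hcol, Matrix.mul_smul, ← col0_mul, mul_one]

/-- Images of the first basis vector. -/
theorem vec_mem (g : A) (hg : g ∈ S.G) :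
    ∃ i < nPts, ∃ e < 3, S.val g *ᵥ Pi.single 0 1 = S.ω ^ e • (S.val (S.E i) *ᵥ Pi.single 0 1) := by
  obtain ⟨i, hi, e, he, h⟩ := S.col0_mem g hg
  exact ⟨i, hi, e, he, (col0_eq_iff _ _ _).mp h⟩

/-- Distinct transversal elements give distinct lines. -/
theorem vec_inj {i j : ℕ} (hi : i < nPts) (hj : j < nPts) (e : ℕ) (he : e < 3)
    (h : S.val (S.E i) *ᵥ Pi.single 0 1 = S.ω ^ e • (S.val (S.E j) *ᵥ Pi.single 0 1)) :
    i = j := by
  apply S.col0_rel_inj hi hj e he
  rw [← S.E_val i (lt_trans hi (by decide)), ← S.E_val j (lt_trans hj (by decide))]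
  exact (col0_eq_iff _ _ _).mpr h

end Setup

end Cfsg.Agent.Helper26.J3G
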