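
/-! Conjugate transposes of the two generators of `3.J₃` (generated). -/

set_option autoImplicit false

namespace Cfsg.Agent.Helper26.J3D

def ctP0 : Nat := 0x20000200003000020000200003000030000300001
def ctP1 : Nat := 0x10015020280411144004140030f0504004500

end Cfsg.Agent.Helper26.J3D
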