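import Mathlib
import Cfsg.Agent.Lib.Helper26.Schreier
import Cfsg.Agent.Lib.Helper26.F4Mat
import Cfsg.Agent.Lib.Helper26.J3Data

/-!
# Boolean checks on the `3.J₃` data
-/

set_option autoImplicit false

namespace Cfsg.Agent.Helper26.J3C

open Cfsg.Agent.Helper26 Cfsg.Agent.Helper26.F4M Cfsg.Agent.Helper26.J3D

/-- The first column. -/
def mCol3 : ℕ := 0x30000c00030000c00030000c00030000c0003

/-- Packed generator. -/
def gP (g : ℕ) : ℕ := cond (Nat.beq g 0) gP0 gP1

/-- `TAU`. -/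
def tau (g i : ℕ) : ℕ := cond (Nat.beq g 0) (TAU0 i) (TAU1 i)
/-- `SIG`. -/
def sig (g i : ℕ) : ℕ := cond (Nat.beq g 0) (SIG0 i) (SIG1 i)

/-- forced product -/
def mmPF (P Q : ℕ) : ℕ := seqN P fun P => seqN Q fun Q => mmP P Q

theorem mmPF_eq (P Q : ℕ) : mmPF P Q = mmP P Q := by
  simp only [mmPF, seqN_eq]

/-- The tree check at index `i`. -/
def treeOK (i : ℕ) : Bool :=
  Nat.blt (PAR i) i && Nat.beq (TT i) (mmPF (gP (LAB i)) (TT (PAR i)))

/-- Is `(g, i)` a tree edge? -/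
def isTreeEdge (g i : ℕ) : Bool :=
  Nat.beq (sig g i) 0 && Nat.beq (PAR (tau g i)) i && Nat.beq (LAB (tau g i)) g &&
    Nat.ble 1 (tau g i)

/-- The Schreier check. -/
def schOK (g i : ℕ) : Bool :=
  Nat.blt (tau g i) nPts && Nat.blt (sig g i) nH &&
    (isTreeEdge g i || Nat.beq (mmPF (gP g) (TT i)) (mmPF (TT (tau g i)) (UU (sig g i))))

/-- Minimum. -/
def minN (a b : ℕ) : ℕ := cond (Nat.ble a b) a b

theorem minN_eq (a b : ℕ) : minN a b = min a b := by
  unfold minN
  cases h : Nat.ble a b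
  · have : ¬ a ≤ b := fun h' => by rw [Nat.ble_eq_true_of_le h'] at h; exact Bool.noConfusion h
    simp only [cond_false]; omega
  · have := Nat.le_of_ble_eq_true h
    simp only [cond_true]; omega

/-- The canonical key of the line spanned by the first column. -/
def lineKey (P : ℕ) : ℕ :=
  seqN (P &&& mCol3) fun X => seqN (wmul X) fun Y => seqN (wmul Y) fun Z => minN X (minN Y Z)

/-- `ω³ = 1` on the first column. -/
def cycOK (P : ℕ) : Bool := seqN (P &&& mCol3) fun X => Nat.beq (wmul (wmul (wmul X))) X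

/-- Key check. -/
def keyOK (i : ℕ) : Bool :=
  cycOK (TT i) && Nat.blt (PI i) nPts && Nat.beq (PINV (PI i)) i

/-- Sortedness check. -/
def sortOK (m : ℕ) : Bool := Nat.blt (lineKey (TT (PINV m))) (lineKey (TT (PINV (m + 1))))

/-- Packed generators of the stabilizer. -/
def hP (s : ℕ) : ℕ := cond (Nat.beq s 0) (TT idx_h1) (TT idx_h2)

/-- `UTAU`. -/
def utau (s k : ℕ) : ℕ := cond (Nat.beq s 0) (UTAU0 k) (UTAU1 k)

/-- The tree check in the stabilizer. -/
def utreeOK (k : ℕ) : Bool :=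
  Nat.blt (UPAR k) k && Nat.beq (UU k) (mmPF (hP (ULAB k)) (UU (UPAR k)))

/-- Closure check in the stabilizer. -/
def uschOK (s k : ℕ) : Bool :=
  Nat.blt (utau s k) nH && Nat.beq (mmPF (hP s) (UU k)) (UU (utau s k))

/-- Key check in the stabilizer. -/
def ukeyOK (k : ℕ) : Bool := Nat.blt (UPI k) nH && Nat.beq (UPINV (UPI k)) k

/-- Sortedness in the stabilizer. -/
def usortOK (m : ℕ) : Bool := Nat.blt (UU (UPINV m)) (UU (UPINV (m + 1)))

end Cfsg.Agent.Helper26.J3C
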