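import Mathlib
import Cfsg.Agent.Lib.Helper26.J3Defs

/-!
# More Boolean checks on the `3.J₃` data
-/

set_option autoImplicit false

namespace Cfsg.Agent.Helper26.J3C

open Cfsg.Agent.Helper26 Cfsg.Agent.Helper26.F4M Cfsg.Agent.Helper26.J3D

/-- `ω³ = 1` on the first column (forced evaluation). -/
def cycOK2 (P : ℕ) : Bool :=
  seqN (P &&& mCol3) fun X => seqN (wmul X) fun Y => seqN (wmul Y) fun Z => Nat.beq (wmul Z) X

/-- Key check. -/
def keyOK2 (i : ℕ) : Bool :=
  cycOK2 (TT i) && Nat.blt (PI i) nPts && Nat.beq (PINV (PI i)) i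

/-- The first column of `UU k` is a nonzero multiple of `e₀`: returns the exponent plus one. -/
def ufixE (k : ℕ) : ℕ :=
  seqN (UU k &&& mCol3) fun x =>
    cond (Nat.beq x 1) 1 (cond (Nat.beq x 2) 2 (cond (Nat.beq x 3) 3 0))

/-- The action of a word (a list of generator labels, in product order) on the indices. -/
def wact (w : List ℕ) (i : ℕ) : ℕ := w.foldr (fun g j => tau g j) i

end Cfsg.Agent.Helper26.J3C
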