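import Mathlib
import Cfsg.Agent.Lib.Helper26.J3Defs2
import Cfsg.Agent.Lib.Helper26.F4Mat2
import Cfsg.Agent.Lib.Helper26.J3DataI

/-!
# Boolean checks for the orbit of `3.J₃` on isotropic lines
-/

set_option autoImplicit false

namespace Cfsg.Agent.Helper26.J3C

open Cfsg.Agent.Helper26 Cfsg.Agent.Helper26.F4M Cfsg.Agent.Helper26.J3D

/-- Multiplier spreading eight two-bit digits. -/
def spreadK : ℕ := 0x10001000100010001000100010001
/-- Mask of the first column (first eight rows). -/
def spreadM : ℕ := 0xc00030000c00030000c00030000c0003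

/-- From two bits per coordinate to the packed first column. -/
def spread (c : ℕ) : ℕ := (((c &&& 0xFFFF) * spreadK) &&& spreadM) ||| ((c >>> 16) <<< 144)

/-- The orbit vectors as packed first columns. -/
def XV (j : ℕ) : ℕ := spread (XC j)

/-- The base vector `e₀ + e₁`. -/
def V0P : ℕ := 262145

/-- The tree check for the orbit. -/
def xtreeOK (j : ℕ) : Bool :=
  Nat.blt (XPAR j) j && Nat.beq (XV j) (mmPF (gP (XLAB j)) (XV (XPAR j)))

/-- Equality up to a power of `ω`. -/
def match3 (P X : ℕ) : Bool := Nat.beq P X || Nat.beq P (wmul X) || Nat.beq P (wmul (wmul X))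

/-- The check at a vector `P` (packed first column) with compact index `c` and weight parity
`p`. -/
def leafOK (P c : ℕ) (p : Bool) : Bool :=
  Nat.beq P 0 || p || (Nat.blt (ISO c) nIso && seqN (XV (ISO c)) fun X => match3 P X)

/-- The check over all vectors with `r` free coordinates. -/
def chk (r : ℕ) : ℕ → ℕ → Bool → Bool :=
  Nat.rec (fun P c p => leafOK P c p)
    (fun k ih P c p => seqN P fun P => seqN c fun c =>
      ih P c p && ih (P ^^^ (1 <<< (18 * k))) (c + (1 <<< (2 * k))) (!p) &&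
        ih (P ^^^ (2 <<< (18 * k))) (c + (2 <<< (2 * k))) (!p) &&
        ih (P ^^^ (3 <<< (18 * k))) (c + (3 <<< (2 * k))) (!p)) r

theorem chk_zero (P c : ℕ) (p : Bool) : chk 0 P c p = leafOK P c p := rfl

theorem chk_succ (k P c : ℕ) (p : Bool) : chk (k + 1) P c p =
    (chk k P c p && chk k (P ^^^ (1 <<< (18 * k))) (c + (1 <<< (2 * k))) (!p) &&
      chk k (P ^^^ (2 <<< (18 * k))) (c + (2 <<< (2 * k))) (!p) &&
      chk k (P ^^^ (3 <<< (18 * k))) (c + (3 <<< (2 * k))) (!p)) := by
  have h : chk (k + 1) P c p = seqN P (fun P => seqN c fun c =>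
      chk k P c p && chk k (P ^^^ (1 <<< (18 * k))) (c + (1 <<< (2 * k))) (!p) &&
        chk k (P ^^^ (2 <<< (18 * k))) (c + (2 <<< (2 * k))) (!p) &&
        chk k (P ^^^ (3 <<< (18 * k))) (c + (3 <<< (2 * k))) (!p)) := rfl
  rw [h, seqN_eq, seqN_eq]

end Cfsg.Agent.Helper26.J3C
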