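import Mathlib
import Cfsg.Agent.Lib.Helper26.J3Defs2
import Cfsg.Agent.Lib.Helper26.F4Mat2
import Cfsg.Agent.Lib.Helper26.J3DataL

/-!
# Boolean checks for the subgroup of order 24480 of `3.J₃`
-/

set_option autoImplicit false

namespace Cfsg.Agent.Helper26.J3C

open Cfsg.Agent.Helper26 Cfsg.Agent.Helper26.F4M Cfsg.Agent.Helper26.J3D

/-- Packed generators of the subgroup. -/
def lP (s : ℕ) : ℕ := cond (Nat.beq s 0) lP0 lP1

/-- `LTAU`. -/
def ltau (s k : ℕ) : ℕ := cond (Nat.beq s 0) (LTAU0 k) (LTAU1 k)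

/-- The tree check in the subgroup. -/
def ltreeOK (k : ℕ) : Bool :=
  Nat.blt (LPAR k) k && Nat.beq (LL k) (mmPF (lP (LLAB k)) (LL (LPAR k)))

/-- Closure check in the subgroup. -/
def lschOK (s k : ℕ) : Bool :=
  Nat.blt (ltau s k) nL && Nat.beq (mmPF (lP s) (LL k)) (LL (ltau s k))

/-- Key check in the subgroup. -/
def lkeyOK (k : ℕ) : Bool := Nat.blt (LPI k) nL && Nat.beq (LPINV (LPI k)) k

/-- Sortedness in the subgroup. -/
def lsortOK (m : ℕ) : Bool := Nat.blt (LL (LPINV m)) (LL (LPINV (m + 1)))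

end Cfsg.Agent.Helper26.J3C
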