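import Cfsg.Agent.Lib.Helper26.J3FDefs

/-! Kernel-evaluated checks for the centralizer of an involution of `3.J₃` (generated). -/

set_option autoImplicit false

namespace Cfsg.Agent.Helper26.J3FK

open Cfsg.Agent.Helper26 Cfsg.Agent.Helper26.F4M Cfsg.Agent.Helper26.J3D Cfsg.Agent.Helper26.J3C
  Cfsg.Agent.Helper26.J3F Cfsg.Agent.Helper26.J3FD Cfsg.Agent.Helper26.J3FC

theorem zkey_0_0 : allR 0 6600 zkeyOK = true := by decide +kernel
theorem zkey_0_1 : allR 6600 6600 zkeyOK = true := by decide +kernel
theorem zkey_0_2 : allR 13200 6600 zkeyOK = true := by decide +kernel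
theorem zkey_0_3 : allR 19800 6363 zkeyOK = true := by decide +kernel

end Cfsg.Agent.Helper26.J3FK
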