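import Cfsg.Agent.Lib.Helper26.J3FDefs

/-! Kernel-evaluated checks for the centralizer of an involution of `3.J₃` (generated). -/

set_option autoImplicit false

namespace Cfsg.Agent.Helper26.J3FK

open Cfsg.Agent.Helper26 Cfsg.Agent.Helper26.F4M Cfsg.Agent.Helper26.J3D Cfsg.Agent.Helper26.J3C
  Cfsg.Agent.Helper26.J3F Cfsg.Agent.Helper26.J3FD Cfsg.Agent.Helper26.J3FC

theorem ztree_4_0 : allR 17601 1100 DZ.treeOK = true := by decide +kernel
theorem ztree_4_1 : allR 18701 1100 DZ.treeOK = true := by decide +kernel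
theorem ztree_4_2 : allR 19801 1100 DZ.treeOK = true := by decide +kernel
theorem ztree_4_3 : allR 20901 1100 DZ.treeOK = true := by decide +kernel

end Cfsg.Agent.Helper26.J3FK
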