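import Cfsg.Agent.Lib.Helper26.J3FChkZT0
import Cfsg.Agent.Lib.Helper26.J3FChkZT1
import Cfsg.Agent.Lib.Helper26.J3FChkZT2
import Cfsg.Agent.Lib.Helper26.J3FChkZT3
import Cfsg.Agent.Lib.Helper26.J3FChkZT4
import Cfsg.Agent.Lib.Helper26.J3FChkZT5
import Cfsg.Agent.Lib.Helper26.J3FChkZK0
import Cfsg.Agent.Lib.Helper26.J3FChkZS0
import Cfsg.Agent.Lib.Helper26.J3FChkKT0
import Cfsg.Agent.Lib.Helper26.J3FChkKA0
import Cfsg.Agent.Lib.Helper26.J3FChkKB0
import Cfsg.Agent.Lib.Helper26.J3FChkKK0
import Cfsg.Agent.Lib.Helper26.J3FChkKS0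
import Cfsg.Agent.Lib.Helper26.J3FChkKC0
import Cfsg.Agent.Lib.Helper26.J3FChkKC1
import Cfsg.Agent.Lib.Helper26.J3FChkKQ0

/-! Summary of the kernel-evaluated checks for the centralizer of an involution (generated). -/

set_option autoImplicit false

namespace Cfsg.Agent.Helper26.J3FK

open Cfsg.Agent.Helper26 Cfsg.Agent.Helper26.F4M Cfsg.Agent.Helper26.J3D Cfsg.Agent.Helper26.J3C
  Cfsg.Agent.Helper26.J3F Cfsg.Agent.Helper26.J3FD Cfsg.Agent.Helper26.J3FC

theorem ztree_all : ∀ i, 1 ≤ i → i < 26163 → DZ.treeOK i = true := by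
  intro i h1 h2
  by_cases h_ztree_0_0 : i < 1101
  · exact allR_true ztree_0_0 i (by omega) (by omega)
  by_cases h_ztree_0_1 : i < 2201
  · exact allR_true ztree_0_1 i (by omega) (by omega)
  by_cases h_ztree_0_2 : i < 3301
  · exact allR_true ztree_0_2 i (by omega) (by omega)
  by_cases h_ztree_0_3 : i < 4401
  · exact allR_true ztree_0_3 i (by omega) (by omega)
  by_cases h_ztree_1_0 : i < 5501
  · exact allR_true ztree_1_0 i (by omega) (by omega)
  by_cases h_ztree_1_1 : i < 6601
  · exact allR_true ztree_1_1 i (by omega) (by omega)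
  by_cases h_ztree_1_2 : i < 7701
  · exact allR_true ztree_1_2 i (by omega) (by omega)
  by_cases h_ztree_1_3 : i < 8801
  · exact allR_true ztree_1_3 i (by omega) (by omega)
  by_cases h_ztree_2_0 : i < 9901
  · exact allR_true ztree_2_0 i (by omega) (by omega)
  by_cases h_ztree_2_1 : i < 11001
  · exact allR_true ztree_2_1 i (by omega) (by omega)
  by_cases h_ztree_2_2 : i < 12101
  · exact allR_true ztree_2_2 i (by omega) (by omega)
  by_cases h_ztree_2_3 : i < 13201
  · exact allR_true ztree_2_3 i (by omega) (by omega)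
  by_cases h_ztree_3_0 : i < 14301
  · exact allR_true ztree_3_0 i (by omega) (by omega)
  by_cases h_ztree_3_1 : i < 15401
  · exact allR_true ztree_3_1 i (by omega) (by omega)
  by_cases h_ztree_3_2 : i < 16501
  · exact allR_true ztree_3_2 i (by omega) (by omega)
  by_cases h_ztree_3_3 : i < 17601
  · exact allR_true ztree_3_3 i (by omega) (by omega)
  by_cases h_ztree_4_0 : i < 18701
  · exact allR_true ztree_4_0 i (by omega) (by omega)
  by_cases h_ztree_4_1 : i < 19801
  · exact allR_true ztree_4_1 i (by omega) (by omega)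
  by_cases h_ztree_4_2 : i < 20901
  · exact allR_true ztree_4_2 i (by omega) (by omega)
  by_cases h_ztree_4_3 : i < 22001
  · exact allR_true ztree_4_3 i (by omega) (by omega)
  by_cases h_ztree_5_0 : i < 23101
  · exact allR_true ztree_5_0 i (by omega) (by omega)
  by_cases h_ztree_5_1 : i < 24201
  · exact allR_true ztree_5_1 i (by omega) (by omega)
  by_cases h_ztree_5_2 : i < 25301
  · exact allR_true ztree_5_2 i (by omega) (by omega)
  by_cases h_ztree_5_3 : i < 26163
  · exact allR_true ztree_5_3 i (by omega) (by omega)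
  omega

theorem zkey_all : ∀ i, i < 26163 → zkeyOK i = true := by
  intro i h2
  by_cases h_zkey_0_0 : i < 6600
  · exact allR_true zkey_0_0 i (by omega) (by omega)
  by_cases h_zkey_0_1 : i < 13200
  · exact allR_true zkey_0_1 i (by omega) (by omega)
  by_cases h_zkey_0_2 : i < 19800
  · exact allR_true zkey_0_2 i (by omega) (by omega)
  by_cases h_zkey_0_3 : i < 26163
  · exact allR_true zkey_0_3 i (by omega) (by omega)
  omega

theorem zsort_all : ∀ i, i < 26162 → zsortOK i = true := by
  intro i h2
  by_cases h_zsort_0_0 : i < 6600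
  · exact allR_true zsort_0_0 i (by omega) (by omega)
  by_cases h_zsort_0_1 : i < 13200
  · exact allR_true zsort_0_1 i (by omega) (by omega)
  by_cases h_zsort_0_2 : i < 19800
  · exact allR_true zsort_0_2 i (by omega) (by omega)
  by_cases h_zsort_0_3 : i < 26162
  · exact allR_true zsort_0_3 i (by omega) (by omega)
  omega

theorem ktree_all : ∀ i, 1 ≤ i → i < 5760 → DK.treeOK i = true := by
  intro i h1 h2
  by_cases h_ktree_0_0 : i < 1921
  · exact allR_true ktree_0_0 i (by omega) (by omega)
  by_cases h_ktree_0_1 : i < 3841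
  · exact allR_true ktree_0_1 i (by omega) (by omega)
  by_cases h_ktree_0_2 : i < 5760
  · exact allR_true ktree_0_2 i (by omega) (by omega)
  omega

theorem ksch0_all : ∀ i, i < 5760 → DK.schOK 0 i = true := by
  intro i h2
  by_cases h_ksch0_0_0 : i < 1920
  · exact allR_true ksch0_0_0 i (by omega) (by omega)
  by_cases h_ksch0_0_1 : i < 3840
  · exact allR_true ksch0_0_1 i (by omega) (by omega)
  by_cases h_ksch0_0_2 : i < 5760
  · exact allR_true ksch0_0_2 i (by omega) (by omega)
  omega

theorem ksch1_all : ∀ i, i < 5760 → DK.schOK 1 i = true := by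
  intro i h2
  by_cases h_ksch1_0_0 : i < 1920
  · exact allR_true ksch1_0_0 i (by omega) (by omega)
  by_cases h_ksch1_0_1 : i < 3840
  · exact allR_true ksch1_0_1 i (by omega) (by omega)
  by_cases h_ksch1_0_2 : i < 5760
  · exact allR_true ksch1_0_2 i (by omega) (by omega)
  omega

theorem kkey_all : ∀ i, i < 5760 → kkeyOK i = true := by
  intro i h2
  by_cases h_kkey_0_0 : i < 5760
  · exact allR_true kkey_0_0 i (by omega) (by omega)
  omega

theorem ksort_all : ∀ i, i < 5759 → ksortOK i = true := by
  intro i h2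
  by_cases h_ksort_0_0 : i < 5759
  · exact allR_true ksort_0_0 i (by omega) (by omega)
  omega

theorem kcos_all : ∀ i, i < 5760 → kcosOK i = true := by
  intro i h2
  by_cases h_kcos_0_0 : i < 960
  · exact allR_true kcos_0_0 i (by omega) (by omega)
  by_cases h_kcos_0_1 : i < 1920
  · exact allR_true kcos_0_1 i (by omega) (by omega)
  by_cases h_kcos_0_2 : i < 2880
  · exact allR_true kcos_0_2 i (by omega) (by omega)
  by_cases h_kcos_1_0 : i < 3840
  · exact allR_true kcos_1_0 i (by omega) (by omega)
  by_cases h_kcos_1_1 : i < 4800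
  · exact allR_true kcos_1_1 i (by omega) (by omega)
  by_cases h_kcos_1_2 : i < 5760
  · exact allR_true kcos_1_2 i (by omega) (by omega)
  omega

theorem kq_all : ∀ i, i < 5760 → kqOK i = true := by
  intro i h2
  by_cases h_kq_0_0 : i < 1440
  · exact allR_true kq_0_0 i (by omega) (by omega)
  by_cases h_kq_0_1 : i < 2880
  · exact allR_true kq_0_1 i (by omega) (by omega)
  by_cases h_kq_0_2 : i < 4320
  · exact allR_true kq_0_2 i (by omega) (by omega)
  by_cases h_kq_0_3 : i < 5760
  · exact allR_true kq_0_3 i (by omega) (by omega)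
  omega

theorem misc_ok : miscOK = true := by decide +kernel
theorem ytree : allR 1 127 DY.treeOK = true := by decide +kernel
theorem ysch : allB 6 (fun s => allB 128 (DY.schOK s)) = true := by decide +kernel
theorem ydist : distinctOK 128 YL = true := by decide +kernel
theorem qtree : allR 1 31 DQ.treeOK = true := by decide +kernel
theorem qsch : allB 5 (fun s => allB 32 (DQ.schOK s)) = true := by decide +kernel
theorem qdist : distinctOK 32 QL = true := by decide +kernel
theorem kcomm : allB 2 kcommOK = true := by decide +kernel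
theorem ycomm : allB 6 ycommOK = true := by decide +kernel
theorem ycen : allB 128 ycenOK = true := by decide +kernel
theorem nu_ok : allB 6 nuOK = true := by decide +kernel
theorem xw_ok : allB 5 xwOK = true := by decide +kernel
theorem qy_ok : allB 5 qyOK = true := by decide +kernel
theorem yq_ok : allB 5 yqOK = true := by decide +kernel
theorem ypow_ok : allB 128 ypowOK = true := by decide +kernel
theorem ygen_ok : allB 6 ygenOK = true := by decide +kernel
theorem xdec_ok : allB 5 xdecOK = true := by decide +kernel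

end Cfsg.Agent.Helper26.J3FK
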