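import Cfsg.Agent.Lib.Helper26.J3FDefsH

/-! Kernel-evaluated checks for the structure of the centralizer of an involution of `3.J₃`. -/

set_option autoImplicit false

namespace Cfsg.Agent.Helper26.J3FK

open Cfsg.Agent.Helper26 Cfsg.Agent.Helper26.F4M Cfsg.Agent.Helper26.J3D Cfsg.Agent.Helper26.J3C
  Cfsg.Agent.Helper26.J3F Cfsg.Agent.Helper26.J3FD Cfsg.Agent.Helper26.J3FC

theorem htree : allR 1 59 DH.treeOK = true := by decide +kernel
theorem hsch : allB 2 (fun s => allB 60 (DH.schOK s)) = true := by decide +kernel
theorem hdist : distinctOK 60 HL = true := by decide +kernel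
theorem hgen_ok : allB 2 hgenOK = true := by decide +kernel
theorem h235_ok : h235OK = true := by decide +kernel
theorem hcen_ok : allB 60 hcenOK = true := by decide +kernel
theorem HL_0 : HL 0 = idP := by decide +kernel
theorem kqn_ok : allB 2 (fun s => allB 5 (kqnOK s)) = true := by decide +kernel
theorem qmt_ok : allB 32 (fun i => allB 32 (qmtOK i)) = true := by decide +kernel
theorem qsq_ok : allB 32 qsqOK = true := by decide +kernel
theorem qcom_ok : allB 32 (fun i => allB 32 (qcomOK i)) = true := by decide +kernel
theorem qcen_ok : allB 32 qcenOK = true := by decide +kernel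
theorem qe8_ok : allB 32 (fun x => allB 32 (qe8OK x)) = true := by decide +kernel
theorem qna_ok : (!Nat.beq (QMT (32 * 2 + QCW 2)) (QMT (32 * QCW 2 + 2))) = true := by
  decide +kernel
theorem kdec_0 : allR 0 1920 kdecOK = true := by decide +kernel
theorem kdec_1 : allR 1920 1920 kdecOK = true := by decide +kernel
theorem kdec_2 : allR 3840 1920 kdecOK = true := by decide +kernel

theorem kdec_all : ∀ i, i < 5760 → kdecOK i = true := by
  intro i h2
  by_cases h_0 : i < 1920
  · exact allR_true kdec_0 i (by omega) (by omega)
  by_cases h_1 : i < 3840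
  · exact allR_true kdec_1 i (by omega) (by omega)
  exact allR_true kdec_2 i (by omega) (by omega)

end Cfsg.Agent.Helper26.J3FK
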