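import Mathlib
import Cfsg.Agent.Lib.Helper26.J3Core4

/-!
# The triple cover of the third Janko group as a group named by packed matrices

The elements of `3.J₃` are named by the packed 9 × 9 matrices over the field with four
elements which are values of elements of the group.
-/

set_option autoImplicit false

namespace Cfsg.Agent.Helper26.J3F

open Matrix
open Cfsg.Agent.Helper26 Cfsg.Agent.Helper26.F4M Cfsg.Agent.Helper26.J3D
  Cfsg.Agent.Helper26.J3C Cfsg.Agent.Helper26.J3K Cfsg.Agent.Helper26.J3G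

/-- the packed scalar matrix `ω` -/
def zetaP : ℕ := wmul idP

/-- a group whose elements are named by packed matrices -/
structure CModel (Γ : Type*) [Group Γ] (mk : ℕ → Γ) (Val : ℕ → Prop) : Prop where
  surj : ∀ g : Γ, ∃ P, Val P ∧ mk P = g
  val_one : Val idP
  mk_one : mk idP = 1
  val_mul : ∀ P Q, Val P → Val Q → Val (mmP P Q)
  mk_mul : ∀ P Q, Val P → Val Q → mk (mmP P Q) = mk P * mk Q
  inj : ∀ P Q, Val P → Val Q → mk P = mk Q → P = Q
  conj : ∀ S P Q, Val S → Val P → Q < 2 ^ 162 → mmP S P = mmP Q S →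
    Val Q ∧ mk Q = mk S * mk P * (mk S)⁻¹
  base : ∀ i k, i < nPts → k < nH → Val (mmP (TT i) (UU k))
  card : Nat.card Γ = 150698880
  center_pow : ∀ z ∈ Subgroup.center Γ, z ^ 3 = 1
  val_zeta : Val zetaP
  zeta_central : mk zetaP ∈ Subgroup.center Γ
  val_a : Val gP0
  val_b : Val gP1

section

variable {F : Type*} [Field F] {A : Type*} [Group A] (S : Setup F A)

/-- the packed matrix is the value of an element of the group -/
def ValS (P : ℕ) : Prop := P < 2 ^ 162 ∧ ∃ g : S.G, S.val g.1 = S.dec P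

open Classical in
/-- the element named by a packed matrix -/
noncomputable def mkS (P : ℕ) : S.G :=
  if h : ∃ g : S.G, S.val g.1 = S.dec P then Classical.choose h else 1

theorem mkS_val (P : ℕ) (h : ValS S P) : S.val (mkS S P).1 = S.dec P := by
  unfold mkS
  rw [dif_pos h.2]
  exact Classical.choose_spec h.2

theorem mkS_eq (P : ℕ) (g : S.G) (h : S.val g.1 = S.dec P) : mkS S P = g := by
  have hex : ∃ g : S.G, S.val g.1 = S.dec P := ⟨g, h⟩
  apply Subtype.ext
  apply S.inj
  unfold mkS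
  rw [dif_pos hex, Classical.choose_spec hex, h]

theorem cmodel [Finite A] : CModel ↥S.G (mkS S) (ValS S) where
  surj := by
    intro g
    obtain ⟨i, hi, h, hh, hg⟩ := S.level1.1 g.1 g.2
    obtain ⟨k, hk, rfl⟩ := S.level2.1 h hh
    have hval : S.val g.1 = S.dec (mmP (TT i) (UU k)) := by
      rw [hg, map_mul, S.E_val i (lt_trans hi (by decide)), S.U_val k hk, S.dec_mul]
    exact ⟨mmP (TT i) (UU k), ⟨mmP_lt _ _, g, hval⟩, mkS_eq S _ g hval⟩
  val_one := ⟨by decide, 1, by rw [S.dec_idP]; exact map_one _⟩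
  mk_one := mkS_eq S _ 1 (by rw [S.dec_idP]; exact map_one _)
  val_mul := by
    rintro P Q ⟨_, g, hg⟩ ⟨_, h, hh⟩
    refine ⟨mmP_lt _ _, g * h, ?_⟩
    rw [S.dec_mul, ← hg, ← hh]
    exact map_mul S.val g.1 h.1
  mk_mul := by
    intro P Q hP hQ
    apply mkS_eq
    rw [S.dec_mul, ← mkS_val S P hP, ← mkS_val S Q hQ]
    exact map_mul S.val _ _
  inj := by
    intro P Q hP hQ h
    apply S.dec_inj hP.1 hQ.1
    rw [← mkS_val S P hP, ← mkS_val S Q hQ, h]
  conj := by
    intro T P Q hT hP hQ h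
    have h1 : S.dec T * S.dec P = S.dec Q * S.dec T := by
      rw [← S.dec_mul, ← S.dec_mul, h]
    have hinv : S.val (mkS S T).1 * S.val ((mkS S T)⁻¹ : S.G).1 = 1 := by
      rw [← map_mul]
      show S.val ((mkS S T * (mkS S T)⁻¹ : S.G) : A) = 1
      rw [mul_inv_cancel]
      exact map_one _
    have hval : S.val ((mkS S T * mkS S P * (mkS S T)⁻¹ : S.G) : A) = S.dec Q := by
      show S.val ((mkS S T).1 * (mkS S P).1 * ((mkS S T)⁻¹ : S.G).1) = _
      rw [map_mul, map_mul, mkS_val S T hT, mkS_val S P hP, h1, mul_assoc, ← mkS_val S T hT, hinv,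
        mul_one]
    exact ⟨⟨hQ, _, hval⟩, mkS_eq S _ _ hval⟩
  base := by
    intro i k hi hk
    refine ⟨mmP_lt _ _, ⟨S.E i * S.U k, Subgroup.mul_mem _ (S.E_mem i) (S.H_le (S.U_mem k))⟩, ?_⟩
    show S.val (S.E i * S.U k) = _
    rw [map_mul, S.E_val i (lt_trans hi (by decide)), S.U_val k hk, S.dec_mul]
  card := S.card_G'
  center_pow := S.center_pow
  val_zeta := by
    refine ⟨wmul_lt _, S.zeta', ?_⟩
    show S.val S.zeta = decM S.ω (wmul idP)
    rw [S.zeta_val, decM_wmul S.h2 S.ω S.hω, decM_idP]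
  zeta_central := by
    have h : mkS S zetaP = S.zeta' := by
      apply mkS_eq
      show S.val S.zeta = decM S.ω (wmul idP)
      rw [S.zeta_val, decM_wmul S.h2 S.ω S.hω, decM_idP]
    rw [h]
    exact S.zeta'_central
  val_a := ⟨by decide, S.a', S.ha⟩
  val_b := ⟨by decide, S.b', S.hb⟩

end

end Cfsg.Agent.Helper26.J3F
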