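import Mathlib
import Cfsg.Agent.Lib.Helper26.J3FModel
import Cfsg.Agent.Lib.Helper2.ConjClass

/-!
# Subgroups and conjugacy classes of a group named by packed matrices, from tables
-/

set_option autoImplicit false

namespace Cfsg.Agent.Helper26.J3F

open Cfsg.Agent.Helper26 Cfsg.Agent.Helper26.F4M Cfsg.Agent.Helper26.J3D
  Cfsg.Agent.Helper26.J3C Cfsg.Agent.Helper26.J3G

/-- injectivity of a table from a sorting permutation -/
theorem inj_of_sorted (n : ℕ) (L pi pinv : ℕ → ℕ)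
    (hkey : ∀ j, j < n → pi j < n ∧ pinv (pi j) = j)
    (hsort : ∀ m, m + 1 < n → L (pinv m) < L (pinv (m + 1))) :
    ∀ i, i < n → ∀ j, j < n → L i = L j → i = j := by
  have hlt : ∀ m' m : ℕ, m < m' → m' < n → L (pinv m) < L (pinv m') := by
    intro m'
    induction m' with
    | zero => intro m h; exact absurd h (Nat.not_lt_zero m)
    | succ k ih =>
      intro m h hm'
      rcases Nat.lt_succ_iff_lt_or_eq.1 h with h1 | h1
      · exact lt_trans (ih m h1 (by omega)) (hsort k hm')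
      · rw [h1]; exact hsort k hm'
  intro i hi j hj h
  obtain ⟨hi1, hi2⟩ := hkey i hi
  obtain ⟨hj1, hj2⟩ := hkey j hj
  have hk : L (pinv (pi i)) = L (pinv (pi j)) := by rw [hi2, hj2, h]
  have : pi i = pi j := by
    rcases Nat.lt_trichotomy (pi i) (pi j) with h1 | h1 | h1
    · exact absurd hk (ne_of_lt (hlt _ _ h1 hj1))
    · exact h1
    · exact absurd hk.symm (ne_of_lt (hlt _ _ h1 hi1))
  rw [← hi2, ← hj2, this]

/-! ### Subgroups given by the list of their elements -/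

structure FlatData where
  n : ℕ
  ng : ℕ
  gen : ℕ → ℕ
  L : ℕ → ℕ
  par : ℕ → ℕ
  lab : ℕ → ℕ
  tau : ℕ → ℕ → ℕ

def FlatData.treeOK (D : FlatData) (j : ℕ) : Bool :=
  Nat.blt (D.par j) j && Nat.blt (D.lab j) D.ng &&
    Nat.beq (D.L j) (mmPF (D.gen (D.lab j)) (D.L (D.par j)))

def FlatData.schOK (D : FlatData) (s j : ℕ) : Bool :=
  Nat.blt (D.tau s j) D.n && Nat.beq (mmPF (D.gen s) (D.L j)) (D.L (D.tau s j))

structure FlatData.Ok (D : FlatData) (Val : ℕ → Prop) : Prop where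
  npos : 0 < D.n
  zero : D.L 0 = idP
  tree : ∀ j, 1 ≤ j → j < D.n → D.treeOK j = true
  sch : ∀ s, s < D.ng → ∀ j, j < D.n → D.schOK s j = true
  inj : ∀ i, i < D.n → ∀ j, j < D.n → D.L i = D.L j → i = j
  vgen : ∀ s, s < D.ng → Val (D.gen s)

section

variable {Γ : Type*} [Group Γ] {mk : ℕ → Γ} {Val : ℕ → Prop}

/-- the subgroup of the data -/
def FlatData.sub (D : FlatData) (mk : ℕ → Γ) : Subgroup Γ :=
  Subgroup.closure {g | ∃ s, s < D.ng ∧ g = mk (D.gen s)}

theorem FlatData.tree_spec (D : FlatData) (h : D.Ok Val) (j : ℕ) (h1 : 1 ≤ j) (h2 : j < D.n) :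
    D.par j < j ∧ D.lab j < D.ng ∧ D.L j = mmP (D.gen (D.lab j)) (D.L (D.par j)) := by
  have ht := h.tree j h1 h2
  unfold FlatData.treeOK at ht
  rw [Bool.and_eq_true, Bool.and_eq_true, mmPF_eq] at ht
  exact ⟨blt_lt ht.1.1, blt_lt ht.1.2, Nat.eq_of_beq_eq_true ht.2⟩

theorem FlatData.sch_spec (D : FlatData) (h : D.Ok Val) (s : ℕ) (hs : s < D.ng) (j : ℕ)
    (hj : j < D.n) : D.tau s j < D.n ∧ mmP (D.gen s) (D.L j) = D.L (D.tau s j) := by
  have ht := h.sch s hs j hj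
  unfold FlatData.schOK at ht
  rw [Bool.and_eq_true, mmPF_eq] at ht
  exact ⟨blt_lt ht.1, Nat.eq_of_beq_eq_true ht.2⟩

theorem FlatData.val_L (hM : CModel Γ mk Val) (D : FlatData) (h : D.Ok Val) :
    ∀ j, j < D.n → Val (D.L j) := by
  intro j
  induction j using Nat.strong_induction_on with
  | _ j ih =>
    intro hj
    rcases Nat.eq_zero_or_pos j with h0 | h0
    · rw [h0, h.zero]; exact hM.val_one
    · obtain ⟨hp, hl, he⟩ := D.tree_spec h j h0 hj
      rw [he]
      exact hM.val_mul _ _ (h.vgen _ hl) (ih _ hp (lt_trans hp hj))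

theorem FlatData.gen_mem (D : FlatData) (s : ℕ) (hs : s < D.ng) : mk (D.gen s) ∈ D.sub mk :=
  Subgroup.subset_closure ⟨s, hs, rfl⟩

theorem FlatData.mem_sub (hM : CModel Γ mk Val) (D : FlatData) (h : D.Ok Val) :
    ∀ j, j < D.n → mk (D.L j) ∈ D.sub mk := by
  intro j
  induction j using Nat.strong_induction_on with
  | _ j ih =>
    intro hj
    rcases Nat.eq_zero_or_pos j with h0 | h0
    · rw [h0, h.zero, hM.mk_one]; exact one_mem _
    · obtain ⟨hp, hl, he⟩ := D.tree_spec h j h0 hj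
      rw [he, hM.mk_mul _ _ (h.vgen _ hl) (D.val_L hM h _ (lt_trans hp hj))]
      exact mul_mem (D.gen_mem _ hl) (ih _ hp (lt_trans hp hj))

theorem FlatData.level (hM : CModel Γ mk Val) [Finite Γ] (D : FlatData) (h : D.Ok Val) :
    (∀ k ∈ D.sub mk, ∃ j, j < D.n ∧ k = mk (D.L j)) ∧ Nat.card ↥(D.sub mk) = D.n := by
  unfold FlatData.sub
  apply schreier_list _ D.n (fun j => mk (D.L j)) h.npos
  · show mk (D.L 0) = 1
    rw [h.zero, hM.mk_one]
  · intro i hi
    exact D.mem_sub hM h i hi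
  · intro i hi j hj hij
    exact h.inj i hi j hj (hM.inj _ _ (D.val_L hM h i hi) (D.val_L hM h j hj) hij)
  · rintro g ⟨s, hs, rfl⟩ i hi
    obtain ⟨h1, h2⟩ := D.sch_spec h s hs i hi
    refine ⟨D.tau s i, h1, ?_⟩
    show mk (D.gen s) * mk (D.L i) = mk (D.L (D.tau s i))
    rw [← hM.mk_mul _ _ (h.vgen s hs) (D.val_L hM h i hi), h2]

end

/-! ### Conjugacy classes given by the list of their elements -/

structure ClassData where
  n : ℕ
  z : ℕ
  ng : ℕ
  gen : ℕ → ℕ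
  L : ℕ → ℕ
  par : ℕ → ℕ
  lab : ℕ → ℕ

def ClassData.treeOK (D : ClassData) (j : ℕ) : Bool :=
  Nat.blt (D.par j) j && Nat.blt (D.lab j) D.ng && Nat.blt (D.L j) (2 ^ 162) &&
    Nat.beq (mmPF (D.gen (D.lab j)) (D.L (D.par j))) (mmPF (D.L j) (D.gen (D.lab j)))

structure ClassData.Ok (D : ClassData) (Val : ℕ → Prop) : Prop where
  zero : D.L 0 = D.z
  vz : Val D.z
  tree : ∀ j, 1 ≤ j → j < D.n → D.treeOK j = true
  inj : ∀ i, i < D.n → ∀ j, j < D.n → D.L i = D.L j → i = j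
  vgen : ∀ s, s < D.ng → Val (D.gen s)

section

variable {Γ : Type*} [Group Γ] {mk : ℕ → Γ} {Val : ℕ → Prop}

theorem ClassData.conj_all (hM : CModel Γ mk Val) (D : ClassData) (h : D.Ok Val) :
    ∀ j, j < D.n → Val (D.L j) ∧ IsConj (mk D.z) (mk (D.L j)) := by
  intro j
  induction j using Nat.strong_induction_on with
  | _ j ih =>
    intro hj
    rcases Nat.eq_zero_or_pos j with h0 | h0
    · rw [h0, h.zero]; exact ⟨h.vz, IsConj.refl _⟩
    · have ht := h.tree j h0 hj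
      unfold ClassData.treeOK at ht
      rw [Bool.and_eq_true, Bool.and_eq_true, Bool.and_eq_true, mmPF_eq, mmPF_eq] at ht
      obtain ⟨⟨⟨hp, hl⟩, hb⟩, he⟩ := ht
      have hp' := blt_lt hp
      obtain ⟨v1, c1⟩ := ih _ hp' (lt_trans hp' hj)
      obtain ⟨v2, e2⟩ := hM.conj _ _ _ (h.vgen _ (blt_lt hl)) v1 (blt_lt hb)
        (Nat.eq_of_beq_eq_true he)
      refine ⟨v2, c1.trans ?_⟩
      rw [e2]
      exact isConj_iff.2 ⟨_, rfl⟩

theorem ClassData.card_centralizer_le (hM : CModel Γ mk Val) [Finite Γ] (D : ClassData)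
    (h : D.Ok Val) :
    D.n * Nat.card ↥(Subgroup.centralizer ({mk D.z} : Set Γ)) ≤ Nat.card Γ := by
  rw [← Cfsg.Agent.Helper2.card_conj_class_mul_card_centralizer (mk D.z)]
  apply Nat.mul_le_mul_right
  have hinj : Function.Injective (fun j : Fin D.n =>
      (⟨mk (D.L j.1), (D.conj_all hM h j.1 j.2).2⟩ : {y : Γ // IsConj (mk D.z) y})) := by
    intro i j hij
    have h1 : mk (D.L i.1) = mk (D.L j.1) := congrArg Subtype.val hij
    apply Fin.ext
    exact h.inj _ i.2 _ j.2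
      (hM.inj _ _ (D.conj_all hM h i.1 i.2).1 (D.conj_all hM h j.1 j.2).1 h1)
  have := Nat.card_le_card_of_injective _ hinj
  rwa [Nat.card_eq_fintype_card, Fintype.card_fin] at this

end

end Cfsg.Agent.Helper26.J3F
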