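import Mathlib
import Cfsg.Agent.Lib.Helper26.J3FFlat
import Cfsg.Agent.Lib.Helper26.J3FDataZ
import Cfsg.Agent.Lib.Helper26.J3FDataK

/-!
# Boolean checks for the centralizer of an involution and a Sylow 2-subgroup of `3.J₃`
-/

set_option autoImplicit false

namespace Cfsg.Agent.Helper26.J3FC

open Cfsg.Agent.Helper26 Cfsg.Agent.Helper26.F4M Cfsg.Agent.Helper26.J3D
  Cfsg.Agent.Helper26.J3C Cfsg.Agent.Helper26.J3F Cfsg.Agent.Helper26.J3FD

/-- the packed matrix is the product of a transversal element and a stabilizer element -/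
def decOK (P i k : ℕ) : Bool :=
  Nat.blt i nPts && Nat.blt k nH && Nat.beq P (mmPF (TT i) (UU k))

/-- the class of the involution -/
def DZ : ClassData where
  n := nZ
  z := zP
  ng := 2
  gen := gP
  L := ZZ
  par := ZPAR
  lab := ZLAB

def zkeyOK (j : ℕ) : Bool := Nat.blt (ZPI j) nZ && Nat.beq (ZPINV (ZPI j)) j

def zsortOK (m : ℕ) : Bool := Nat.blt (ZZ (ZPINV m)) (ZZ (ZPINV (m + 1)))

/-- the centralizer of the involution -/
def DK : FlatData where
  n := nK
  ng := 2
  gen := fun s => cond (Nat.beq s 0) kP0 kP1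
  L := KK
  par := KPAR
  lab := KLAB
  tau := fun s j => cond (Nat.beq s 0) (KTAU0 j) (KTAU1 j)

def kkeyOK (j : ℕ) : Bool := Nat.blt (KPI j) nK && Nat.beq (KPINV (KPI j)) j

def ksortOK (m : ℕ) : Bool := Nat.blt (KK (KPINV m)) (KK (KPINV (m + 1)))

/-- the Sylow 2-subgroup -/
def DY : FlatData where
  n := nY
  ng := ngY
  gen := YG
  L := YL
  par := YPAR
  lab := YLAB
  tau := fun s j => YTAUT (128 * s + j)

/-- the largest normal 2-subgroup of the centralizer -/
def DQ : FlatData where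
  n := nQ
  ng := ngQ
  gen := QG
  L := QL
  par := QPAR
  lab := QLAB
  tau := fun s j => QTAUT (32 * s + j)

/-- pairwise distinct entries of a short table -/
def distinctOK (n : ℕ) (L : ℕ → ℕ) : Bool :=
  allB n fun i => allB n fun j => !Nat.beq (L i) (L j) || Nat.beq i j

theorem distinctOK_spec {n : ℕ} {L : ℕ → ℕ} (h : distinctOK n L = true) :
    ∀ i, i < n → ∀ j, j < n → L i = L j → i = j := by
  intro i hi j hj he
  have h1 := allB_true (allB_true h i hi) j hj
  rw [he] at h1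
  have h2 : Nat.beq (L j) (L j) = true := Nat.beq_refl _
  rw [h2] at h1
  exact Nat.eq_of_beq_eq_true (by simpa using h1)

/-- the generators of the centralizer commute with the involution -/
def kcommOK (s : ℕ) : Bool := Nat.beq (mmPF (DK.gen s) zP) (mmPF zP (DK.gen s))

/-- the involution commutes with the generators of the Sylow subgroup -/
def ycommOK (s : ℕ) : Bool := Nat.beq (mmPF (YG s) zP) (mmPF zP (YG s))

/-- the centre of the Sylow subgroup -/
def ycenOK (m : ℕ) : Bool :=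
  Nat.beq m 0 || Nat.beq m jzY ||
    (Nat.blt (YCW m) ngY && !Nat.beq (mmPF (YL m) (YG (YCW m))) (mmPF (YG (YCW m)) (YL m)))

/-- coset decomposition of the centralizer -/
def kcosOK (j : ℕ) : Bool :=
  Nat.blt (KCA j) 3 && Nat.blt (KCM j) 128 && Nat.blt (KCB j) 3 && Nat.blt (KCR j) 5 &&
    Nat.beq (KK j) (mmPF (mmPF (ZP (KCA j)) (mmPF (YL (KCM j)) (NP (KCB j)))) (XP (KCR j)))

/-- the element of order three normalizes the Sylow subgroup -/
def nuOK (s : ℕ) : Bool :=
  Nat.blt (NU s) 128 && Nat.beq (mmPF nP (YG s)) (mmPF (YL (NU s)) nP)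

/-- the coset representatives do not normalize the Sylow subgroup -/
def xwOK (r : ℕ) : Bool :=
  Nat.beq r 0 || (Nat.blt (XW r) ngY &&
    allB 128 fun m => !Nat.beq (mmPF (XP r) (YG (XW r))) (mmPF (YL m) (XP r)))

/-- the centralizer of the normal 2-subgroup -/
def kqOK (j : ℕ) : Bool :=
  cond (Nat.blt (KQW j) ngQ)
    (!Nat.beq (mmPF (KK j) (QG (KQW j))) (mmPF (QG (KQW j)) (KK j)))
    (Nat.blt (KQA j) 3 && Nat.blt (KQM j) 32 && Nat.beq (KK j) (mmPF (ZP (KQA j)) (QL (KQM j))))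

/-- the generators of the normal 2-subgroup lie in the Sylow subgroup -/
def qyOK (s : ℕ) : Bool := Nat.blt (QY s) 128 && Nat.beq (QG s) (YL (QY s))

/-- the two involutions normalize the normal 2-subgroup -/
def yqOK (s : ℕ) : Bool :=
  Nat.blt (YQ1 s) 32 && Nat.beq (mmPF y1P (QG s)) (mmPF (QL (YQ1 s)) y1P) &&
    Nat.blt (YQ2 s) 32 && Nat.beq (mmPF y2P (QG s)) (mmPF (QL (YQ2 s)) y2P)

/-- the conjugator of an involution of the Sylow subgroup -/
def CJ (m : ℕ) : ℕ := mmPF (TT (YCI m)) (UU (YCK m))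

def conjOK (m : ℕ) : Bool :=
  Nat.blt (YCI m) nPts && Nat.blt (YCK m) nH &&
    seqN (CJ m) fun c => Nat.beq (mmPF c (YL m)) (mmPF zP c)

/-- a power of every nontrivial element is an involution conjugate to the central one -/
def ypowOK (m : ℕ) : Bool :=
  Nat.beq m 0 || (Nat.blt (YPW m) 128 && Nat.beq (powP (YL m) (YPE m)) (YL (YPW m)) &&
    conjOK (YPW m))

/-- the generators of the Sylow subgroup are conjugate to the central involution -/
def ygenOK (s : ℕ) : Bool :=
  Nat.blt (YGJ s) 128 && Nat.beq (YG s) (YL (YGJ s)) && conjOK (YGJ s) &&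
    decOK (YG s) (YGI s) (YGK s)

def miscOK : Bool :=
  decOK zP 0 27 && decOK kP0 kI0 kK0 && decOK kP1 kI1 kK1 && decOK nP nDI nDK &&
    decOK y1P y1DI y1DK && decOK y2P y2DI y2DK &&
    Nat.beq (YL jzY) zP && Nat.beq (QL jzQ) zP && Nat.blt jzY 128 && Nat.blt jzQ 32 &&
    Nat.beq (ZP 0) idP && Nat.beq (ZP 1) zetaP && Nat.beq (ZP 2) (mmPF zetaP zetaP) &&
    Nat.beq (NP 0) idP && Nat.beq (NP 1) nP && Nat.beq (NP 2) (mmPF nP nP) &&
    Nat.beq (XP 0) idP && Nat.beq nP (mmPF y1P y2P) &&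
    Nat.beq (mmPF y1P y1P) idP && Nat.beq (mmPF y2P y2P) idP &&
    Nat.beq (ZZ 0) zP && Nat.beq (KK 0) idP && Nat.beq (YL 0) idP && Nat.beq (QL 0) idP &&
    !Nat.beq zP idP

def xdecOK (r : ℕ) : Bool := decOK (XP r) (XI r) (XK r)

end Cfsg.Agent.Helper26.J3FC
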