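import Mathlib
import Cfsg.Agent.Lib.Helper26.J3FDefs
import Cfsg.Agent.Lib.Helper26.J3FDataH

/-!
# Boolean checks for the structure of the centralizer of an involution of `3.J₃`
-/

set_option autoImplicit false

namespace Cfsg.Agent.Helper26.J3FC

open Cfsg.Agent.Helper26 Cfsg.Agent.Helper26.F4M Cfsg.Agent.Helper26.J3D
  Cfsg.Agent.Helper26.J3C Cfsg.Agent.Helper26.J3F Cfsg.Agent.Helper26.J3FD

/-- the complement -/
def DH : FlatData where
  n := 60
  ng := 2
  gen := HG
  L := HL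
  par := HPAR
  lab := HLAB
  tau := fun s j => HTAUT (60 * s + j)

/-- the generators of the complement are valid and commute with the involution -/
def hgenOK (s : ℕ) : Bool :=
  decOK (HG s) (HGI s) (HGK s) && Nat.beq (mmPF (HG s) zP) (mmPF zP (HG s))

/-- the relations of the generators of the complement -/
def h235OK : Bool :=
  Nat.beq (mmPF (HG 0) (HG 0)) idP && Nat.beq (powP (HG 1) 3) idP &&
    Nat.beq (powP (mmPF (HG 0) (HG 1)) 5) idP && !Nat.beq (mmPF (HG 0) (HG 1)) idP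

/-- the centre of the complement is trivial -/
def hcenOK (j : ℕ) : Bool :=
  Nat.beq j 0 || (Nat.blt (HCW j) 2 &&
    !Nat.beq (mmPF (HL j) (HG (HCW j))) (mmPF (HG (HCW j)) (HL j)))

/-- decomposition of the elements of the centralizer -/
def kdecOK (j : ℕ) : Bool :=
  Nat.blt (KDA j) 3 && Nat.blt (KDQ j) 32 && Nat.blt (KDH j) 60 &&
    Nat.beq (KK j) (mmPF (ZP (KDA j)) (mmPF (QL (KDQ j)) (HL (KDH j))))

/-- the generators of the centralizer normalize the normal 2-subgroup -/
def kqnOK (s t : ℕ) : Bool :=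
  Nat.blt (KQT (5 * s + t)) 32 &&
    Nat.beq (mmPF (DK.gen s) (QG t)) (mmPF (QL (KQT (5 * s + t))) (DK.gen s))

/-- the multiplication table of the normal 2-subgroup -/
def qmtOK (i j : ℕ) : Bool :=
  Nat.blt (QMT (32 * i + j)) 32 && Nat.beq (mmPF (QL i) (QL j)) (QL (QMT (32 * i + j)))

/-- squares lie in the centre -/
def qsqOK (i : ℕ) : Bool := Nat.beq (QMT (33 * i)) 0 || Nat.beq (QMT (33 * i)) 1

/-- commutators lie in the centre -/
def qcomOK (i j : ℕ) : Bool :=
  Nat.beq (QMT (32 * i + j)) (QMT (32 * j + i)) ||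
    Nat.beq (QMT (32 * i + j)) (QMT (32 + QMT (32 * j + i)))

/-- the centre has order two -/
def qcenOK (i : ℕ) : Bool :=
  Nat.beq i 0 || Nat.beq i 1 ||
    (Nat.blt (QCW i) 32 && !Nat.beq (QMT (32 * i + QCW i)) (QMT (32 * QCW i + i)))

/-- no elementary abelian subgroup of order eight -/
def qe8OK (x y : ℕ) : Bool :=
  Nat.beq x 0 || Nat.beq y 0 || Nat.beq x y || !Nat.beq (QMT (33 * x)) 0 ||
    !Nat.beq (QMT (33 * y)) 0 || !Nat.beq (QMT (32 * x + y)) (QMT (32 * y + x)) ||
    allB 32 fun w => !Nat.beq (QMT (33 * w)) 0 ||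
      !Nat.beq (QMT (32 * x + w)) (QMT (32 * w + x)) ||
      !Nat.beq (QMT (32 * y + w)) (QMT (32 * w + y)) ||
      Nat.beq w 0 || Nat.beq w x || Nat.beq w y || Nat.beq w (QMT (32 * x + y))

end Cfsg.Agent.Helper26.J3FC
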