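import Mathlib
import Cfsg.Agent.Lib.Helper26.J3FChk
import Cfsg.Agent.Lib.Helper25.FusionSimpCrit3

/-!
# A Sylow 2-subgroup of `3.J₃`: fusion of its involutions and its normalizer
-/

set_option autoImplicit false

namespace Cfsg.Agent.Helper26.J3FM

open Cfsg.Agent.Helper26 Cfsg.Agent.Helper26.F4M Cfsg.Agent.Helper26.J3D
  Cfsg.Agent.Helper26.J3C Cfsg.Agent.Helper26.J3G Cfsg.Agent.Helper26.J3F
  Cfsg.Agent.Helper26.J3FD Cfsg.Agent.Helper26.J3FC Cfsg.Agent.Helper26.J3FK
open Cfsg.Agent.Helper25.SimpCrit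

/-! ### Small facts by evaluation -/

theorem zP_dec : decOK zP 0 27 = true := by decide +kernel
theorem kP0_dec : decOK kP0 kI0 kK0 = true := by decide +kernel
theorem kP1_dec : decOK kP1 kI1 kK1 = true := by decide +kernel
theorem nP_dec : decOK nP nDI nDK = true := by decide +kernel
theorem y1P_dec : decOK y1P y1DI y1DK = true := by decide +kernel
theorem y2P_dec : decOK y2P y2DI y2DK = true := by decide +kernel
theorem YL_jz : YL jzY = zP := by decide +kernel
theorem QL_jz : QL jzQ = zP := by decide +kernel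
theorem jzY_lt : jzY < 128 := by decide +kernel
theorem jzQ_lt : jzQ < 32 := by decide +kernel
theorem ZP_0 : ZP 0 = idP := by decide +kernel
theorem ZP_1 : ZP 1 = zetaP := by decide +kernel
theorem ZP_2 : ZP 2 = mmP zetaP zetaP := by decide +kernel
theorem NP_0 : NP 0 = idP := by decide +kernel
theorem NP_1 : NP 1 = nP := by decide +kernel
theorem NP_2 : NP 2 = mmP nP nP := by decide +kernel
theorem XP_0 : XP 0 = idP := by decide +kernel
theorem nP_eq : nP = mmP y1P y2P := by decide +kernel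
theorem y1_sq : mmP y1P y1P = idP := by decide +kernel
theorem y2_sq : mmP y2P y2P = idP := by decide +kernel
theorem ZZ_0 : ZZ 0 = zP := by decide +kernel
theorem KK_0 : KK 0 = idP := by decide +kernel
theorem YL_0 : YL 0 = idP := by decide +kernel
theorem QL_0 : QL 0 = idP := by decide +kernel
theorem zP_ne : zP ≠ idP := by decide +kernel

/-! ### General lemmas -/

theorem mem_normalizer_of_gens {G : Type*} [Group G] (S : Set G)
    [Finite ↥(Subgroup.closure S)] (g : G)
    (h : ∀ s ∈ S, g * s * g⁻¹ ∈ Subgroup.closure S) :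
    g ∈ Subgroup.normalizer ((Subgroup.closure S : Subgroup G) : Set G) := by
  rw [Subgroup.mem_normalizer_iff_map_conj_eq]
  have hle : (Subgroup.closure S).map (MulAut.conj g).toMonoidHom ≤ Subgroup.closure S := by
    rw [MonoidHom.map_closure, Subgroup.closure_le]
    rintro _ ⟨s, hs, rfl⟩
    exact h s hs
  apply Subgroup.eq_of_le_of_card_ge hle
  rw [Subgroup.card_map_of_injective (MulAut.conj g).injective]

section

variable {Γ : Type*} [Group Γ] {mk : ℕ → Γ} {Val : ℕ → Prop}

theorem decOK_val (hM : CModel Γ mk Val) {P i k : ℕ} (h : decOK P i k = true) : Val P := by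
  unfold decOK at h
  rw [Bool.and_eq_true, Bool.and_eq_true, mmPF_eq] at h
  rw [Nat.eq_of_beq_eq_true h.2]
  exact hM.base i k (blt_lt h.1.1) (blt_lt h.1.2)

theorem mk_pow (hM : CModel Γ mk Val) (P : ℕ) (hP : Val P) :
    ∀ e : ℕ, Val (powP P e) ∧ mk (powP P e) = mk P ^ e
  | 0 => ⟨hM.val_one, by rw [pow_zero]; exact hM.mk_one⟩
  | e + 1 => by
    obtain ⟨v, h⟩ := mk_pow hM P hP e
    refine ⟨hM.val_mul _ _ v hP, ?_⟩
    show mk (mmP (powP P e) P) = _
    rw [hM.mk_mul _ _ v hP, h, pow_succ]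

/-- equality of products of named elements -/
theorem mul_eq_of_codes (hM : CModel Γ mk Val) {A B C D : ℕ} (hA : Val A) (hB : Val B)
    (hC : Val C) (hD : Val D) (h : mmP A B = mmP C D) : mk A * mk B = mk C * mk D := by
  rw [← hM.mk_mul _ _ hA hB, ← hM.mk_mul _ _ hC hD, h]

theorem codes_of_mul_eq (hM : CModel Γ mk Val) {A B C D : ℕ} (hA : Val A) (hB : Val B)
    (hC : Val C) (hD : Val D) (h : mk A * mk B = mk C * mk D) : mmP A B = mmP C D := by
  apply hM.inj _ _ (hM.val_mul _ _ hA hB) (hM.val_mul _ _ hC hD)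
  rw [hM.mk_mul _ _ hA hB, hM.mk_mul _ _ hC hD, h]

/-! ### The tables are certified -/

theorem DZ_ok (hM : CModel Γ mk Val) : DZ.Ok Val where
  zero := ZZ_0
  vz := decOK_val hM zP_dec
  tree := fun j h1 h2 => ztree_all j h1 h2
  inj := by
    apply inj_of_sorted nZ ZZ ZPI ZPINV
    · intro j hj
      have h := zkey_all j hj
      unfold zkeyOK at h
      rw [Bool.and_eq_true] at h
      exact ⟨blt_lt h.1, Nat.eq_of_beq_eq_true h.2⟩
    · intro m hm
      have h := zsort_all m (by have : m + 1 < 26163 := hm; omega)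
      exact blt_lt h
  vgen := by
    intro s hs
    have hs' : s < 2 := hs
    interval_cases s
    · exact hM.val_a
    · exact hM.val_b

theorem DK_ok (hM : CModel Γ mk Val) : DK.Ok Val where
  npos := by decide
  zero := KK_0
  tree := fun j h1 h2 => ktree_all j h1 h2
  sch := by
    intro s hs j hj
    have hs' : s < 2 := hs
    interval_cases s
    · exact ksch0_all j hj
    · exact ksch1_all j hj
  inj := by
    apply inj_of_sorted nK KK KPI KPINV
    · intro j hj
      have h := kkey_all j hj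
      unfold kkeyOK at h
      rw [Bool.and_eq_true] at h
      exact ⟨blt_lt h.1, Nat.eq_of_beq_eq_true h.2⟩
    · intro m hm
      have h := ksort_all m (by have : m + 1 < 5760 := hm; omega)
      exact blt_lt h
  vgen := by
    intro s hs
    have hs' : s < 2 := hs
    interval_cases s
    · exact decOK_val hM kP0_dec
    · exact decOK_val hM kP1_dec

theorem ygen_spec (s : ℕ) (hs : s < 6) :
    YGJ s < 128 ∧ YG s = YL (YGJ s) ∧ conjOK (YGJ s) = true ∧
      decOK (YG s) (YGI s) (YGK s) = true := by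
  have h := allB_true ygen_ok s hs
  unfold ygenOK at h
  rw [Bool.and_eq_true, Bool.and_eq_true, Bool.and_eq_true] at h
  exact ⟨blt_lt h.1.1.1, Nat.eq_of_beq_eq_true h.1.1.2, h.1.2, h.2⟩

theorem DY_ok (hM : CModel Γ mk Val) : DY.Ok Val where
  npos := by decide
  zero := YL_0
  tree := fun j h1 h2 => allR_true ytree j h1 (by have : j < 128 := h2; omega)
  sch := fun s hs j hj => allB_true (allB_true ysch s hs) j hj
  inj := distinctOK_spec ydist
  vgen := fun s hs => decOK_val hM (ygen_spec s hs).2.2.2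

theorem qy_spec (s : ℕ) (hs : s < 5) : QY s < 128 ∧ QG s = YL (QY s) := by
  have h := allB_true qy_ok s hs
  unfold qyOK at h
  rw [Bool.and_eq_true] at h
  exact ⟨blt_lt h.1, Nat.eq_of_beq_eq_true h.2⟩

theorem DQ_ok (hM : CModel Γ mk Val) : DQ.Ok Val where
  npos := by decide
  zero := QL_0
  tree := fun j h1 h2 => allR_true qtree j h1 (by have : j < 32 := h2; omega)
  sch := fun s hs j hj => allB_true (allB_true qsch s hs) j hj
  inj := distinctOK_spec qdist
  vgen := by
    intro s hs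
    obtain ⟨h1, h2⟩ := qy_spec s hs
    show Val (QG s)
    rw [h2]
    exact DY.val_L hM (DY_ok hM) _ h1


/-! ### The centralizer of the involution -/

theorem kcomm_spec (hM : CModel Γ mk Val) (s : ℕ) (hs : s < 2) :
    mk (DK.gen s) * mk zP = mk zP * mk (DK.gen s) := by
  have h := allB_true kcomm s hs
  unfold kcommOK at h
  rw [mmPF_eq, mmPF_eq] at h
  have vz := decOK_val hM zP_dec
  have vg := (DK_ok hM).vgen s hs
  exact mul_eq_of_codes hM vg vz vz vg (Nat.eq_of_beq_eq_true h)

theorem cent_spec (hM : CModel Γ mk Val) [Finite Γ] (g : Γ) (hg : g * mk zP = mk zP * g) :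
    ∃ j, j < nK ∧ g = mk (KK j) := by
  have hle : DK.sub mk ≤ Subgroup.centralizer ({mk zP} : Set Γ) := by
    unfold FlatData.sub
    rw [Subgroup.closure_le]
    rintro _ ⟨s, hs, rfl⟩
    rw [SetLike.mem_coe, Subgroup.mem_centralizer_iff]
    intro h hh
    rw [Set.mem_singleton_iff] at hh
    rw [hh]
    exact (kcomm_spec hM s hs).symm
  have hcard := (DK.level hM (DK_ok hM)).2
  have hcls := (DZ.card_centralizer_le hM (DZ_ok hM))
  rw [hM.card] at hcls
  have h1 : Nat.card ↥(Subgroup.centralizer ({mk zP} : Set Γ)) ≤ 5760 := by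
    have h2 : (26163 : ℕ) * Nat.card ↥(Subgroup.centralizer ({mk zP} : Set Γ)) ≤ 150698880 := hcls
    omega
  have heq : DK.sub mk = Subgroup.centralizer ({mk zP} : Set Γ) :=
    Subgroup.eq_of_le_of_card_ge hle (by rw [hcard]; exact h1)
  have hmem : g ∈ Subgroup.centralizer ({mk zP} : Set Γ) := by
    rw [Subgroup.mem_centralizer_iff]
    intro h hh
    rw [Set.mem_singleton_iff] at hh
    rw [hh]
    exact hg.symm
  rw [← heq] at hmem
  exact (DK.level hM (DK_ok hM)).1 g hmem

/-! ### The Sylow subgroup -/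

theorem U_card (hM : CModel Γ mk Val) [Finite Γ] : Nat.card ↥(DY.sub mk) = 128 :=
  (DY.level hM (DY_ok hM)).2

theorem U_elem (hM : CModel Γ mk Val) [Finite Γ] (u : Γ) (hu : u ∈ DY.sub mk) :
    ∃ m, m < 128 ∧ u = mk (YL m) :=
  (DY.level hM (DY_ok hM)).1 u hu

theorem U_mem (hM : CModel Γ mk Val) (m : ℕ) (hm : m < 128) : mk (YL m) ∈ DY.sub mk :=
  DY.mem_sub hM (DY_ok hM) m hm

theorem vY (hM : CModel Γ mk Val) (m : ℕ) (hm : m < 128) : Val (YL m) :=
  DY.val_L hM (DY_ok hM) m hm

theorem vYG (hM : CModel Γ mk Val) (s : ℕ) (hs : s < 6) : Val (YG s) :=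
  (DY_ok hM).vgen s hs

theorem z_mem_U (hM : CModel Γ mk Val) : mk zP ∈ DY.sub mk := by
  rw [← YL_jz]
  exact U_mem hM jzY jzY_lt

theorem z_central_U (hM : CModel Γ mk Val) (u : Γ) (hu : u ∈ DY.sub mk) :
    u * mk zP = mk zP * u := by
  have hle : DY.sub mk ≤ Subgroup.centralizer ({mk zP} : Set Γ) := by
    unfold FlatData.sub
    rw [Subgroup.closure_le]
    rintro _ ⟨s, hs, rfl⟩
    rw [SetLike.mem_coe, Subgroup.mem_centralizer_iff]
    intro h hh
    rw [Set.mem_singleton_iff] at hh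
    rw [hh]
    have h := allB_true ycomm s hs
    unfold ycommOK at h
    rw [mmPF_eq, mmPF_eq] at h
    have vz := decOK_val hM zP_dec
    exact (mul_eq_of_codes hM (vYG hM s hs) vz vz (vYG hM s hs) (Nat.eq_of_beq_eq_true h)).symm
  have := hle hu
  rw [Subgroup.mem_centralizer_iff] at this
  exact (this _ rfl).symm

theorem z_ne_one (hM : CModel Γ mk Val) : mk zP ≠ 1 := by
  intro h
  rw [← hM.mk_one] at h
  exact zP_ne (hM.inj _ _ (decOK_val hM zP_dec) hM.val_one h)

/-- the centre of the Sylow subgroup -/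
theorem U_center (hM : CModel Γ mk Val) [Finite Γ] (u : Γ) (hu : u ∈ DY.sub mk)
    (hc : ∀ v ∈ DY.sub mk, u * v = v * u) : u = 1 ∨ u = mk zP := by
  obtain ⟨m, hm, rfl⟩ := U_elem hM u hu
  have h := allB_true ycen m hm
  unfold ycenOK at h
  rw [Bool.or_eq_true, Bool.or_eq_true] at h
  rcases h with (h | h) | h
  · left
    rw [Nat.eq_of_beq_eq_true h, YL_0, hM.mk_one]
  · right
    rw [Nat.eq_of_beq_eq_true h, YL_jz]
  · exfalso
    rw [Bool.and_eq_true, mmPF_eq, mmPF_eq] at h
    obtain ⟨h1, h2⟩ := h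
    have hs := blt_lt h1
    have h3 := hc _ (DY.gen_mem (mk := mk) _ hs)
    have h4 := codes_of_mul_eq hM (vY hM m hm) (vYG hM _ hs) (vYG hM _ hs) (vY hM m hm) h3
    have h5 : Nat.beq (mmP (YL m) (YG (YCW m))) (mmP (YG (YCW m)) (YL m)) = true := by
      rw [h4]; exact Nat.beq_refl _
    rw [h5] at h2
    exact Bool.false_ne_true h2

theorem normalizer_comm (hM : CModel Γ mk Val) [Finite Γ] (g : Γ)
    (hg : g ∈ Subgroup.normalizer ((DY.sub mk : Subgroup Γ) : Set Γ)) :
    g * mk zP = mk zP * g := by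
  have hn := Subgroup.mem_normalizer_iff.1 hg
  have h1 : g * mk zP * g⁻¹ ∈ DY.sub mk := (hn _).1 (z_mem_U hM)
  have h2 : ∀ v ∈ DY.sub mk, g * mk zP * g⁻¹ * v = v * (g * mk zP * g⁻¹) := by
    intro v hv
    have hv' : g⁻¹ * v * g ∈ DY.sub mk := by
      rw [hn]
      have : g * (g⁻¹ * v * g) * g⁻¹ = v := by group
      rw [this]; exact hv
    have h3 := z_central_U hM _ hv'
    calc g * mk zP * g⁻¹ * v = g * (mk zP * (g⁻¹ * v * g)) * g⁻¹ := by group
      _ = g * ((g⁻¹ * v * g) * mk zP) * g⁻¹ := by rw [h3]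
      _ = v * (g * mk zP * g⁻¹) := by group
  rcases U_center hM _ h1 h2 with h | h
  · exfalso
    apply z_ne_one hM
    have : mk zP = g⁻¹ * (g * mk zP * g⁻¹) * g := by group
    rw [this, h]; group
  · calc g * mk zP = (g * mk zP * g⁻¹) * g := by group
      _ = mk zP * g := by rw [h]

end

end Cfsg.Agent.Helper26.J3FM
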