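import Mathlib
import Cfsg.Agent.Lib.Helper26.J3FMain

/-!
# A Sylow 2-subgroup of `3.J₃`: the normalizer and the fusion of involutions
-/

set_option autoImplicit false

namespace Cfsg.Agent.Helper26.J3FM

open Cfsg.Agent.Helper26 Cfsg.Agent.Helper26.F4M Cfsg.Agent.Helper26.J3D
  Cfsg.Agent.Helper26.J3C Cfsg.Agent.Helper26.J3G Cfsg.Agent.Helper26.J3F
  Cfsg.Agent.Helper26.J3FD Cfsg.Agent.Helper26.J3FC Cfsg.Agent.Helper26.J3FK
open Cfsg.Agent.Helper25.SimpCrit

section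

variable {Γ : Type*} [Group Γ] {mk : ℕ → Γ} {Val : ℕ → Prop}

/-! ### Powers of the central element and of the element of order three -/

theorem vZP (hM : CModel Γ mk Val) (a : ℕ) (ha : a < 3) :
    Val (ZP a) ∧ mk (ZP a) ∈ Subgroup.center Γ := by
  interval_cases a
  · rw [ZP_0, hM.mk_one]; exact ⟨hM.val_one, one_mem _⟩
  · rw [ZP_1]; exact ⟨hM.val_zeta, hM.zeta_central⟩
  · rw [ZP_2, hM.mk_mul _ _ hM.val_zeta hM.val_zeta]
    exact ⟨hM.val_mul _ _ hM.val_zeta hM.val_zeta, mul_mem hM.zeta_central hM.zeta_central⟩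

theorem vn (hM : CModel Γ mk Val) : Val nP := decOK_val hM nP_dec

theorem vNP (hM : CModel Γ mk Val) (b : ℕ) (hb : b < 3) :
    Val (NP b) ∧ mk (NP b) ∈ Subgroup.zpowers (mk nP) := by
  interval_cases b
  · rw [NP_0, hM.mk_one]; exact ⟨hM.val_one, one_mem _⟩
  · rw [NP_1]; exact ⟨vn hM, Subgroup.mem_zpowers _⟩
  · rw [NP_2, hM.mk_mul _ _ (vn hM) (vn hM)]
    exact ⟨hM.val_mul _ _ (vn hM) (vn hM),
      mul_mem (Subgroup.mem_zpowers _) (Subgroup.mem_zpowers _)⟩

/-! ### The element of order three normalizes the Sylow subgroup -/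

instance finite_sub [Finite Γ] (D : FlatData) : Finite ↥(D.sub mk) := inferInstance

theorem n_normalizes (hM : CModel Γ mk Val) [Finite Γ] :
    mk nP ∈ Subgroup.normalizer ((DY.sub mk : Subgroup Γ) : Set Γ) := by
  unfold FlatData.sub
  apply mem_normalizer_of_gens
  rintro _ ⟨s, hs, rfl⟩
  have h := allB_true nu_ok s hs
  unfold nuOK at h
  rw [Bool.and_eq_true, mmPF_eq, mmPF_eq] at h
  obtain ⟨h1, h2⟩ := h
  have h3 := mul_eq_of_codes hM (vn hM) (vYG hM s hs) (vY hM _ (blt_lt h1)) (vn hM)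
    (Nat.eq_of_beq_eq_true h2)
  have h4 : mk nP * mk (DY.gen s) * (mk nP)⁻¹ = mk (YL (NU s)) := by
    show mk nP * mk (YG s) * (mk nP)⁻¹ = _
    rw [h3, mul_inv_cancel_right]
  rw [h4]
  exact U_mem hM _ (blt_lt h1)

/-! ### The coset representatives -/

theorem xdec_spec (hM : CModel Γ mk Val) (r : ℕ) (hr : r < 5) : Val (XP r) :=
  decOK_val hM (allB_true xdec_ok r hr)

theorem x_not_normalizes (hM : CModel Γ mk Val) [Finite Γ] (r : ℕ) (hr : r < 5) (h0 : r ≠ 0) :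
    mk (XP r) ∉ Subgroup.normalizer ((DY.sub mk : Subgroup Γ) : Set Γ) := by
  intro hx
  have h := allB_true xw_ok r hr
  unfold xwOK at h
  rw [Bool.or_eq_true] at h
  rcases h with h | h
  · exact h0 (Nat.eq_of_beq_eq_true h)
  · rw [Bool.and_eq_true] at h
    obtain ⟨h1, h2⟩ := h
    have hs := blt_lt h1
    have hmem : mk (XP r) * mk (YG (XW r)) * (mk (XP r))⁻¹ ∈ DY.sub mk :=
      ((Subgroup.mem_normalizer_iff.1 hx) _).1 (DY.gen_mem (mk := mk) _ hs)
    obtain ⟨m, hm, he⟩ := U_elem hM _ hmem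
    have h3 : mk (XP r) * mk (YG (XW r)) = mk (YL m) * mk (XP r) := by
      rw [← he, inv_mul_cancel_right]
    have h4 := codes_of_mul_eq hM (xdec_spec hM r hr) (vYG hM _ hs) (vY hM m hm)
      (xdec_spec hM r hr) h3
    have h5 := allB_true h2 m hm
    rw [mmPF_eq, mmPF_eq, h4] at h5
    have : Nat.beq (mmP (YL m) (XP r)) (mmP (YL m) (XP r)) = true := Nat.beq_refl _
    rw [this] at h5
    exact Bool.false_ne_true h5

/-- the structure of the normalizer of the Sylow subgroup -/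
theorem normalizer_spec (hM : CModel Γ mk Val) [Finite Γ] (g : Γ)
    (hg : g ∈ Subgroup.normalizer ((DY.sub mk : Subgroup Γ) : Set Γ)) :
    ∃ z ∈ Subgroup.center Γ, ∃ u ∈ DY.sub mk, ∃ t ∈ Subgroup.zpowers (mk nP), g = z * (u * t) := by
  obtain ⟨j, hj, rfl⟩ := cent_spec hM g (normalizer_comm hM g hg)
  have h := kcos_all j hj
  unfold kcosOK at h
  simp only [Bool.and_eq_true, mmPF_eq] at h
  obtain ⟨⟨⟨⟨ha, hm⟩, hb⟩, hr⟩, he⟩ := h
  have ha := blt_lt ha
  have hm := blt_lt hm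
  have hb := blt_lt hb
  have hr := blt_lt hr
  have he := Nat.eq_of_beq_eq_true he
  obtain ⟨va, ca⟩ := vZP hM _ ha
  obtain ⟨vb, cb⟩ := vNP hM _ hb
  have vm := vY hM _ hm
  have vx := xdec_spec hM _ hr
  have v1 := hM.val_mul _ _ vm vb
  have v2 := hM.val_mul _ _ va v1
  have hprod : mk (KK j) = mk (ZP (KCA j)) * (mk (YL (KCM j)) * mk (NP (KCB j))) * mk (XP (KCR j)) := by
    rw [he, hM.mk_mul _ _ v2 vx, hM.mk_mul _ _ va v1, hM.mk_mul _ _ vm vb]
  have hN : mk (ZP (KCA j)) * (mk (YL (KCM j)) * mk (NP (KCB j))) ∈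
      Subgroup.normalizer ((DY.sub mk : Subgroup Γ) : Set Γ) := by
    apply mul_mem
    · exact Subgroup.center_le_normalizer _ ca
    · apply mul_mem
      · exact Subgroup.le_normalizer (U_mem hM _ hm)
      · exact (Subgroup.zpowers_le.2 (n_normalizes hM)) cb
  have hx : mk (XP (KCR j)) ∈ Subgroup.normalizer ((DY.sub mk : Subgroup Γ) : Set Γ) := by
    have : mk (XP (KCR j)) =
        (mk (ZP (KCA j)) * (mk (YL (KCM j)) * mk (NP (KCB j))))⁻¹ * mk (KK j) := by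
      rw [hprod, inv_mul_cancel_left]
    rw [this]
    exact mul_mem (inv_mem hN) hg
  have hr0 : KCR j = 0 := by
    by_contra h0
    exact x_not_normalizes hM _ hr h0 hx
  refine ⟨_, ca, _, U_mem hM _ hm, _, cb, ?_⟩
  rw [hprod, hr0, XP_0, hM.mk_one, mul_one]

end

end Cfsg.Agent.Helper26.J3FM
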