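import Mathlib
import Cfsg.Agent.Lib.Helper26.J3FMain2

/-!
# A Sylow 2-subgroup of `3.J₃`: the hypotheses of the simplicity criterion
-/

set_option autoImplicit false

namespace Cfsg.Agent.Helper26.J3FM

open Cfsg.Agent.Helper26 Cfsg.Agent.Helper26.F4M Cfsg.Agent.Helper26.J3D
  Cfsg.Agent.Helper26.J3C Cfsg.Agent.Helper26.J3G Cfsg.Agent.Helper26.J3F
  Cfsg.Agent.Helper26.J3FD Cfsg.Agent.Helper26.J3FC Cfsg.Agent.Helper26.J3FK
open Cfsg.Agent.Helper25.SimpCrit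

section

variable {Γ : Type*} [Group Γ] {mk : ℕ → Γ} {Val : ℕ → Prop}

/-! ### The normal 2-subgroup of the centralizer -/

theorem vQ (hM : CModel Γ mk Val) (m : ℕ) (hm : m < 32) : Val (QL m) :=
  DQ.val_L hM (DQ_ok hM) m hm

theorem vQG (hM : CModel Γ mk Val) (s : ℕ) (hs : s < 5) : Val (QG s) :=
  (DQ_ok hM).vgen s hs

theorem Q_mem (hM : CModel Γ mk Val) (m : ℕ) (hm : m < 32) : mk (QL m) ∈ DQ.sub mk :=
  DQ.mem_sub hM (DQ_ok hM) m hm

theorem Q_le_U (hM : CModel Γ mk Val) : DQ.sub mk ≤ DY.sub mk := by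
  unfold FlatData.sub
  rw [Subgroup.closure_le]
  rintro _ ⟨s, hs, rfl⟩
  obtain ⟨h1, h2⟩ := qy_spec s hs
  show mk (QG s) ∈ DY.sub mk
  rw [h2]
  exact U_mem hM _ h1

theorem z_mem_Q (hM : CModel Γ mk Val) : mk zP ∈ DQ.sub mk := by
  rw [← QL_jz]
  exact Q_mem hM jzQ jzQ_lt

/-- the centralizer of the normal 2-subgroup -/
theorem Q_cent (hM : CModel Γ mk Val) [Finite Γ] (g : Γ)
    (hg : ∀ a ∈ DQ.sub mk, g * a = a * g) :
    ∃ z ∈ Subgroup.center Γ, ∃ a ∈ DQ.sub mk, g = z * a := by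
  obtain ⟨j, hj, rfl⟩ := cent_spec hM g (hg _ (z_mem_Q hM))
  have vk := DK.val_L hM (DK_ok hM) j hj
  have h := kq_all j hj
  unfold kqOK at h
  cases hw : Nat.blt (KQW j) ngQ
  · rw [hw] at h
    simp only [cond_false, Bool.and_eq_true, mmPF_eq] at h
    obtain ⟨⟨ha, hm⟩, he⟩ := h
    obtain ⟨va, ca⟩ := vZP hM _ (blt_lt ha)
    refine ⟨_, ca, _, Q_mem hM _ (blt_lt hm), ?_⟩
    rw [← hM.mk_mul _ _ va (vQ hM _ (blt_lt hm)), ← Nat.eq_of_beq_eq_true he]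
  · exfalso
    rw [hw] at h
    simp only [cond_true, mmPF_eq] at h
    have hs := blt_lt hw
    have h3 := hg _ (DQ.gen_mem (mk := mk) _ hs)
    have h4 : mmP (KK j) (QG (KQW j)) = mmP (QG (KQW j)) (KK j) :=
      codes_of_mul_eq hM vk (vQG hM _ hs) (vQG hM _ hs) vk h3
    have h5 : Nat.beq (mmP (KK j) (QG (KQW j))) (mmP (QG (KQW j)) (KK j)) = true := by
      rw [h4]; exact Nat.beq_refl _
    rw [h5] at h
    exact Bool.false_ne_true h

theorem vy1 (hM : CModel Γ mk Val) : Val y1P := decOK_val hM y1P_dec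
theorem vy2 (hM : CModel Γ mk Val) : Val y2P := decOK_val hM y2P_dec

theorem y_normalizes (hM : CModel Γ mk Val) [Finite Γ] :
    mk y1P ∈ Subgroup.normalizer ((DQ.sub mk : Subgroup Γ) : Set Γ) ∧
      mk y2P ∈ Subgroup.normalizer ((DQ.sub mk : Subgroup Γ) : Set Γ) := by
  constructor
  · unfold FlatData.sub
    apply mem_normalizer_of_gens
    rintro _ ⟨s, hs, rfl⟩
    have h := allB_true yq_ok s hs
    unfold yqOK at h
    simp only [Bool.and_eq_true, mmPF_eq] at h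
    obtain ⟨⟨⟨h1, h2⟩, _⟩, _⟩ := h
    have h3 := mul_eq_of_codes hM (vy1 hM) (vQG hM s hs) (vQ hM _ (blt_lt h1)) (vy1 hM)
      (Nat.eq_of_beq_eq_true h2)
    have h4 : mk y1P * mk (DQ.gen s) * (mk y1P)⁻¹ = mk (QL (YQ1 s)) := by
      show mk y1P * mk (QG s) * (mk y1P)⁻¹ = _
      rw [h3, mul_inv_cancel_right]
    rw [h4]
    exact Q_mem hM _ (blt_lt h1)
  · unfold FlatData.sub
    apply mem_normalizer_of_gens
    rintro _ ⟨s, hs, rfl⟩
    have h := allB_true yq_ok s hs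
    unfold yqOK at h
    simp only [Bool.and_eq_true, mmPF_eq] at h
    obtain ⟨⟨_, h1⟩, h2⟩ := h
    have h3 := mul_eq_of_codes hM (vy2 hM) (vQG hM s hs) (vQ hM _ (blt_lt h1)) (vy2 hM)
      (Nat.eq_of_beq_eq_true h2)
    have h4 : mk y2P * mk (DQ.gen s) * (mk y2P)⁻¹ = mk (QL (YQ2 s)) := by
      show mk y2P * mk (QG s) * (mk y2P)⁻¹ = _
      rw [h3, mul_inv_cancel_right]
    rw [h4]
    exact Q_mem hM _ (blt_lt h1)

theorem y_sq (hM : CModel Γ mk Val) : mk y1P ^ 2 ^ 1 = 1 ∧ mk y2P ^ 2 ^ 1 = 1 := by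
  constructor
  · rw [pow_one, pow_two, ← hM.mk_mul _ _ (vy1 hM) (vy1 hM), y1_sq, hM.mk_one]
  · rw [pow_one, pow_two, ← hM.mk_mul _ _ (vy2 hM) (vy2 hM), y2_sq, hM.mk_one]

/-- the element of order three is a good generator -/
theorem n_good (hM : CModel Γ mk Val) [Finite Γ] : mk nP ∈ GoodZ 2 (DY.sub mk) := by
  right
  refine ⟨n_normalizes hM, DQ.sub mk, Q_le_U hM, Q_cent hM, ?_⟩
  rw [nP_eq, hM.mk_mul _ _ (vy1 hM) (vy2 hM)]
  apply mul_mem
  · exact Subgroup.subset_closure ⟨(y_normalizes hM).1, 1, (y_sq hM).1⟩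
  · exact Subgroup.subset_closure ⟨(y_normalizes hM).2, 1, (y_sq hM).2⟩

theorem normalizer_good (hM : CModel Γ mk Val) [Finite Γ] (g : Γ)
    (hg : g ∈ Subgroup.normalizer ((DY.sub mk : Subgroup Γ) : Set Γ)) :
    ∃ z ∈ Subgroup.center Γ, ∃ w ∈ Subgroup.closure (GoodZ 2 (DY.sub mk)), g = z * w := by
  obtain ⟨z, hz, u, hu, t, ht, rfl⟩ := normalizer_spec hM g hg
  refine ⟨z, hz, u * t, ?_, rfl⟩
  apply mul_mem
  · exact Subgroup.subset_closure (Or.inl hu)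
  · exact (Subgroup.zpowers_le.2 (Subgroup.subset_closure (n_good hM))) ht

/-! ### Fusion of the involutions -/

theorem conj_spec (hM : CModel Γ mk Val) (m : ℕ) (hm : m < 128) (h : conjOK m = true) :
    ∃ c : Γ, c * mk (YL m) * c⁻¹ = mk zP := by
  unfold conjOK at h
  rw [Bool.and_eq_true, Bool.and_eq_true, seqN_eq, mmPF_eq, mmPF_eq] at h
  obtain ⟨⟨h1, h2⟩, h3⟩ := h
  have vc : Val (CJ m) := by
    unfold CJ
    rw [mmPF_eq]
    exact hM.base _ _ (blt_lt h1) (blt_lt h2)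
  have vz := decOK_val hM zP_dec
  refine ⟨mk (CJ m), ?_⟩
  rw [mul_eq_of_codes hM vc (vY hM m hm) vz vc (Nat.eq_of_beq_eq_true h3), mul_inv_cancel_right]

theorem noClosed (hM : CModel Γ mk Val) [Finite Γ] : NoClosed (DY.sub mk) := by
  intro T hTU hT hc
  apply le_antisymm hTU
  -- a nontrivial element of `T`
  obtain ⟨x, hxT, hx1⟩ : ∃ x ∈ T, x ≠ 1 := by
    by_contra hcon
    apply hT
    rw [eq_bot_iff]
    intro x hx
    rw [Subgroup.mem_bot]
    by_contra hx1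
    exact hcon ⟨x, hx, hx1⟩
  obtain ⟨m, hm, rfl⟩ := U_elem hM x (hTU hxT)
  have hp := allB_true ypow_ok m hm
  unfold ypowOK at hp
  rw [Bool.or_eq_true] at hp
  have hzT : mk zP ∈ T := by
    rcases hp with hp | hp
    · exfalso
      apply hx1
      rw [Nat.eq_of_beq_eq_true hp, YL_0, hM.mk_one]
    · rw [Bool.and_eq_true, Bool.and_eq_true] at hp
      obtain ⟨⟨h1, h2⟩, h3⟩ := hp
      have hm' := blt_lt h1
      obtain ⟨_, hpow⟩ := mk_pow hM (YL m) (vY hM m hm) (YPE m)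
      have htT : mk (YL (YPW m)) ∈ T := by
        rw [← Nat.eq_of_beq_eq_true h2, hpow]
        exact pow_mem hxT _
      obtain ⟨c, hc'⟩ := conj_spec hM _ hm' h3
      have := hc _ htT c (by rw [hc']; exact z_mem_U hM)
      rwa [hc'] at this
  -- all the generators lie in `T`
  unfold FlatData.sub
  rw [Subgroup.closure_le]
  rintro _ ⟨s, hs, rfl⟩
  obtain ⟨h1, h2, h3, _⟩ := ygen_spec s hs
  obtain ⟨c, hc'⟩ := conj_spec hM _ h1 h3
  have he : mk (DY.gen s) = c⁻¹ * mk zP * c⁻¹⁻¹ := by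
    show mk (YG s) = _
    rw [h2, ← hc']
    group
  rw [SetLike.mem_coe, he]
  apply hc _ hzT
  rw [← he]
  exact DY.gen_mem (mk := mk) _ hs

/-- the hypotheses of the simplicity criterion -/
theorem main (hM : CModel Γ mk Val) [Finite Γ] :
    Nat.card ↥(DY.sub mk) = 128 ∧ NoClosed (DY.sub mk) ∧
      ∀ g ∈ Subgroup.normalizer ((DY.sub mk : Subgroup Γ) : Set Γ),
        ∃ z ∈ Subgroup.center Γ, ∃ w ∈ Subgroup.closure (GoodZ 2 (DY.sub mk)), g = z * w :=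
  ⟨U_card hM, noClosed hM, normalizer_good hM⟩

end

end Cfsg.Agent.Helper26.J3FM
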