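import Mathlib
import Cfsg.Agent.Lib.Helper26.J3FMain3
import Cfsg.Agent.Lib.Helper25.FusionSimpCrit3

/-!
# The fusion system of the third Janko group at the prime two

From the certificate for the group named by packed matrices, we deduce that the fusion
system of the central quotient, or any group isomorphic to it, is simple.
-/

set_option autoImplicit false

namespace Cfsg.Agent.Helper26.J3FF

open Cfsg Cfsg.Agent.Helper25.SimpCrit Cfsg.Agent.Helper26.J3F Cfsg.Agent.Helper26.J3FM
  Cfsg.Agent.Helper26.J3FC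

section general

variable {G : Type*} [Group G]

/-- variant of the descent of the generation of the normalizer: central factors allowed -/
theorem autGen_map_mk_central (p : ℕ)
    (hZ : ∀ z ∈ Subgroup.center G, ∀ k : ℕ, z ^ p ^ k = 1 → z = 1)
    {U : Subgroup G} (hU : IsPGroup p U)
    (h : ∀ g ∈ Subgroup.normalizer (U : Set G), ∃ z ∈ Subgroup.center G,
      ∃ w ∈ Subgroup.closure (GoodZ p U), g = z * w) :
    AutGen p (U.map (QuotientGroup.mk' (Subgroup.center G))) := by
  intro gbar hgbar
  obtain ⟨g, rfl⟩ := QuotientGroup.mk'_surjective (Subgroup.center G) gbar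
  obtain ⟨z, hz, w, hw, rfl⟩ := h g (mem_normalizer_of_mk p hZ hU hgbar)
  have hle : Subgroup.closure (GoodZ p U) ≤
      (Subgroup.closure (GoodGen p (U.map (QuotientGroup.mk' (Subgroup.center G))))).comap
        (QuotientGroup.mk' (Subgroup.center G)) := by
    rw [Subgroup.closure_le]
    intro x hx
    exact Subgroup.subset_closure (mk_goodZ p hZ hU hx)
  have hz1 : (QuotientGroup.mk' (Subgroup.center G)) z = 1 :=
    (QuotientGroup.eq_one_iff z).mpr hz
  rw [map_mul, hz1, one_mul]
  exact hle hw

theorem card_eq_pow_factorization [Finite G] (p k : ℕ) [Fact p.Prime]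
    (K : Subgroup G) (hK : Nat.card ↥K = p ^ k) (hnd : ¬ p ^ (k + 1) ∣ Nat.card G) :
    Nat.card ↥K = p ^ (Nat.card G).factorization p := by
  have hp : p.Prime := Fact.out
  have hG0 : Nat.card G ≠ 0 := Nat.card_pos.ne'
  have h1 : k ≤ (Nat.card G).factorization p :=
    (hp.pow_dvd_iff_le_factorization hG0).1 (hK ▸ Subgroup.card_subgroup_dvd_card K)
  have h2 : ¬ k + 1 ≤ (Nat.card G).factorization p := fun h =>
    hnd ((hp.pow_dvd_iff_le_factorization hG0).2 h)
  have h3 : (Nat.card G).factorization p = k := by omega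
  rw [hK, h3]

/-- the criterion for a central quotient, with central factors, transported along an
isomorphism of the quotient -/
theorem isSimple_of_central_quotient_data [Finite G] {H : Type*} [Group H] [Finite H]
    (p k : ℕ) [Fact p.Prime] (U : Subgroup G)
    (hZ : ∀ z ∈ Subgroup.center G, ∀ k : ℕ, z ^ p ^ k = 1 → z = 1)
    (hcard : Nat.card ↥U = p ^ k) (hk : k ≠ 0) (hnd : ¬ p ^ (k + 1) ∣ Nat.card G)
    (h1 : NoClosed U)
    (h2 : ∀ g ∈ Subgroup.normalizer (U : Set G), ∃ z ∈ Subgroup.center G,
      ∃ w ∈ Subgroup.closure (GoodZ p U), g = z * w)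
    (e : G ⧸ Subgroup.center G ≃* H) (S : Sylow p H) :
    (groupFusionSystem (S : Subgroup H)).IsSimple p := by
  have hp : p.Prime := Fact.out
  have hUp : IsPGroup p U := IsPGroup.of_card hcard
  have hUne : U ≠ ⊥ := by
    intro h
    rw [h, Subgroup.card_bot] at hcard
    have : 1 < p ^ k := Nat.one_lt_pow hk hp.one_lt
    omega
  let P : Sylow p G := Sylow.ofCard U (card_eq_pow_factorization p k U hcard hnd)
  have hP : (P : Subgroup G) = U := Sylow.coe_ofCard _ _
  let P1 : Sylow p (G ⧸ Subgroup.center G) :=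
    P.mapSurjective (QuotientGroup.mk'_surjective (Subgroup.center G))
  have hP1 : (P1 : Subgroup (G ⧸ Subgroup.center G)) =
      U.map (QuotientGroup.mk' (Subgroup.center G)) := by
    show (P : Subgroup G).map (QuotientGroup.mk' (Subgroup.center G)) = _
    rw [hP]
  have hsurj : Function.Surjective e.toMonoidHom := e.surjective
  let P2 : Sylow p H := P1.mapSurjective hsurj
  have hP2 : (P2 : Subgroup H) =
      (U.map (QuotientGroup.mk' (Subgroup.center G))).map e.toMonoidHom := by
    show (P1 : Subgroup (G ⧸ Subgroup.center G)).map e.toMonoidHom = _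
    rw [hP1]
  apply isSimple_of_data p P2
  · rw [hP2]
    intro h
    exact map_mk_ne_bot p hZ hUp hUne ((Subgroup.map_eq_bot_iff_of_injective _ e.injective).mp h)
  · rw [hP2]; exact NoClosed.map e (noClosed_map_mk p hZ hUp h1)
  · rw [hP2]; exact AutGen.map e (autGen_map_mk_central p hZ hUp h2)

end general

/-- **The fusion system of a group isomorphic to the central quotient of the group named by
packed matrices is simple.** -/
theorem fusion_simple {Γ : Type*} [Group Γ] [Finite Γ] {mk : ℕ → Γ} {Val : ℕ → Prop}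
    (hM : CModel Γ mk Val) {H : Type*} [Group H] [Finite H]
    (e : Γ ⧸ Subgroup.center Γ ≃* H) (S : Sylow 2 H) :
    (groupFusionSystem (S : Subgroup H)).IsSimple 2 := by
  obtain ⟨hcard, hNC, hN⟩ := main hM
  have : Fact (Nat.Prime 2) := ⟨Nat.prime_two⟩
  have hZ : ∀ z ∈ Subgroup.center Γ, ∀ k : ℕ, z ^ 2 ^ k = 1 → z = 1 := by
    intro z hz k hk
    have h1 := orderOf_dvd_of_pow_eq_one (hM.center_pow z hz)
    have h2 := orderOf_dvd_of_pow_eq_one hk
    have h3 : orderOf z ∣ Nat.gcd 3 (2 ^ k) := Nat.dvd_gcd h1 h2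
    have h4 : Nat.gcd 3 (2 ^ k) = 1 :=
      Nat.Coprime.pow_right k (by norm_num : Nat.Coprime 3 2)
    rw [h4] at h3
    exact orderOf_eq_one_iff.mp (Nat.dvd_one.mp h3)
  refine isSimple_of_central_quotient_data 2 7 (DY.sub mk) hZ (by rw [hcard]; norm_num)
    (by norm_num) ?_ hNC hN e S
  rw [hM.card]
  norm_num

end Cfsg.Agent.Helper26.J3FF
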