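import Mathlib
import Cfsg.Prelude.Def_Transfer
import Cfsg.Agent.Lib.Helper25.FusionSimpCrit3
import Cfsg.Agent.Lib.Helper27.ExtraCrit
import Cfsg.Agent.Lib.Helper2.Order60

/-!
# Involutions and their centralizers in a central quotient; the shape of a centralizer

General lemmas used to describe the centralizer of an involution of the third Janko group.
-/

set_option autoImplicit false

namespace Cfsg.Agent.Helper26.J3FH

open Cfsg Cfsg.Agent.Helper25.SimpCrit
open scoped commutatorElement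

section quotient

variable {Γ : Type*} [Group Γ]

/-- involutions of the central quotient lift to involutions when the centre has exponent three -/
theorem exists_lift_involution (h3 : ∀ z ∈ Subgroup.center Γ, z ^ 3 = 1)
    (x : Γ ⧸ Subgroup.center Γ) (hx : orderOf x = 2) :
    ∃ y : Γ, orderOf y = 2 ∧ (QuotientGroup.mk' (Subgroup.center Γ)) y = x := by
  obtain ⟨x0, rfl⟩ := QuotientGroup.mk'_surjective (Subgroup.center Γ) x
  have hx2 : ((QuotientGroup.mk' (Subgroup.center Γ)) x0) ^ 2 = 1 := by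
    rw [← hx]; exact pow_orderOf_eq_one _
  have hne : (QuotientGroup.mk' (Subgroup.center Γ)) x0 ≠ 1 := by
    intro h
    rw [h, orderOf_one] at hx
    omega
  have hz : x0 ^ 2 ∈ Subgroup.center Γ := by
    have h1 : (QuotientGroup.mk' (Subgroup.center Γ)) (x0 ^ 2) = 1 := by
      rw [map_pow]; exact hx2
    exact (QuotientGroup.eq_one_iff _).mp h1
  have h6 : (x0 ^ 3) ^ 2 = 1 := by
    rw [← pow_mul, mul_comm, pow_mul]; exact h3 _ hz
  have himg : (QuotientGroup.mk' (Subgroup.center Γ)) (x0 ^ 3) =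
      (QuotientGroup.mk' (Subgroup.center Γ)) x0 := by
    rw [map_pow, pow_succ, hx2, one_mul]
  refine ⟨x0 ^ 3, ?_, himg⟩
  have : Fact (Nat.Prime 2) := ⟨Nat.prime_two⟩
  apply orderOf_eq_prime h6
  intro h
  apply hne
  rw [← himg, h, map_one]

/-- a single class of involutions descends to the central quotient -/
theorem isConj_quot (h3 : ∀ z ∈ Subgroup.center Γ, z ^ 3 = 1) (t : Γ)
    (hconj : ∀ y : Γ, orderOf y = 2 → IsConj y t)
    (x y : Γ ⧸ Subgroup.center Γ) (hx : orderOf x = 2) (hy : orderOf y = 2) : IsConj x y := by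
  obtain ⟨x', hx', rfl⟩ := exists_lift_involution h3 x hx
  obtain ⟨y', hy', rfl⟩ := exists_lift_involution h3 y hy
  have h1 : IsConj x' y' := (hconj x' hx').trans (hconj y' hy').symm
  exact (QuotientGroup.mk' (Subgroup.center Γ)).map_isConj h1

/-- the centralizer of the image of a 2-element in the central quotient -/
theorem mem_centralizer_mk_iff
    (hZ : ∀ z ∈ Subgroup.center Γ, ∀ k : ℕ, z ^ 2 ^ k = 1 → z = 1)
    (t : Γ) (ht : ∃ k : ℕ, t ^ 2 ^ k = 1) (g : Γ) :
    (QuotientGroup.mk' (Subgroup.center Γ)) g ∈ Subgroup.centralizer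
      ({(QuotientGroup.mk' (Subgroup.center Γ)) t} : Set (Γ ⧸ Subgroup.center Γ)) ↔
      g * t = t * g := by
  constructor
  · intro h
    have h1 := Subgroup.mem_centralizer_iff.mp h _ rfl
    have h2 : (QuotientGroup.mk' (Subgroup.center Γ)) (g * t * g⁻¹) =
        (QuotientGroup.mk' (Subgroup.center Γ)) t := by
      rw [map_mul, map_mul, map_inv, ← h1, mul_inv_cancel_right]
    have h3 := eq_of_mk_eq 2 hZ (exists_pow_conj' 2 g ht) ht h2
    calc g * t = (g * t * g⁻¹) * g := by rw [inv_mul_cancel_right]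
      _ = t * g := by rw [h3]
  · intro h
    rw [Subgroup.mem_centralizer_iff]
    intro y hy
    rw [Set.mem_singleton_iff] at hy
    rw [hy, ← map_mul, ← map_mul, h]

end quotient

section shape

variable {G : Type*} [Group G] [Finite G]

/-- the shape `2^{1+4}_- : A₅` of a subgroup from elementwise data -/
theorem centralizer_structure (C Q H : Subgroup G) (z : G)
    (hQC : Q ≤ C) (hHC : H ≤ C)
    (hnorm : ∀ c ∈ C, ∀ q ∈ Q, c * q * c⁻¹ ∈ Q)
    (hprod : ∀ c ∈ C, ∃ q ∈ Q, ∃ h ∈ H, c = q * h)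
    (hcard : Nat.card Q = 32)
    (hzQ : z ∈ Q) (hz1 : z ≠ 1) (hzc : ∀ a ∈ Q, a * z = z * a)
    (hcen : ∀ c ∈ Q, (∀ a ∈ Q, a * c = c * a) → c = 1 ∨ c = z)
    (hcomm : ∀ a ∈ Q, ∀ b ∈ Q, a * b * a⁻¹ * b⁻¹ = 1 ∨ a * b * a⁻¹ * b⁻¹ = z)
    (hsq : ∀ a ∈ Q, a ^ 2 = 1 ∨ a ^ 2 = z)
    (hna : ∃ a ∈ Q, ∃ b ∈ Q, a * b ≠ b * a)
    (hE8 : ∀ E : Subgroup G, E ≤ Q → (∀ a ∈ E, ∀ b ∈ E, a * b = b * a) →
      (∀ a ∈ E, a ^ 2 = 1) → Nat.card E ≤ 4)
    (hHs : IsSimpleGroup H) (hHcard : Nat.card H = 60) :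
    ∃ (Q' : Subgroup ↥C) (_ : Q'.Normal), IsExtraspecial 2 Q' ∧ Nat.card Q' = 32 ∧
      (∀ E : Subgroup Q', IsElementaryAbelian 2 E → Nat.card E ≤ 2 ^ 2) ∧
      (∃ H' : Subgroup ↥C, Q'.IsComplement' H') ∧
      Nonempty (↥C ⧸ Q' ≃* ↥(alternatingGroup (Fin 5))) := by
  -- the intersection of `Q` and `H` is trivial
  have hdisj : ∀ x : G, x ∈ Q → x ∈ H → x = 1 := by
    have hN : ((Q ⊓ H).subgroupOf H).Normal := by
      constructor
      intro n hn g
      rw [Subgroup.mem_subgroupOf] at hn ⊢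
      refine ⟨?_, ?_⟩
      · exact hnorm _ (hHC g.2) _ hn.1
      · exact H.mul_mem (H.mul_mem g.2 hn.2) (H.inv_mem g.2)
    rcases hN.eq_bot_or_eq_top with h | h
    · intro x hxQ hxH
      have h1 : (⟨x, hxH⟩ : ↥H) ∈ (Q ⊓ H).subgroupOf H := Subgroup.mem_subgroupOf.mpr ⟨hxQ, hxH⟩
      rw [h, Subgroup.mem_bot] at h1
      exact congrArg Subtype.val h1
    · exfalso
      have hle : H ≤ Q := by
        intro x hx
        have h1 : (⟨x, hx⟩ : ↥H) ∈ (Q ⊓ H).subgroupOf H := by rw [h]; exact Subgroup.mem_top _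
        exact (Subgroup.mem_subgroupOf.mp h1).1
      have := Subgroup.card_dvd_of_le hle
      rw [hHcard, hcard] at this
      omega
  set Q' : Subgroup ↥C := Q.subgroupOf C with hQ'
  set H' : Subgroup ↥C := H.subgroupOf C with hH'
  have hQn : Q'.Normal := by
    constructor
    intro n hn g
    rw [hQ', Subgroup.mem_subgroupOf] at hn ⊢
    exact hnorm _ g.2 _ hn
  have hcard' : Nat.card ↥Q' = 32 := by
    rw [← hcard]
    exact Nat.card_congr (Subgroup.subgroupOfEquivOfLe hQC).toEquiv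
  -- the inclusion of `Q'` in `G`
  let ι : ↥Q' →* G := C.subtype.comp Q'.subtype
  have ι_inj : Function.Injective ι :=
    (Subgroup.subtype_injective C).comp (Subgroup.subtype_injective Q')
  have ι_mem : ∀ a : ↥Q', ι a ∈ Q := fun a => Subgroup.mem_subgroupOf.mp a.2
  have lift : ∀ a ∈ Q, ∃ a' : ↥Q', ι a' = a := fun a ha =>
    ⟨⟨⟨a, hQC ha⟩, Subgroup.mem_subgroupOf.mpr ha⟩, rfl⟩
  obtain ⟨z', hz'⟩ := lift z hzQ
  have hES : IsExtraspecial 2 ↥Q' := by
    have hP : IsPGroup 2 ↥Q' := IsPGroup.of_card (n := 5) (by rw [hcard']; norm_num)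
    apply Cfsg.Agent.Helper27.isExtraspecial_two_of_data hP z'
    · intro h
      apply hz1
      rw [← hz', h, map_one]
    · intro a
      apply ι_inj
      rw [map_mul, map_mul, hz']
      exact hzc _ (ι_mem a)
    · intro c hc
      have h1 := hcen (ι c) (ι_mem c) (fun a ha => by
        obtain ⟨a', rfl⟩ := lift a ha
        rw [← map_mul, ← map_mul, hc a'])
      rcases h1 with h1 | h1
      · left
        apply ι_inj
        rw [h1, map_one]
      · right
        apply ι_inj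
        rw [h1, hz']
    · intro a b
      have h1 : ι ⁅a, b⁆ = ι a * ι b * (ι a)⁻¹ * (ι b)⁻¹ := by
        rw [commutatorElement_def, map_mul, map_mul, map_mul, map_inv, map_inv]
      rcases hcomm _ (ι_mem a) _ (ι_mem b) with h2 | h2
      · left
        apply ι_inj
        rw [h1, h2, map_one]
      · right
        apply ι_inj
        rw [h1, h2, hz']
    · intro a
      rcases hsq _ (ι_mem a) with h2 | h2
      · left
        apply ι_inj
        rw [map_pow, h2, map_one]
      · right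
        apply ι_inj
        rw [map_pow, h2, hz']
    · obtain ⟨a, ha, b, hb, hab⟩ := hna
      obtain ⟨a', rfl⟩ := lift a ha
      obtain ⟨b', rfl⟩ := lift b hb
      refine ⟨a', b', ?_⟩
      intro h
      apply hab
      rw [commutatorElement_eq_one_iff_mul_comm] at h
      rw [← map_mul, ← map_mul, h]
  have hcomp : Q'.IsComplement' H' := by
    apply Subgroup.isComplement'_of_disjoint_and_mul_eq_univ
    · rw [Subgroup.disjoint_def]
      intro x hxQ hxH
      rw [hQ', Subgroup.mem_subgroupOf] at hxQ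
      rw [hH', Subgroup.mem_subgroupOf] at hxH
      apply Subtype.ext
      exact hdisj _ hxQ hxH
    · rw [Set.eq_univ_iff_forall]
      intro c
      obtain ⟨q, hq, h, hh, hc⟩ := hprod c.1 c.2
      rw [Set.mem_mul]
      refine ⟨⟨q, hQC hq⟩, Subgroup.mem_subgroupOf.mpr hq, ⟨h, hHC hh⟩,
        Subgroup.mem_subgroupOf.mpr hh, ?_⟩
      apply Subtype.ext
      exact hc.symm
  refine ⟨Q', hQn, hES, hcard', ?_, ⟨H', hcomp⟩, ?_⟩
  · intro E hE
    obtain ⟨hE1, hE2⟩ := hE
    have h1 := hE8 (E.map ι) ?_ ?_ ?_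
    · rw [Subgroup.card_map_of_injective ι_inj] at h1
      exact h1
    · rintro _ ⟨a, _, rfl⟩
      exact ι_mem a
    · rintro _ ⟨a, ha, rfl⟩ _ ⟨b, hb, rfl⟩
      have h2 : (⟨a, ha⟩ : ↥E) * ⟨b, hb⟩ = ⟨b, hb⟩ * ⟨a, ha⟩ := hE1.is_comm.comm _ _
      have h3 : a * b = b * a := congrArg Subtype.val h2
      rw [← map_mul, ← map_mul, h3]
    · rintro _ ⟨a, ha, rfl⟩
      rw [← map_pow, hE2 a ha, map_one]
  · have e1 : ↥C ⧸ Q' ≃* ↥H' := hcomp.symm.QuotientMulEquiv
    have e2 : ↥H' ≃* ↥H := Subgroup.subgroupOfEquivOfLe hHC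
    obtain ⟨e3⟩ := Cfsg.Agent.Helper2.simple_sixty_equiv_alternating hHcard
    exact ⟨(e1.trans e2).trans e3⟩

end shape

end Cfsg.Agent.Helper26.J3FH
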