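import Mathlib

set_option autoImplicit false

namespace Cfsg.Agent.Helper26.P11

/-! ### Two by two matrices modulo 11 as names for the elements of a projective group -/

abbrev M4 := ℕ × ℕ × ℕ × ℕ

def mulM (p q : M4) : M4 :=
  ((p.1 * q.1 + p.2.1 * q.2.2.1) % 11, (p.1 * q.2.1 + p.2.1 * q.2.2.2) % 11,
    (p.2.2.1 * q.1 + p.2.2.2 * q.2.2.1) % 11, (p.2.2.1 * q.2.1 + p.2.2.2 * q.2.2.2) % 11)

def negM (p : M4) : M4 :=
  ((11 - p.1) % 11, (11 - p.2.1) % 11, (11 - p.2.2.1) % 11, (11 - p.2.2.2) % 11)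

def idM : M4 := (1, 0, 0, 1)

def beq4 (p q : M4) : Bool :=
  Nat.beq p.1 q.1 && Nat.beq p.2.1 q.2.1 && Nat.beq p.2.2.1 q.2.2.1 && Nat.beq p.2.2.2 q.2.2.2

theorem beq4_iff (p q : M4) : beq4 p q = true ↔ p = q := by
  obtain ⟨a, b, c, d⟩ := p
  obtain ⟨a', b', c', d'⟩ := q
  unfold beq4
  simp only [Bool.and_eq_true, Nat.beq_eq, Prod.mk.injEq]
  tauto

/-- entries reduced and determinant one -/
def validM (p : M4) : Bool :=
  Nat.blt p.1 11 && Nat.blt p.2.1 11 && Nat.blt p.2.2.1 11 && Nat.blt p.2.2.2 11 &&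
    Nat.beq ((p.1 * p.2.2.2 + 121 - p.2.1 * p.2.2.1) % 11) 1

theorem validM_iff (p : M4) : validM p = true ↔
    p.1 < 11 ∧ p.2.1 < 11 ∧ p.2.2.1 < 11 ∧ p.2.2.2 < 11 ∧
      (p.1 * p.2.2.2 + 121 - p.2.1 * p.2.2.1) % 11 = 1 := by
  unfold validM
  simp only [Bool.and_eq_true, Nat.blt_eq, Nat.beq_eq]
  tauto

/-- equality up to sign -/
def eqM (p q : M4) : Bool := beq4 p q || beq4 p (negM q)

def isId (p : M4) : Bool := eqM p idM

def powM (p : M4) : ℕ → M4
  | 0 => idM
  | k + 1 => mulM p (powM p k)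

/-- a group whose elements are named by matrices, equal names up to sign -/
structure Model (G : Type*) [Group G] (mk : M4 → G) : Prop where
  surj : ∀ g : G, ∃ p, validM p = true ∧ mk p = g
  one : mk idM = 1
  mul : ∀ p q, validM p = true → validM q = true → mk (mulM p q) = mk p * mk q
  valid_mul : ∀ p q, validM p = true → validM q = true → validM (mulM p q) = true
  eq_iff : ∀ p q, validM p = true → validM q = true → (mk p = mk q ↔ eqM p q = true)

theorem valid_idM : validM idM = true := by decide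

section

variable {G : Type*} [Group G] {mk : M4 → G}

theorem Model.valid_pow (hM : Model G mk) (p : M4) (hp : validM p = true) :
    ∀ k, validM (powM p k) = true
  | 0 => valid_idM
  | k + 1 => hM.valid_mul p (powM p k) hp (hM.valid_pow p hp k)

theorem Model.mk_pow (hM : Model G mk) (p : M4) (hp : validM p = true) :
    ∀ k, mk (powM p k) = mk p ^ k
  | 0 => by rw [pow_zero]; exact hM.one
  | k + 1 => by
    show mk (mulM p (powM p k)) = _
    rw [hM.mul p (powM p k) hp (hM.valid_pow p hp k), hM.mk_pow p hp k, pow_succ']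

theorem Model.eq_one_iff (hM : Model G mk) (p : M4) (hp : validM p = true) :
    mk p = 1 ↔ isId p = true := by
  rw [← hM.one]
  exact hM.eq_iff p idM hp valid_idM

theorem Model.orderOf_eq (hM : Model G mk) (p : M4) (hp : validM p = true) (n : ℕ)
    [hn : Fact n.Prime] (h1 : isId (powM p n) = true) (h2 : isId p = false) :
    orderOf (mk p) = n := by
  apply orderOf_eq_prime
  · rw [← hM.mk_pow p hp n]
    exact (hM.eq_one_iff _ (hM.valid_pow p hp n)).2 h1
  · intro h
    rw [(hM.eq_one_iff p hp).1 h] at h2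
    exact Bool.noConfusion h2

end

end Cfsg.Agent.Helper26.P11
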