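import Mathlib
import Cfsg.Agent.Lib.Helper26.P11Defs
import Cfsg.Agent.Lib.Helper26.Schreier
import Cfsg.Agent.Lib.Helper26.SimpleQ
import Cfsg.Agent.Lib.Helper2.Order60

set_option autoImplicit false

namespace Cfsg.Agent.Helper26.P11

/-! ### Subgroups of order 60 generated by an involution and an element of order three -/

theorem hmod_60 : ∀ p : ℕ, p.Prime → p ≠ 5 → ∀ j, 0 < j → p ^ j ∣ 60 →
    ¬ (p ^ j ≡ 1 [MOD 5]) := by
  intro p hp hp5 j hj hdvd
  have hle : p ^ j ≤ 60 := Nat.le_of_dvd (by norm_num) hdvd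
  have hp2 : 2 ≤ p := hp.two_le
  have hj6 : j < 6 := by
    by_contra hcon
    have : 2 ^ 6 ≤ p ^ j :=
      le_trans (Nat.pow_le_pow_left hp2 6) (Nat.pow_le_pow_right (by omega) (by omega))
    omega
  have hp60 : p ≤ 60 := le_trans (Nat.le_self_pow hj.ne' p) hle
  interval_cases j <;> interval_cases p <;>
    first | omega | (exfalso; revert hp; decide) | (revert hdvd; decide)

/-- a group of order 60 with trivial centre generated by an involution and an element of order
three whose product has order five is simple -/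
theorem simple_of_235 {K : Type*} [Group K] [Finite K] (a b : K) (ha : a ^ 2 = 1)
    (hb : b ^ 3 = 1) (hab : (a * b) ^ 5 = 1) (hne : a * b ≠ 1)
    (hgen : Subgroup.closure ({a, b} : Set K) = ⊤) (hcard : Nat.card K = 60)
    (hZ : Subgroup.center K = ⊥) : IsSimpleGroup K := by
  have hq : Fact (Nat.Prime 5) := ⟨by norm_num⟩
  apply SimpleQ.isSimpleGroup_of_prime_elt 5 (a * b)
  · exact orderOf_eq_prime hab hne
  · rw [hcard]; norm_num
  · exact SimpleQ.normalClosure_mul_eq_top a b 2 3 ha hb (by norm_num) hgen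
  · exact hZ
  · rw [hcard]; exact hmod_60

/-- in a simple group of order 60, a subgroup containing elements of orders 2, 3, 5 is the
whole group -/
theorem eq_top_of_235 {K : Type*} [Group K] [Finite K] [IsSimpleGroup K]
    (hcard : Nat.card K = 60) (M : Subgroup K) (x y z : K) (hx : x ∈ M) (hy : y ∈ M)
    (hz : z ∈ M) (ox : orderOf x = 2) (oy : orderOf y = 3) (oz : orderOf z = 5) : M = ⊤ := by
  have h2 : 2 ∣ Nat.card ↥M := by
    rw [← ox, ← Subgroup.orderOf_mk x hx]
    exact orderOf_dvd_natCard _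
  have h3 : 3 ∣ Nat.card ↥M := by
    rw [← oy, ← Subgroup.orderOf_mk y hy]
    exact orderOf_dvd_natCard _
  have h5 : 5 ∣ Nat.card ↥M := by
    rw [← oz, ← Subgroup.orderOf_mk z hz]
    exact orderOf_dvd_natCard _
  have h30 : 30 ∣ Nat.card ↥M := by
    have h6 : 6 ∣ Nat.card ↥M := Nat.Coprime.mul_dvd_of_dvd_of_dvd (by norm_num) h2 h3
    exact Nat.Coprime.mul_dvd_of_dvd_of_dvd (by norm_num : Nat.Coprime 6 5) h6 h5
  have hdvd : Nat.card ↥M ∣ 60 := hcard ▸ Subgroup.card_subgroup_dvd_card M
  have hidx := Subgroup.card_mul_index M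
  rw [hcard] at hidx
  obtain ⟨k, hk⟩ := h30
  have hk0 : k ≠ 0 := by
    rintro rfl
    rw [mul_zero] at hk
    have := Nat.card_pos (α := ↥M)
    omega
  have hk2 : k ≤ 2 := by
    have := Nat.le_of_dvd (by norm_num) hdvd
    omega
  have hk' : k = 1 ∨ k = 2 := by omega
  rcases hk' with rfl | rfl
  · -- index 2: normal, contradiction with simplicity
    exfalso
    have hi : M.index = 2 := by
      rw [hk] at hidx
      omega
    have hn : M.Normal := Subgroup.normal_of_index_eq_two hi
    rcases hn.eq_bot_or_eq_top with h | h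
    · rw [h, Subgroup.card_bot] at hk
      omega
    · rw [h, Subgroup.index_top] at hi
      omega
  · exact (Subgroup.card_eq_iff_eq_top M).1 (by rw [hcard, hk])

/-- the same for a subgroup of a larger group -/
theorem closure_eq_of_235 {G : Type*} [Group G] (M : Subgroup G) [Finite ↥M]
    (hs : IsSimpleGroup ↥M) (hc : Nat.card ↥M = 60) (x y : G) (hx : x ∈ M) (hy : y ∈ M)
    (ox : orderOf x = 2) (oy : orderOf y = 3) (oxy : orderOf (x * y) = 5) :
    Subgroup.closure ({x, y} : Set G) = M := by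
  have hle : Subgroup.closure ({x, y} : Set G) ≤ M := by
    rw [Subgroup.closure_le]
    intro g hg
    rcases hg with rfl | rfl
    · exact hx
    · exact hy
  apply le_antisymm hle
  have htop := eq_top_of_235 hc ((Subgroup.closure ({x, y} : Set G)).subgroupOf M)
    ⟨x, hx⟩ ⟨y, hy⟩ ⟨x * y, M.mul_mem hx hy⟩
    (Subgroup.mem_subgroupOf.2 (Subgroup.subset_closure (by simp)))
    (Subgroup.mem_subgroupOf.2 (Subgroup.subset_closure (by simp)))
    (Subgroup.mem_subgroupOf.2 (Subgroup.mul_mem _ (Subgroup.subset_closure (by simp))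
      (Subgroup.subset_closure (by simp))))
    (by rw [Subgroup.orderOf_mk]; exact ox) (by rw [Subgroup.orderOf_mk]; exact oy)
    (by rw [Subgroup.orderOf_mk]; exact oxy)
  intro g hg
  have : (⟨g, hg⟩ : ↥M) ∈ (Subgroup.closure ({x, y} : Set G)).subgroupOf M := by
    rw [htop]
    exact Subgroup.mem_top _
  exact Subgroup.mem_subgroupOf.1 this

/-! #### The data of such a subgroup -/

structure A5Data where
  x : M4
  y : M4
  L : List M4
  par : List ℕ
  sg : List ℕ

def A5Data.gen (D : A5Data) (s : ℕ) : M4 := cond (Nat.beq s 0) D.x D.y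

def A5Data.el (D : A5Data) (i : ℕ) : M4 := D.L.getD i idM

def commM (p q : M4) : Bool := eqM (mulM p q) (mulM q p)

def A5Data.ok1 (D : A5Data) : Bool :=
  Nat.beq D.L.length 60 && beq4 (D.el 0) idM && D.L.all validM && validM D.x && validM D.y &&
    isId (mulM D.x D.x) && isId (powM D.y 3) && isId (powM (mulM D.x D.y) 5) &&
    !isId (mulM D.x D.y)

def A5Data.okTree (D : A5Data) : Bool :=
  (List.range 60).all fun k => Nat.beq k 0 || (Nat.blt (D.par.getD k 0) k &&
    Nat.blt (D.sg.getD k 0) 2 &&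
    eqM (D.el k) (mulM (D.gen (D.sg.getD k 0)) (D.el (D.par.getD k 0))))

def A5Data.okInj (D : A5Data) : Bool :=
  (List.range 60).all fun i => (List.range 60).all fun j =>
    !eqM (D.el i) (D.el j) || Nat.beq i j

def A5Data.okStep (D : A5Data) : Bool :=
  (List.range 2).all fun s => (List.range 60).all fun i => (List.range 60).any fun j =>
    eqM (mulM (D.gen s) (D.el i)) (D.el j)

def A5Data.okCent (D : A5Data) : Bool :=
  (List.range 60).all fun i => Nat.beq i 0 || !commM (D.el i) D.x || !commM (D.el i) D.y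

structure A5Data.Ok (D : A5Data) : Prop where
  h1 : D.ok1 = true
  hTree : D.okTree = true
  hInj : D.okInj = true
  hStep : D.okStep = true
  hCent : D.okCent = true

section

variable {G : Type*} [Group G] {mk : M4 → G}

/-- the subgroup of the data -/
def A5Data.sub (D : A5Data) (mk : M4 → G) : Subgroup G :=
  Subgroup.closure {mk D.x, mk D.y}

theorem A5Data.valid_el (D : A5Data) (h : D.Ok) (i : ℕ) : validM (D.el i) = true := by
  have h1 := h.h1
  unfold A5Data.ok1 at h1
  simp only [Bool.and_eq_true] at h1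
  have hall := h1.1.1.1.1.1.1.2
  rw [List.all_eq_true] at hall
  unfold A5Data.el
  rw [List.getD_eq_getElem?_getD]
  cases hq : D.L[i]? with
  | none => exact valid_idM
  | some v => exact hall v (List.mem_of_getElem? hq)

theorem A5Data.facts (D : A5Data) (h : D.Ok) :
    validM D.x = true ∧ validM D.y = true ∧ isId (mulM D.x D.x) = true ∧
      isId (powM D.y 3) = true ∧ isId (powM (mulM D.x D.y) 5) = true ∧
      isId (mulM D.x D.y) = false ∧ D.el 0 = idM ∧ D.L.length = 60 := by
  have h1 := h.h1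
  unfold A5Data.ok1 at h1
  simp only [Bool.and_eq_true, Bool.not_eq_true'] at h1
  obtain ⟨⟨⟨⟨⟨⟨⟨⟨a1, a2⟩, _⟩, a4⟩, a5⟩, a6⟩, a7⟩, a8⟩, a9⟩ := h1
  exact ⟨a4, a5, a6, a7, a8, a9, (beq4_iff _ _).1 a2, Nat.eq_of_beq_eq_true a1⟩

theorem A5Data.valid_gen (D : A5Data) (h : D.Ok) (s : ℕ) : validM (D.gen s) = true := by
  unfold A5Data.gen
  cases Nat.beq s 0
  · exact (D.facts h).2.1
  · exact (D.facts h).1

theorem A5Data.gen_mem (D : A5Data) (s : ℕ) : mk (D.gen s) ∈ D.sub mk := by
  unfold A5Data.gen A5Data.sub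
  cases Nat.beq s 0
  · exact Subgroup.subset_closure (by simp)
  · exact Subgroup.subset_closure (by simp)

theorem A5Data.el_mem (hM : Model G mk) (D : A5Data) (h : D.Ok) :
    ∀ i, i < 60 → mk (D.el i) ∈ D.sub mk := by
  intro i
  induction i using Nat.strong_induction_on with
  | _ i ih =>
    intro hi
    rcases Nat.eq_zero_or_pos i with h0 | h0
    · rw [h0, (D.facts h).2.2.2.2.2.2.1, hM.one]
      exact one_mem _
    · have ht := h.hTree
      unfold A5Data.okTree at ht
      rw [List.all_eq_true] at ht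
      have h2 := ht i (List.mem_range.2 hi)
      rw [Bool.or_eq_true] at h2
      rcases h2 with h2 | h2
      · have := Nat.eq_of_beq_eq_true h2
        omega
      · rw [Bool.and_eq_true, Bool.and_eq_true, Nat.blt_eq, Nat.blt_eq] at h2
        obtain ⟨⟨hpar, _⟩, he⟩ := h2
        have h3 := (hM.eq_iff _ _ (D.valid_el h i)
          (hM.valid_mul _ _ (D.valid_gen h _) (D.valid_el h _))).2 he
        rw [h3, hM.mul _ _ (D.valid_gen h _) (D.valid_el h _)]
        exact mul_mem (D.gen_mem _) (ih _ hpar (by omega))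

theorem A5Data.level (hM : Model G mk) [Finite G] (D : A5Data) (h : D.Ok) :
    (∀ k ∈ D.sub mk, ∃ i < 60, k = mk (D.el i)) ∧ Nat.card ↥(D.sub mk) = 60 := by
  unfold A5Data.sub
  apply schreier_flat (Ω := G) {mk D.x, mk D.y} (1 : G) 60 (fun i => mk (D.el i)) (by norm_num)
  · show mk (D.el 0) = 1
    rw [(D.facts h).2.2.2.2.2.2.1, hM.one]
  · intro i hi
    exact D.el_mem hM h i hi
  · intro i hi j hj hij
    have h1 : mk (D.el i) = mk (D.el j) := by
      have := hij
      simpa [smul_eq_mul] using this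
    have h2 := (hM.eq_iff _ _ (D.valid_el h i) (D.valid_el h j)).1 h1
    have hI := h.hInj
    unfold A5Data.okInj at hI
    rw [List.all_eq_true] at hI
    have h3 := hI i (List.mem_range.2 hi)
    rw [List.all_eq_true] at h3
    have h4 := h3 j (List.mem_range.2 hj)
    rw [h2] at h4
    exact Nat.eq_of_beq_eq_true (by simpa using h4)
  · intro g hg i hi
    have hS := h.hStep
    unfold A5Data.okStep at hS
    rw [List.all_eq_true] at hS
    have key : ∀ s < 2, ∃ j < 60, mk (D.gen s) * mk (D.el i) = mk (D.el j) := by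
      intro s hs
      have h2 := hS s (List.mem_range.2 hs)
      rw [List.all_eq_true] at h2
      have h3 := h2 i (List.mem_range.2 hi)
      rw [List.any_eq_true] at h3
      obtain ⟨j, hj, he⟩ := h3
      refine ⟨j, List.mem_range.1 hj, ?_⟩
      rw [← hM.mul _ _ (D.valid_gen h s) (D.valid_el h i)]
      exact (hM.eq_iff _ _ (hM.valid_mul _ _ (D.valid_gen h s) (D.valid_el h i))
        (D.valid_el h j)).2 he
    rcases hg with rfl | rfl
    · exact key 0 (by norm_num)
    · exact key 1 (by norm_num)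

theorem A5Data.simple (hM : Model G mk) [Finite G] (D : A5Data) (h : D.Ok) :
    IsSimpleGroup ↥(D.sub mk) := by
  obtain ⟨vx, vy, hx2, hy3, hxy5, hxy1, _, _⟩ := D.facts h
  have hxm : mk D.x ∈ D.sub mk := Subgroup.subset_closure (by simp)
  have hym : mk D.y ∈ D.sub mk := Subgroup.subset_closure (by simp)
  let a : ↥(D.sub mk) := ⟨mk D.x, hxm⟩
  let b : ↥(D.sub mk) := ⟨mk D.y, hym⟩
  have ha : a ^ 2 = 1 := by
    apply Subtype.ext
    show mk D.x ^ 2 = 1
    rw [pow_two, ← hM.mul _ _ vx vx]
    exact (hM.eq_one_iff _ (hM.valid_mul _ _ vx vx)).2 hx2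
  have hb : b ^ 3 = 1 := by
    apply Subtype.ext
    show mk D.y ^ 3 = 1
    rw [← hM.mk_pow _ vy]
    exact (hM.eq_one_iff _ (hM.valid_pow _ vy 3)).2 hy3
  have vxy := hM.valid_mul _ _ vx vy
  have hab : (a * b) ^ 5 = 1 := by
    apply Subtype.ext
    show (mk D.x * mk D.y) ^ 5 = 1
    rw [← hM.mul _ _ vx vy, ← hM.mk_pow _ vxy]
    exact (hM.eq_one_iff _ (hM.valid_pow _ vxy 5)).2 hxy5
  have hne : a * b ≠ 1 := by
    intro hc
    have h1 : mk D.x * mk D.y = 1 := congrArg Subtype.val hc
    rw [← hM.mul _ _ vx vy, hM.eq_one_iff _ vxy, hxy1] at h1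
    exact Bool.false_ne_true h1
  have hgen : Subgroup.closure ({a, b} : Set ↥(D.sub mk)) = ⊤ := by
    rw [eq_top_iff]
    intro g _
    let K : Subgroup G :=
      (Subgroup.closure ({a, b} : Set ↥(D.sub mk))).map (D.sub mk).subtype
    have haK : mk D.x ∈ K := ⟨a, Subgroup.subset_closure (by simp), rfl⟩
    have hbK : mk D.y ∈ K := ⟨b, Subgroup.subset_closure (by simp), rfl⟩
    have hle : D.sub mk ≤ K := by
      unfold A5Data.sub
      rw [Subgroup.closure_le]
      intro y hy
      rcases hy with rfl | rfl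
      · exact haK
      · exact hbK
    obtain ⟨k, hk, hkg⟩ := hle g.2
    have : k = g := Subtype.ext hkg
    rw [← this]
    exact hk
  apply simple_of_235 a b ha hb hab hne hgen (D.level hM h).2
  rw [eq_bot_iff]
  intro z hz
  rw [Subgroup.mem_center_iff] at hz
  rw [Subgroup.mem_bot]
  apply Subtype.ext
  obtain ⟨i, hi, hzi⟩ := (D.level hM h).1 z.1 z.2
  rcases Nat.eq_zero_or_pos i with h0 | h0
  · rw [hzi, h0, (D.facts h).2.2.2.2.2.2.1, hM.one]
    rfl
  · exfalso
    have hC := h.hCent
    unfold A5Data.okCent at hC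
    rw [List.all_eq_true] at hC
    have h2 := hC i (List.mem_range.2 hi)
    have vi := D.valid_el h i
    have c1 : commM (D.el i) D.x = true := by
      unfold commM
      rw [← hM.eq_iff _ _ (hM.valid_mul _ _ vi vx) (hM.valid_mul _ _ vx vi),
        hM.mul _ _ vi vx, hM.mul _ _ vx vi, ← hzi]
      exact (congrArg Subtype.val (hz a)).symm
    have c2 : commM (D.el i) D.y = true := by
      unfold commM
      rw [← hM.eq_iff _ _ (hM.valid_mul _ _ vi vy) (hM.valid_mul _ _ vy vi),
        hM.mul _ _ vi vy, hM.mul _ _ vy vi, ← hzi]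
      exact (congrArg Subtype.val (hz b)).symm
    rw [c1, c2] at h2
    have : Nat.beq i 0 = true := by simpa using h2
    have := Nat.eq_of_beq_eq_true this
    omega

theorem A5Data.equiv (hM : Model G mk) [Finite G] (D : A5Data) (h : D.Ok) :
    Nonempty (↥(D.sub mk) ≃* alternatingGroup (Fin 5)) :=
  have := D.simple hM h
  Cfsg.Agent.Helper2.simple_sixty_equiv_alternating (D.level hM h).2

end

end Cfsg.Agent.Helper26.P11
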