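import Mathlib
import Cfsg.Agent.Lib.Helper26.J3FFus
import Cfsg.Agent.Lib.Helper26.J3FChkH
import Cfsg.Agent.Lib.Helper26.P11Abs1

/-!
# The centralizer of an involution of `3.J₃`: the normal 2-subgroup and a complement
-/

set_option autoImplicit false

namespace Cfsg.Agent.Helper26.J3FM

open Cfsg.Agent.Helper26 Cfsg.Agent.Helper26.F4M Cfsg.Agent.Helper26.J3D
  Cfsg.Agent.Helper26.J3C Cfsg.Agent.Helper26.J3G Cfsg.Agent.Helper26.J3F
  Cfsg.Agent.Helper26.J3FD Cfsg.Agent.Helper26.J3FC Cfsg.Agent.Helper26.J3FK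
open Cfsg.Agent.Helper25.SimpCrit

/-- a finite subgroup with more elements than a finite set has an element outside it -/
theorem exists_not_mem_of_card_lt {G : Type*} [Group G] (E : Subgroup G) [Finite ↥E]
    (S : Finset G) (h : S.card < Nat.card ↥E) : ∃ w ∈ E, w ∉ S := by
  by_contra hcon
  have hcon : ∀ w ∈ E, w ∈ S := by
    intro w hw
    by_contra hws
    exact hcon ⟨w, hw, hws⟩
  have h1 : Nat.card ↥E ≤ S.card := by
    have hinj : Function.Injective (fun e : ↥E => (⟨e.1, hcon e.1 e.2⟩ : ↥S)) :=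
      fun a b hab => Subtype.ext (congrArg (fun s : ↥S => s.1) hab)
    have := Nat.card_le_card_of_injective _ hinj
    rwa [Nat.card_eq_fintype_card (α := ↥S), Fintype.card_coe] at this
  omega

section

variable {Γ : Type*} [Group Γ] {mk : ℕ → Γ} {Val : ℕ → Prop}

/-! ### The complement -/

theorem hgen_spec (s : ℕ) (hs : s < 2) :
    decOK (HG s) (HGI s) (HGK s) = true ∧ mmP (HG s) zP = mmP zP (HG s) := by
  have h := allB_true hgen_ok s hs
  unfold hgenOK at h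
  rw [Bool.and_eq_true, mmPF_eq, mmPF_eq] at h
  exact ⟨h.1, Nat.eq_of_beq_eq_true h.2⟩

theorem vHG (hM : CModel Γ mk Val) (s : ℕ) (hs : s < 2) : Val (HG s) :=
  decOK_val hM (hgen_spec s hs).1

theorem DH_ok (hM : CModel Γ mk Val) : DH.Ok Val where
  npos := by decide
  zero := HL_0
  tree := fun j h1 h2 => allR_true htree j h1 (by have : j < 60 := h2; omega)
  sch := fun s hs j hj => allB_true (allB_true hsch s hs) j hj
  inj := distinctOK_spec hdist
  vgen := fun s hs => vHG hM s hs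

theorem vH (hM : CModel Γ mk Val) (j : ℕ) (hj : j < 60) : Val (HL j) :=
  DH.val_L hM (DH_ok hM) j hj

theorem H_mem (hM : CModel Γ mk Val) (j : ℕ) (hj : j < 60) : mk (HL j) ∈ DH.sub mk :=
  DH.mem_sub hM (DH_ok hM) j hj

theorem H_card (hM : CModel Γ mk Val) [Finite Γ] : Nat.card ↥(DH.sub mk) = 60 :=
  (DH.level hM (DH_ok hM)).2

theorem H_elem (hM : CModel Γ mk Val) [Finite Γ] (h : Γ) (hh : h ∈ DH.sub mk) :
    ∃ j, j < 60 ∧ h = mk (HL j) :=
  (DH.level hM (DH_ok hM)).1 h hh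

theorem H_comm_z (hM : CModel Γ mk Val) (h : Γ) (hh : h ∈ DH.sub mk) :
    h * mk zP = mk zP * h := by
  have hle : DH.sub mk ≤ Subgroup.centralizer ({mk zP} : Set Γ) := by
    unfold FlatData.sub
    rw [Subgroup.closure_le]
    rintro _ ⟨s, hs, rfl⟩
    rw [SetLike.mem_coe, Subgroup.mem_centralizer_iff]
    intro h hh
    rw [Set.mem_singleton_iff] at hh
    rw [hh]
    have vz := decOK_val hM zP_dec
    exact (mul_eq_of_codes hM (vHG hM s hs) vz vz (vHG hM s hs) (hgen_spec s hs).2).symm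
  have := hle hh
  rw [Subgroup.mem_centralizer_iff] at this
  exact (this _ rfl).symm

/-- the centre of the complement is trivial -/
theorem H_center (hM : CModel Γ mk Val) [Finite Γ] (h : Γ) (hh : h ∈ DH.sub mk)
    (hc : ∀ k ∈ DH.sub mk, h * k = k * h) : h = 1 := by
  obtain ⟨j, hj, rfl⟩ := H_elem hM h hh
  have h1 := allB_true hcen_ok j hj
  unfold hcenOK at h1
  rw [Bool.or_eq_true] at h1
  rcases h1 with h1 | h1
  · rw [Nat.eq_of_beq_eq_true h1, HL_0, hM.mk_one]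
  · exfalso
    rw [Bool.and_eq_true, mmPF_eq, mmPF_eq] at h1
    obtain ⟨h2, h3⟩ := h1
    have hs := blt_lt h2
    have h4 := hc _ (DH.gen_mem (mk := mk) _ hs)
    have h5 := codes_of_mul_eq hM (vH hM j hj) (vHG hM _ hs) (vHG hM _ hs) (vH hM j hj) h4
    have h6 : Nat.beq (mmP (HL j) (HG (HCW j))) (mmP (HG (HCW j)) (HL j)) = true := by
      rw [h5]; exact Nat.beq_refl _
    rw [h6] at h3
    exact Bool.false_ne_true h3

theorem H_simple (hM : CModel Γ mk Val) [Finite Γ] : IsSimpleGroup ↥(DH.sub mk) := by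
  have h := h235_ok
  unfold h235OK at h
  simp only [Bool.and_eq_true, mmPF_eq] at h
  obtain ⟨⟨⟨h1, h2⟩, h3⟩, h4⟩ := h
  have h1' := Nat.eq_of_beq_eq_true h1
  have h2' := Nat.eq_of_beq_eq_true h2
  have h3' := Nat.eq_of_beq_eq_true h3
  have v0 := vHG hM 0 (by norm_num)
  have v1 := vHG hM 1 (by norm_num)
  have vab := hM.val_mul _ _ v0 v1
  let a : ↥(DH.sub mk) := ⟨mk (HG 0), DH.gen_mem (mk := mk) 0 (by decide)⟩
  let b : ↥(DH.sub mk) := ⟨mk (HG 1), DH.gen_mem (mk := mk) 1 (by decide)⟩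
  have ha : a ^ 2 = 1 := by
    apply Subtype.ext
    show mk (HG 0) ^ 2 = 1
    rw [pow_two, ← hM.mk_mul _ _ v0 v0, h1', hM.mk_one]
  have hb : b ^ 3 = 1 := by
    apply Subtype.ext
    show mk (HG 1) ^ 3 = 1
    rw [← (mk_pow hM _ v1 3).2, h2', hM.mk_one]
  have hab : (a * b) ^ 5 = 1 := by
    apply Subtype.ext
    show (mk (HG 0) * mk (HG 1)) ^ 5 = 1
    rw [← hM.mk_mul _ _ v0 v1, ← (mk_pow hM _ vab 5).2, h3', hM.mk_one]
  have hne : a * b ≠ 1 := by
    intro hc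
    have h5 : mk (HG 0) * mk (HG 1) = 1 := congrArg Subtype.val hc
    rw [← hM.mk_mul _ _ v0 v1, ← hM.mk_one] at h5
    have h6 := hM.inj _ _ vab hM.val_one h5
    rw [h6] at h4
    have h7 : Nat.beq idP idP = true := Nat.beq_refl _
    rw [h7] at h4
    exact Bool.false_ne_true h4
  have hgen : Subgroup.closure ({a, b} : Set ↥(DH.sub mk)) = ⊤ := by
    rw [eq_top_iff]
    intro g _
    let K : Subgroup Γ :=
      (Subgroup.closure ({a, b} : Set ↥(DH.sub mk))).map (DH.sub mk).subtype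
    have haK : mk (HG 0) ∈ K := ⟨a, Subgroup.subset_closure (by simp), rfl⟩
    have hbK : mk (HG 1) ∈ K := ⟨b, Subgroup.subset_closure (by simp), rfl⟩
    have hle : DH.sub mk ≤ K := by
      unfold FlatData.sub
      rw [Subgroup.closure_le]
      rintro _ ⟨s, hs, rfl⟩
      have hs' : s < 2 := hs
      interval_cases s
      · exact haK
      · exact hbK
    obtain ⟨k, hk, hkg⟩ := hle g.2
    have : k = g := Subtype.ext hkg
    rw [← this]
    exact hk
  apply Cfsg.Agent.Helper26.P11.simple_of_235 a b ha hb hab hne hgen (H_card hM)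
  rw [eq_bot_iff]
  intro z hz
  rw [Subgroup.mem_center_iff] at hz
  rw [Subgroup.mem_bot]
  apply Subtype.ext
  apply H_center hM z.1 z.2
  intro k hk
  exact (congrArg Subtype.val (hz ⟨k, hk⟩)).symm

/-! ### The normal 2-subgroup -/

theorem Q_elem (hM : CModel Γ mk Val) [Finite Γ] (q : Γ) (hq : q ∈ DQ.sub mk) :
    ∃ i, i < 32 ∧ q = mk (QL i) :=
  (DQ.level hM (DQ_ok hM)).1 q hq

theorem Q_card (hM : CModel Γ mk Val) [Finite Γ] : Nat.card ↥(DQ.sub mk) = 32 :=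
  (DQ.level hM (DQ_ok hM)).2

theorem Q_idx_inj (hM : CModel Γ mk Val) {i j : ℕ} (hi : i < 32) (hj : j < 32)
    (h : mk (QL i) = mk (QL j)) : i = j :=
  (DQ_ok hM).inj i hi j hj (hM.inj _ _ (vQ hM i hi) (vQ hM j hj) h)

theorem qmt_spec (hM : CModel Γ mk Val) (i j : ℕ) (hi : i < 32) (hj : j < 32) :
    QMT (32 * i + j) < 32 ∧ mk (QL i) * mk (QL j) = mk (QL (QMT (32 * i + j))) := by
  have h := allB_true (allB_true qmt_ok i hi) j hj
  unfold qmtOK at h
  rw [Bool.and_eq_true, mmPF_eq] at h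
  refine ⟨blt_lt h.1, ?_⟩
  rw [← hM.mk_mul _ _ (vQ hM i hi) (vQ hM j hj), Nat.eq_of_beq_eq_true h.2]

theorem QL_1 : QL 1 = zP := QL_jz

theorem Q_comm_z (hM : CModel Γ mk Val) (a : Γ) (ha : a ∈ DQ.sub mk) :
    a * mk zP = mk zP * a :=
  z_central_U hM a (Q_le_U hM ha)

theorem Q_cen (hM : CModel Γ mk Val) [Finite Γ] (c : Γ) (hc : c ∈ DQ.sub mk)
    (h : ∀ a ∈ DQ.sub mk, a * c = c * a) : c = 1 ∨ c = mk zP := by
  obtain ⟨i, hi, rfl⟩ := Q_elem hM c hc
  have h1 := allB_true qcen_ok i hi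
  unfold qcenOK at h1
  rw [Bool.or_eq_true, Bool.or_eq_true] at h1
  rcases h1 with (h1 | h1) | h1
  · left
    rw [Nat.eq_of_beq_eq_true h1, QL_0, hM.mk_one]
  · right
    rw [Nat.eq_of_beq_eq_true h1, QL_1]
  · exfalso
    rw [Bool.and_eq_true] at h1
    obtain ⟨h2, h3⟩ := h1
    have hw := blt_lt h2
    have h4 := h _ (Q_mem hM _ hw)
    obtain ⟨l1, e1⟩ := qmt_spec hM _ _ hw hi
    obtain ⟨l2, e2⟩ := qmt_spec hM _ _ hi hw
    rw [e1, e2] at h4
    have h5 := Q_idx_inj hM l1 l2 h4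
    have h6 : Nat.beq (QMT (32 * i + QCW i)) (QMT (32 * QCW i + i)) = true := by
      rw [h5]; exact Nat.beq_refl _
    rw [h6] at h3
    exact Bool.false_ne_true h3

theorem Q_commutator (hM : CModel Γ mk Val) [Finite Γ] (a : Γ) (ha : a ∈ DQ.sub mk) (b : Γ)
    (hb : b ∈ DQ.sub mk) : a * b * a⁻¹ * b⁻¹ = 1 ∨ a * b * a⁻¹ * b⁻¹ = mk zP := by
  obtain ⟨i, hi, rfl⟩ := Q_elem hM a ha
  obtain ⟨j, hj, rfl⟩ := Q_elem hM b hb
  have h1 := allB_true (allB_true qcom_ok i hi) j hj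
  unfold qcomOK at h1
  rw [Bool.or_eq_true] at h1
  obtain ⟨l1, e1⟩ := qmt_spec hM _ _ hi hj
  obtain ⟨l2, e2⟩ := qmt_spec hM _ _ hj hi
  rcases h1 with h1 | h1
  · left
    have h2 : mk (QL i) * mk (QL j) = mk (QL j) * mk (QL i) := by
      rw [e1, e2, Nat.eq_of_beq_eq_true h1]
    rw [h2]
    group
  · right
    obtain ⟨l3, e3⟩ := qmt_spec hM 1 _ (by norm_num) l2
    have h2 : mk (QL i) * mk (QL j) = mk zP * (mk (QL j) * mk (QL i)) := by
      rw [e1, e2, ← QL_1, e3, Nat.eq_of_beq_eq_true h1]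
    rw [h2]
    group

theorem Q_sq (hM : CModel Γ mk Val) [Finite Γ] (a : Γ) (ha : a ∈ DQ.sub mk) :
    a ^ 2 = 1 ∨ a ^ 2 = mk zP := by
  obtain ⟨i, hi, rfl⟩ := Q_elem hM a ha
  have h1 := allB_true qsq_ok i hi
  unfold qsqOK at h1
  rw [Bool.or_eq_true] at h1
  obtain ⟨l1, e1⟩ := qmt_spec hM _ _ hi hi
  have e33 : 33 * i = 32 * i + i := by ring
  rw [e33] at h1
  rw [pow_two, e1]
  rcases h1 with h1 | h1
  · left
    rw [Nat.eq_of_beq_eq_true h1, QL_0, hM.mk_one]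
  · right
    rw [Nat.eq_of_beq_eq_true h1, QL_1]

theorem Q_nonabelian (hM : CModel Γ mk Val) :
    ∃ a ∈ DQ.sub mk, ∃ b ∈ DQ.sub mk, a * b ≠ b * a := by
  have hw : QCW 2 < 32 := by decide +kernel
  refine ⟨mk (QL 2), Q_mem hM 2 (by norm_num), mk (QL (QCW 2)), Q_mem hM _ hw, ?_⟩
  intro h
  obtain ⟨l1, e1⟩ := qmt_spec hM 2 (QCW 2) (by norm_num) hw
  obtain ⟨l2, e2⟩ := qmt_spec hM (QCW 2) 2 hw (by norm_num)
  rw [e1, e2] at h
  have h5 := Q_idx_inj hM l1 l2 h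
  have h6 := qna_ok
  have h7 : Nat.beq (QMT (32 * 2 + QCW 2)) (QMT (32 * QCW 2 + 2)) = true := by
    rw [h5]; exact Nat.beq_refl _
  rw [h7] at h6
  exact Bool.false_ne_true h6

/-- no elementary abelian subgroup of order eight -/
theorem Q_noE8 (hM : CModel Γ mk Val) [Finite Γ] (E : Subgroup Γ) (hE : E ≤ DQ.sub mk)
    (hcomm : ∀ a ∈ E, ∀ b ∈ E, a * b = b * a) (hexp : ∀ a ∈ E, a ^ 2 = 1) :
    Nat.card ↥E ≤ 4 := by
  by_contra hcon
  have hcard : 4 < Nat.card ↥E := by omega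
  classical
  obtain ⟨x, hxE, hx⟩ := exists_not_mem_of_card_lt E {1} (by rw [Finset.card_singleton]; omega)
  obtain ⟨y, hyE, hy⟩ := exists_not_mem_of_card_lt E ([1, x].toFinset)
    (lt_of_le_of_lt (List.toFinset_card_le _) (by simp; omega))
  obtain ⟨w, hwE, hw⟩ := exists_not_mem_of_card_lt E ([1, x, y, x * y].toFinset)
    (lt_of_le_of_lt (List.toFinset_card_le _) (by simp; omega))
  simp only [Finset.mem_singleton] at hx
  simp only [List.toFinset_cons, List.toFinset_nil, insert_empty_eq, Finset.mem_insert,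
    Finset.mem_singleton, not_or] at hy hw
  obtain ⟨i, hi, rfl⟩ := Q_elem hM x (hE hxE)
  obtain ⟨j, hj, rfl⟩ := Q_elem hM y (hE hyE)
  obtain ⟨k, hk, rfl⟩ := Q_elem hM w (hE hwE)
  have h0 : mk (QL 0) = (1 : Γ) := by rw [QL_0, hM.mk_one]
  have hi0 : i ≠ 0 := by
    rintro rfl
    exact hx h0
  have hj0 : j ≠ 0 := by
    rintro rfl
    exact hy.1 h0
  have hij : i ≠ j := by
    rintro rfl
    exact hy.2 rfl
  -- squares
  have sq : ∀ m, m < 32 → mk (QL m) ∈ E → QMT (33 * m) = 0 := by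
    intro m hm hmE
    have e33 : 33 * m = 32 * m + m := by ring
    obtain ⟨l1, e1⟩ := qmt_spec hM _ _ hm hm
    have h2 := hexp _ hmE
    rw [pow_two, e1, ← h0] at h2
    rw [e33]
    exact Q_idx_inj hM l1 (by norm_num) h2
  have cm : ∀ m n, m < 32 → n < 32 → mk (QL m) ∈ E → mk (QL n) ∈ E →
      QMT (32 * m + n) = QMT (32 * n + m) := by
    intro m n hm hn hmE hnE
    obtain ⟨l1, e1⟩ := qmt_spec hM _ _ hm hn
    obtain ⟨l2, e2⟩ := qmt_spec hM _ _ hn hm
    have h2 := hcomm _ hmE _ hnE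
    rw [e1, e2] at h2
    exact Q_idx_inj hM l1 l2 h2
  have hchk := allB_true (allB_true qe8_ok i hi) j hj
  unfold qe8OK at hchk
  have b0 : ∀ {m : ℕ}, m ≠ 0 → Nat.beq m 0 = false := by
    intro m hm
    cases h : Nat.beq m 0
    · rfl
    · exact absurd (Nat.eq_of_beq_eq_true h) hm
  have bne : ∀ {m n : ℕ}, m ≠ n → Nat.beq m n = false := by
    intro m n hm
    cases h : Nat.beq m n
    · rfl
    · exact absurd (Nat.eq_of_beq_eq_true h) hm
  have beq_self : ∀ m : ℕ, Nat.beq m m = true := Nat.beq_refl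
  rw [b0 hi0, b0 hj0, bne hij, sq i hi hxE, sq j hj hyE, cm i j hi hj hxE hyE] at hchk
  simp only [beq_self, Bool.not_true, Bool.false_or] at hchk
  have hchk2 := allB_true hchk k hk
  rw [sq k hk hwE, cm i k hi hk hxE hwE, cm j k hj hk hyE hwE] at hchk2
  simp only [beq_self, Bool.not_true, Bool.false_or, Bool.or_eq_true] at hchk2
  obtain ⟨l1, e1⟩ := qmt_spec hM _ _ hi hj
  rcases hchk2 with ((h1 | h1) | h1) | h1
  · apply hw.1
    rw [Nat.eq_of_beq_eq_true h1, h0]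
  · apply hw.2.1
    rw [Nat.eq_of_beq_eq_true h1]
  · apply hw.2.2.1
    rw [Nat.eq_of_beq_eq_true h1]
  · apply hw.2.2.2
    rw [Nat.eq_of_beq_eq_true h1, e1, cm i j hi hj hxE hyE]

/-! ### The centralizer -/

theorem cent_eq (hM : CModel Γ mk Val) [Finite Γ] :
    Subgroup.centralizer ({mk zP} : Set Γ) = DK.sub mk := by
  apply le_antisymm
  · intro g hg
    rw [Subgroup.mem_centralizer_iff] at hg
    obtain ⟨j, hj, rfl⟩ := cent_spec hM g (hg _ rfl).symm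
    exact DK.mem_sub hM (DK_ok hM) j hj
  · unfold FlatData.sub
    rw [Subgroup.closure_le]
    rintro _ ⟨s, hs, rfl⟩
    rw [SetLike.mem_coe, Subgroup.mem_centralizer_iff]
    intro h hh
    rw [Set.mem_singleton_iff] at hh
    rw [hh]
    exact (kcomm_spec hM s hs).symm

theorem K_decomp (hM : CModel Γ mk Val) [Finite Γ] (g : Γ) (hg : g * mk zP = mk zP * g) :
    ∃ z ∈ Subgroup.center Γ, ∃ q ∈ DQ.sub mk, ∃ h ∈ DH.sub mk, g = z * (q * h) := by
  obtain ⟨j, hj, rfl⟩ := cent_spec hM g hg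
  have h := kdec_all j hj
  unfold kdecOK at h
  rw [Bool.and_eq_true, Bool.and_eq_true, Bool.and_eq_true, mmPF_eq, mmPF_eq] at h
  obtain ⟨⟨⟨h1, h2⟩, h3⟩, h4⟩ := h
  obtain ⟨va, ca⟩ := vZP hM _ (blt_lt h1)
  have vq := vQ hM _ (blt_lt h2)
  have vh := vH hM _ (blt_lt h3)
  refine ⟨_, ca, _, Q_mem hM _ (blt_lt h2), _, H_mem hM _ (blt_lt h3), ?_⟩
  rw [← hM.mk_mul _ _ vq vh, ← hM.mk_mul _ _ va (hM.val_mul _ _ vq vh),
    ← Nat.eq_of_beq_eq_true h4]

theorem Q_normal (hM : CModel Γ mk Val) [Finite Γ] (c : Γ) (hc : c * mk zP = mk zP * c)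
    (q : Γ) (hq : q ∈ DQ.sub mk) : c * q * c⁻¹ ∈ DQ.sub mk := by
  have hle : DK.sub mk ≤ Subgroup.normalizer ((DQ.sub mk : Subgroup Γ) : Set Γ) := by
    conv_lhs => unfold FlatData.sub
    rw [Subgroup.closure_le]
    rintro _ ⟨s, hs, rfl⟩
    rw [SetLike.mem_coe]
    unfold FlatData.sub
    apply mem_normalizer_of_gens
    rintro _ ⟨t, ht, rfl⟩
    have h := allB_true (allB_true kqn_ok s hs) t ht
    unfold kqnOK at h
    rw [Bool.and_eq_true, mmPF_eq, mmPF_eq] at h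
    obtain ⟨h1, h2⟩ := h
    have vk := (DK_ok hM).vgen s hs
    have h3 := mul_eq_of_codes hM vk (vQG hM t ht) (vQ hM _ (blt_lt h1)) vk
      (Nat.eq_of_beq_eq_true h2)
    have h4 : mk (DK.gen s) * mk (DQ.gen t) * (mk (DK.gen s))⁻¹ = mk (QL (KQT (5 * s + t))) := by
      show mk (DK.gen s) * mk (QG t) * (mk (DK.gen s))⁻¹ = _
      rw [h3, mul_inv_cancel_right]
    rw [h4]
    exact Q_mem hM _ (blt_lt h1)
  obtain ⟨j, hj, rfl⟩ := cent_spec hM c hc
  have hn := hle (DK.mem_sub hM (DK_ok hM) j hj)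
  exact (Subgroup.mem_normalizer_iff.mp hn q).mp hq

/-! ### The involutions -/

theorem U_invol_conj (hM : CModel Γ mk Val) (m : ℕ) (hm : m < 128) (h1 : mk (YL m) ≠ 1)
    (h2 : mk (YL m) ^ 2 = 1) : ∃ c : Γ, c * mk (YL m) * c⁻¹ = mk zP := by
  have hp := allB_true ypow_ok m hm
  unfold ypowOK at hp
  rw [Bool.or_eq_true] at hp
  rcases hp with hp | hp
  · exfalso
    apply h1
    rw [Nat.eq_of_beq_eq_true hp, YL_0, hM.mk_one]
  · rw [Bool.and_eq_true, Bool.and_eq_true] at hp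
    obtain ⟨⟨h3, h4⟩, h5⟩ := hp
    have hm' := blt_lt h3
    obtain ⟨_, hpow⟩ := mk_pow hM (YL m) (vY hM m hm) (YPE m)
    obtain ⟨c, hc⟩ := conj_spec hM _ hm' h5
    rw [← Nat.eq_of_beq_eq_true h4, hpow, pow_eq_pow_mod _ h2] at hc
    rcases Nat.mod_two_eq_zero_or_one (YPE m) with h6 | h6
    · exfalso
      rw [h6, pow_zero, mul_one, mul_inv_cancel] at hc
      exact z_ne_one hM hc.symm
    · rw [h6, pow_one] at hc
      exact ⟨c, hc⟩

theorem invol_conj (hM : CModel Γ mk Val) [Finite Γ] (y : Γ) (hy : orderOf y = 2) :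
    IsConj y (mk zP) := by
  have : Fact (Nat.Prime 2) := ⟨Nat.prime_two⟩
  have hP : IsPGroup 2 ↥(Subgroup.zpowers y) :=
    IsPGroup.of_card (n := 1) (by rw [Nat.card_zpowers, hy]; norm_num)
  let P : Sylow 2 Γ := Sylow.ofCard (DY.sub mk)
    (Cfsg.Agent.Helper26.J3FF.card_eq_pow_factorization 2 7 _ (by rw [U_card hM]; norm_num)
      (by rw [hM.card]; norm_num))
  have hPc : (P : Subgroup Γ) = DY.sub mk := Sylow.coe_ofCard _ _
  obtain ⟨R, hR⟩ := hP.exists_le_sylow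
  obtain ⟨g, hg⟩ := MulAction.exists_smul_eq Γ R P
  have h1 : y ∈ (R : Subgroup Γ) := hR (Subgroup.mem_zpowers y)
  have h2 : g * y * g⁻¹ ∈ ((g • R : Sylow 2 Γ) : Subgroup Γ) := by
    rw [Sylow.coe_subgroup_smul]
    exact Subgroup.smul_mem_pointwise_smul y (MulAut.conj g) _ h1
  rw [hg, hPc] at h2
  obtain ⟨m, hm, hum⟩ := U_elem hM _ h2
  have hy2 : y ^ 2 = 1 := by rw [← hy]; exact pow_orderOf_eq_one y
  have hy1 : y ≠ 1 := by
    intro h
    rw [h, orderOf_one] at hy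
    omega
  have hu1 : mk (YL m) ≠ 1 := by
    rw [← hum]
    intro h
    apply hy1
    calc y = g⁻¹ * (g * y * g⁻¹) * g := by group
      _ = 1 := by rw [h]; group
  have hu2 : mk (YL m) ^ 2 = 1 := by
    rw [← hum, conj_pow, hy2, mul_one, mul_inv_cancel]
  obtain ⟨c, hc⟩ := U_invol_conj hM m hm hu1 hu2
  rw [isConj_iff]
  refine ⟨c * g, ?_⟩
  rw [← hc, ← hum]
  group

end

end Cfsg.Agent.Helper26.J3FM
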