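import Mathlib
import Cfsg.Agent.Lib.Helper26.J3FH1
import Cfsg.Agent.Lib.Helper26.J3FH2

/-!
# The involutions of the third Janko group and their centralizers

For the central quotient of the group named by packed matrices: a single class of involutions,
and the centralizer of an involution has shape `2^{1+4}_- : A₅`.
-/

set_option autoImplicit false

namespace Cfsg.Agent.Helper26.J3FM

open Cfsg.Agent.Helper26 Cfsg.Agent.Helper26.F4M Cfsg.Agent.Helper26.J3D
  Cfsg.Agent.Helper26.J3C Cfsg.Agent.Helper26.J3G Cfsg.Agent.Helper26.J3F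
  Cfsg.Agent.Helper26.J3FD Cfsg.Agent.Helper26.J3FC Cfsg.Agent.Helper26.J3FK
open Cfsg.Agent.Helper25.SimpCrit Cfsg.Agent.Helper26.J3FH

section

variable {Γ : Type*} [Group Γ] {mk : ℕ → Γ} {Val : ℕ → Prop}

theorem center_two (hM : CModel Γ mk Val) :
    ∀ z ∈ Subgroup.center Γ, ∀ k : ℕ, z ^ 2 ^ k = 1 → z = 1 := by
  intro z hz k hk
  have h1 := orderOf_dvd_of_pow_eq_one (hM.center_pow z hz)
  have h2 := orderOf_dvd_of_pow_eq_one hk
  have h3 : orderOf z ∣ Nat.gcd 3 (2 ^ k) := Nat.dvd_gcd h1 h2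
  have h4 : Nat.gcd 3 (2 ^ k) = 1 :=
    Nat.Coprime.pow_right k (by norm_num : Nat.Coprime 3 2)
  rw [h4] at h3
  exact orderOf_eq_one_iff.mp (Nat.dvd_one.mp h3)

theorem U_isPGroup (hM : CModel Γ mk Val) [Finite Γ] : IsPGroup 2 ↥(DY.sub mk) :=
  IsPGroup.of_card (n := 7) (by rw [U_card hM]; norm_num)

theorem z_sq (hM : CModel Γ mk Val) [Finite Γ] : mk zP ^ 2 = 1 := by
  rcases Q_sq hM _ (z_mem_Q hM) with h | h
  · exact h
  · exfalso
    apply z_ne_one hM
    rw [pow_two] at h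
    exact mul_left_cancel (h.trans (mul_one _).symm)

/-- **The involutions of the central quotient and the shape of their centralizers.** -/
theorem shape (hM : CModel Γ mk Val) [Finite Γ] :
    (∀ x y : Γ ⧸ Subgroup.center Γ, orderOf x = 2 → orderOf y = 2 → IsConj x y) ∧
    ∃ t : Γ ⧸ Subgroup.center Γ, orderOf t = 2 ∧
      ∃ (Q : Subgroup ↥(Subgroup.centralizer ({t} : Set (Γ ⧸ Subgroup.center Γ))))
        (_ : Q.Normal), Cfsg.IsExtraspecial 2 Q ∧ Nat.card Q = 32 ∧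
        (∀ E : Subgroup Q, Cfsg.IsElementaryAbelian 2 E → Nat.card E ≤ 2 ^ 2) ∧
        (∃ H : Subgroup ↥(Subgroup.centralizer ({t} : Set (Γ ⧸ Subgroup.center Γ))),
          Q.IsComplement' H) ∧
        Nonempty (↥(Subgroup.centralizer ({t} : Set (Γ ⧸ Subgroup.center Γ))) ⧸ Q ≃*
          ↥(alternatingGroup (Fin 5))) := by
  have hZ := center_two hM
  have hUp := U_isPGroup hM
  have two : ∀ a ∈ DQ.sub mk, ∃ k : ℕ, a ^ 2 ^ k = 1 := fun a ha =>
    exists_pow_of_isPGroup hUp (Q_le_U hM ha)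
  have hz2 : ∃ k : ℕ, mk zP ^ 2 ^ k = 1 := two _ (z_mem_Q hM)
  have one2 : ∃ k : ℕ, (1 : Γ) ^ 2 ^ k = 1 := ⟨0, one_pow _⟩
  -- injectivity on the normal 2-subgroup
  have injQ : ∀ a ∈ DQ.sub mk, ∀ b ∈ DQ.sub mk,
      (QuotientGroup.mk' (Subgroup.center Γ)) a = (QuotientGroup.mk' (Subgroup.center Γ)) b →
      a = b := fun a ha b hb h => eq_of_mk_eq 2 hZ (two a ha) (two b hb) h
  refine ⟨isConj_quot hM.center_pow (mk zP) (invol_conj hM), ?_⟩
  have ht1 : (QuotientGroup.mk' (Subgroup.center Γ)) (mk zP) ≠ 1 := by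
    intro h
    apply z_ne_one hM
    exact eq_of_mk_eq 2 hZ hz2 one2 (h.trans (map_one _).symm)
  have ht2 : ((QuotientGroup.mk' (Subgroup.center Γ)) (mk zP)) ^ 2 = 1 := by
    rw [← map_pow, z_sq hM, map_one]
  have : Fact (Nat.Prime 2) := ⟨Nat.prime_two⟩
  refine ⟨(QuotientGroup.mk' (Subgroup.center Γ)) (mk zP), orderOf_eq_prime ht2 ht1, ?_⟩
  have memC := mem_centralizer_mk_iff hZ (mk zP) hz2
  -- injectivity on the complement
  have injH : ∀ a ∈ DH.sub mk, ∀ b ∈ DH.sub mk,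
      (QuotientGroup.mk' (Subgroup.center Γ)) a = (QuotientGroup.mk' (Subgroup.center Γ)) b →
      a = b := by
    intro a ha b hb h
    have h1 : (QuotientGroup.mk' (Subgroup.center Γ)) (a⁻¹ * b) = 1 := by
      rw [map_mul, map_inv, h, inv_mul_cancel]
    have h2 : a⁻¹ * b ∈ Subgroup.center Γ := (QuotientGroup.eq_one_iff _).mp h1
    have h3 := H_center hM _ (mul_mem (inv_mem ha) hb) (fun k _ =>
      (Subgroup.mem_center_iff.mp h2 k).symm)
    exact inv_mul_eq_one.mp h3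
  have hsimp : IsSimpleGroup ↥(DH.sub mk) := H_simple hM
  let f : ↥(DH.sub mk) →* ↥((DH.sub mk).map (QuotientGroup.mk' (Subgroup.center Γ))) :=
    ((QuotientGroup.mk' (Subgroup.center Γ)).comp (DH.sub mk).subtype).codRestrict _
      (fun x => ⟨x.1, x.2, rfl⟩)
  have hf : Function.Bijective f := by
    constructor
    · intro a b hab
      apply Subtype.ext
      exact injH _ a.2 _ b.2 (congrArg Subtype.val hab)
    · rintro ⟨_, ⟨a, ha, rfl⟩⟩
      exact ⟨⟨a, ha⟩, rfl⟩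
  let e : ↥(DH.sub mk) ≃* ↥((DH.sub mk).map (QuotientGroup.mk' (Subgroup.center Γ))) :=
    MulEquiv.ofBijective f hf
  have hHs : IsSimpleGroup ↥((DH.sub mk).map (QuotientGroup.mk' (Subgroup.center Γ))) :=
    e.symm.isSimpleGroup
  have hHcard : Nat.card ↥((DH.sub mk).map (QuotientGroup.mk' (Subgroup.center Γ))) = 60 := by
    rw [← Nat.card_congr e.toEquiv, H_card hM]
  have hQcard : Nat.card ↥((DQ.sub mk).map (QuotientGroup.mk' (Subgroup.center Γ))) = 32 := by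
    rw [← Q_card hM]
    symm
    apply Nat.card_congr
    refine Equiv.ofBijective (fun q : ↥(DQ.sub mk) =>
      (⟨(QuotientGroup.mk' (Subgroup.center Γ)) q.1, ⟨q.1, q.2, rfl⟩⟩ :
        ↥((DQ.sub mk).map (QuotientGroup.mk' (Subgroup.center Γ))))) ⟨?_, ?_⟩
    · intro a b hab
      apply Subtype.ext
      exact injQ _ a.2 _ b.2 (congrArg Subtype.val hab)
    · rintro ⟨_, ⟨a, ha, rfl⟩⟩
      exact ⟨⟨a, ha⟩, rfl⟩
  apply centralizer_structure _ ((DQ.sub mk).map (QuotientGroup.mk' (Subgroup.center Γ)))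
    ((DH.sub mk).map (QuotientGroup.mk' (Subgroup.center Γ)))
    ((QuotientGroup.mk' (Subgroup.center Γ)) (mk zP))
  · rintro _ ⟨q, hq, rfl⟩
    exact (memC q).mpr (Q_comm_z hM q hq)
  · rintro _ ⟨h, hh, rfl⟩
    exact (memC h).mpr (H_comm_z hM h hh)
  · intro c hc qb hqb
    obtain ⟨g, rfl⟩ := QuotientGroup.mk'_surjective (Subgroup.center Γ) c
    obtain ⟨q, hq, rfl⟩ := hqb
    refine ⟨g * q * g⁻¹, Q_normal hM g ((memC g).mp hc) q hq, ?_⟩
    rw [map_mul, map_mul, map_inv]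
  · intro c hc
    obtain ⟨g, rfl⟩ := QuotientGroup.mk'_surjective (Subgroup.center Γ) c
    obtain ⟨z, hz, q, hq, h, hh, rfl⟩ := K_decomp hM g ((memC g).mp hc)
    refine ⟨_, ⟨q, hq, rfl⟩, _, ⟨h, hh, rfl⟩, ?_⟩
    have hz1 : (QuotientGroup.mk' (Subgroup.center Γ)) z = 1 :=
      (QuotientGroup.eq_one_iff z).mpr hz
    rw [map_mul, map_mul, hz1, one_mul]
  · exact hQcard
  · exact ⟨mk zP, z_mem_Q hM, rfl⟩
  · exact ht1
  · rintro _ ⟨a, ha, rfl⟩
    rw [← map_mul, ← map_mul, Q_comm_z hM a ha]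
  · rintro _ ⟨c, hc, rfl⟩ hcomm
    have h1 : ∀ a ∈ DQ.sub mk, a * c = c * a := by
      intro a ha
      apply injQ _ (mul_mem ha hc) _ (mul_mem hc ha)
      rw [map_mul, map_mul]
      exact hcomm _ ⟨a, ha, rfl⟩
    rcases Q_cen hM c hc h1 with h2 | h2
    · left; rw [h2, map_one]
    · right; rw [h2]
  · rintro _ ⟨a, ha, rfl⟩ _ ⟨b, hb, rfl⟩
    rw [← map_inv, ← map_inv, ← map_mul, ← map_mul, ← map_mul]
    rcases Q_commutator hM a ha b hb with h2 | h2
    · left; rw [h2, map_one]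
    · right; rw [h2]
  · rintro _ ⟨a, ha, rfl⟩
    rw [← map_pow]
    rcases Q_sq hM a ha with h2 | h2
    · left; rw [h2, map_one]
    · right; rw [h2]
  · obtain ⟨a, ha, b, hb, hab⟩ := Q_nonabelian hM (mk := mk)
    refine ⟨_, ⟨a, ha, rfl⟩, _, ⟨b, hb, rfl⟩, ?_⟩
    intro h
    apply hab
    apply injQ _ (mul_mem ha hb) _ (mul_mem hb ha)
    rw [map_mul, map_mul]
    exact h
  · intro E hE hcomm hexp
    have h1 := Q_noE8 hM (DQ.sub mk ⊓ E.comap (QuotientGroup.mk' (Subgroup.center Γ)))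
      inf_le_left ?_ ?_
    · refine le_trans ?_ h1
      apply Nat.card_le_card_of_surjective
        (fun a : ↥(DQ.sub mk ⊓ E.comap (QuotientGroup.mk' (Subgroup.center Γ))) =>
          (⟨(QuotientGroup.mk' (Subgroup.center Γ)) a.1, a.2.2⟩ : ↥E))
      rintro ⟨x, hx⟩
      obtain ⟨a, ha, rfl⟩ := hE hx
      exact ⟨⟨a, ha, hx⟩, rfl⟩
    · intro a ha b hb
      apply injQ _ (mul_mem ha.1 hb.1) _ (mul_mem hb.1 ha.1)
      rw [map_mul, map_mul]
      exact hcomm _ ha.2 _ hb.2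
    · intro a ha
      apply injQ _ (pow_mem ha.1 2) _ (one_mem _)
      rw [map_pow, map_one]
      exact hexp _ ha.2
  · exact hHs
  · exact hHcard

end

end Cfsg.Agent.Helper26.J3FM
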