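import Cfsg.Agent.Lib.Helper26.J3ODefs

/-! Kernel-evaluated checks for the outer automorphism of `J₃` (generated). -/

set_option autoImplicit false

namespace Cfsg.Agent.Helper26.J3OK

open Cfsg.Agent.Helper26 Cfsg.Agent.Helper26.F4M Cfsg.Agent.Helper26.J3D Cfsg.Agent.Helper26.J3C
  Cfsg.Agent.Helper26.J3F Cfsg.Agent.Helper26.J3FD Cfsg.Agent.Helper26.J3FC
  Cfsg.Agent.Helper26.J3OD Cfsg.Agent.Helper26.J3OC

theorem x15_4_0 : allR 13120 820 x15OK = true := by decide +kernel
theorem x15_4_1 : allR 13940 820 x15OK = true := by decide +kernel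
theorem x15_4_2 : allR 14760 820 x15OK = true := by decide +kernel
theorem x15_4_3 : allR 15580 820 x15OK = true := by decide +kernel

end Cfsg.Agent.Helper26.J3OK
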