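import Cfsg.Agent.Lib.Helper26.J3OChkX0
import Cfsg.Agent.Lib.Helper26.J3OChkX1
import Cfsg.Agent.Lib.Helper26.J3OChkX2
import Cfsg.Agent.Lib.Helper26.J3OChkX3
import Cfsg.Agent.Lib.Helper26.J3OChkX4
import Cfsg.Agent.Lib.Helper26.J3OChkX5
import Cfsg.Agent.Lib.Helper26.J3OChkX6
import Cfsg.Agent.Lib.Helper26.J3OChkX7
import Cfsg.Agent.Lib.Helper26.J3OChkN0
import Cfsg.Agent.Lib.Helper26.J3OChkV0

/-! Summary of the kernel-evaluated checks for the outer automorphism of `J₃` (generated). -/

set_option autoImplicit false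

namespace Cfsg.Agent.Helper26.J3OK

open Cfsg.Agent.Helper26 Cfsg.Agent.Helper26.F4M Cfsg.Agent.Helper26.J3D Cfsg.Agent.Helper26.J3C
  Cfsg.Agent.Helper26.J3F Cfsg.Agent.Helper26.J3FD Cfsg.Agent.Helper26.J3FC
  Cfsg.Agent.Helper26.J3OD Cfsg.Agent.Helper26.J3OC

theorem x15_all : ∀ i, i < 26163 → x15OK i = true := by
  intro i h2
  by_cases h_x15_0_0 : i < 820
  · exact allR_true x15_0_0 i (by omega) (by omega)
  by_cases h_x15_0_1 : i < 1640
  · exact allR_true x15_0_1 i (by omega) (by omega)
  by_cases h_x15_0_2 : i < 2460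
  · exact allR_true x15_0_2 i (by omega) (by omega)
  by_cases h_x15_0_3 : i < 3280
  · exact allR_true x15_0_3 i (by omega) (by omega)
  by_cases h_x15_1_0 : i < 4100
  · exact allR_true x15_1_0 i (by omega) (by omega)
  by_cases h_x15_1_1 : i < 4920
  · exact allR_true x15_1_1 i (by omega) (by omega)
  by_cases h_x15_1_2 : i < 5740
  · exact allR_true x15_1_2 i (by omega) (by omega)
  by_cases h_x15_1_3 : i < 6560
  · exact allR_true x15_1_3 i (by omega) (by omega)
  by_cases h_x15_2_0 : i < 7380
  · exact allR_true x15_2_0 i (by omega) (by omega)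
  by_cases h_x15_2_1 : i < 8200
  · exact allR_true x15_2_1 i (by omega) (by omega)
  by_cases h_x15_2_2 : i < 9020
  · exact allR_true x15_2_2 i (by omega) (by omega)
  by_cases h_x15_2_3 : i < 9840
  · exact allR_true x15_2_3 i (by omega) (by omega)
  by_cases h_x15_3_0 : i < 10660
  · exact allR_true x15_3_0 i (by omega) (by omega)
  by_cases h_x15_3_1 : i < 11480
  · exact allR_true x15_3_1 i (by omega) (by omega)
  by_cases h_x15_3_2 : i < 12300
  · exact allR_true x15_3_2 i (by omega) (by omega)
  by_cases h_x15_3_3 : i < 13120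
  · exact allR_true x15_3_3 i (by omega) (by omega)
  by_cases h_x15_4_0 : i < 13940
  · exact allR_true x15_4_0 i (by omega) (by omega)
  by_cases h_x15_4_1 : i < 14760
  · exact allR_true x15_4_1 i (by omega) (by omega)
  by_cases h_x15_4_2 : i < 15580
  · exact allR_true x15_4_2 i (by omega) (by omega)
  by_cases h_x15_4_3 : i < 16400
  · exact allR_true x15_4_3 i (by omega) (by omega)
  by_cases h_x15_5_0 : i < 17220
  · exact allR_true x15_5_0 i (by omega) (by omega)
  by_cases h_x15_5_1 : i < 18040
  · exact allR_true x15_5_1 i (by omega) (by omega)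
  by_cases h_x15_5_2 : i < 18860
  · exact allR_true x15_5_2 i (by omega) (by omega)
  by_cases h_x15_5_3 : i < 19680
  · exact allR_true x15_5_3 i (by omega) (by omega)
  by_cases h_x15_6_0 : i < 20500
  · exact allR_true x15_6_0 i (by omega) (by omega)
  by_cases h_x15_6_1 : i < 21320
  · exact allR_true x15_6_1 i (by omega) (by omega)
  by_cases h_x15_6_2 : i < 22140
  · exact allR_true x15_6_2 i (by omega) (by omega)
  by_cases h_x15_6_3 : i < 22960
  · exact allR_true x15_6_3 i (by omega) (by omega)
  by_cases h_x15_7_0 : i < 23780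
  · exact allR_true x15_7_0 i (by omega) (by omega)
  by_cases h_x15_7_1 : i < 24600
  · exact allR_true x15_7_1 i (by omega) (by omega)
  by_cases h_x15_7_2 : i < 25420
  · exact allR_true x15_7_2 i (by omega) (by omega)
  by_cases h_x15_7_3 : i < 26163
  · exact allR_true x15_7_3 i (by omega) (by omega)
  omega

theorem ni_all : ∀ i, i < 5760 → niOK i = true := by
  intro i h2
  by_cases h_ni_0_0 : i < 1440
  · exact allR_true ni_0_0 i (by omega) (by omega)
  by_cases h_ni_0_1 : i < 2880
  · exact allR_true ni_0_1 i (by omega) (by omega)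
  by_cases h_ni_0_2 : i < 4320
  · exact allR_true ni_0_2 i (by omega) (by omega)
  by_cases h_ni_0_3 : i < 5760
  · exact allR_true ni_0_3 i (by omega) (by omega)
  omega

theorem v_all : ∀ i, i < 5760 → vOK i = true := by
  intro i h2
  by_cases h_vv_0_0 : i < 1440
  · exact allR_true vv_0_0 i (by omega) (by omega)
  by_cases h_vv_0_1 : i < 2880
  · exact allR_true vv_0_1 i (by omega) (by omega)
  by_cases h_vv_0_2 : i < 4320
  · exact allR_true vv_0_2 i (by omega) (by omega)
  by_cases h_vv_0_3 : i < 5760
  · exact allR_true vv_0_3 i (by omega) (by omega)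
  omega

theorem a_ok : aOK = true := by decide +kernel
theorem m_ok : mOK = true := by decide +kernel
theorem w_ok : wOK = true := by decide +kernel

end Cfsg.Agent.Helper26.J3OK
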