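import Cfsg.Agent.Lib.Helper26.J3ODefs

/-! Further kernel-evaluated checks for the outer automorphism of `J₃`. -/

set_option autoImplicit false

namespace Cfsg.Agent.Helper26.J3OC

open Cfsg.Agent.Helper26 Cfsg.Agent.Helper26.F4M Cfsg.Agent.Helper26.J3D
  Cfsg.Agent.Helper26.J3C Cfsg.Agent.Helper26.J3F Cfsg.Agent.Helper26.J3FD
  Cfsg.Agent.Helper26.J3FC Cfsg.Agent.Helper26.J3OD

/-- the relations of the three involutions -/
def m2OK : Bool :=
  Nat.beq (mmPF vP vP) idP && !Nat.beq vP idP &&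
    (seqN (mmPF zP uP) fun r => seqN (cubeF r) fun r3 => seqN (fifthF r) fun r5 =>
      Nat.beq (cubeF r5) idP && !Nat.beq r5 idP && !Nat.beq r3 idP) &&
    Nat.beq (mmPF w6P w6P) idP && Nat.beq (cubeF (mmPF w6P vP)) idP &&
    Nat.beq (fifthF (mmPF uP vP)) idP &&
    (seqN (mmPF zP vP) fun s => Nat.beq (mmPF s s) idP)

theorem m2_ok : m2OK = true := by decide +kernel

end Cfsg.Agent.Helper26.J3OC
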