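import Mathlib
import Cfsg.Agent.Lib.Helper26.J3FDefs
import Cfsg.Agent.Lib.Helper26.F4Mat3
import Cfsg.Agent.Lib.Helper26.J3ODataA

/-!
# Boolean checks for the outer automorphism of `J₃`
-/

set_option autoImplicit false

namespace Cfsg.Agent.Helper26.J3OC

open Cfsg.Agent.Helper26 Cfsg.Agent.Helper26.F4M Cfsg.Agent.Helper26.J3D
  Cfsg.Agent.Helper26.J3C Cfsg.Agent.Helper26.J3F Cfsg.Agent.Helper26.J3FD
  Cfsg.Agent.Helper26.J3FC Cfsg.Agent.Helper26.J3OD

/-- the twisted code: conjugate of the entrywise square -/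
def tauP (P : ℕ) : ℕ := seqN (frobP P) fun Q => mmPF AP (mmPF Q AinvP)

theorem tauP_eq (P : ℕ) : tauP P = mmP AP (mmP (frobP P) AinvP) := by
  simp only [tauP, seqN_eq, mmPF_eq]

/-- the twisting matrix and the images of the generators -/
def aOK : Bool :=
  Nat.beq (mmPF AP AinvP) idP && Nat.beq (mmPF AinvP AP) idP &&
    decOK (tauP gP0) tAI0 tAK0 && decOK (tauP gP1) tAI1 tAK1

/-- the cube, forced -/
def cubeF (y : ℕ) : ℕ := seqN (mmPF y y) fun y2 => mmPF y2 y

/-- the fifth power, forced -/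
def fifthF (y : ℕ) : ℕ := seqN (mmPF y y) fun y2 => seqN (mmPF y2 y2) fun y4 => mmPF y4 y

theorem cubeF_eq (y : ℕ) : cubeF y = mmP (mmP y y) y := by
  simp only [cubeF, seqN_eq, mmPF_eq]

theorem fifthF_eq (y : ℕ) : fifthF y = mmP (mmP (mmP y y) (mmP y y)) y := by
  simp only [fifthF, seqN_eq, mmPF_eq]

/-- miscellaneous identities -/
def mOK : Bool :=
  Nat.beq uP (ZZ jU) && Nat.beq vP (KK jV) && Nat.blt jU nZ && Nat.blt jV nK &&
    Nat.beq tuP (tauP uP) && Nat.beq (tauP zP) zP &&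
    Nat.beq w6P (mmPF zP (seqN (mmPF zP uP) fun r => seqN (cubeF r) fun r3 => mmPF r3 r3))

/-- the involutions whose product with the central one has order fifteen -/
def x15OK (j : ℕ) : Bool :=
  seqN (mmPF zP (ZZ j)) fun r => seqN (mmPF r r) fun r2 => seqN (mmPF r2 r) fun r3 =>
    seqN (mmPF r3 r2) fun r5 => seqN (mmPF r5 r5) fun r10 =>
      !Nat.beq (mmPF r10 r5) idP || Nat.beq r5 idP || Nat.beq r3 idP ||
        (Nat.blt (X15C j) nK &&
          Nat.beq (mmPF (KK (X15C j)) (cond (Nat.beq (X15E j) 0) uP tuP))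
            (mmPF (ZZ j) (KK (X15C j))))

/-- the twisted involution is not conjugate to the original one under the centralizer -/
def niOK (k : ℕ) : Bool := !Nat.beq (mmPF (KK k) uP) (mmPF tuP (KK k))

/-- the third involution is determined by its relations -/
def vOK (k : ℕ) : Bool :=
  seqN (KK k) fun y => !Nat.beq (mmPF y y) idP || Nat.beq y idP || Nat.beq y vP ||
    !Nat.beq (cubeF (mmPF w6P y)) idP || !Nat.beq (fifthF (mmPF uP y)) idP

/-- the letters -/
def LP (s : ℕ) : ℕ := cond (Nat.beq s 0) zP (cond (Nat.beq s 1) uP vP)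

/-- evaluation of a word -/
def evalW : List ℕ → ℕ → ℕ
  | [], acc => acc
  | s :: l, acc => seqN (mmPF acc (LP s)) (evalW l)

def wOK : Bool := Nat.beq (evalW WA idP) gP0 && Nat.beq (evalW WB idP) gP1

end Cfsg.Agent.Helper26.J3OC
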