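import Mathlib
import Cfsg.Agent.Lib.Helper26.J3Three
import Cfsg.Agent.Lib.Helper26.J3CoreP
import Cfsg.Agent.Lib.Helper26.J3CoreI

/-!
# Orbits of `threeJ3 F ω` on the lines of its 9-space
-/

set_option autoImplicit false

namespace Cfsg.Agent.Helper26.J3T

open Matrix
open Cfsg.Agent.Helper26 Cfsg.Agent.Helper26.F4M Cfsg.Agent.Helper26.J3D
  Cfsg.Agent.Helper26.J3C Cfsg.Agent.Helper26.J3K Cfsg.Agent.Helper26.J3G
open Cfsg.Spor

section

variable {F : Type} [Field F]

/-- Reindexing vectors. -/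
def rv (v : F9 → F) : Fin 9 → F := v ∘ e9.symm

theorem rv_apply (v : F9 → F) (r : Fin 9) : rv v r = v (e9.symm r) := rfl

theorem rv_injective : Function.Injective (rv : (F9 → F) → Fin 9 → F) := by
  intro v w h
  funext z
  have := congrFun h (e9 z)
  simpa [rv_apply] using this

theorem rv_mulVec (M : Matrix F9 F9 F) (v : F9 → F) : rv (M *ᵥ v) = rxHom M *ᵥ rv v := by
  show (M *ᵥ v) ∘ e9.symm = (M.submatrix e9.symm e9.symm) *ᵥ (v ∘ e9.symm)
  rw [Matrix.submatrix_mulVec_equiv]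
  congr 2
  funext z
  simp

theorem rv_smul (c : F) (v : F9 → F) : rv (c • v) = c • rv v := rfl

theorem rv_single : rv (Pi.single (0 : F9) (1 : F)) = Pi.single 0 1 := by
  funext r
  rw [rv_apply, Pi.single_apply, Pi.single_apply]
  have : e9.symm r = 0 ↔ r = 0 := by
    revert r; decide
  simp only [this]

theorem sum_rv (v : F9 → F) : ∑ r, rv v r ^ 3 = ∑ z, v z ^ 3 :=
  Equiv.sum_comp e9.symm (fun z => v z ^ 3)

theorem rv_ne_zero {v : F9 → F} (hv : v ≠ 0) : rv v ≠ 0 := by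
  intro h
  apply hv
  apply rv_injective
  rw [h]
  rfl

end

section

variable {F : Type} [Field F] [Fintype F] (hF : Fintype.card F = 4) (ω : F)
  (hω : ω ^ 2 + ω + 1 = 0)

include hF hω

theorem field_digits (x : F) : ∃ d < 4, x = digitVal ω d := by
  obtain ⟨y, rfl⟩ := (F4.toFEquiv hF ω hω).surjective x
  obtain ⟨a, b⟩ := y
  show ∃ d < 4, F4.toF ω ⟨a, b⟩ = digitVal ω d
  fin_cases a <;> fin_cases b
  · exact ⟨0, by norm_num, by simp [F4.toF, digitVal_zero]⟩
  · exact ⟨2, by norm_num, by simp [F4.toF, digitVal_two]⟩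
  · exact ⟨1, by norm_num, by simp [F4.toF, digitVal_one]⟩
  · exact ⟨3, by norm_num, by simp [F4.toF, digitVal_three]⟩

theorem unit_pow (z : Fˣ) : ∃ e < 3, (z : F) = ω ^ e := by
  obtain ⟨d, hd, hz⟩ := field_digits hF ω hω (z : F)
  have h2 := F4.two_eq_zero_of_card hF
  interval_cases d
  · exfalso
    rw [digitVal_zero] at hz
    exact z.ne_zero hz
  · exact ⟨0, by norm_num, by rw [hz, digitVal_one, pow_zero]⟩
  · exact ⟨1, by norm_num, by rw [hz, digitVal_two, pow_one]⟩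
  · refine ⟨2, by norm_num, ?_⟩
    rw [hz, digitVal_three]
    linear_combination (-1 : F) * hω + (1 + ω) * h2

/-- The line through the first basis vector has exactly 23256 images. -/
theorem lines_ncard :
    {L : Submodule F (F9 → F) | ∃ g ∈ threeJ3 F ω,
      L = F ∙ ((g : Matrix F9 F9 F) *ᵥ (Pi.single (0 : F9) (1 : F) : F9 → F))}.ncard = 23256 := by
  let S := setupGL hF ω hω
  let f : ℕ → Submodule F (F9 → F) := fun i =>
    F ∙ (((S.E i : GL F9 F) : Matrix F9 F9 F) *ᵥ (Pi.single (0 : F9) (1 : F) : F9 → F))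
  have hval : ∀ g : GL F9 F, rv ((g : Matrix F9 F9 F) *ᵥ (Pi.single (0 : F9) (1 : F) : F9 → F)) =
      S.val g *ᵥ Pi.single 0 1 := by
    intro g
    rw [rv_mulVec, rv_single]
    rfl
  have hω0 : ω ≠ 0 := omega_ne_zero ω hω
  have hset : {L : Submodule F (F9 → F) | ∃ g ∈ threeJ3 F ω,
      L = F ∙ ((g : Matrix F9 F9 F) *ᵥ (Pi.single (0 : F9) (1 : F) : F9 → F))} =
      f '' (↑(Finset.range nPts) : Set ℕ) := by
    ext L
    constructor
    · rintro ⟨g, hg, rfl⟩
      rw [threeJ3_eq hF ω hω] at hg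
      obtain ⟨i, hi, e, _, h⟩ := S.vec_mem g hg
      refine ⟨i, by simpa using hi, ?_⟩
      have h' : (g : Matrix F9 F9 F) *ᵥ (Pi.single (0 : F9) (1 : F) : F9 → F) =
          ω ^ e • (((S.E i : GL F9 F) : Matrix F9 F9 F) *ᵥ
            (Pi.single (0 : F9) (1 : F) : F9 → F)) := by
        apply rv_injective
        rw [rv_smul, hval, hval]
        exact h
      show F ∙ _ = F ∙ _
      rw [h']
      exact (Submodule.span_singleton_smul_eq (IsUnit.mk0 _ (pow_ne_zero e hω0)) _).symm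
    · rintro ⟨i, _, rfl⟩
      refine ⟨S.E i, ?_, rfl⟩
      rw [threeJ3_eq hF ω hω]
      exact S.E_mem i
  have hinj : Set.InjOn f (↑(Finset.range nPts) : Set ℕ) := by
    intro i hi j hj hij
    have hi' : i < nPts := by simpa using hi
    have hj' : j < nPts := by simpa using hj
    obtain ⟨z, hz⟩ := Submodule.span_singleton_eq_span_singleton.mp hij
    obtain ⟨e, he, hze⟩ := unit_pow hF ω hω z
    symm
    apply S.vec_inj hj' hi' e he
    rw [← hval, ← hval, ← hz]
    show rv ((z : F) • _) = _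
    rw [rv_smul, hze]
    rfl
  rw [hset, hinj.ncard_image, Set.ncard_coe_finset, Finset.card_range]
  rfl

/-- The isotropic lines form a single orbit. -/
theorem iso_transitive (v w : F9 → F) (hv : v ≠ 0) (hw : w ≠ 0) (hvi : ∑ z, v z ^ 3 = 0)
    (hwi : ∑ z, w z ^ 3 = 0) :
    ∃ g ∈ threeJ3 F ω, ∃ c : F, c ≠ 0 ∧ (g : Matrix F9 F9 F) *ᵥ v = c • w := by
  let S := setupGL hF ω hω
  obtain ⟨g, hg, c, hc, h⟩ := S.iso_trans (field_digits hF ω hω) (rv v) (rv w) (rv_ne_zero hv)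
    (rv_ne_zero hw) (by rw [sum_rv]; exact hvi) (by rw [sum_rv]; exact hwi)
  refine ⟨g, ?_, c, hc, ?_⟩
  · rw [threeJ3_eq hF ω hω]; exact hg
  · apply rv_injective
    rw [rv_mulVec, rv_smul]
    exact h

end

end Cfsg.Agent.Helper26.J3T
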