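import Mathlib
import Cfsg.Prelude.Def_KGroupFacts
import Cfsg.Agent.Lib.Helper25.FusionSimpCrit3
import Cfsg.Agent.Lib.Helper26.AutOuter
import Cfsg.Agent.Lib.Helper26.AutInner
import Cfsg.Agent.Lib.Helper26.J3FH1

/-!
# An outer automorphism group of order two, from involution data in a central extension

`Γ` is a finite group whose centre has exponent three; the automorphisms of `Γ ⧸ Z(Γ)` are
controlled through the unique lifts of the involutions.
-/

set_option autoImplicit false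

namespace Cfsg.Agent.Helper26.J3OA

open Cfsg Cfsg.Agent.Helper25.SimpCrit Cfsg.Agent.Helper26.J3FH

variable {Γ : Type*} [Group Γ]

theorem center_two_of_three (h3 : ∀ z ∈ Subgroup.center Γ, z ^ 3 = 1) :
    ∀ z ∈ Subgroup.center Γ, ∀ k : ℕ, z ^ 2 ^ k = 1 → z = 1 := by
  intro z hz k hk
  have h1 := orderOf_dvd_of_pow_eq_one (h3 z hz)
  have h2 := orderOf_dvd_of_pow_eq_one hk
  have h4 : orderOf z ∣ Nat.gcd 3 (2 ^ k) := Nat.dvd_gcd h1 h2
  have h5 : Nat.gcd 3 (2 ^ k) = 1 :=
    Nat.Coprime.pow_right k (by norm_num : Nat.Coprime 3 2)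
  rw [h5] at h4
  exact orderOf_eq_one_iff.mp (Nat.dvd_one.mp h4)

/-- elements of square one with the same image in the central quotient are equal -/
theorem lift_unique (h3 : ∀ z ∈ Subgroup.center Γ, z ^ 3 = 1) {x y : Γ} (hx : x ^ 2 = 1)
    (hy : y ^ 2 = 1)
    (h : (QuotientGroup.mk' (Subgroup.center Γ)) x = (QuotientGroup.mk' (Subgroup.center Γ)) y) :
    x = y :=
  eq_of_mk_eq 2 (center_two_of_three h3) ⟨1, by rw [pow_one]; exact hx⟩
    ⟨1, by rw [pow_one]; exact hy⟩ h

/-- a power of a product of two involutions which is central is trivial -/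
theorem dihedral (h3 : ∀ z ∈ Subgroup.center Γ, z ^ 3 = 1) {x y : Γ} (hx : x ^ 2 = 1)
    (hy : y ^ 2 = 1) (m : ℕ)
    (h : ((QuotientGroup.mk' (Subgroup.center Γ)) x * (QuotientGroup.mk' (Subgroup.center Γ)) y) ^ m
      = 1) : (x * y) ^ m = 1 := by
  have hc : (x * y) ^ m ∈ Subgroup.center Γ := by
    apply (QuotientGroup.eq_one_iff _).mp
    have : (QuotientGroup.mk' (Subgroup.center Γ)) ((x * y) ^ m) = 1 := by
      rw [map_pow, map_mul]; exact h
    exact this
  have hxi : x⁻¹ = x := by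
    rw [inv_eq_iff_mul_eq_one, ← pow_two]; exact hx
  have hyi : y⁻¹ = y := by
    rw [inv_eq_iff_mul_eq_one, ← pow_two]; exact hy
  have h1 : x * (x * y) * x⁻¹ = (x * y)⁻¹ := by
    rw [mul_inv_rev, hxi, hyi, ← mul_assoc, ← pow_two, hx, one_mul]
  have h2 : x * (x * y) ^ m * x⁻¹ = ((x * y) ^ m)⁻¹ := by
    rw [← conj_pow, h1, inv_pow]
  have h4 : x * (x * y) ^ m * x⁻¹ = (x * y) ^ m := by
    rw [Subgroup.mem_center_iff.mp hc x, mul_inv_cancel_right]
  have h5 : ((x * y) ^ m) ^ 2 = 1 := by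
    rw [pow_two]
    nth_rewrite 1 [← h4]
    rw [h2, inv_mul_cancel]
  have h6 := h3 _ hc
  rw [pow_succ, h5, one_mul] at h6
  exact h6

theorem map_center_equiv (τ : Γ ≃* Γ) :
    (Subgroup.center Γ).map (τ : Γ →* Γ) = Subgroup.center Γ := by
  ext x
  constructor
  · rintro ⟨z, hz, rfl⟩
    have hz : z ∈ Subgroup.center Γ := hz
    show τ z ∈ Subgroup.center Γ
    rw [Subgroup.mem_center_iff] at hz ⊢
    intro g
    have := hz (τ.symm g)
    have h2 := congrArg τ this
    rw [map_mul, map_mul, MulEquiv.apply_symm_apply] at h2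
    exact h2
  · intro hx
    refine ⟨τ.symm x, ?_, MulEquiv.apply_symm_apply τ x⟩
    show τ.symm x ∈ Subgroup.center Γ
    rw [Subgroup.mem_center_iff] at hx ⊢
    intro g
    have := hx (τ g)
    apply τ.injective
    rw [map_mul, map_mul, MulEquiv.apply_symm_apply]
    exact this

/-- **The outer automorphism group of the central quotient has order two.** -/
theorem card_Out_eq_two_of_data [Finite Γ] (h3 : ∀ z ∈ Subgroup.center Γ, z ^ 3 = 1)
    (t u v : Γ) (ht : t ^ 2 = 1) (hu : u ^ 2 = 1) (hv : v ^ 2 = 1) (ht1 : t ≠ 1)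
    (hgen : Subgroup.closure ({t, u, v} : Set Γ) = ⊤)
    (τ : Γ ≃* Γ) (hτt : τ t = t)
    (hconj : ∀ y : Γ, orderOf y = 2 → IsConj y t)
    (hr5 : (t * u) ^ 5 ≠ 1) (hr3 : (t * u) ^ 3 ≠ 1) (hr15 : (t * u) ^ 15 = 1)
    (hX : ∀ x : Γ, x ^ 2 = 1 → (t * x) ^ 15 = 1 → (t * x) ^ 5 ≠ 1 → (t * x) ^ 3 ≠ 1 →
      ∃ c : Γ, c * t = t * c ∧ (x = c * u * c⁻¹ ∨ x = c * τ u * c⁻¹))
    (hw2 : (t * (t * u) ^ 6) ^ 2 = 1)
    (hvt : (t * v) ^ 2 = 1) (hvw : (t * (t * u) ^ 6 * v) ^ 3 = 1) (hvu : (u * v) ^ 5 = 1)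
    (hv1 : v ≠ 1)
    (hV : ∀ y : Γ, y ^ 2 = 1 → y ≠ 1 → (t * y) ^ 2 = 1 → (t * (t * u) ^ 6 * y) ^ 3 = 1 →
      (u * y) ^ 5 = 1 → y = v)
    (hni : ∀ c : Γ, c * t = t * c → c * u * c⁻¹ ≠ τ u) :
    Nat.card (Cfsg.Out (Γ ⧸ Subgroup.center Γ)) = 2 := by
  have : Fact (Nat.Prime 2) := ⟨Nat.prime_two⟩
  -- the induced automorphism
  let τb : MulAut (Γ ⧸ Subgroup.center Γ) :=
    QuotientGroup.congr (Subgroup.center Γ) (Subgroup.center Γ) τ (map_center_equiv τ)
  have hτb : ∀ g : Γ, τb ((QuotientGroup.mk' (Subgroup.center Γ)) g) =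
      (QuotientGroup.mk' (Subgroup.center Γ)) (τ g) := fun g => rfl
  have hτu2 : (τ u) ^ 2 = 1 := by rw [← map_pow, hu, map_one]
  -- involutions of the quotient
  have inv_of : ∀ x : Γ, x ^ 2 = 1 → x ≠ 1 → orderOf x = 2 := fun x h1 h2 =>
    orderOf_eq_prime h1 h2
  have conj_sq : ∀ g x : Γ, x ^ 2 = 1 → (g * x * g⁻¹) ^ 2 = 1 := by
    intro g x hx
    rw [conj_pow, hx, mul_one, mul_inv_cancel]
  have mk_ne : ∀ x : Γ, x ^ 2 = 1 → x ≠ 1 →
      (QuotientGroup.mk' (Subgroup.center Γ)) x ≠ 1 := by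
    intro x hx hx1 h
    apply hx1
    exact lift_unique h3 hx (one_pow 2) (h.trans (map_one _).symm)
  apply AutOuter.card_Out_eq_two τb⁻¹
  · -- the induced automorphism is not inner
    rintro ⟨gb, hgb⟩
    obtain ⟨g, rfl⟩ := QuotientGroup.mk'_surjective (Subgroup.center Γ) gb
    have hgb' : τb = MulAut.conj ((QuotientGroup.mk' (Subgroup.center Γ)) g⁻¹) := by
      rw [map_inv, map_inv, ← hgb, inv_inv]
    obtain ⟨a, ha⟩ : ∃ a : Γ, τb = MulAut.conj ((QuotientGroup.mk' (Subgroup.center Γ)) a) :=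
      ⟨g⁻¹, hgb'⟩
    have e1 : ∀ x : Γ, (QuotientGroup.mk' (Subgroup.center Γ)) (τ x) =
        (QuotientGroup.mk' (Subgroup.center Γ)) (a * x * a⁻¹) := by
      intro x
      rw [← hτb, ha, MulAut.conj_apply, map_mul, map_mul, map_inv]
    have h1 : a * t * a⁻¹ = t := by
      have := e1 t
      rw [hτt] at this
      exact (lift_unique h3 ht (conj_sq _ _ ht) this).symm
    have h2 : a * u * a⁻¹ = τ u :=
      (lift_unique h3 hτu2 (conj_sq _ _ hu) (e1 u)).symm
    apply hni a _ h2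
    calc a * t = (a * t * a⁻¹) * a := by group
      _ = t * a := by rw [h1]
  · intro φ
    -- first normalization: the image of `t`
    have o1 : orderOf (φ ((QuotientGroup.mk' (Subgroup.center Γ)) t)) = 2 := by
      rw [MulEquiv.orderOf_eq]
      exact orderOf_eq_prime (by rw [← map_pow, ht, map_one]) (mk_ne t ht ht1)
    obtain ⟨x1, hx1o, hx1⟩ := exists_lift_involution h3 _ o1
    obtain ⟨g1, hg1⟩ := isConj_iff.mp (hconj x1 hx1o)
    obtain ⟨φ1, hφ1⟩ : ∃ φ1 : MulAut (Γ ⧸ Subgroup.center Γ),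
        φ1 = MulAut.conj ((QuotientGroup.mk' (Subgroup.center Γ)) g1) * φ := ⟨_, rfl⟩
    have hφ1t : φ1 ((QuotientGroup.mk' (Subgroup.center Γ)) t) =
        (QuotientGroup.mk' (Subgroup.center Γ)) t := by
      rw [hφ1, MulAut.mul_apply, ← hx1, MulAut.conj_apply, ← map_inv, ← map_mul, ← map_mul, hg1]
    -- an automorphism fixing the images of `t` and `u` is trivial
    have hgen' : Subgroup.closure ((QuotientGroup.mk' (Subgroup.center Γ)) '' ({t, u, v} : Set Γ))
        = ⊤ := by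
      rw [← MonoidHom.map_closure, hgen]
      exact Subgroup.map_top_of_surjective _ (QuotientGroup.mk'_surjective _)
    have fix : ∀ φ2 : MulAut (Γ ⧸ Subgroup.center Γ),
        φ2 ((QuotientGroup.mk' (Subgroup.center Γ)) t) = (QuotientGroup.mk' (Subgroup.center Γ)) t →
        φ2 ((QuotientGroup.mk' (Subgroup.center Γ)) u) = (QuotientGroup.mk' (Subgroup.center Γ)) u →
        φ2 = 1 := by
      intro φ2 h2t h2u
      have o3 : orderOf (φ2 ((QuotientGroup.mk' (Subgroup.center Γ)) v)) = 2 := by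
        rw [MulEquiv.orderOf_eq]
        exact orderOf_eq_prime (by rw [← map_pow, hv, map_one]) (mk_ne v hv hv1)
      obtain ⟨y, hyo, hy⟩ := exists_lift_involution h3 _ o3
      have hysq : y ^ 2 = 1 := by rw [← hyo]; exact pow_orderOf_eq_one y
      have hy1 : y ≠ 1 := by
        rintro rfl
        rw [orderOf_one] at hyo
        omega
      have fixw : φ2 ((QuotientGroup.mk' (Subgroup.center Γ)) (t * (t * u) ^ 6)) =
          (QuotientGroup.mk' (Subgroup.center Γ)) (t * (t * u) ^ 6) := by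
        rw [map_mul (QuotientGroup.mk' (Subgroup.center Γ)),
          map_pow (QuotientGroup.mk' (Subgroup.center Γ)),
          map_mul (QuotientGroup.mk' (Subgroup.center Γ)), map_mul φ2, map_pow φ2, map_mul φ2,
          h2t, h2u]
      have c1 : (t * y) ^ 2 = 1 := by
        apply dihedral h3 ht hysq 2
        rw [hy, ← h2t, ← map_mul φ2, ← map_pow φ2,
          ← map_mul (QuotientGroup.mk' (Subgroup.center Γ)),
          ← map_pow (QuotientGroup.mk' (Subgroup.center Γ)), hvt, map_one, map_one]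
      have c2 : (t * (t * u) ^ 6 * y) ^ 3 = 1 := by
        apply dihedral h3 hw2 hysq 3
        rw [hy, ← fixw, ← map_mul φ2, ← map_pow φ2,
          ← map_mul (QuotientGroup.mk' (Subgroup.center Γ)),
          ← map_pow (QuotientGroup.mk' (Subgroup.center Γ)), hvw, map_one, map_one]
      have c3 : (u * y) ^ 5 = 1 := by
        apply dihedral h3 hu hysq 5
        rw [hy, ← h2u, ← map_mul φ2, ← map_pow φ2,
          ← map_mul (QuotientGroup.mk' (Subgroup.center Γ)),
          ← map_pow (QuotientGroup.mk' (Subgroup.center Γ)), hvu, map_one, map_one]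
      have hyv := hV y hysq hy1 c1 c2 c3
      rw [hyv] at hy
      apply AutInner.eq_one_of_fix_generators _ hgen' φ2
      rintro _ ⟨s, hs, rfl⟩
      rcases hs with rfl | rfl | rfl
      · exact h2t
      · exact h2u
      · exact hy.symm
    -- second normalization: the image of `u`
    have hu1 : u ≠ 1 := by
      rintro rfl
      apply ht1
      rw [mul_one] at hr15
      have e : t ^ 15 = t := by
        rw [show 15 = 2 * 7 + 1 from rfl, pow_succ, pow_mul, ht, one_pow, one_mul]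
      rw [← e, hr15]
    have o2 : orderOf (φ1 ((QuotientGroup.mk' (Subgroup.center Γ)) u)) = 2 := by
      rw [MulEquiv.orderOf_eq]
      exact orderOf_eq_prime (by rw [← map_pow, hu, map_one]) (mk_ne u hu hu1)
    obtain ⟨x2, hx2o, hx2⟩ := exists_lift_involution h3 _ o2
    have hx2sq : x2 ^ 2 = 1 := by rw [← hx2o]; exact pow_orderOf_eq_one x2
    have rel : ∀ k : ℕ, ((QuotientGroup.mk' (Subgroup.center Γ)) t *
        (QuotientGroup.mk' (Subgroup.center Γ)) x2) ^ k =
        φ1 ((QuotientGroup.mk' (Subgroup.center Γ)) ((t * u) ^ k)) := by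
      intro k
      rw [hx2, map_pow (QuotientGroup.mk' (Subgroup.center Γ)),
        map_mul (QuotientGroup.mk' (Subgroup.center Γ)), map_pow φ1, map_mul φ1, hφ1t]
    have c15 : (t * x2) ^ 15 = 1 := by
      apply dihedral h3 ht hx2sq 15
      rw [rel, hr15, map_one, map_one]
    have c5 : (t * x2) ^ 5 ≠ 1 := by
      intro h
      apply hr5
      have h' : (QuotientGroup.mk' (Subgroup.center Γ)) ((t * u) ^ 5) = 1 := by
        apply φ1.injective
        rw [← rel, ← map_mul (QuotientGroup.mk' (Subgroup.center Γ)),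
          ← map_pow (QuotientGroup.mk' (Subgroup.center Γ)), h, map_one, map_one]
      apply dihedral h3 ht hu 5
      rw [← map_mul (QuotientGroup.mk' (Subgroup.center Γ)),
        ← map_pow (QuotientGroup.mk' (Subgroup.center Γ))]
      exact h'
    have c3 : (t * x2) ^ 3 ≠ 1 := by
      intro h
      apply hr3
      have h' : (QuotientGroup.mk' (Subgroup.center Γ)) ((t * u) ^ 3) = 1 := by
        apply φ1.injective
        rw [← rel, ← map_mul (QuotientGroup.mk' (Subgroup.center Γ)),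
          ← map_pow (QuotientGroup.mk' (Subgroup.center Γ)), h, map_one, map_one]
      apply dihedral h3 ht hu 3
      rw [← map_mul (QuotientGroup.mk' (Subgroup.center Γ)),
        ← map_pow (QuotientGroup.mk' (Subgroup.center Γ))]
      exact h'
    obtain ⟨c, hct, hc⟩ := hX x2 hx2sq c15 c5 c3
    have hct' : c⁻¹ * t * c⁻¹⁻¹ = t := by
      rw [inv_inv]
      calc c⁻¹ * t * c = c⁻¹ * (t * c) := by rw [mul_assoc]
        _ = c⁻¹ * (c * t) := by rw [hct]
        _ = t := by rw [inv_mul_cancel_left]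
    have step1 : (MulAut.conj ((QuotientGroup.mk' (Subgroup.center Γ)) c⁻¹) * φ1)
        ((QuotientGroup.mk' (Subgroup.center Γ)) t) = (QuotientGroup.mk' (Subgroup.center Γ)) t := by
      rw [MulAut.mul_apply, hφ1t, MulAut.conj_apply, ← map_inv, ← map_mul, ← map_mul, hct']
    have step2 : (MulAut.conj ((QuotientGroup.mk' (Subgroup.center Γ)) c⁻¹) * φ1)
        ((QuotientGroup.mk' (Subgroup.center Γ)) u) =
        (QuotientGroup.mk' (Subgroup.center Γ)) (c⁻¹ * x2 * c⁻¹⁻¹) := by
      rw [MulAut.mul_apply, ← hx2, MulAut.conj_apply, ← map_inv, ← map_mul, ← map_mul]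
    rcases hc with hc | hc
    · left
      have e2 : c⁻¹ * x2 * c⁻¹⁻¹ = u := by rw [hc]; group
      rw [e2] at step2
      have h1 := fix _ step1 step2
      rw [hφ1, ← mul_assoc, ← map_mul] at h1
      refine ⟨((QuotientGroup.mk' (Subgroup.center Γ)) c⁻¹ *
        (QuotientGroup.mk' (Subgroup.center Γ)) g1)⁻¹, ?_⟩
      rw [map_inv]
      exact eq_inv_of_mul_eq_one_right h1
    · right
      have e2 : c⁻¹ * x2 * c⁻¹⁻¹ = τ u := by rw [hc]; group
      rw [e2, ← hτb] at step2
      have s1 : (τb⁻¹ * (MulAut.conj ((QuotientGroup.mk' (Subgroup.center Γ)) c⁻¹) * φ1))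
          ((QuotientGroup.mk' (Subgroup.center Γ)) t) =
          (QuotientGroup.mk' (Subgroup.center Γ)) t := by
        rw [MulAut.mul_apply, step1]
        nth_rewrite 1 [← hτt]
        rw [← hτb, MulAut.inv_apply_self]
      have s2 : (τb⁻¹ * (MulAut.conj ((QuotientGroup.mk' (Subgroup.center Γ)) c⁻¹) * φ1))
          ((QuotientGroup.mk' (Subgroup.center Γ)) u) =
          (QuotientGroup.mk' (Subgroup.center Γ)) u := by
        rw [MulAut.mul_apply, step2, MulAut.inv_apply_self]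
      have h1 := fix _ s1 s2
      rw [hφ1, ← mul_assoc (MulAut.conj _), ← map_mul] at h1
      refine ⟨((QuotientGroup.mk' (Subgroup.center Γ)) c⁻¹ *
        (QuotientGroup.mk' (Subgroup.center Γ)) g1)⁻¹, ?_⟩
      rw [map_inv]
      have h2 := inv_mul_eq_one.mp h1
      -- τb = conj a * φ
      rw [h2, mul_inv_rev, ← mul_assoc, mul_inv_cancel, one_mul]

end Cfsg.Agent.Helper26.J3OA
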