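import Mathlib
import Cfsg.Agent.Lib.Helper26.J3FMain
import Cfsg.Agent.Lib.Helper26.J3OChk

/-!
# The twisting automorphism of `3.J₃`

The entrywise squaring map followed by conjugation by an explicit matrix maps the group to
itself; this gives an automorphism of the group named by packed matrices.
-/

set_option autoImplicit false

namespace Cfsg.Agent.Helper26.J3O

open Matrix
open Cfsg.Agent.Helper26 Cfsg.Agent.Helper26.F4M Cfsg.Agent.Helper26.J3D
  Cfsg.Agent.Helper26.J3C Cfsg.Agent.Helper26.J3K Cfsg.Agent.Helper26.J3G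
  Cfsg.Agent.Helper26.J3F Cfsg.Agent.Helper26.J3FD Cfsg.Agent.Helper26.J3FC
  Cfsg.Agent.Helper26.J3FM Cfsg.Agent.Helper26.J3OD Cfsg.Agent.Helper26.J3OC
  Cfsg.Agent.Helper26.J3OK

/-- a group named by packed matrices, with the twisting automorphism and its generators -/
structure TModel (Γ : Type*) [Group Γ] (mk : ℕ → Γ) (Val : ℕ → Prop) : Prop where
  cm : CModel Γ mk Val
  tau : ∃ τ : Γ ≃* Γ, ∀ P, Val P → Val (tauP P) ∧ τ (mk P) = mk (tauP P)
  gen : Subgroup.closure ({mk gP0, mk gP1} : Set Γ) = ⊤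

theorem a_spec : mmP AP AinvP = idP ∧ mmP AinvP AP = idP ∧
    decOK (tauP gP0) tAI0 tAK0 = true ∧ decOK (tauP gP1) tAI1 tAK1 = true := by
  have h := a_ok
  unfold aOK at h
  simp only [Bool.and_eq_true, mmPF_eq] at h
  exact ⟨Nat.eq_of_beq_eq_true h.1.1.1, Nat.eq_of_beq_eq_true h.1.1.2, h.1.2, h.2⟩

theorem tauP_lt (P : ℕ) : tauP P < 2 ^ 162 := by
  rw [tauP_eq]
  exact mmP_lt _ _

section

variable {F : Type*} [Field F] {A : Type*} [Group A] (S : Setup F A)

/-- the twisting map on matrices -/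
def Tmap (M : M9 F) : M9 F := S.dec AP * M.map (sqHom S.h2) * S.dec AinvP

theorem dec_A_mul : S.dec AP * S.dec AinvP = 1 := by
  rw [← S.dec_mul, a_spec.1, S.dec_idP]

theorem dec_Ainv_mul : S.dec AinvP * S.dec AP = 1 := by
  rw [← S.dec_mul, a_spec.2.1, S.dec_idP]

theorem Tmap_one : Tmap S 1 = 1 := by
  unfold Tmap
  rw [Matrix.map_one _ (map_zero _) (map_one _), mul_one, dec_A_mul]

theorem Tmap_mul (M N : M9 F) : Tmap S (M * N) = Tmap S M * Tmap S N := by
  unfold Tmap
  rw [Matrix.map_mul]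
  have h1 : S.dec AP * M.map (sqHom S.h2) * S.dec AinvP *
      (S.dec AP * N.map (sqHom S.h2) * S.dec AinvP) =
      S.dec AP * M.map (sqHom S.h2) * (S.dec AinvP * S.dec AP) * N.map (sqHom S.h2) *
        S.dec AinvP := by
    simp only [mul_assoc]
  rw [h1, dec_Ainv_mul, mul_one]
  rw [← mul_assoc (S.dec AP)]

theorem Tmap_dec (P : ℕ) : Tmap S (S.dec P) = S.dec (tauP P) := by
  unfold Tmap
  rw [tauP_eq, S.dec_mul, S.dec_mul, mul_assoc]
  congr 2
  exact (decM_frobP S.h2 S.ω S.hω P).symm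

theorem Tmap_inj {M N : M9 F} (h : Tmap S M = Tmap S N) : M = N := by
  unfold Tmap at h
  have h1 : S.dec AinvP * (S.dec AP * M.map (sqHom S.h2) * S.dec AinvP) * S.dec AP =
      S.dec AinvP * (S.dec AP * N.map (sqHom S.h2) * S.dec AinvP) * S.dec AP := by
    rw [h]
  have e : ∀ Z : M9 F, S.dec AinvP * (S.dec AP * Z * S.dec AinvP) * S.dec AP = Z := by
    intro Z
    calc S.dec AinvP * (S.dec AP * Z * S.dec AinvP) * S.dec AP
        = (S.dec AinvP * S.dec AP) * Z * (S.dec AinvP * S.dec AP) := by simp only [mul_assoc]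
      _ = Z := by rw [dec_Ainv_mul, one_mul, mul_one]
  rw [e, e] at h1
  exact Matrix.map_injective (sqHom_injective S.h2) h1

theorem exists_tau_val [Finite A] (g : A) (hg : g ∈ S.G) :
    ∃ g' ∈ S.G, S.val g' = Tmap S (S.val g) := by
  have hM := cmodel S
  unfold Setup.G at hg
  induction hg using Subgroup.closure_induction with
  | mem x hx =>
    rcases hx with rfl | rfl
    · obtain ⟨_, g', hg'⟩ := decOK_val hM a_spec.2.2.1
      refine ⟨g'.1, g'.2, ?_⟩
      rw [hg', S.ha]
      exact (Tmap_dec S gP0).symm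
    · obtain ⟨_, g', hg'⟩ := decOK_val hM a_spec.2.2.2
      refine ⟨g'.1, g'.2, ?_⟩
      rw [hg', S.hb]
      exact (Tmap_dec S gP1).symm
  | one => exact ⟨1, one_mem _, by rw [map_one, Tmap_one]⟩
  | mul x y _ _ hx hy =>
    obtain ⟨x', hx', ex⟩ := hx
    obtain ⟨y', hy', ey⟩ := hy
    exact ⟨x' * y', mul_mem hx' hy', by rw [map_mul, map_mul, Tmap_mul, ex, ey]⟩
  | inv x _ hx =>
    obtain ⟨x', hx', ex⟩ := hx
    refine ⟨x'⁻¹, inv_mem hx', ?_⟩
    have h2 : Tmap S (S.val x⁻¹) * S.val x' = 1 := by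
      rw [ex, ← Tmap_mul, ← map_mul, inv_mul_cancel, map_one, Tmap_one]
    have h3 : S.val x' * S.val x'⁻¹ = 1 := by
      rw [← map_mul, mul_inv_cancel, map_one]
    calc S.val x'⁻¹ = (Tmap S (S.val x⁻¹) * S.val x') * S.val x'⁻¹ := by rw [h2, one_mul]
      _ = Tmap S (S.val x⁻¹) := by rw [mul_assoc, h3, mul_one]

/-- the twisting map on the group -/
noncomputable def tauFun [Finite A] (g : S.G) : S.G :=
  ⟨Classical.choose (exists_tau_val S g.1 g.2),
    (Classical.choose_spec (exists_tau_val S g.1 g.2)).1⟩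

theorem tauFun_val [Finite A] (g : S.G) : S.val (tauFun S g).1 = Tmap S (S.val g.1) :=
  (Classical.choose_spec (exists_tau_val S g.1 g.2)).2

/-- the twisting homomorphism -/
noncomputable def tauHom [Finite A] : S.G →* S.G where
  toFun := tauFun S
  map_one' := by
    apply Subtype.ext
    apply S.inj
    rw [tauFun_val]
    show Tmap S (S.val 1) = S.val 1
    rw [map_one, Tmap_one]
  map_mul' x y := by
    apply Subtype.ext
    apply S.inj
    rw [tauFun_val]
    show Tmap S (S.val (x.1 * y.1)) = S.val ((tauFun S x).1 * (tauFun S y).1)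
    rw [map_mul, map_mul, Tmap_mul, tauFun_val, tauFun_val]

theorem tauHom_injective [Finite A] : Function.Injective (tauHom S) := by
  intro x y h
  have h1 : S.val (tauFun S x).1 = S.val (tauFun S y).1 := by
    show S.val (tauHom S x).1 = S.val (tauHom S y).1
    rw [h]
  rw [tauFun_val, tauFun_val] at h1
  exact Subtype.ext (S.inj (Tmap_inj S h1))

/-- the twisting automorphism -/
noncomputable def tauEquiv [Finite A] : S.G ≃* S.G :=
  MulEquiv.ofBijective (tauHom S) (Finite.injective_iff_bijective.mp (tauHom_injective S))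

theorem tauEquiv_mk [Finite A] (P : ℕ) (hP : ValS S P) :
    ValS S (tauP P) ∧ tauEquiv S (mkS S P) = mkS S (tauP P) := by
  have h1 : S.val (tauEquiv S (mkS S P)).1 = S.dec (tauP P) := by
    show S.val (tauFun S (mkS S P)).1 = _
    rw [tauFun_val, mkS_val S P hP, Tmap_dec]
  exact ⟨⟨tauP_lt P, _, h1⟩, (mkS_eq S _ _ h1).symm⟩

theorem tmodel [Finite A] : TModel ↥S.G (mkS S) (ValS S) where
  cm := cmodel S
  tau := ⟨tauEquiv S, tauEquiv_mk S⟩
  gen := by
    have ha : mkS S gP0 = S.a' := mkS_eq S _ S.a' S.ha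
    have hb : mkS S gP1 = S.b' := mkS_eq S _ S.b' S.hb
    rw [ha, hb]
    exact S.closure_ab'

end

end Cfsg.Agent.Helper26.J3O
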