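import Mathlib
import Cfsg.Agent.Lib.Helper26.J3Tau
import Cfsg.Agent.Lib.Helper26.J3FH3
import Cfsg.Agent.Lib.Helper26.J3Out1
import Cfsg.Agent.Lib.Helper26.J3OChk2

/-!
# The outer automorphism group of the third Janko group has order two
-/

set_option autoImplicit false

namespace Cfsg.Agent.Helper26.J3O

open Cfsg.Agent.Helper26 Cfsg.Agent.Helper26.F4M Cfsg.Agent.Helper26.J3D
  Cfsg.Agent.Helper26.J3C Cfsg.Agent.Helper26.J3K Cfsg.Agent.Helper26.J3G
  Cfsg.Agent.Helper26.J3F Cfsg.Agent.Helper26.J3FD Cfsg.Agent.Helper26.J3FC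
  Cfsg.Agent.Helper26.J3FK Cfsg.Agent.Helper26.J3FM Cfsg.Agent.Helper26.J3OD
  Cfsg.Agent.Helper26.J3OC Cfsg.Agent.Helper26.J3OK

theorem ne_of_nbeq {a b : ℕ} (h : (!Nat.beq a b) = true) : a ≠ b := by
  intro e
  rw [e, Nat.beq_refl] at h
  exact Bool.false_ne_true h

theorem m_spec : uP = ZZ jU ∧ vP = KK jV ∧ jU < nZ ∧ jV < nK ∧ tuP = tauP uP ∧ tauP zP = zP ∧
    w6P = mmP zP (mmP (mmP (mmP (mmP zP uP) (mmP zP uP)) (mmP zP uP))
      (mmP (mmP (mmP zP uP) (mmP zP uP)) (mmP zP uP))) := by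
  have h := m_ok
  unfold mOK at h
  simp only [Bool.and_eq_true, seqN_eq, mmPF_eq, cubeF_eq] at h
  obtain ⟨⟨⟨⟨⟨⟨h1, h2⟩, h3⟩, h4⟩, h5⟩, h6⟩, h7⟩ := h
  exact ⟨Nat.eq_of_beq_eq_true h1, Nat.eq_of_beq_eq_true h2, blt_lt h3, blt_lt h4,
    Nat.eq_of_beq_eq_true h5, Nat.eq_of_beq_eq_true h6, Nat.eq_of_beq_eq_true h7⟩

section

variable {Γ : Type*} [Group Γ] {mk : ℕ → Γ} {Val : ℕ → Prop}

theorem mk_sq (hM : CModel Γ mk Val) {P : ℕ} (hP : Val P) :
    Val (mmP P P) ∧ mk (mmP P P) = mk P ^ 2 :=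
  ⟨hM.val_mul _ _ hP hP, by rw [hM.mk_mul _ _ hP hP, pow_two]⟩

theorem mk_cube (hM : CModel Γ mk Val) {P : ℕ} (hP : Val P) :
    Val (mmP (mmP P P) P) ∧ mk (mmP (mmP P P) P) = mk P ^ 3 := by
  obtain ⟨v2, e2⟩ := mk_sq hM hP
  exact ⟨hM.val_mul _ _ v2 hP, by rw [hM.mk_mul _ _ v2 hP, e2, ← pow_succ]⟩

theorem mk_fifth (hM : CModel Γ mk Val) {P : ℕ} (hP : Val P) :
    Val (mmP (mmP (mmP P P) (mmP P P)) P) ∧ mk (mmP (mmP (mmP P P) (mmP P P)) P) = mk P ^ 5 := by
  obtain ⟨v2, e2⟩ := mk_sq hM hP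
  have v4 := hM.val_mul _ _ v2 v2
  refine ⟨hM.val_mul _ _ v4 hP, ?_⟩
  rw [hM.mk_mul _ _ v4 hP, hM.mk_mul _ _ v2 v2, e2, ← pow_add, ← pow_succ]

theorem eq_idP_of_mk (hM : CModel Γ mk Val) {P : ℕ} (hP : Val P) (h : mk P = 1) : P = idP := by
  apply hM.inj _ _ hP hM.val_one
  rw [h, hM.mk_one]

theorem mk_eq_one_of (hM : CModel Γ mk Val) {P : ℕ} (h : P = idP) : mk P = 1 := by
  rw [h, hM.mk_one]

theorem K_comm (hM : CModel Γ mk Val) [Finite Γ] (k : ℕ) (hk : k < nK) :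
    mk (KK k) * mk zP = mk zP * mk (KK k) := by
  have h1 : mk (KK k) ∈ Subgroup.centralizer ({mk zP} : Set Γ) := by
    rw [cent_eq hM]
    exact DK.mem_sub hM (DK_ok hM) k hk
  rw [Subgroup.mem_centralizer_iff] at h1
  exact (h1 _ rfl).symm

theorem vK (hM : CModel Γ mk Val) (k : ℕ) (hk : k < nK) : Val (KK k) :=
  DK.val_L hM (DK_ok hM) k hk

/-- the class of the involution is completely listed -/
theorem class_complete (hM : CModel Γ mk Val) [Finite Γ] (x : Γ) (hx : IsConj (mk zP) x) :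
    ∃ j, j < nZ ∧ x = mk (ZZ j) := by
  have hcent : Nat.card ↥(Subgroup.centralizer ({mk zP} : Set Γ)) = 5760 := by
    rw [cent_eq hM]
    exact (DK.level hM (DK_ok hM)).2
  have hcls := Cfsg.Agent.Helper2.card_conj_class_mul_card_centralizer (mk zP)
  rw [hcent, hM.card] at hcls
  have hcard : Nat.card {y : Γ // IsConj (mk zP) y} = 26163 := by omega
  have hval : ∀ j, j < nZ → Val (ZZ j) := fun j hj => (DZ.conj_all hM (DZ_ok hM) j hj).1
  have hcj : ∀ j, j < nZ → IsConj (mk zP) (mk (ZZ j)) :=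
    fun j hj => (DZ.conj_all hM (DZ_ok hM) j hj).2
  let f : Fin 26163 → {y : Γ // IsConj (mk zP) y} := fun j =>
    ⟨mk (ZZ j.1), hcj j.1 j.2⟩
  have hinj : Function.Injective f := by
    intro i j hij
    have h1 : mk (ZZ i.1) = mk (ZZ j.1) := congrArg Subtype.val hij
    apply Fin.ext
    have h2 : ZZ i.1 = ZZ j.1 := hM.inj _ _ (hval i.1 i.2) (hval j.1 j.2) h1
    exact (DZ_ok hM).inj _ i.2 _ j.2 h2
  have hbij := hinj.bijective_of_nat_card_le
    (by rw [hcard, Nat.card_eq_fintype_card, Fintype.card_fin])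
  obtain ⟨j, hj⟩ := hbij.2 ⟨x, hx⟩
  exact ⟨j.1, j.2, (congrArg Subtype.val hj).symm⟩

/-- evaluation of words in the three involutions -/
theorem evalW_mem (hM : CModel Γ mk Val) (K : Subgroup Γ)
    (hL : ∀ s, Val (LP s) ∧ mk (LP s) ∈ K) :
    ∀ (l : List ℕ) (acc : ℕ), Val acc → mk acc ∈ K →
      Val (evalW l acc) ∧ mk (evalW l acc) ∈ K
  | [], acc, h1, h2 => ⟨h1, h2⟩
  | s :: l, acc, h1, h2 => by
    show Val (seqN (mmPF acc (LP s)) (evalW l)) ∧ mk (seqN (mmPF acc (LP s)) (evalW l)) ∈ K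
    rw [seqN_eq, mmPF_eq]
    apply evalW_mem hM K hL l _ (hM.val_mul _ _ h1 (hL s).1)
    rw [hM.mk_mul _ _ h1 (hL s).1]
    exact mul_mem h2 (hL s).2

/-- **The outer automorphism group of the central quotient has order two.** -/
theorem card_out (hT : TModel Γ mk Val) [Finite Γ] :
    Nat.card (Cfsg.Out (Γ ⧸ Subgroup.center Γ)) = 2 := by
  have hM := hT.cm
  obtain ⟨τ, hτ⟩ := hT.tau
  obtain ⟨eU, eV, hjU, hjV, etu, etz, ew6⟩ := m_spec
  have vz : Val zP := decOK_val hM zP_dec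
  have vu : Val uP := by
    have h : Val (ZZ jU) := (DZ.conj_all hM (DZ_ok hM) jU hjU).1
    rw [eU]; exact h
  have vv : Val vP := by rw [eV]; exact vK hM jV hjV
  have vtu : Val tuP := by rw [etu]; exact (hτ uP vu).1
  have htu : τ (mk uP) = mk tuP := by rw [etu]; exact (hτ uP vu).2
  have htz : τ (mk zP) = mk zP := by
    have := (hτ zP vz).2
    rwa [etz] at this
  -- the rotation and the auxiliary reflection
  have vr := hM.val_mul _ _ vz vu
  have er : mk (mmP zP uP) = mk zP * mk uP := hM.mk_mul _ _ vz vu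
  obtain ⟨vr3, er3⟩ := mk_cube hM vr
  have vr6 := hM.val_mul _ _ vr3 vr3
  have vw : Val w6P := by rw [ew6]; exact hM.val_mul _ _ vz vr6
  have ew : mk w6P = mk zP * (mk zP * mk uP) ^ 6 := by
    rw [ew6, hM.mk_mul _ _ vz vr6, hM.mk_mul _ _ vr3 vr3, er3, er, ← pow_add]
  -- the checked relations
  have h2 := m2_ok
  unfold m2OK at h2
  simp only [Bool.and_eq_true, seqN_eq, mmPF_eq, cubeF_eq, fifthF_eq] at h2
  obtain ⟨⟨⟨⟨⟨⟨c1, c2⟩, ⟨⟨c3, c4⟩, c5⟩⟩, c6⟩, c7⟩, c8⟩, c9⟩ := h2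
  obtain ⟨vr5, er5⟩ := mk_fifth hM vr
  obtain ⟨vr15, er15⟩ := mk_cube hM vr5
  have hu2 : mk uP ^ 2 = 1 := by
    have hcj : IsConj (mk zP) (mk (ZZ jU)) := (DZ.conj_all hM (DZ_ok hM) jU hjU).2
    obtain ⟨c, hc⟩ := isConj_iff.mp hcj
    rw [eU, ← hc, conj_pow, z_sq hM, mul_one, mul_inv_cancel]
  have hv2 : mk vP ^ 2 = 1 := by
    rw [← (mk_sq hM vv).2]
    exact mk_eq_one_of hM (Nat.eq_of_beq_eq_true c1)
  have hv1 : mk vP ≠ 1 := fun h => ne_of_nbeq c2 (eq_idP_of_mk hM vv h)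
  have hr15 : (mk zP * mk uP) ^ 15 = 1 := by
    have : ((mk zP * mk uP) ^ 5) ^ 3 = 1 := by
      rw [← er, ← er5, ← er15]
      exact mk_eq_one_of hM (Nat.eq_of_beq_eq_true c3)
    rw [← pow_mul] at this
    exact this
  have hr5 : (mk zP * mk uP) ^ 5 ≠ 1 := by
    rw [← er, ← er5]
    exact fun h => ne_of_nbeq c4 (eq_idP_of_mk hM vr5 h)
  have hr3 : (mk zP * mk uP) ^ 3 ≠ 1 := by
    rw [← er, ← er3]
    exact fun h => ne_of_nbeq c5 (eq_idP_of_mk hM vr3 h)
  have hw2 : (mk zP * (mk zP * mk uP) ^ 6) ^ 2 = 1 := by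
    rw [← ew, ← (mk_sq hM vw).2]
    exact mk_eq_one_of hM (Nat.eq_of_beq_eq_true c6)
  have vwv := hM.val_mul _ _ vw vv
  have hvw : (mk zP * (mk zP * mk uP) ^ 6 * mk vP) ^ 3 = 1 := by
    rw [← ew, ← hM.mk_mul _ _ vw vv, ← (mk_cube hM vwv).2]
    exact mk_eq_one_of hM (Nat.eq_of_beq_eq_true c7)
  have vuv := hM.val_mul _ _ vu vv
  have hvu : (mk uP * mk vP) ^ 5 = 1 := by
    rw [← hM.mk_mul _ _ vu vv, ← (mk_fifth hM vuv).2]
    exact mk_eq_one_of hM (Nat.eq_of_beq_eq_true c8)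
  have vzv := hM.val_mul _ _ vz vv
  have hvt : (mk zP * mk vP) ^ 2 = 1 := by
    rw [← hM.mk_mul _ _ vz vv, ← (mk_sq hM vzv).2]
    exact mk_eq_one_of hM (Nat.eq_of_beq_eq_true c9)
  -- generation
  have hgen : Subgroup.closure ({mk zP, mk uP, mk vP} : Set Γ) = ⊤ := by
    have hL : ∀ s, Val (LP s) ∧ mk (LP s) ∈
        Subgroup.closure ({mk zP, mk uP, mk vP} : Set Γ) := by
      intro s
      unfold LP
      cases Nat.beq s 0
      · cases Nat.beq s 1
        · exact ⟨vv, Subgroup.subset_closure (by simp)⟩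
        · exact ⟨vu, Subgroup.subset_closure (by simp)⟩
      · exact ⟨vz, Subgroup.subset_closure (by simp)⟩
    have hw := w_ok
    unfold wOK at hw
    rw [Bool.and_eq_true] at hw
    have h0 : mk idP ∈ Subgroup.closure ({mk zP, mk uP, mk vP} : Set Γ) := by
      rw [hM.mk_one]; exact one_mem _
    have ha := (evalW_mem hM _ hL WA idP hM.val_one h0).2
    have hb := (evalW_mem hM _ hL WB idP hM.val_one h0).2
    rw [Nat.eq_of_beq_eq_true hw.1] at ha
    rw [Nat.eq_of_beq_eq_true hw.2] at hb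
    rw [eq_top_iff, ← hT.gen, Subgroup.closure_le]
    intro g hg
    rcases hg with rfl | rfl
    · exact ha
    · exact hb
  apply Cfsg.Agent.Helper26.J3OA.card_Out_eq_two_of_data hM.center_pow (mk zP) (mk uP) (mk vP)
    (z_sq hM) hu2 hv2 (z_ne_one hM) hgen τ htz (invol_conj hM) hr5 hr3 hr15 ?_ hw2 hvt hvw hvu
    hv1 ?_ ?_
  · -- the involutions whose product with the central one has order fifteen
    intro x hx2 hx15 hx5 hx3
    have hx1 : x ≠ 1 := by
      rintro rfl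
      apply z_ne_one hM
      rw [mul_one] at hx15
      have e : mk zP ^ 15 = mk zP := by
        rw [show 15 = 2 * 7 + 1 from rfl, pow_succ, pow_mul, z_sq hM, one_pow, one_mul]
      rw [← e, hx15]
    have : Fact (Nat.Prime 2) := ⟨Nat.prime_two⟩
    obtain ⟨j, hj, rfl⟩ := class_complete hM x (invol_conj hM x (orderOf_eq_prime hx2 hx1)).symm
    have vx : Val (ZZ j) := (DZ.conj_all hM (DZ_ok hM) j hj).1
    have vs : Val (mmP zP (ZZ j)) := hM.val_mul _ _ vz vx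
    have es : mk (mmP zP (ZZ j)) = mk zP * mk (ZZ j) := hM.mk_mul _ _ vz vx
    obtain ⟨vs2, es2⟩ := mk_sq hM vs
    obtain ⟨vs3, es3⟩ := mk_cube hM vs
    have vs5 := hM.val_mul _ _ vs3 vs2
    have es5 : mk (mmP (mmP (mmP (mmP zP (ZZ j)) (mmP zP (ZZ j))) (mmP zP (ZZ j)))
        (mmP (mmP zP (ZZ j)) (mmP zP (ZZ j)))) = (mk zP * mk (ZZ j)) ^ 5 := by
      rw [hM.mk_mul _ _ vs3 vs2, es3, es2, es, ← pow_add]
    obtain ⟨vs10, es10⟩ := mk_sq hM vs5
    have vs15 := hM.val_mul _ _ vs10 vs5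
    have es15 : mk (mmP (mmP (mmP (mmP (mmP (mmP zP (ZZ j)) (mmP zP (ZZ j))) (mmP zP (ZZ j)))
        (mmP (mmP zP (ZZ j)) (mmP zP (ZZ j)))) (mmP (mmP (mmP (mmP zP (ZZ j)) (mmP zP (ZZ j)))
        (mmP zP (ZZ j))) (mmP (mmP zP (ZZ j)) (mmP zP (ZZ j)))))
        (mmP (mmP (mmP (mmP zP (ZZ j)) (mmP zP (ZZ j))) (mmP zP (ZZ j)))
        (mmP (mmP zP (ZZ j)) (mmP zP (ZZ j))))) = (mk zP * mk (ZZ j)) ^ 15 := by
      rw [hM.mk_mul _ _ vs10 vs5, es10, es5, ← pow_mul, ← pow_add]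
    have hchk := x15_all j hj
    unfold x15OK at hchk
    simp only [seqN_eq, mmPF_eq, Bool.or_eq_true, Bool.and_eq_true] at hchk
    rcases hchk with ((h | h) | h) | h
    · exfalso
      apply ne_of_nbeq h
      apply eq_idP_of_mk hM vs15
      rw [es15, hx15]
    · exfalso
      apply hx5
      rw [← es5]
      exact mk_eq_one_of hM (Nat.eq_of_beq_eq_true h)
    · exfalso
      apply hx3
      rw [← es, ← es3]
      exact mk_eq_one_of hM (Nat.eq_of_beq_eq_true h)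
    · obtain ⟨hc, he⟩ := h
      have hc' := blt_lt hc
      have vc := vK hM _ hc'
      refine ⟨mk (KK (X15C j)), K_comm hM _ hc', ?_⟩
      have he' := Nat.eq_of_beq_eq_true he
      cases hE : Nat.beq (X15E j) 0
      · right
        rw [hE] at he'
        simp only [cond_false] at he'
        have := mul_eq_of_codes hM vc vtu vx vc he'
        rw [htu, this, mul_inv_cancel_right]
      · left
        rw [hE] at he'
        simp only [cond_true] at he'
        have := mul_eq_of_codes hM vc vu vx vc he'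
        rw [this, mul_inv_cancel_right]
  · -- the third involution is determined
    intro y hy2 hy1 hty hwy huy
    have hcomm : y * mk zP = mk zP * y := by
      have hzi : (mk zP)⁻¹ = mk zP := by
        rw [inv_eq_iff_mul_eq_one, ← pow_two]; exact z_sq hM
      have hyi : y⁻¹ = y := by
        rw [inv_eq_iff_mul_eq_one, ← pow_two]; exact hy2
      rw [pow_two] at hty
      have := eq_inv_of_mul_eq_one_left hty
      rw [mul_inv_rev, hzi, hyi] at this
      exact this.symm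
    obtain ⟨k, hk, rfl⟩ := cent_spec hM y hcomm
    have vy := vK hM k hk
    have hchk := v_all k hk
    unfold vOK at hchk
    simp only [seqN_eq, mmPF_eq, cubeF_eq, fifthF_eq, Bool.or_eq_true] at hchk
    rcases hchk with (((h | h) | h) | h) | h
    · exfalso
      apply ne_of_nbeq h
      apply eq_idP_of_mk hM (mk_sq hM vy).1
      rw [(mk_sq hM vy).2, hy2]
    · exfalso
      exact hy1 (mk_eq_one_of hM (Nat.eq_of_beq_eq_true h))
    · rw [Nat.eq_of_beq_eq_true h]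
    · exfalso
      apply ne_of_nbeq h
      have vwy := hM.val_mul _ _ vw vy
      apply eq_idP_of_mk hM (mk_cube hM vwy).1
      rw [(mk_cube hM vwy).2, hM.mk_mul _ _ vw vy, ew, hwy]
    · exfalso
      apply ne_of_nbeq h
      have vuy := hM.val_mul _ _ vu vy
      apply eq_idP_of_mk hM (mk_fifth hM vuy).1
      rw [(mk_fifth hM vuy).2, hM.mk_mul _ _ vu vy, huy]
  · -- the twisted involution is not conjugate under the centralizer
    intro c hc hcu
    obtain ⟨k, hk, rfl⟩ := cent_spec hM c hc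
    have vc := vK hM k hk
    have hchk := ni_all k hk
    unfold niOK at hchk
    rw [mmPF_eq, mmPF_eq] at hchk
    apply ne_of_nbeq hchk
    apply codes_of_mul_eq hM vc vu vtu vc
    rw [← htu, ← hcu, inv_mul_cancel_right]

end

end Cfsg.Agent.Helper26.J3O
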