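import Mathlib

/-!
# A simple group acting on the cosets of a proper subgroup, as a permutation group on `Fin n`
-/

set_option autoImplicit false

namespace Cfsg.Agent.Helper26.PermRep

open MulAction

variable {Q : Type*} [Group Q]

theorem smul_mk_one_eq_iff (K : Subgroup Q) (g : Q) :
    g • (QuotientGroup.mk 1 : Q ⧸ K) = QuotientGroup.mk 1 ↔ g ∈ K := by
  rw [MulAction.Quotient.smul_mk, smul_eq_mul, mul_one, QuotientGroup.eq, mul_one, inv_mem_iff]

/-- The coset action of a simple group on the cosets of a proper subgroup is faithful. -/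
theorem toPermHom_injective [IsSimpleGroup Q] (K : Subgroup Q) (hK : K ≠ ⊤) :
    Function.Injective (MulAction.toPermHom Q (Q ⧸ K)) := by
  rw [← MonoidHom.ker_eq_bot_iff]
  rcases (MonoidHom.normal_ker (MulAction.toPermHom Q (Q ⧸ K))).eq_bot_or_eq_top with h | h
  · exact h
  · exfalso
    apply hK
    rw [eq_top_iff]
    intro g _
    have hg : g ∈ MonoidHom.ker (MulAction.toPermHom Q (Q ⧸ K)) := by rw [h]; trivial
    have h1 : MulAction.toPermHom Q (Q ⧸ K) g = 1 := hg
    have h2 : g • (QuotientGroup.mk 1 : Q ⧸ K) = QuotientGroup.mk 1 := by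
      have := congrArg (fun σ => σ (QuotientGroup.mk 1 : Q ⧸ K)) h1
      simpa using this
    exact (smul_mk_one_eq_iff K g).mp h2

/-- A simple group with a proper subgroup of index `n` is isomorphic to a transitive subgroup of
the symmetric group on `n` points, with point stabilizer of the order of the subgroup. -/
theorem exists_perm_rep [IsSimpleGroup Q] (K : Subgroup Q) (hK : K ≠ ⊤) (n : ℕ) [NeZero n]
    (hidx : K.index = n) :
    ∃ H : Subgroup (Equiv.Perm (Fin n)), Nonempty (Q ≃* H) ∧
      MulAction.IsPretransitive H (Fin n) ∧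
      Nat.card (MulAction.stabilizer H (0 : Fin n)) = Nat.card K := by
  classical
  have hcard : Nat.card (Q ⧸ K) = n := hidx
  have : Finite (Q ⧸ K) := Nat.finite_of_card_ne_zero (by rw [hcard]; exact NeZero.ne n)
  let e0 : Q ⧸ K ≃ Fin n := Finite.equivFinOfCardEq hcard
  let e : Q ⧸ K ≃ Fin n := e0.trans (Equiv.swap (e0 (QuotientGroup.mk 1)) 0)
  have he : e (QuotientGroup.mk 1) = 0 := by
    show Equiv.swap (e0 (QuotientGroup.mk 1)) 0 (e0 (QuotientGroup.mk 1)) = 0
    exact Equiv.swap_apply_left _ _
  let φ : Q →* Equiv.Perm (Fin n) :=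
    (e.permCongrHom.toMonoidHom).comp (MulAction.toPermHom Q (Q ⧸ K))
  have hφ : ∀ (g : Q) (x : Fin n), φ g x = e (g • e.symm x) := fun g x => rfl
  have hinj : Function.Injective φ := by
    intro g h hgh
    apply toPermHom_injective K hK
    exact e.permCongrHom.injective hgh
  let iso : Q ≃* φ.range := MonoidHom.ofInjective hinj
  refine ⟨φ.range, ⟨iso⟩, ⟨?_⟩, ?_⟩
  · intro x y
    obtain ⟨g, hg⟩ := MulAction.exists_smul_eq Q (e.symm x) (e.symm y)
    refine ⟨⟨φ g, g, rfl⟩, ?_⟩
    show φ g x = y
    rw [hφ, hg, Equiv.apply_symm_apply]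
  · have hst : MulAction.stabilizer φ.range (0 : Fin n) = K.map iso.toMonoidHom := by
      ext h
      obtain ⟨g, hg⟩ := iso.surjective h
      rw [MulAction.mem_stabilizer_iff, Subgroup.mem_map]
      have h0 : h • (0 : Fin n) = e (g • (QuotientGroup.mk 1 : Q ⧸ K)) := by
        rw [← hg]
        show φ g 0 = _
        rw [hφ, ← he, Equiv.symm_apply_apply]
      rw [h0]
      constructor
      · intro h1
        rw [← he] at h1
        have h2 := e.injective h1
        exact ⟨g, (smul_mk_one_eq_iff K g).mp h2, hg⟩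
      · rintro ⟨g', hg', hgg⟩
        have : g' = g := iso.injective (hgg.trans hg.symm)
        rw [← this, (smul_mk_one_eq_iff K g').mpr hg', he]
    rw [hst]
    exact Nat.card_congr (K.equivMapOfInjective iso.toMonoidHom iso.injective).toEquiv.symm

end Cfsg.Agent.Helper26.PermRep
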