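import Mathlib
import Cfsg.Agent.Lib.Helper26.J3CoreL
import Cfsg.Agent.Lib.Helper26.PermRep

/-!
# `J₃` as a transitive permutation group of degree 6156
-/

set_option autoImplicit false

namespace Cfsg.Agent.Helper26.J3G

open Matrix
open Cfsg.Agent.Helper26 Cfsg.Agent.Helper26.F4M Cfsg.Agent.Helper26.J3D
  Cfsg.Agent.Helper26.J3C Cfsg.Agent.Helper26.J3K

namespace Setup

variable {F : Type*} [Field F] {A : Type*} [Group A] [Finite A] (S : Setup F A)

/-- The subgroup of order 24480 inside `⟨a, b⟩`. -/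
def L' : Subgroup S.G := S.L.subgroupOf S.G

theorem card_L' : Nat.card S.L' = 24480 := by
  rw [← S.card_L]
  exact Nat.card_congr (Subgroup.subgroupOfEquivOfLe S.L_le).toEquiv

theorem center_le_L' : Subgroup.center S.G ≤ S.L' := by
  rw [S.center_eq, Subgroup.zpowers_le]
  show (S.zeta' : A) ∈ S.L
  exact S.zeta_mem_L

theorem index_L' : S.L'.index = 6156 := by
  have h := S.L'.card_mul_index
  rw [S.card_L', S.card_G'] at h
  omega

/-- The image in the central quotient. -/
def Lbar : Subgroup (S.G ⧸ Subgroup.center S.G) :=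
  S.L'.map (QuotientGroup.mk' (Subgroup.center S.G))

theorem index_Lbar : S.Lbar.index = 6156 := by
  unfold Lbar
  rw [Subgroup.index_map_eq S.L' (QuotientGroup.mk'_surjective _)
    (by rw [QuotientGroup.ker_mk']; exact S.center_le_L'), S.index_L']

theorem card_Lbar : Nat.card S.Lbar = 8160 := by
  have h := S.Lbar.card_mul_index
  rw [S.index_Lbar, S.card_quot] at h
  omega

theorem Lbar_ne_top : S.Lbar ≠ ⊤ := by
  intro h
  have := S.index_Lbar
  rw [h, Subgroup.index_top] at this
  omega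

include S in
/-- `J₃` on 6156 points. -/
theorem perm_rep : ∃ H : Subgroup (Equiv.Perm (Fin 6156)),
    (IsSimpleGroup H ∧ Nat.card H = 50232960) ∧ MulAction.IsPretransitive H (Fin 6156) ∧
      Nat.card (MulAction.stabilizer H (0 : Fin 6156)) = 8160 := by
  have := S.simple_quot
  obtain ⟨H, ⟨e⟩, h1, h2⟩ := PermRep.exists_perm_rep S.Lbar S.Lbar_ne_top 6156 S.index_Lbar
  refine ⟨H, ⟨e.symm.isSimpleGroup, ?_⟩, h1, ?_⟩
  · rw [← Nat.card_congr e.toEquiv, S.card_quot]
  · rw [h2, S.card_Lbar]

end Setup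

end Cfsg.Agent.Helper26.J3G
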