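import Mathlib
import Cfsg.Prelude.Def_Classical
import Cfsg.Agent.Lib.Helper26.F4
import Cfsg.Agent.Lib.Helper26.J3Core4
import Cfsg.Agent.Lib.Helper26.J3DataX

/-!
# `3.J₃` inside `SU₉(2)`
-/

set_option autoImplicit false

namespace Cfsg.Agent.Helper26.J3SU

open Matrix
open Cfsg.Agent.Helper26 Cfsg.Agent.Helper26.F4M Cfsg.Agent.Helper26.J3D
  Cfsg.Agent.Helper26.J3C Cfsg.Agent.Helper26.J3K Cfsg.Agent.Helper26.J3G

/-! ### Unitary matrices in characteristic two -/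

section Unitary

variable {F : Type*} [Field F] {n : ℕ}

theorem sum_sq_char_two (h2 : (2 : F) = 0) {ι : Type*} (s : Finset ι) (f : ι → F) :
    (∑ i ∈ s, f i) ^ 2 = ∑ i ∈ s, f i ^ 2 := by
  classical
  induction s using Finset.induction_on with
  | empty => simp
  | insert a s ha ih =>
    rw [Finset.sum_insert ha, Finset.sum_insert ha, add_sq, ih]
    linear_combination (f a * ∑ i ∈ s, f i) * h2

/-- If `N = (M̄)ᵀ` (entrywise squares, transposed) and `N * M = 1`, then `M` preserves the form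
`∑ uᵢ vᵢ²`. -/
theorem preserves_of_conjTranspose (h2 : (2 : F) = 0) (M N : Matrix (Fin n) (Fin n) F)
    (hN : ∀ r c, N r c = (M c r) ^ 2) (hNM : N * M = 1) (u v : Fin n → F) :
    ∑ i, (M *ᵥ u) i * ((M *ᵥ v) i) ^ 2 = ∑ i, u i * (v i) ^ 2 := by
  have h1 : (fun i => ((M *ᵥ v) i) ^ 2) = (fun k => (v k) ^ 2) ᵥ* N := by
    funext i
    show (∑ k, M i k * v k) ^ 2 = ∑ k, (v k) ^ 2 * N k i
    rw [sum_sq_char_two h2]
    apply Finset.sum_congr rfl
    intro k _
    rw [hN, mul_pow, mul_comm]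
  have h3 : ∑ i, (M *ᵥ u) i * ((M *ᵥ v) i) ^ 2 =
      (fun i => ((M *ᵥ v) i) ^ 2) ⬝ᵥ (M *ᵥ u) := by
    show _ = ∑ i, ((M *ᵥ v) i) ^ 2 * (M *ᵥ u) i
    apply Finset.sum_congr rfl
    intro i _
    rw [mul_comm]
  rw [h3, h1, ← Matrix.dotProduct_mulVec, Matrix.mulVec_mulVec, hNM, Matrix.one_mulVec]
  show ∑ i, (v i) ^ 2 * u i = _
  apply Finset.sum_congr rfl
  intro i _
  rw [mul_comm]

end Unitary

/-! ### The conjugate transposes of the generators -/

theorem ct_bits0 : ∀ r c : Fin 9,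
    ctP0.testBit (18 * r.val + 2 * c.val) =
      (gP0.testBit (18 * c.val + 2 * r.val) ^^ gP0.testBit (18 * c.val + 2 * r.val + 1)) ∧
    ctP0.testBit (18 * r.val + 2 * c.val + 1) = gP0.testBit (18 * c.val + 2 * r.val + 1) := by
  decide +kernel

theorem ct_bits1 : ∀ r c : Fin 9,
    ctP1.testBit (18 * r.val + 2 * c.val) =
      (gP1.testBit (18 * c.val + 2 * r.val) ^^ gP1.testBit (18 * c.val + 2 * r.val + 1)) ∧
    ctP1.testBit (18 * r.val + 2 * c.val + 1) = gP1.testBit (18 * c.val + 2 * r.val + 1) := by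
  decide +kernel

theorem ct_mul0 : mmP ctP0 gP0 = idP := by decide +kernel
theorem ct_mul1 : mmP ctP1 gP1 = idP := by decide +kernel

section

variable {F : Type*} [Field F]

theorem b2f_sq (x : Bool) : (b2f x : F) ^ 2 = b2f x := by
  cases x <;> simp [b2f]

theorem decM_ct (h2 : (2 : F) = 0) (ω : F) (hω : ω ^ 2 + ω + 1 = 0) (P Q : ℕ)
    (hbits : ∀ r c : Fin 9,
      Q.testBit (18 * r.val + 2 * c.val) =
        (P.testBit (18 * c.val + 2 * r.val) ^^ P.testBit (18 * c.val + 2 * r.val + 1)) ∧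
      Q.testBit (18 * r.val + 2 * c.val + 1) = P.testBit (18 * c.val + 2 * r.val + 1))
    (r c : Fin 9) : decM ω Q r c = (decM ω P c r) ^ 2 := by
  show b2f (Q.testBit (18 * r.val + 2 * c.val)) +
      b2f (Q.testBit (18 * r.val + 2 * c.val + 1)) * ω =
    (b2f (P.testBit (18 * c.val + 2 * r.val)) +
      b2f (P.testBit (18 * c.val + 2 * r.val + 1)) * ω) ^ 2
  rw [(hbits r c).1, (hbits r c).2, b2f_xor h2, add_sq, mul_pow, b2f_sq, b2f_sq]
  linear_combination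
    (b2f (P.testBit (18 * c.val + 2 * r.val + 1)) : F) * hω -
    (b2f (P.testBit (18 * c.val + 2 * r.val + 1)) * ω ^ 2 +
      b2f (P.testBit (18 * c.val + 2 * r.val)) * b2f (P.testBit (18 * c.val + 2 * r.val + 1)) * ω)
      * h2

end

/-! ### The setup in `SU₉(2)` over the computable field with four elements -/

theorem two_eq_zero_F4 : (2 : F4) = 0 := by decide

theorem cube_F4 : ∀ x : F4, x ≠ 0 → x ^ 3 = 1 := by decide

/-- The matrix of the first generator. -/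
def Ma : M9 F4 := decM F4.w gP0
/-- The matrix of the second generator. -/
def Mb : M9 F4 := decM F4.w gP1

theorem Mb_pow : Mb ^ 17 = 1 := by
  unfold Mb
  rw [← decM_powP two_eq_zero_F4 F4.w F4.w_root, powB, decM_idP]

theorem Mab_pow : (Ma * Mb) ^ 19 = 1 := by
  have h : Ma * Mb = decM F4.w abP := by
    unfold Ma Mb abP
    rw [decM_mmP two_eq_zero_F4 F4.w F4.w_root]
  rw [h, ← decM_powP two_eq_zero_F4 F4.w F4.w_root, powAB, decM_idP]

theorem det_eq_one_of_pow (d : F4) (n : ℕ) (hn : d ^ n = 1) (hn0 : n ≠ 0)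
    (hcop : Nat.Coprime 3 n) : d = 1 := by
  have hne : d ≠ 0 := by
    intro h
    rw [h, zero_pow hn0] at hn
    exact zero_ne_one hn
  have h3 := cube_F4 d hne
  have hd : orderOf d ∣ Nat.gcd 3 n :=
    Nat.dvd_gcd (orderOf_dvd_of_pow_eq_one h3) (orderOf_dvd_of_pow_eq_one hn)
  rw [hcop.gcd_eq_one, Nat.dvd_one] at hd
  exact orderOf_eq_one_iff.1 hd

theorem det_Mb : Mb.det = 1 := by
  apply det_eq_one_of_pow _ 17 _ (by norm_num) (by norm_num)
  rw [← Matrix.det_pow, Mb_pow, Matrix.det_one]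

theorem det_Ma : Ma.det = 1 := by
  have h : (Ma * Mb).det = 1 := by
    apply det_eq_one_of_pow _ 19 _ (by norm_num) (by norm_num)
    rw [← Matrix.det_pow, Mab_pow, Matrix.det_one]
  rw [Matrix.det_mul, det_Mb, mul_one] at h
  exact h

/-- The first generator in `SL₉(4)`. -/
def aSL : Matrix.SpecialLinearGroup (Fin 9) F4 := ⟨Ma, det_Ma⟩
/-- The second generator in `SL₉(4)`. -/
def bSL : Matrix.SpecialLinearGroup (Fin 9) F4 := ⟨Mb, det_Mb⟩

theorem aSL_mem : aSL ∈ Cfsg.SU 9 F4 2 := by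
  intro u v
  show ∑ i, (Ma *ᵥ u) i * ((Ma *ᵥ v) i) ^ 2 = ∑ i, u i * (v i) ^ 2
  apply preserves_of_conjTranspose two_eq_zero_F4 Ma (decM F4.w ctP0)
  · exact decM_ct two_eq_zero_F4 F4.w F4.w_root gP0 ctP0 ct_bits0
  · unfold Ma
    rw [← decM_mmP two_eq_zero_F4 F4.w F4.w_root, ct_mul0, decM_idP]

theorem bSL_mem : bSL ∈ Cfsg.SU 9 F4 2 := by
  intro u v
  show ∑ i, (Mb *ᵥ u) i * ((Mb *ᵥ v) i) ^ 2 = ∑ i, u i * (v i) ^ 2
  apply preserves_of_conjTranspose two_eq_zero_F4 Mb (decM F4.w ctP1)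
  · exact decM_ct two_eq_zero_F4 F4.w F4.w_root gP1 ctP1 ct_bits1
  · unfold Mb
    rw [← decM_mmP two_eq_zero_F4 F4.w F4.w_root, ct_mul1, decM_idP]

/-- The setup in `SU₉(2)`. -/
def setupSU : Setup F4 ↥(Cfsg.SU 9 F4 2) where
  ω := F4.w
  h2 := two_eq_zero_F4
  hω := F4.w_root
  val := (Cfsg.slToMat 9 F4).comp (Cfsg.SU 9 F4 2).subtype
  inj := by
    intro g h hgh
    apply Subtype.ext
    apply Subtype.ext
    exact hgh
  a := ⟨aSL, aSL_mem⟩
  b := ⟨bSL, bSL_mem⟩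
  ha := rfl
  hb := rfl

instance : Finite ↥(Cfsg.SU 9 F4 2) := inferInstance

/-- **`3.J₃` in `SU₉(2)`.** -/
theorem main : ∃ H : Subgroup (Cfsg.SU 9 F4 2), Nat.card (Subgroup.center H) = 3 ∧
    IsSimpleGroup (H ⧸ Subgroup.center H) ∧ Nat.card (H ⧸ Subgroup.center H) = 50232960 :=
  ⟨setupSU.G, setupSU.card_center, setupSU.simple_quot, setupSU.card_quot⟩

end Cfsg.Agent.Helper26.J3SU
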