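import Mathlib
import Cfsg.Prelude.Def_Spor_J3
import Cfsg.Agent.Lib.Helper26.F4
import Cfsg.Agent.Lib.Helper26.J3Core4
import Cfsg.Agent.Lib.Helper26.J3DataG
import Cfsg.Agent.Lib.Helper26.J3ChkG

/-!
# The group `threeJ3 F ω` of the Prelude is the group of the certified computation
-/

set_option autoImplicit false

namespace Cfsg.Agent.Helper26.J3TU

open Matrix
open Cfsg.Agent.Helper26 Cfsg.Agent.Helper26.F4M Cfsg.Agent.Helper26.J3D
  Cfsg.Agent.Helper26.J3C Cfsg.Agent.Helper26.J3K Cfsg.Agent.Helper26.J3G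
open Cfsg.Spor

/-- The ordering of the index set. -/
def e9 : F9 ≃ Fin 9 := (finProdFinEquiv : Fin 3 × Fin 3 ≃ Fin 9)

section

variable {F : Type*} [Field F]

/-- Reindexing as a monoid homomorphism. -/
def rxHom : Matrix F9 F9 F →* M9 F where
  toFun M := M.submatrix e9.symm e9.symm
  map_one' := Matrix.submatrix_one_equiv e9.symm
  map_mul' M N := (Matrix.submatrix_mul_equiv M N e9.symm e9.symm e9.symm).symm

theorem rxHom_apply (M : Matrix F9 F9 F) (r c : Fin 9) :
    rxHom M r c = M (e9.symm r) (e9.symm c) := rfl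

theorem rxHom_injective : Function.Injective (rxHom : Matrix F9 F9 F →* M9 F) := by
  intro M N h
  ext r c
  have := congrFun (congrFun h (e9 r)) (e9 c)
  simpa [rxHom_apply] using this

theorem rxHom_map {K : Type*} [Field K] (φ : K →+* F) (M : Matrix F9 F9 K) :
    rxHom (M.map φ) = (rxHom M).map φ := rfl

theorem decM_map {K : Type*} [Field K] (φ : K →+* F) (w : K) (P : ℕ) :
    (decM w P).map φ = decM (φ w) P := by
  ext r c
  simp only [Matrix.map_apply, decM, map_add, map_mul, b2f]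
  split_ifs <;> simp

/-! ### Naturality of the generators -/

theorem omegaPow_map {K : Type*} [Field K] (φ : K →+* F) (w : K) (n : ZMod 3) :
    φ (omegaPow K w n) = omegaPow F (φ w) n := by
  simp [omegaPow]

theorem j3A_map {K : Type*} [Field K] (φ : K →+* F) (w : K) (Z : F9) :
    (j3A K w Z).map φ = j3A F (φ w) Z := by
  unfold j3A
  rw [Matrix.diagonal_map (map_zero φ)]
  congr 1
  funext z
  exact omegaPow_map φ w _

theorem j3E_map {K : Type*} [Field K] (φ : K →+* F) (w : K) (Z : F9) :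
    (j3E K w Z).map φ = j3E F (φ w) Z := by
  unfold j3E
  rw [Matrix.diagonal_map (map_zero φ)]
  congr 1
  funext z
  exact omegaPow_map φ w _

theorem j3Lam_map {K : Type*} [Field K] (φ : K →+* F) (w : K) (Z z : F9) :
    φ (j3Lam K w Z z) = j3Lam F (φ w) Z z := by
  unfold j3Lam
  split_ifs <;> simp

theorem j3D_map {K : Type*} [Field K] (φ : K →+* F) (w : K) (Z : F9) :
    (j3D K w Z).map φ = j3D F (φ w) Z := by
  ext r c
  simp only [Matrix.map_apply, j3D, Matrix.of_apply]
  split_ifs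
  · exact j3Lam_map φ w Z c
  · exact map_zero φ

theorem j3B_map {K : Type*} [Field K] (φ : K →+* F) (Z : F9) :
    (j3B K Z).map φ = j3B F Z := by
  ext r c
  simp only [Matrix.map_apply, j3B, Matrix.of_apply]
  split_ifs <;> simp

theorem j3C_map {K : Type*} [Field K] (φ : K →+* F) (Z : F9) :
    (j3C K Z).map φ = j3C F Z := by
  ext r c
  simp only [Matrix.map_apply, j3C, Matrix.of_apply]
  split_ifs <;> simp

end

/-! ### The generators over the computable field -/

theorem gA_F4 : ∀ Z : F9, rxHom (j3A F4 F4.w Z) = decM F4.w (GPA (e9 Z).val) := by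
  decide +kernel

theorem gE_F4 : ∀ Z : F9, rxHom (j3E F4 F4.w Z) = decM F4.w (GPE (e9 Z).val) := by
  decide +kernel

theorem gD_F4 : ∀ Z : F9, rxHom (j3D F4 F4.w Z) = decM F4.w (GPD (e9 Z).val) := by
  decide +kernel

theorem gB_F4 : ∀ Z : F9, Z ≠ 0 → rxHom (j3B F4 Z) = decM F4.w (GPB (e9 Z).val) := by
  decide +kernel

theorem gC_F4 : ∀ Z : F9, Z ≠ 0 → rxHom (j3C F4 Z) = decM F4.w (GPC (e9 Z).val) := by
  decide +kernel

/-! ### The generators over any field with four elements -/

section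

variable {F : Type*} [Field F] [Fintype F] (hF : Fintype.card F = 4) (ω : F)
  (hω : ω ^ 2 + ω + 1 = 0)

/-- The comparison homomorphism. -/
def phi : F4 →+* F := F4.toFHom (F4.two_eq_zero_of_card hF) ω hω

theorem phi_w : phi hF ω hω F4.w = ω := by
  show F4.toF ω F4.w = ω
  simp [F4.toF, F4.w]

include hF hω

theorem gA (Z : F9) : rxHom (j3A F ω Z) = decM ω (GPA (e9 Z).val) := by
  have h := congrArg (fun M => M.map (phi hF ω hω)) (gA_F4 Z)
  rw [← rxHom_map, j3A_map, decM_map, phi_w] at h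
  exact h

theorem gE (Z : F9) : rxHom (j3E F ω Z) = decM ω (GPE (e9 Z).val) := by
  have h := congrArg (fun M => M.map (phi hF ω hω)) (gE_F4 Z)
  rw [← rxHom_map, j3E_map, decM_map, phi_w] at h
  exact h

theorem gD (Z : F9) : rxHom (j3D F ω Z) = decM ω (GPD (e9 Z).val) := by
  have h := congrArg (fun M => M.map (phi hF ω hω)) (gD_F4 Z)
  rw [← rxHom_map, j3D_map, decM_map, phi_w] at h
  exact h

theorem gB (Z : F9) (hZ : Z ≠ 0) : rxHom (j3B F Z) = decM ω (GPB (e9 Z).val) := by
  have h := congrArg (fun M => M.map (phi hF ω hω)) (gB_F4 Z hZ)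
  rw [← rxHom_map, j3B_map, decM_map, phi_w] at h
  exact h

theorem gC (Z : F9) (hZ : Z ≠ 0) : rxHom (j3C F Z) = decM ω (GPC (e9 Z).val) := by
  have h := congrArg (fun M => M.map (phi hF ω hω)) (gC_F4 Z hZ)
  rw [← rxHom_map, j3C_map, decM_map, phi_w] at h
  exact h

end

/-! ### The general linear group as ambient group -/

section

variable {F : Type*} [Field F]

/-- The matrix of an element of the general linear group. -/
def valGL : GL F9 F →* M9 F := rxHom.comp (Units.coeHom (Matrix F9 F9 F))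

theorem valGL_apply (g : GL F9 F) : valGL g = rxHom (g : Matrix F9 F9 F) := rfl

theorem valGL_injective : Function.Injective (valGL : GL F9 F →* M9 F) := by
  intro g h e
  exact Units.ext (rxHom_injective e)

theorem e9_00 : (e9 ((0, 0) : F9)).val = 0 := by decide
theorem e9_01 : (e9 ((0, 1) : F9)).val = 1 := by decide
theorem e9_11 : (e9 ((1, 1) : F9)).val = 4 := by decide
theorem e9_lt (Z : F9) : (e9 Z).val < 9 := (e9 Z).isLt
theorem e9_pos : ∀ Z : F9, Z ≠ 0 → 1 ≤ (e9 Z).val := by decide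

variable [Fintype F] (hF : Fintype.card F = 4) (ω : F) (hω : ω ^ 2 + ω + 1 = 0)

include hF hω

theorem powE : j3E F ω (0, 0) ^ 3 = 1 := by
  apply rxHom_injective
  rw [map_pow, gE hF ω hω, map_one, ← decM_powP (F4.two_eq_zero_of_card hF) ω hω, e9_00, gE0,
    powA, decM_idP]

theorem powC1 : j3C F (0, 1) ^ 2 = 1 := by
  apply rxHom_injective
  rw [map_pow, gC hF ω hω _ (by decide), map_one,
    ← decM_powP (F4.two_eq_zero_of_card hF) ω hω, e9_01, powC, decM_idP]

theorem powD4 : j3D F ω (1, 1) ^ 9 = 1 := by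
  apply rxHom_injective
  rw [map_pow, gD hF ω hω, map_one, ← decM_powP (F4.two_eq_zero_of_card hF) ω hω, e9_11,
    powD, decM_idP]

/-- The first generator as an invertible matrix. -/
def aU : GL F9 F := Units.ofPowEqOne (j3E F ω (0, 0)) 3 (powE hF ω hω) (by norm_num)
/-- `C_i` as an invertible matrix. -/
def cU : GL F9 F := Units.ofPowEqOne (j3C F (0, 1)) 2 (powC1 hF ω hω) (by norm_num)
/-- `D_(1+i)` as an invertible matrix. -/
def dU : GL F9 F := Units.ofPowEqOne (j3D F ω (1, 1)) 9 (powD4 hF ω hω) (by norm_num)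

theorem aU_val : ((aU hF ω hω : GL F9 F) : Matrix F9 F9 F) = j3E F ω (0, 0) := rfl
theorem cU_val : ((cU hF ω hω : GL F9 F) : Matrix F9 F9 F) = j3C F (0, 1) := rfl
theorem dU_val : ((dU hF ω hω : GL F9 F) : Matrix F9 F9 F) = j3D F ω (1, 1) := rfl

/-- The setup inside the general linear group. -/
def setupGL : Setup F (GL F9 F) where
  ω := ω
  h2 := F4.two_eq_zero_of_card hF
  hω := hω
  val := valGL
  inj := valGL_injective
  a := aU hF ω hω
  b := cU hF ω hω * dU hF ω hω
  ha := by
    rw [valGL_apply, aU_val, gE hF ω hω, e9_00, gE0]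
  hb := by
    rw [map_mul, valGL_apply, valGL_apply, cU_val, dU_val, gC hF ω hω _ (by decide),
      gD hF ω hω, ← decM_mmP (F4.two_eq_zero_of_card hF) ω hω, e9_01, e9_11, gCD]

end

/-! ### Membership from a decomposition -/

theorem genOK_spec {P I K : ℕ → ℕ} {z : ℕ} (h : genOK P I K z = true) :
    P z = mmP (TT (I z)) (UU (K z)) ∧ I z < nPts ∧ K z < nH := by
  unfold genOK at h
  rw [Bool.and_eq_true, Bool.and_eq_true] at h
  exact ⟨Nat.eq_of_beq_eq_true h.1.1, blt_lt h.1.2, blt_lt h.2⟩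

section

variable {F : Type*} [Field F] {A : Type*} [Group A] [Finite A] (S : Setup F A)

theorem mem_of_dec (g : A) (i k : ℕ) (hi : i < nPts) (hk : k < nH)
    (h : S.val g = decM S.ω (mmP (TT i) (UU k))) : g ∈ S.G := by
  have e : g = S.E i * S.U k := by
    apply S.inj
    rw [h, map_mul, S.E_val i (lt_trans hi (by decide)), S.U_val k hk]
    exact S.dec_mul _ _
  rw [e]
  exact Subgroup.mul_mem _ (S.E_mem i) (S.H_le (S.U_mem k))

theorem mem_of_genOK (g : A) {P I K : ℕ → ℕ} {z : ℕ} (h : genOK P I K z = true)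
    (hg : S.val g = decM S.ω (P z)) : g ∈ S.G := by
  obtain ⟨h1, h2, h3⟩ := genOK_spec h
  rw [h1] at hg
  exact mem_of_dec S g _ _ h2 h3 hg

end

section

variable {F : Type*} [Field F] [Fintype F] (hF : Fintype.card F = 4) (ω : F)
  (hω : ω ^ 2 + ω + 1 = 0)

theorem threeJ3_eq : threeJ3 F ω = (setupGL hF ω hω).G := by
  apply le_antisymm
  · unfold threeJ3
    rw [Subgroup.closure_le]
    intro g hg
    have hg' : (g : Matrix F9 F9 F) ∈ j3Gens F ω := hg
    unfold j3Gens at hg'
    rcases hg' with (((⟨Z, hZ⟩ | ⟨Z, hZ⟩) | ⟨Z, hZ⟩) | ⟨Z, hZ0, hZ⟩) | ⟨Z, hZ0, hZ⟩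
    · refine mem_of_genOK (setupGL hF ω hω) g (allB_true genA_all _ (e9_lt Z)) ?_
      show rxHom (g : Matrix F9 F9 F) = _
      rw [← hZ]; exact gA hF ω hω Z
    · refine mem_of_genOK (setupGL hF ω hω) g (allB_true genE_all _ (e9_lt Z)) ?_
      show rxHom (g : Matrix F9 F9 F) = _
      rw [← hZ]; exact gE hF ω hω Z
    · refine mem_of_genOK (setupGL hF ω hω) g (allB_true genD_all _ (e9_lt Z)) ?_
      show rxHom (g : Matrix F9 F9 F) = _
      rw [← hZ]; exact gD hF ω hω Z
    · refine mem_of_genOK (setupGL hF ω hω) g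
        (allR_true genB_all _ (e9_pos Z hZ0) (by have := e9_lt Z; omega)) ?_
      show rxHom (g : Matrix F9 F9 F) = _
      rw [hZ]; exact gB hF ω hω Z hZ0
    · refine mem_of_genOK (setupGL hF ω hω) g
        (allR_true genC_all _ (e9_pos Z hZ0) (by have := e9_lt Z; omega)) ?_
      show rxHom (g : Matrix F9 F9 F) = _
      rw [hZ]; exact gC hF ω hω Z hZ0
  · unfold Setup.G Setup.SG
    rw [Subgroup.closure_le]
    intro g hg
    rcases hg with rfl | rfl
    · apply Subgroup.subset_closure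
      show ((aU hF ω hω : GL F9 F) : Matrix F9 F9 F) ∈ j3Gens F ω
      rw [aU_val]
      exact Or.inl (Or.inl (Or.inl (Or.inr ⟨_, rfl⟩)))
    · apply Subgroup.mul_mem
      · apply Subgroup.subset_closure
        show ((cU hF ω hω : GL F9 F) : Matrix F9 F9 F) ∈ j3Gens F ω
        rw [cU_val]
        exact Or.inr ⟨_, by decide, rfl⟩
      · apply Subgroup.subset_closure
        show ((dU hF ω hω : GL F9 F) : Matrix F9 F9 F) ∈ j3Gens F ω
        rw [dU_val]
        exact Or.inl (Or.inl (Or.inr ⟨_, rfl⟩))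

end

end Cfsg.Agent.Helper26.J3TU
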