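import Mathlib
import Cfsg.Prelude.Def_JComponents
import Cfsg.Agent.Lib.Helper27.KUASM
import Cfsg.Agent.Lib.Helper27.KVDefs
import Cfsg.Agent.Lib.Helper15.KVBAS
import Cfsg.Agent.Lib.Helper19.KVSYL
import Cfsg.Agent.Lib.Helper1.KVACT
import Cfsg.Agent.Lib.Helper6.KVLEMA

/-!
# KS12c / S2951' (helper27's farm-out), PIECE COREA (helper26): the case `T < S`.
Paper proof: `plans/KS12c_notes.md`, S2951', CASE `T < S`.
-/

set_option autoImplicit false
set_option linter.unusedVariables false
set_option linter.unusedSectionVars false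
set_option linter.style.haveILetI false

namespace Cfsg.Agent.Helper27.KV

open Cfsg Cfsg.Agent.Helper13.JCFF Cfsg.Agent.Helper27.KU

universe u

variable {G : Type u} [Group G] [Finite G]

theorem corea_mem_normalizer_of_map_eq {H : Subgroup G} {g : G}
    (h : H.map (MulAut.conj g).toMonoidHom = H) : g ∈ Subgroup.normalizer (H : Set G) := by
  rw [Subgroup.mem_normalizer_iff]
  intro x
  constructor
  · intro hx
    have : (MulAut.conj g).toMonoidHom x ∈ H.map (MulAut.conj g).toMonoidHom :=
      Subgroup.mem_map_of_mem _ hx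
    rw [h] at this
    simpa using this
  · intro hx
    rw [← h] at hx
    obtain ⟨y, hy, hyx⟩ := Subgroup.mem_map.1 hx
    have : y = x := by
      have h1 : g * y * g⁻¹ = g * x * g⁻¹ := by simpa using hyx
      have h2 := congrArg (fun t => g⁻¹ * t * g) h1
      simpa [mul_assoc] using h2
    rw [← this]
    exact hy

/-- an element commuting with `d` normalizes `⟨d⟩` -/
theorem corea_mem_normalizer_zpowers {c d : G} (h : c * d = d * c) :
    c ∈ Subgroup.normalizer ((Subgroup.zpowers d : Subgroup G) : Set G) := by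
  have hcomm : ∀ x ∈ Subgroup.zpowers d, c * x * c⁻¹ = x := by
    intro x hx
    obtain ⟨k, rfl⟩ := Subgroup.mem_zpowers_iff.1 hx
    have : Commute c (d ^ k) := (show Commute c d from h).zpow_right k
    rw [this.eq, mul_inv_cancel_right]
  rw [Subgroup.mem_normalizer_iff]
  intro x
  constructor
  · intro hx
    rw [hcomm x hx]
    exact hx
  · intro hx
    have h1 := hcomm _ hx
    -- `c * (c x c⁻¹) * c⁻¹ = c x c⁻¹`, so `c x c⁻¹ = x`
    have h2 : c * x * c⁻¹ = x := by
      have h3 := congrArg (fun t => c⁻¹ * t * c) h1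
      simpa [mul_assoc] using h3
    rw [← h2]
    exact hx

section ctx

open Cfsg.Agent.Helper7.JC48 Cfsg.Agent.Helper15

variable (hL : IsCharacteristicTwoType G)
  (hN : ∀ N : Subgroup G, IsTwoLocal N → Group.IsSolvable ↥N)
  (hZ : ∀ S : Sylow 2 G, Subgroup.centralizer (omegaCenterOf (S : Subgroup G) : Set G) ≤
      Subgroup.normalizer ((S : Subgroup G) : Set G))
  (S : Sylow 2 G) {M : Subgroup G}
  (hMJ : Subgroup.normalizer (thompsonSubgroupOf 2 (S : Subgroup G) : Set G) ≤ M)
  {T : Subgroup G} (hT : T ∈ maxStraddlingTwoSubgroups M)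

include hL hN hZ hMJ hT

/-- COREA.  See `plans/KS12c_notes.md`, S2951', CASE `T < S`. -/
theorem s2951_not_sylow (hTS : T ≤ (S : Subgroup G)) (hne : T ≠ (S : Subgroup G))
    {K : Subgroup G} (hK : K ∈ jComponentsOutside M T) {L : Subgroup G}
    (hLmax : IsMaximalTwoLocal L) (hKL : K ⊔ thompsonSubgroupOf 2 T ≤ L) :
    (omegaCenterOf (S : Subgroup G) = Z0 T ∧ Nat.card ↥(Z0 T) = 2) ∨
      (omegaCenterOf T = Z0 T ∧ Nat.card ↥(Z0 T) = 4 ∧
        (L ⊓ Subgroup.centralizer (Z0 T : Set G)).relIndex (Subgroup.normalizer (Z0 T : Set G)) = 2) := by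
  classical
  have hT2 : IsPGroup 2 ↥T := hT.1.1
  have hT1 : T ≠ ⊥ := hT.1.2.1
  have hKc : IsJComponent T K := hK.1.1
  have hKM : ¬ K ≤ M := hK.2.1
  have hKL' : K ≤ L := le_sup_left.trans hKL
  have hJL : thompsonSubgroupOf 2 T ≤ L := le_sup_right.trans hKL
  -- `T` is a Sylow 2-subgroup of `L`
  obtain ⟨L0, hL0, hle0, huniq, -, hSyl0⟩ := main_S2950 hL hN hZ S hMJ hT hKc hKM hK.2.2
  have hLL0 : L = L0 := huniq L hLmax hKL
  have hTL : IsSylowTwoIn T L := hLL0 ▸ hSyl0
  have hLM : ¬ L ≤ M := fun h => hKM (hKL'.trans h)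
  have hLov : L ∈ jOvergroups T :=
    mem_jOvergroups_self_of_max hL S hMJ hT hLmax.1 hLM hTL.1
  -- the element `s`
  have hS2 : IsPGroup 2 ↥(S : Subgroup G) := S.isPGroup'
  obtain ⟨s, hsS, hsN, hsT⟩ := exists_mem_normalizer_not_mem hS2 hTS hne
  have hs2 : IsPGroup 2 ↥(Subgroup.zpowers s) :=
    hS2.to_le ((Subgroup.zpowers_le).2 hsS)
  have hsL : s ∉ L := not_mem_of_isSylowTwoIn hTL hsN hs2 hsT
  have hsJ : s ∈ Subgroup.normalizer (thompsonSubgroupOf 2 T : Set G) :=
    normalizer_le_normalizer_J T hsN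
  obtain ⟨hDs, hD2⟩ :=
    dd_inf_map_conj_eq_bot hL hN hZ S hMJ hT hKc hKM hLmax hKL' hJL hsJ hsL
  have hcard := card_z0 hL hN hZ hT2 hT1 hKc
  -- `Z = Ω₁Z(S)`
  have hZle : omegaCenterOf (S : Subgroup G) ≤ Z0 T :=
    (omegaCenterOf_le_of_mem_jOvergroups hLov hTS).trans (omegaCenterOf_le_z0 T)
  have hS1 : (S : Subgroup G) ≠ ⊥ := by
    intro h
    apply hT1
    rw [h] at hTS
    exact le_bot_iff.1 hTS
  have hZne : omegaCenterOf (S : Subgroup G) ≠ ⊥ := omegaCenterOf_ne_bot hS2 hS1
  have hDpos : 0 < Nat.card ↥(DD T K) := Nat.card_pos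
  have hD12 : Nat.card ↥(DD T K) = 1 ∨ Nat.card ↥(DD T K) = 2 := by omega
  rcases hD12 with h1 | h2
  · left
    have h2' : Nat.card ↥(Z0 T) = 2 := by omega
    refine ⟨?_, h2'⟩
    apply Subgroup.eq_of_le_of_card_ge hZle
    rw [h2']
    exact (Subgroup.one_lt_card_iff_ne_bot _).2 hZne
  · right
    have h4 : Nat.card ↥(Z0 T) = 4 := by omega
    -- the involution `d`
    have hDne : DD T K ≠ ⊥ := by
      rw [← Subgroup.one_lt_card_iff_ne_bot, h2]
      norm_num
    obtain ⟨⟨d, hdD⟩, hd1⟩ := (Subgroup.ne_bot_iff_exists_ne_one).1 hDne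
    have hd1' : d ≠ 1 := fun h => hd1 (Subtype.ext h)
    have hdZ0 : d ∈ Z0 T := dd_le_z0 T K hdD
    have hsd : s * d * s⁻¹ ≠ d := by
      intro h
      have hmem : d ∈ DD T K ⊓ (DD T K).map (MulAut.conj s).toMonoidHom := by
        refine ⟨hdD, ?_⟩
        refine Subgroup.mem_map.2 ⟨d, hdD, ?_⟩
        simpa using h
      rw [hDs] at hmem
      exact hd1' ((Subgroup.mem_bot).1 hmem)
    have hsNZ : s ∈ Subgroup.normalizer (Z0 T : Set G) :=
      corea_mem_normalizer_of_map_eq (z0_map_conj hsJ)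
    have hsC : s ∉ Subgroup.centralizer (Z0 T : Set G) := by
      intro h
      apply hsd
      rw [Subgroup.mem_centralizer_iff] at h
      rw [← h d hdZ0, mul_inv_cancel_right]
    -- the involution `z`
    obtain ⟨⟨z, hzZ⟩, hz1⟩ := (Subgroup.ne_bot_iff_exists_ne_one).1 hZne
    have hz1' : z ≠ 1 := fun h => hz1 (Subtype.ext h)
    have hzZ0 : z ∈ Z0 T := hZle hzZ
    obtain ⟨hzS, hzc, -⟩ := (Cfsg.Agent.Helper19.JC.mem_omegaCenterOf_iff _ z).1 hzZ
    -- `C_G(Z₀) ≤ L`
    have hzpD : Subgroup.zpowers d ≤ DD T K := (Subgroup.zpowers_le).2 hdD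
    have hzp1 : Subgroup.zpowers d ≠ ⊥ := by
      intro h
      apply hd1'
      rw [← Subgroup.zpowers_eq_bot]
      exact h
    have hNdL : Subgroup.normalizer ((Subgroup.zpowers d : Subgroup G) : Set G) ≤ L :=
      normalizer_le_of_le_dd hL hN hZ S hMJ hT hKc hKM hLmax hKL' hJL hzpD hzp1
    have hCdL : ∀ c : G, c * d = d * c → c ∈ L := fun c hc =>
      hNdL (corea_mem_normalizer_zpowers hc)
    have hCL : Subgroup.centralizer (Z0 T : Set G) ≤ L := by
      intro c hc
      apply hCdL
      rw [Subgroup.mem_centralizer_iff] at hc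
      exact (hc d hdZ0).symm
    -- `T` centralizes `Z₀`
    have hTN : T ≤ Subgroup.normalizer (Z0 T : Set G) := by
      intro t ht
      exact corea_mem_normalizer_of_map_eq (z0_map_conj (le_normalizer_J T ht))
    have hTC : T ≤ Subgroup.centralizer (Z0 T : Set G) := by
      intro t ht
      by_contra htC
      have h5 : s * t⁻¹ ∈ Subgroup.centralizer (Z0 T : Set G) :=
        act4 h4 hzZ0 hz1' hsNZ (hTN ht) (hzc s hsS) (hzc t (hTS ht)) hsC htC
      apply hsL
      have : s = (s * t⁻¹) * t := by group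
      rw [this]
      exact L.mul_mem (hCL h5) (hTL.1 ht)
    have hOm : omegaCenterOf T = Z0 T := by
      apply le_antisymm (omegaCenterOf_le_z0 T)
      intro x hx
      rw [Cfsg.Agent.Helper19.JC.mem_omegaCenterOf_iff]
      refine ⟨z0_le T hx, ?_, ?_⟩
      · intro y hy
        have := hTC hy
        rw [Subgroup.mem_centralizer_iff] at this
        exact (this x hx).symm
      · rw [pow_two]
        exact z0_sq T x hx
    -- no conjugate of `z` equals `d`
    have key : ∀ y : G, d = y * z * y⁻¹ → False := by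
      intro y hy
      have hP2 : IsPGroup 2 ↥((S : Subgroup G).map (MulAut.conj y).toMonoidHom) :=
        hS2.map _
      have hPL : (S : Subgroup G).map (MulAut.conj y).toMonoidHom ≤ L := by
        rintro _ ⟨u, hu, rfl⟩
        apply hCdL
        have hu' : u * z = z * u := hzc u hu
        change y * u * y⁻¹ * d = d * (y * u * y⁻¹)
        rw [hy]
        calc y * u * y⁻¹ * (y * z * y⁻¹) = y * (u * z) * y⁻¹ := by group
          _ = y * (z * u) * y⁻¹ := by rw [hu']
          _ = y * z * y⁻¹ * (y * u * y⁻¹) := by group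
      have hle := card_le_of_isSylowTwoIn hTL hP2 hPL
      rw [Subgroup.card_map_of_injective (MulAut.conj y).injective] at hle
      exact hne (Subgroup.eq_of_le_of_card_ge hTS hle)
    -- the four elements of `Z₀`
    have hzd : z ≠ d := by
      intro h
      apply hsd
      rw [← h, hzc s hsS, mul_inv_cancel_right]
    have hze : z ≠ s * d * s⁻¹ := by
      intro h
      apply hzd
      have h3 : s⁻¹ * z * s = s⁻¹ * (s * d * s⁻¹) * s := by rw [← h]
      have h4' : s⁻¹ * z * s = z := by
        have := hzc s hsS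
        calc s⁻¹ * z * s = s⁻¹ * (z * s) := by group
          _ = s⁻¹ * (s * z) := by rw [this]
          _ = z := by group
      rw [h4'] at h3
      rw [h3]
      group
    have he1 : s * d * s⁻¹ ≠ 1 := by
      intro h
      apply hd1'
      have h3 := congrArg (fun t => s⁻¹ * t * s) h
      simpa [mul_assoc] using h3
    have heZ0 : s * d * s⁻¹ ∈ Z0 T :=
      ((Subgroup.mem_normalizer_iff).1 hsNZ d).1 hdZ0
    have hA : ({1, z, d, s * d * s⁻¹} : Set G) = (Z0 T : Set G) := by
      apply Set.eq_of_subset_of_ncard_le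
      · intro x hx
        simp only [Set.mem_insert_iff, Set.mem_singleton_iff] at hx
        rcases hx with rfl | rfl | rfl | rfl
        · exact (Z0 T).one_mem
        · exact hzZ0
        · exact hdZ0
        · exact heZ0
      · have hc : ((Z0 T : Subgroup G) : Set G).ncard = 4 := by
          rw [← h4]
          exact (Nat.card_coe_set_eq _).symm
        rw [hc, Set.ncard_insert_of_notMem, Set.ncard_insert_of_notMem, Set.ncard_pair hsd.symm]
        · simp only [Set.mem_insert_iff, Set.mem_singleton_iff, not_or]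
          exact ⟨hzd, hze⟩
        · simp only [Set.mem_insert_iff, Set.mem_singleton_iff, not_or]
          exact ⟨hz1'.symm, hd1'.symm, he1.symm⟩
      · exact Set.toFinite _
    -- `N_G(Z₀)` fixes `z`
    have hfix : ∀ x ∈ Subgroup.normalizer (Z0 T : Set G), x * z = z * x := by
      intro x hx
      by_contra hxz
      have hw : x * z * x⁻¹ ∈ Z0 T := ((Subgroup.mem_normalizer_iff).1 hx z).1 hzZ0
      have hw' : x * z * x⁻¹ ∈ ({1, z, d, s * d * s⁻¹} : Set G) := by
        rw [hA]
        exact hw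
      simp only [Set.mem_insert_iff, Set.mem_singleton_iff] at hw'
      rcases hw' with h | h | h | h
      · apply hz1'
        have h3 := congrArg (fun t => x⁻¹ * t * x) h
        simpa [mul_assoc] using h3
      · apply hxz
        have h3 := congrArg (fun t => t * x) h
        simpa [mul_assoc] using h3
      · exact key x h.symm
      · apply key (s⁻¹ * x)
        have h3 : s⁻¹ * (x * z * x⁻¹) * s = s⁻¹ * (s * d * s⁻¹) * s := by rw [h]
        have h5 : s⁻¹ * (s * d * s⁻¹) * s = d := by group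
        rw [h5] at h3
        rw [← h3]
        group
    refine ⟨hOm, h4, ?_⟩
    exact relIndex_eq_two (Subgroup.centralizer_le_normalizer _) hCL hsNZ hsC
      (fun x hx y hy hxC hyC => act4 h4 hzZ0 hz1' hx hy (hfix x hx) (hfix y hy) hxC hyC)

end ctx

end Cfsg.Agent.Helper27.KV
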