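import Mathlib
import Cfsg.Agent.Lib.Helper26.L33Defs
import Cfsg.Agent.Lib.Helper15.GL23Main
import Cfsg.Agent.Lib.Helper27.M11Bridge
import Cfsg.Agent.S0197
import Cfsg.Agent.Lib.Helper9.L33HF1
import Cfsg.Agent.Lib.Helper28.L33_HF2
import Cfsg.Agent.Lib.Helper7.L33_A1
import Cfsg.Agent.Lib.Helper15.L33_A2
import Cfsg.Agent.Lib.Helper17.L33_A4
import Cfsg.Agent.Lib.Helper17.L33_A5
import Cfsg.Agent.Lib.Helper28.L33_C0
import Cfsg.Agent.Lib.Helper6.L33C3
import Cfsg.Agent.Lib.Helper28.L33_C4A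
import Cfsg.Agent.Lib.Helper26.L33_C4B
import Cfsg.Agent.Lib.Helper28.L33_C4C
import Cfsg.Agent.Lib.Helper6.L33C6
import Cfsg.Agent.Lib.Helper26.L33_C7
import Cfsg.Agent.Lib.Helper6.L33C8B
import Cfsg.Agent.Lib.Helper6.L33C8C
import Cfsg.Agent.Lib.Helper6.L33C9
import Cfsg.Agent.Lib.Helper3.L33_C10
import Cfsg.Agent.Lib.Helper27.P13Main

/-!
# S2916 (helper26): assembly.  `G = O²(G)`, `C(t) ≅ GL(2,3)` ⟹ `G ≅ L₃(3)` or `M₁₁`.
Paper proof: plans/S2916_proof.md.
-/

set_option autoImplicit false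

namespace Cfsg.Agent.Helper26.L33

open Cfsg Cfsg.Agent.Helper15.GL23

universe u

section Asm

variable {G : Type u} [Group G] [Finite G]

omit [Finite G] in
theorem like_of_equiv (t : G) (ht : orderOf t = 2)
    (e : Subgroup.centralizer ({t} : Set G) ≃* Matrix.GeneralLinearGroup (Fin 2) (ZMod 3)) :
    Like (Subgroup.centralizer ({t} : Set G)) (tC t) := by
  have hL0 : Like (Subgroup.centralizer ({t} : Set G)) (e.symm (-1)) := Like.of_equiv e.symm like_gl
  have htC : orderOf (tC t) = 2 := by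
    rw [← Subgroup.orderOf_coe]; exact ht
  have hcent : ∀ y : Subgroup.centralizer ({t} : Set G), y * tC t = tC t * y := by
    intro y
    apply Subtype.ext
    show (y : G) * t = t * (y : G)
    exact (Subgroup.mem_centralizer_singleton_iff (g := t) (k := (y : G))).mp y.2
  have hz : tC t = e.symm (-1) := hL0.central_unique (tC t) htC hcent
  rw [hz]; exact hL0

theorem simple_of_residual (hO : Cfsg.pResidual 2 G = ⊤) (t : G) (ht : orderOf t = 2)
    (hL : Like (Subgroup.centralizer ({t} : Set G)) (tC t))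
    (hF : HFacts (Subgroup.centralizer ({t} : Set G))) :
    IsSimpleGroup G ∧ ∀ x : G, orderOf x = 2 → IsConj t x := by
  have h1 := one_class_of_not_isolated t ht hL (not_isolated hO t ht hL hF)
  refine ⟨?_, h1⟩
  have hnt : Nontrivial G := by
    refine ⟨⟨t, 1, ?_⟩⟩
    intro h
    rw [h, orderOf_one] at ht
    norm_num at ht
  refine { exists_pair_ne := hnt.exists_pair_ne, eq_bot_or_eq_top_of_normal := ?_ }
  intro N hN
  by_cases hb : N = ⊥
  · exact Or.inl hb
  · exact Or.inr (normal_eq_top hO t ht hL h1 N hN (cent_le_normal t ht hL hF h1 N hN hb))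

theorem main (hO : Cfsg.pResidual 2 G = ⊤) (t : G) (ht : orderOf t = 2)
    (e : Subgroup.centralizer ({t} : Set G) ≃* Matrix.GeneralLinearGroup (Fin 2) (ZMod 3)) :
    Nonempty (G ≃* Matrix.ProjectiveSpecialLinearGroup (Fin 3) (ZMod 3)) ∨ Cfsg.Spor.IsoM11 G := by
  classical
  have hL := like_of_equiv t ht e
  have hF : HFacts (Subgroup.centralizer ({t} : Set G)) := HFacts.of_equiv e.symm hfacts_gl
  obtain ⟨hs, h1⟩ := simple_of_residual hO t ht hL hF
  have := hs
  rcases Cfsg.Agent.S0197.result t ht e with h | h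
  · left
    obtain ⟨u, s, hc⟩ := exists_cfg h t ht hL hF h1
    obtain ⟨K, hK⟩ := exists_K hc
    have h2 := cfg2_of_cfg1 hK (K_ne_three hK) (K_ne_nine hK)
    obtain ⟨a, b, h3⟩ := exists_cfg3 h2
    have hz := center_P h3
    have ga : Good G t u s K a := ⟨h3.aP, h3.au, h3.oa, h3.ta, Or.inl h3.sa⟩
    have gb : Good G t u s K b := ⟨h3.bP, h3.bu, h3.ob, h3.tb, Or.inr h3.sb⟩
    have na := le_antisymm (card_normE_le h2 hz a ga) (card_normE_ge h2 hz a ga)
    have nb := le_antisymm (card_normE_le h2 hz b gb) (card_normE_ge h2 hz b gb)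
    have ni := card_inter h3 hz
    have hnc : ∃ x y : G, x * y ≠ y * x := by
      by_contra hcon
      have hcomm : ∀ x y : G, x * y = y * x := by
        intro x y
        by_contra hxy
        exact hcon ⟨x, y, hxy⟩
      let _ : CommGroup G := { ‹Group G› with mul_comm := hcomm }
      have hp := IsSimpleGroup.prime_card (α := G)
      rw [h] at hp
      norm_num at hp
    obtain ⟨hfaith, h13, B, hB, hinv⟩ := plane13 hnc
      (Subgroup.normalizer ((Subgroup.closure ({u, a} : Set G) : Subgroup G) : Set G))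
      (Subgroup.normalizer ((Subgroup.closure ({u, b} : Set G) : Subgroup G) : Set G))
      (by rw [na, h]) (by rw [nb, h]) (by rw [ni, nb])
    let _ : Fintype (G ⧸ Subgroup.normalizer ((Subgroup.closure ({u, a} : Set G) : Subgroup G) : Set G)) :=
      Fintype.ofFinite _
    have := hfaith
    exact Cfsg.Agent.Helper27.P13.iso_psl33_of_plane B hB
      (by rw [← Nat.card_eq_fintype_card]; exact h13) hinv h
  · right
    exact Cfsg.Agent.Helper27.M11Bridge.isoM11_of_isM11 ⟨hs, h⟩

end Asm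

end Cfsg.Agent.Helper26.L33
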