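
/-!
# Data for the automorphisms of `M₁₁` (generated)

The third generator `f` (normalizing the group generated by the cube twist), the candidates for
its image under an automorphism, the certificates, and a straight-line program producing, from
`n`, `d`, `f`, transversals for the stabilizer chain of four more points of the dodecad.
-/

set_option autoImplicit false

namespace Cfsg.Agent.Helper26.M11D

def fC : Nat := 651249440069770165527960730430720032
def wF : List Nat := [10, 1, 0, 1, 5, 2, 6, 5, 11, 7, 12, 10]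
def candF (i : Nat) : Nat := [651249440069770165527960730430720032, 649619160316427615188374661576626752, 632637037777758933974854900402722880, 630354891481831487487229476259071168, 636770892566050760967572788669941888].getD i 0
def GOODF (_i : Nat) : Nat := 651249440069770165527960730430720032
def relA (r : Nat) : List Nat := [[0, 9, 9, 9, 0, 9, 9, 9, 0, 9, 9, 9]].getD r []
def nrelA : Nat := 1
def crA (j : Nat) : Nat := [7, 0, 0, 0, 0].getD j 0
def cpA (j : Nat) : Nat := [0, 1, 1, 1, 1].getD j 0
def relB (r : Nat) : List Nat := [[0, 9, 9, 9, 0, 9, 9, 9, 0, 9, 9, 9]].getD r []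
def nrelB : Nat := 1
def crB (j : Nat) : Nat := [0, 0, 0, 0, 0].getD j 0
def cpB (j : Nat) : Nat := [1, 1, 1, 3, 1].getD j 0
def nS : Nat := 58
def nBase : Nat := 4
def SC_c0 : Nat := 0x8aa6fa22f2a96093ac8db31c6188202bd47b11c65c5929d209aa2ed188202ccea5b1c9b448d7d506a42f218820994f1ba1c4b29237d190a997268820a56cb899ed3dc64716089b15248820a3cf75a5cc8da469d50d289441c02089df3ac2eda150655992591c918820752f68c2683ac8cabe4928d4668820996f65b5c95444cabcc8a0cf28102079ef470ea454c52b150d58629640c075576518ac3dd28a3e449b63018820bae957b6289ba44b1cd0524ac18820a3aeb54a643d90da96037a6266082055a857a22d74d9059cc4b8ab21a420752cb3a4a455cd0acdac7ca281882073d6ab226db9d26a56422b2238102089eb470ee82cc4c5a890b19e9934209956a3c1c28d886a546d7b2f242420b46952b4e49bc6c52e09b99c814820bae75734e2a3d8354606b24b222020bd9f328dc489c26a2d2cac94d4404075177531e68d909a94709b4e490820badd4290ec7d510b292d88e723082073e36bcaad52c8c9d206288e940c20559c59a0e9a3e43bc48658aac83420a3ad78b4a652c83abd329b0e88082055e93ac0e87b9a28d8925b0a349820ab9565b4a2b9d249bc68a1a30930207aa33a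9a88b95b03b989586d218880b5dd4799509d4895c5833c8ad408207cd4b8a4a3b5e06ad1b2730e222020b2a75a21727b9a63dc70888a9230207cd47bb2b0b44662ba4da2568208207d8e5ba28d72c61ac4895327011a40bd5d68b0e49ad10a2a46285e968860bae8e291f23d829aaa039b62c30900bccb5585c87da098d1ac508f2190c0bc54770a697ad90b150daca86184807d6cb50a88b9d2c2ba0d9923219820bdaa57196d7ce0c89d0954a8219020bd56aa41c32cc8d7c64c39ac20a120ba9719c2a6759a939452a11e860460bc6b63c9e154ccd2d1035c1c911180b9634aa2c33ae507b82950a64331a0bd2cb7a66c2d4727288d8a0f0088c0baecaaa68899e468960478dc268580bc565b4144abd23a39029b4e1930c0bd22e5a0a2b4e0d51c81ac9ec49860baa87891c15d5122bc4cb266680da0b954fa08ec8d88974c265c2a343640bb8b3505e6a2c503d5838a2cd24920b9dd52b263544287d8cda117212600bbcf671aad2d1849ac7250a290c100bcdeb38ed2728c2ac5a928690620807d6d1390a9ba90ca4db0709661c820bba8ab116d7c52899d90286a219a40bd6717b56939461b52507314831040bdab49ca307b9ac5a928398a418820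
def SC_chunk (_k : Nat) : Nat := SC_c0
/-- codes of the nodes of the straight-line program -/
def SC (i : Nat) : Nat := (SC_chunk (i >>> 6) >>> (120 * (i &&& 63))) &&& 0xffffffffffffffffffffffffffffff

def SA_c0 : Nat := 0xcebcf3cf36525c3aebaebaa89db6cc0a082081f68b0d965954358d5020c3081041081041041041041000000
def SA_chunk (_k : Nat) : Nat := SA_c0
def SA (i : Nat) : Nat := (SA_chunk (i >>> 8) >>> (6 * (i &&& 255))) &&& 0x3f

def SB_c0 : Nat := 0xbb3ae0643cb1c04bab7039a99e76e511c81a0de69d09948360158d50248338e34204b289207185101000000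
def SB_chunk (_k : Nat) : Nat := SB_c0
def SB (i : Nat) : Nat := (SB_chunk (i >>> 8) >>> (6 * (i &&& 255))) &&& 0x3f

def TG_c0 : Nat := 0x3702f000e2e000ceb039000000000000000024020000dad000d5c02301900000000000000303400085a000b1b01301288000000000000200600038f00044500d004401000000000000000000000000000000000000000
def TG_chunk (_k : Nat) : Nat := TG_c0
/-- the nodes of the targets -/
def TG (i : Nat) : Nat := (TG_chunk (i >>> 8) >>> (6 * (i &&& 255))) &&& 0x3f


end Cfsg.Agent.Helper26.M11D
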