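
/-!
# Data for the automorphisms of the subgroups of `M₂₄` containing the doubling map and the cube twist (generated)
-/

set_option autoImplicit false

namespace Cfsg.Agent.Helper26.M24NDD

def candD (a : Nat) : Nat := [974380510768821363662145534143076928, 975074981857073328387818560804173312, 982945552743155205048692816444138624, 970459361523271695787015306425278496, 982251082544672643558577621061109952, 962588790636320930210487642771108256, 964881566828850631422085576588168480, 980623620615494437327650338233436416, 984573014673175146587997007573696576, 978329933299122975683446603816964480, 968831900483021157457398538231481440].getD a 0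
def aOf (i : Nat) : Nat := [0, 4, 8, 1, 5, 9, 2, 6, 10, 3, 7].getD i 0
def d2C : Nat := 977864963184960973661438897150854272
def edgesD : List (Nat × Nat × Nat) := [(0, 1, 0), (1, 1, 1), (2, 3, 3), (4, 1, 4), (2, 2, 6)]

end Cfsg.Agent.Helper26.M24NDD
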