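import Mathlib
import Cfsg.Prelude.Def_KGroupFacts
import Cfsg.Agent.Lib.Helper26.M24Aut

/-!
# Every automorphism of `M₂₄` is inner
-/

set_option autoImplicit false

namespace Cfsg.Agent.Helper26.M24O

open Cfsg Cfsg.Agent.Helper26 Cfsg.Agent.Helper26.PermCert Cfsg.Agent.Helper26.M24Semi
  Cfsg.Agent.Helper26.M24PD Cfsg.Agent.Helper26.M24A
open Cfsg.Agent.Helper29.M24
open Cfsg.Agent.S0358 (idx)

/-! ### Words and automorphisms of a subgroup -/

section transport

variable {H : Subgroup (Equiv.Perm GolayPt)}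

/-- Evaluating a word on the images under an automorphism. -/
theorem evalWd_map (ψ : MulAut H) (ρG : ℕ → H) (w : List ℕ) :
    evalWd (fun l => ((ψ (ρG l) : H) : Equiv.Perm GolayPt)) w =
      ((ψ ((w.map ρG).prod) : H) : Equiv.Perm GolayPt) := by
  induction w with
  | nil => simp [evalWd]
  | cons l w ih =>
    rw [evalWd_cons, ih, List.map_cons, List.prod_cons, map_mul, Subgroup.coe_mul]

/-- Evaluating a word in the subgroup. -/
theorem evalWd_coe (ρG : ℕ → H) (w : List ℕ) :
    evalWd (fun l => ((ρG l : H) : Equiv.Perm GolayPt)) w =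
      (((w.map ρG).prod : H) : Equiv.Perm GolayPt) := by
  have := evalWd_map (1 : MulAut H) ρG w
  simpa using this

/-- A relation between elements of the subgroup is preserved by an automorphism. -/
theorem rel_transport (ψ : MulAut H) (ρG : ℕ → H) (w : List ℕ)
    (h : evalWd (fun l => ((ρG l : H) : Equiv.Perm GolayPt)) w = 1) :
    evalWd (fun l => ((ψ (ρG l) : H) : Equiv.Perm GolayPt)) w = 1 := by
  rw [evalWd_coe] at h
  have h1 : (w.map ρG).prod = 1 := Subtype.ext h
  rw [evalWd_map, h1, map_one]
  rfl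

end transport

theorem getD_nil_of_le {l : List (List ℕ)} {r : ℕ} (h : l.length ≤ r) : l.getD r [] = [] := by
  rw [List.getD_eq_getElem?_getD, List.getElem?_eq_none h]
  rfl

/-! ### The conjugates of `n` under the powers of `x` -/

theorem candN_zero : candN 0 = nC := by decide

theorem candN_chain : allB 22 (fun a => conjOK candN xC (fun i => i + 1) 23 a) = true := by
  decide +kernel

theorem candN_coded (a : ℕ) (ha : a < 23) : Coded (xP ^ a * nP * (xP ^ a)⁻¹) (candN a) := by
  induction a with
  | zero =>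
    rw [pow_zero, one_mul, inv_one, mul_one, candN_zero]; exact nP_coded
  | succ a ih =>
    have h := allB_true candN_chain a (by omega)
    have h1 := (conjOK_sound h xP _ xP_coded (ih (by omega))).2
    have e : xP ^ (a + 1) * nP * (xP ^ (a + 1))⁻¹ = xP * (xP ^ a * nP * (xP ^ a)⁻¹) * xP⁻¹ := by
      rw [pow_succ']; group
    rw [e]; exact h1

/-! ### The certificates -/

/-- Fixed letters: the translation (or its inverse) and the doubling map. -/
def FIX2 (c0 : ℕ) (l : ℕ) : ℕ := cond (Nat.beq l 0) c0 (cond (Nat.beq l 1) nC idC)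
/-- Fixed letters: the translation (or its inverse), the doubling map and the inversion. -/
def FIX3 (c0 : ℕ) (l : ℕ) : ℕ :=
  cond (Nat.beq l 0) c0 (cond (Nat.beq l 1) nC (cond (Nat.beq l 2) y1C idC))

/-- The good candidate of round 2. -/
def GOOD2 (_i : ℕ) : ℕ := y1C
/-- The good candidate of round 3. -/
def GOOD3 (_i : ℕ) : ℕ := dC

theorem certA2 : allB 11 (certOK cand2 (FIX2 xC) relA2 crA2 cpA2 GOOD2 1) = true := by
  decide +kernel
theorem certB2 : allB 11 (certOK cand2 (FIX2 xiC) relB2 crB2 cpB2 GOOD2 1) = true := by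
  decide +kernel
theorem certA3 : allB 11 (certOK cand3 (FIX3 xC) relA3 crA3 cpA3 GOOD3 1) = true := by
  decide +kernel
theorem certB3 : allB 11 (certOK cand3 (FIX3 xiC) relB3 crB3 cpB3 GOOD3 0) = true := by
  decide +kernel

theorem trueA2 : relsOK (kap (FIX2 xC) y1C) relA2 nrelA2 = true := by decide +kernel
theorem trueB2 : relsOK (kap (FIX2 xC) y1C) relB2 nrelB2 = true := by decide +kernel
theorem trueA3 : relsOK (kap (FIX3 xC) dC) relA3 nrelA3 = true := by decide +kernel
theorem trueB3 : relsOK (kap (FIX3 xC) dC) relB3 nrelB3 = true := by decide +kernel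

theorem id_coded : Coded 1 idC := coded_one idC (by decide +kernel)

/-! ### The group and its elements -/

/-- The group `M₂₄`. -/
abbrev G24 := ↥Cfsg.M24

/-- The translation. -/
def xG : G24 := ⟨xP, xP_mem⟩
/-- The doubling map. -/
def nG : G24 := ⟨nP, nP_mem⟩
/-- The inversion. -/
def y1G : G24 := ⟨y1P, y1P_mem⟩
/-- The cube twist. -/
def dG : G24 := ⟨dP, dP_mem⟩

theorem card_G24 : Nat.card G24 = 244823040 := card_M24

instance : Finite G24 := Nat.finite_of_card_ne_zero (by rw [card_G24]; norm_num)

theorem orderOf_xG : orderOf xG = 23 := by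
  rw [← Subgroup.orderOf_coe]; exact orderOf_xP

theorem nG_conj : nG * xG * nG⁻¹ = xG ^ 2 := by
  have h : nG * xG = xG ^ 2 * nG := Subtype.ext n_x
  rw [h, mul_assoc, mul_inv_cancel, mul_one]

theorem hR23 : ∀ k < 23, 0 < k →
    ∃ e : ℕ, ∃ r ∈ ({1, 22} : Finset ℕ), k ≡ r * 2 ^ e [MOD 23] := by
  have h : ∀ k < 23, 0 < k → ∃ e < 11, ∃ r ∈ ({1, 22} : Finset ℕ), k ≡ r * 2 ^ e [MOD 23] := by
    decide
  intro k hk hk0
  obtain ⟨e, _, r, hr, h1⟩ := h k hk hk0
  exact ⟨e, r, hr, h1⟩

theorem closure_G24 : Subgroup.closure ({xG, y1G, dG} : Set G24) = ⊤ := by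
  rw [eq_top_iff]
  intro g _
  let K : Subgroup (Equiv.Perm GolayPt) :=
    (Subgroup.closure ({xG, y1G, dG} : Set G24)).map (Cfsg.M24).subtype
  have hx : xP ∈ K := ⟨xG, Subgroup.subset_closure (by simp), rfl⟩
  have hy : y1P ∈ K := ⟨y1G, Subgroup.subset_closure (by simp), rfl⟩
  have hd : dP ∈ K := ⟨dG, Subgroup.subset_closure (by simp), rfl⟩
  have hle : Cfsg.M24 ≤ K := by
    rw [M24_eq_closure, Subgroup.closure_le]
    intro y hy'
    rcases hy' with rfl | rfl | rfl
    · rw [← gP0]; exact hx
    · rw [← gP1]; exact hy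
    · rw [← gP2]; exact hd
  obtain ⟨k, hk, hkg⟩ := hle g.2
  have : k = g := Subtype.ext hkg
  rw [← this]; exact hk

/-- The image of `x` under an automorphism, after an inner adjustment, is `x` or `x⁻¹`; the
codes of these two. -/
def c0 (r : ℕ) : ℕ := cond (Nat.beq r 1) xC xiC

theorem xpow_coded (r : ℕ) (hr : r = 1 ∨ r = 22) : Coded (xP ^ r) (c0 r) := by
  rcases hr with rfl | rfl
  · rw [pow_one]; exact xP_coded
  · have h : xP ^ 22 = xP⁻¹ := by
      apply eq_inv_of_mul_eq_one_left
      rw [← pow_succ, x_pow]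
    rw [h]; exact xi_coded

/-- Every automorphism of `M₂₄` is inner. -/
theorem aut_inner (φ : MulAut G24) : ∃ g : G24, φ = MulAut.conj g := by
  have h23 : Fact (Nat.Prime 23) := ⟨by norm_num⟩
  -- Step 1: the image of `x`
  have hu : orderOf (φ xG) = 23 := by rw [MulEquiv.orderOf_eq, orderOf_xG]
  obtain ⟨g1, r, hr, h1⟩ := AutInner.exists_conj_rep 23 xG nG 2 orderOf_xG
    (by rw [card_G24]; norm_num) nG_conj {1, 22} hR23 (φ xG) hu
  have hr' : r = 1 ∨ r = 22 := by simpa using hr
  obtain ⟨φ1, hφ1⟩ : ∃ φ1 : MulAut G24, φ1 = (MulAut.conj g1)⁻¹ * φ := ⟨_, rfl⟩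
  have hX1 : φ1 xG = xG ^ r := by
    rw [hφ1, MulAut.mul_apply, h1, ← map_inv, MulAut.conj_apply]; group
  -- Step 2: the image of `n`
  have hn1 : φ1 nG * xG = xG ^ 2 * φ1 nG := by
    have h := congrArg φ1 nG_conj
    rw [map_mul, map_mul, map_inv, map_pow, hX1] at h
    rcases hr' with rfl | rfl
    · rw [pow_one] at h
      rw [← h]; group
    · have h22 : xG ^ 22 = xG⁻¹ := by
        apply eq_inv_of_mul_eq_one_left
        rw [← pow_succ]
        have := pow_orderOf_eq_one xG
        rwa [orderOf_xG] at this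
      rw [h22] at h
      have h2 : φ1 nG * xG * (φ1 nG)⁻¹ = xG ^ 2 := by
        have h3 := congrArg (fun t => t⁻¹) h
        simp only [mul_inv_rev, inv_inv, inv_pow] at h3
        rw [← h3]; group
      rw [← h2]; group
  obtain ⟨a, ha, hca⟩ := semi_x (φ1 nG : Equiv.Perm GolayPt) (φ1 nG).2
    (congrArg Subtype.val hn1)
  have hN1 : φ1 nG = xG ^ a * nG * (xG ^ a)⁻¹ :=
    Subtype.ext (Coded.ext hca (candN_coded a ha))
  obtain ⟨φ2, hφ2⟩ : ∃ φ2 : MulAut G24, φ2 = (MulAut.conj (xG ^ a))⁻¹ * φ1 := ⟨_, rfl⟩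
  have hX2 : φ2 xG = xG ^ r := by
    rw [hφ2, MulAut.mul_apply, hX1, ← map_inv, MulAut.conj_apply]
    have hc : Commute (xG ^ a) (xG ^ r) := (Commute.refl xG).pow_pow a r
    rw [inv_inv, mul_assoc, ← hc.eq, ← mul_assoc, inv_mul_cancel, one_mul]
  have hN2 : φ2 nG = nG := by
    rw [hφ2, MulAut.mul_apply, hN1, ← map_inv, MulAut.conj_apply]; group
  have hX2c : Coded ((φ2 xG : G24) : Equiv.Perm GolayPt) (c0 r) := by
    rw [hX2]; exact xpow_coded r hr'
  -- Step 3: the image of `y1`
  have hy1 : φ2 y1G * nG = nG⁻¹ * φ2 y1G := by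
    have h0 : y1G * nG = nG⁻¹ * y1G := Subtype.ext y1_n
    have h := congrArg φ2 h0
    rwa [map_mul, map_mul, map_inv, hN2] at h
  obtain ⟨j2, hj2, hc2⟩ := semi_n1 (φ2 y1G : Equiv.Perm GolayPt) (φ2 y1G).2
    (congrArg Subtype.val hy1)
  -- the assignment of round 2
  let ρ2 : ℕ → G24 := fun l => if l = 0 then xG else if l = 1 then nG else if l = 9 then y1G else 1
  have hρ2 : ∀ l, l ≠ 9 → Coded ((φ2 (ρ2 l) : G24) : Equiv.Perm GolayPt) (FIX2 (c0 r) l) := by
    intro l hl
    by_cases h0 : l = 0
    · subst h0; exact hX2c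
    · by_cases h1' : l = 1
      · subst h1'
        show Coded ((φ2 nG : G24) : Equiv.Perm GolayPt) nC
        rw [hN2]; exact nP_coded
      · have e : ρ2 l = 1 := by simp [ρ2, h0, h1', hl]
        rw [e, map_one]
        have e2 : FIX2 (c0 r) l = idC := by
          unfold FIX2
          have b0 : Nat.beq l 0 = false := by
            cases hb : Nat.beq l 0
            · rfl
            · exact absurd (Nat.eq_of_beq_eq_true hb) h0
          have b1 : Nat.beq l 1 = false := by
            cases hb : Nat.beq l 1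
            · rfl
            · exact absurd (Nat.eq_of_beq_eq_true hb) h1'
          rw [b0, b1]; rfl
        rw [e2]; exact id_coded
  have htrue2 : ∀ l, Coded ((ρ2 l : G24) : Equiv.Perm GolayPt) (kap (FIX2 xC) y1C l) := by
    intro l
    unfold kap FIX2
    by_cases h9 : l = 9
    · subst h9; exact y1P_coded
    · by_cases h0 : l = 0
      · subst h0; exact xP_coded
      · by_cases h1' : l = 1
        · subst h1'; exact nP_coded
        · have e : ρ2 l = 1 := by simp [ρ2, h0, h1', h9]
          have b9 : Nat.beq l 9 = false := by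
            cases hb : Nat.beq l 9
            · rfl
            · exact absurd (Nat.eq_of_beq_eq_true hb) h9
          have b0 : Nat.beq l 0 = false := by
            cases hb : Nat.beq l 0
            · rfl
            · exact absurd (Nat.eq_of_beq_eq_true hb) h0
          have b1 : Nat.beq l 1 = false := by
            cases hb : Nat.beq l 1
            · rfl
            · exact absurd (Nat.eq_of_beq_eq_true hb) h1'
          rw [e, b9, b0, b1]; exact id_coded
  have hY2 : φ2 y1G = y1G := by
    have h9 : Coded ((φ2 (ρ2 9) : G24) : Equiv.Perm GolayPt) (cand2 j2) := hc2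
    rcases hr' with rfl | rfl
    · have hrel : ∀ rr, evalWd (fun l => ((φ2 (ρ2 l) : G24) : Equiv.Perm GolayPt)) (relA2 rr) = 1 :=
        fun rr => rel_transport φ2 ρ2 _
          (relsOK_sound trueA2 (fun r hr => getD_nil_of_le hr) _ htrue2 rr)
      obtain ⟨i, _, hi⟩ := certOK_sound (allB_true certA2 j2 hj2) _ hρ2 h9 hrel
      rw [hi] at hc2
      exact Subtype.ext (Coded.ext hc2 y1P_coded)
    · have hrel : ∀ rr, evalWd (fun l => ((φ2 (ρ2 l) : G24) : Equiv.Perm GolayPt)) (relB2 rr) = 1 :=
        fun rr => rel_transport φ2 ρ2 _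
          (relsOK_sound trueB2 (fun r hr => getD_nil_of_le hr) _ htrue2 rr)
      obtain ⟨i, _, hi⟩ := certOK_sound (allB_true certB2 j2 hj2) _ hρ2 h9 hrel
      rw [hi] at hc2
      exact Subtype.ext (Coded.ext hc2 y1P_coded)
  -- Step 4: the image of `d`
  have hd1 : φ2 dG * nG = nG ^ 3 * φ2 dG := by
    have h0 : dG * nG = nG ^ 3 * dG := Subtype.ext d_n
    have h := congrArg φ2 h0
    rwa [map_mul, map_mul, map_pow, hN2] at h
  obtain ⟨j3, hj3, hc3⟩ := semi_n3 (φ2 dG : Equiv.Perm GolayPt) (φ2 dG).2
    (congrArg Subtype.val hd1)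
  let ρ3 : ℕ → G24 := fun l =>
    if l = 0 then xG else if l = 1 then nG else if l = 2 then y1G else if l = 9 then dG else 1
  have hρ3 : ∀ l, l ≠ 9 → Coded ((φ2 (ρ3 l) : G24) : Equiv.Perm GolayPt) (FIX3 (c0 r) l) := by
    intro l hl
    by_cases h0 : l = 0
    · subst h0; exact hX2c
    · by_cases h1' : l = 1
      · subst h1'
        show Coded ((φ2 nG : G24) : Equiv.Perm GolayPt) nC
        rw [hN2]; exact nP_coded
      · by_cases h2' : l = 2
        · subst h2'
          show Coded ((φ2 y1G : G24) : Equiv.Perm GolayPt) y1C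
          rw [hY2]; exact y1P_coded
        · have e : ρ3 l = 1 := by simp [ρ3, h0, h1', h2', hl]
          rw [e, map_one]
          have e2 : FIX3 (c0 r) l = idC := by
            unfold FIX3
            have b0 : Nat.beq l 0 = false := by
              cases hb : Nat.beq l 0
              · rfl
              · exact absurd (Nat.eq_of_beq_eq_true hb) h0
            have b1 : Nat.beq l 1 = false := by
              cases hb : Nat.beq l 1
              · rfl
              · exact absurd (Nat.eq_of_beq_eq_true hb) h1'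
            have b2 : Nat.beq l 2 = false := by
              cases hb : Nat.beq l 2
              · rfl
              · exact absurd (Nat.eq_of_beq_eq_true hb) h2'
            rw [b0, b1, b2]; rfl
          rw [e2]; exact id_coded
  have htrue3 : ∀ l, Coded ((ρ3 l : G24) : Equiv.Perm GolayPt) (kap (FIX3 xC) dC l) := by
    intro l
    unfold kap FIX3
    by_cases h9 : l = 9
    · subst h9; exact dP_coded
    · by_cases h0 : l = 0
      · subst h0; exact xP_coded
      · by_cases h1' : l = 1
        · subst h1'; exact nP_coded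
        · by_cases h2' : l = 2
          · subst h2'; exact y1P_coded
          · have e : ρ3 l = 1 := by simp [ρ3, h0, h1', h2', h9]
            have b9 : Nat.beq l 9 = false := by
              cases hb : Nat.beq l 9
              · rfl
              · exact absurd (Nat.eq_of_beq_eq_true hb) h9
            have b0 : Nat.beq l 0 = false := by
              cases hb : Nat.beq l 0
              · rfl
              · exact absurd (Nat.eq_of_beq_eq_true hb) h0
            have b1 : Nat.beq l 1 = false := by
              cases hb : Nat.beq l 1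
              · rfl
              · exact absurd (Nat.eq_of_beq_eq_true hb) h1'
            have b2 : Nat.beq l 2 = false := by
              cases hb : Nat.beq l 2
              · rfl
              · exact absurd (Nat.eq_of_beq_eq_true hb) h2'
            rw [e, b9, b0, b1, b2]; exact id_coded
  have h93 : Coded ((φ2 (ρ3 9) : G24) : Equiv.Perm GolayPt) (cand3 j3) := hc3
  rcases hr' with rfl | rfl
  · -- the inner case
    have hrel : ∀ rr, evalWd (fun l => ((φ2 (ρ3 l) : G24) : Equiv.Perm GolayPt)) (relA3 rr) = 1 :=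
      fun rr => rel_transport φ2 ρ3 _
        (relsOK_sound trueA3 (fun r hr => getD_nil_of_le hr) _ htrue3 rr)
    obtain ⟨i, _, hi⟩ := certOK_sound (allB_true certA3 j3 hj3) _ hρ3 h93 hrel
    rw [hi] at hc3
    have hD2 : φ2 dG = dG := Subtype.ext (Coded.ext hc3 dP_coded)
    rw [pow_one] at hX2
    have hone : φ2 = 1 := by
      apply AutInner.eq_one_of_fix_generators _ closure_G24
      intro s hs
      rcases hs with rfl | rfl | rfl
      · exact hX2
      · exact hY2
      · exact hD2
    refine ⟨g1 * xG ^ a, ?_⟩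
    have e1 : φ1 = MulAut.conj (xG ^ a) := by
      have : φ1 = MulAut.conj (xG ^ a) * φ2 := by rw [hφ2, mul_inv_cancel_left]
      rw [this, hone, mul_one]
    have e2 : φ = MulAut.conj g1 * φ1 := by rw [hφ1, mul_inv_cancel_left]
    rw [e2, e1, ← map_mul]
  · -- no automorphism inverts `x` up to conjugacy
    exfalso
    have hrel : ∀ rr, evalWd (fun l => ((φ2 (ρ3 l) : G24) : Equiv.Perm GolayPt)) (relB3 rr) = 1 :=
      fun rr => rel_transport φ2 ρ3 _
        (relsOK_sound trueB3 (fun r hr => getD_nil_of_le hr) _ htrue3 rr)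
    obtain ⟨i, hi0, _⟩ := certOK_sound (allB_true certB3 j3 hj3) _ hρ3 h93 hrel
    exact Nat.not_lt_zero i hi0

theorem card_Out_M24 : Nat.card (Cfsg.Out G24) = 1 := AutInner.card_Out_eq_one aut_inner

end Cfsg.Agent.Helper26.M24O
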