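import Mathlib
import Cfsg.Agent.Lib.Helper26.M24Semi

/-!
# Searching a subgroup of the group of the length-24 code for the elements `g` with `g * A = A' * g`

The search of `M24Semi` with two more kinds of tests: prescribed images of base points, and a
set of points (given by a bit mask) that has to be mapped to itself.
-/

set_option autoImplicit false

namespace Cfsg.Agent.Helper26.M24Semi

open Cfsg Cfsg.Agent.Helper26 Cfsg.Agent.Helper26.PermCert
open Cfsg.Agent.Helper29.M24
open Cfsg.Agent.S0358 (idx)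

/-- The level test for prescribed images `(k, t)`: the `k`-th base point goes to `t`. -/
def lvlFix (fixes : List (ℕ × ℕ)) (i : ℕ) (W : List ℕ) : Bool :=
  fixes.all fun e => !(decide (e.1 ≤ i)) || (appW W (bpt e.1) == e.2)

/-- The level test for a mask: the base points up to `i` stay inside or outside the set. -/
def lvlMask (m : ℕ) (i : ℕ) (W : List ℕ) : Bool :=
  (List.range 7).all fun k =>
    !(decide (k ≤ i)) || (m.testBit (appW W (bpt k)) == m.testBit (bpt k))

/-- The final test for a mask. -/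
def finMask (m : ℕ) (W : List ℕ) : Bool :=
  (List.range 24).all fun p => m.testBit (appW W p) == m.testBit p

theorem lvlFix_ok (fixes : List (ℕ × ℕ)) :
    ∀ i < 7, ∀ W : List ℕ, (∀ l ∈ W, l < ngen) → ∀ τ ∈ grp (i + 1),
      (∀ e ∈ fixes, idx ((evalW W * τ) (dec (bpt e.1))) = e.2) → lvlFix fixes i W = true := by
  intro i hi W hW τ hτ hP
  unfold lvlFix
  rw [List.all_eq_true]
  intro e he
  rw [Bool.or_eq_true]
  by_cases hc : e.1 ≤ i
  · right
    rw [beq_iff_eq]
    have h1 := hP e he
    rw [Equiv.Perm.mul_apply, fix_of_mem_grp hc hi τ hτ, idx_evalW W hW,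
      idx_dec_bpt e.1 (by omega)] at h1
    exact h1
  · left
    simp [hc]

theorem lvlMask_ok (m : ℕ) :
    ∀ i < 7, ∀ W : List ℕ, (∀ l ∈ W, l < ngen) → ∀ τ ∈ grp (i + 1),
      (∀ q, m.testBit (idx ((evalW W * τ) q)) = m.testBit (idx q)) → lvlMask m i W = true := by
  intro i hi W hW τ hτ hP
  unfold lvlMask
  rw [List.all_eq_true]
  intro k hk
  rw [List.mem_range] at hk
  rw [Bool.or_eq_true]
  by_cases hc : k ≤ i
  · right
    rw [beq_iff_eq]
    have h1 := hP (dec (bpt k))
    rw [Equiv.Perm.mul_apply, fix_of_mem_grp hc hi τ hτ, idx_evalW W hW,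
      idx_dec_bpt k (by omega)] at h1
    exact h1
  · left
    simp [hc]

theorem finMask_ok (m : ℕ) :
    ∀ W : List ℕ, (∀ l ∈ W, l < ngen) →
      (∀ q, m.testBit (idx ((evalW W) q)) = m.testBit (idx q)) → finMask m W = true := by
  intro W hW hP
  unfold finMask
  rw [List.all_eq_true]
  intro p hp
  rw [List.mem_range] at hp
  rw [beq_iff_eq]
  have h1 := hP (dec p)
  have hp' : idx (dec p) = p := idx_dec ⟨p, hp⟩
  rw [idx_evalW W hW, hp'] at h1
  exact h1

/-- Completeness of the search for the elements semiconjugating `A` to `A'`, with prescribed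
images of some base points, that map the set with mask `m` to itself. -/
theorem semi_search2 (A A' : Equiv.Perm GolayPt) (a a' : ℕ) (hA : Coded A a) (hA' : Coded A' a')
    (edges : List (ℕ × ℕ × ℕ)) (fixes : List (ℕ × ℕ)) (m : ℕ) (g : Equiv.Perm GolayPt)
    (hg : g ∈ M24) (hP : g * A = A' * g)
    (hfix : ∀ e ∈ fixes, idx (g (dec (bpt e.1))) = e.2)
    (hmask : ∀ q, m.testBit (idx (g q)) = m.testBit (idx q)) :
    ∃ W ∈ searchAll (fun i W => lvlE a a' edges i W && lvlFix fixes i W && lvlMask m i W)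
        (fun W => finE a a' W && finMask m W),
      (∀ l ∈ W, l < ngen) ∧ g = evalW W := by
  obtain ⟨W, hW, e⟩ := searchAll_complete
    (fun i W => lvlE a a' edges i W && lvlFix fixes i W && lvlMask m i W)
    (fun W => finE a a' W && finMask m W)
    (fun g => g * A = A' * g ∧ (∀ e ∈ fixes, idx (g (dec (bpt e.1))) = e.2) ∧
      ∀ q, m.testBit (idx (g q)) = m.testBit (idx q))
    (fun i hi W hW τ hτ hp => by
      simp only [Bool.and_eq_true]
      exact ⟨⟨lvlE_ok A A' a a' hA hA' edges i hi W hW τ hτ hp.1,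
        lvlFix_ok fixes i hi W hW τ hτ hp.2.1⟩, lvlMask_ok m i hi W hW τ hτ hp.2.2⟩)
    (fun W hW hp => by
      simp only [Bool.and_eq_true]
      exact ⟨finE_ok A A' a a' hA hA' W hW hp.1, finMask_ok m W hW hp.2.2⟩)
    g hg ⟨hP, hfix, hmask⟩
  exact ⟨W, hW, (searchAll_sound _ _ W hW).1, e⟩

end Cfsg.Agent.Helper26.M24Semi
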