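import Mathlib
import Cfsg.Agent.Lib.Helper26.M24Out
import Cfsg.Agent.Lib.Helper26.M24Semi2
import Cfsg.Agent.Lib.Helper26.M24NDData

/-!
# Automorphisms of the subgroups of `M₂₄` containing the doubling map and the cube twist

* `normalize_nd`: up to an inner automorphism, such an automorphism fixes the cube twist `d` and
  sends the doubling map `n` to `n` or `n⁻¹`.
* `third`: the image of a third element is pinned down by a list of candidates with
  certificates.
-/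

set_option autoImplicit false

namespace Cfsg.Agent.Helper26.M24ND

open Cfsg Cfsg.Agent.Helper26 Cfsg.Agent.Helper26.PermCert Cfsg.Agent.Helper26.M24Semi
  Cfsg.Agent.Helper26.M24PD Cfsg.Agent.Helper26.M24A Cfsg.Agent.Helper26.M24O
  Cfsg.Agent.Helper26.M24NDD
open Cfsg.Agent.Helper29.M24
open Cfsg.Agent.S0358 (idx)

/-! ### The doubling map has order 11 -/

theorem n_pow : nP ^ 11 = 1 := by
  apply Equiv.ext
  intro q
  apply idx_injective
  rw [idx_pow_apply nP nC nP_coded, Equiv.Perm.one_apply]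
  have h : ∀ p < 24, iter (app nC) 11 p = p := by decide +kernel
  exact h _ (idx_lt q)

theorem n_ne_one : nP ≠ 1 := by
  intro h
  have h1 := nP_coded (dec 1)
  rw [h, Equiv.Perm.one_apply] at h1
  revert h1
  decide

theorem orderOf_nP : orderOf nP = 11 := by
  have : Fact (Nat.Prime 11) := ⟨by norm_num⟩
  exact orderOf_eq_prime n_pow n_ne_one

theorem d2_coded : Coded (dP ^ 2) d2C := by
  rw [pow_two]; exact coded_mul dP_coded dP_coded (by decide +kernel)

/-! ### The conjugates of `d` under the powers of `n` -/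

theorem candD_zero : candD 0 = dC := by decide

theorem candD_chain : allB 10 (fun a => conjOK candD nC (fun i => i + 1) 11 a) = true := by
  decide +kernel

theorem candD_coded (a : ℕ) (ha : a < 11) : Coded (nP ^ a * dP * (nP ^ a)⁻¹) (candD a) := by
  induction a with
  | zero =>
    rw [pow_zero, one_mul, inv_one, mul_one, candD_zero]; exact dP_coded
  | succ a ih =>
    have h := allB_true candD_chain a (by omega)
    have h1 := (conjOK_sound h nP _ nP_coded (ih (by omega))).2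
    have e : nP ^ (a + 1) * dP * (nP ^ (a + 1))⁻¹ = nP * (nP ^ a * dP * (nP ^ a)⁻¹) * nP⁻¹ := by
      rw [pow_succ']; group
    rw [e]; exact h1

theorem cand3_candD : ∀ i < 11, aOf i < 11 ∧ cand3 i = candD (aOf i) := by decide +kernel

theorem hR11 : ∀ k < 11, 0 < k →
    ∃ e : ℕ, ∃ r ∈ ({1, 10} : Finset ℕ), k ≡ r * 3 ^ e [MOD 11] := by
  have h : ∀ k < 11, 0 < k → ∃ e < 5, ∃ r ∈ ({1, 10} : Finset ℕ), k ≡ r * 3 ^ e [MOD 11] := by
    decide
  intro k hk hk0
  obtain ⟨e, _, r, hr, h1⟩ := h k hk hk0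
  exact ⟨e, r, hr, h1⟩

theorem not_sq11_dvd (H : Subgroup (Equiv.Perm GolayPt)) (hH : H ≤ Cfsg.M24) :
    ¬ 11 ^ 2 ∣ Nat.card H := by
  intro h
  have h1 : Nat.card H ∣ Nat.card Cfsg.M24 := Subgroup.card_dvd_of_le hH
  rw [card_M24] at h1
  have h2 := h.trans h1
  revert h2
  norm_num

/-- Up to an inner automorphism, an automorphism of a subgroup `H` of `M₂₄` containing `n` and
`d` fixes `d` and sends `n` to `n` or `n⁻¹`. -/
theorem normalize_nd (H : Subgroup (Equiv.Perm GolayPt)) (hH : H ≤ Cfsg.M24) (hn : nP ∈ H)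
    (hd : dP ∈ H) (φ : MulAut H) :
    ∃ g : H, ∃ r : ℕ, (r = 1 ∨ r = 10) ∧
      ((MulAut.conj g)⁻¹ * φ) ⟨nP, hn⟩ = (⟨nP, hn⟩ : H) ^ r ∧
      ((MulAut.conj g)⁻¹ * φ) ⟨dP, hd⟩ = ⟨dP, hd⟩ := by
  have h11 : Fact (Nat.Prime 11) := ⟨by norm_num⟩
  have hcard := not_sq11_dvd H hH
  obtain ⟨xH, hxH⟩ : ∃ xH : H, xH = ⟨nP, hn⟩ := ⟨_, rfl⟩
  obtain ⟨nH, hnH⟩ : ∃ nH : H, nH = ⟨dP, hd⟩ := ⟨_, rfl⟩
  rw [← hxH, ← hnH]
  have hxv : (xH : Equiv.Perm GolayPt) = nP := by rw [hxH]
  have hnv : (nH : Equiv.Perm GolayPt) = dP := by rw [hnH]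
  have hord : orderOf xH = 11 := by
    rw [← Subgroup.orderOf_coe, hxv]; exact orderOf_nP
  have hconj : nH * xH * nH⁻¹ = xH ^ 3 := by
    have h : nH * xH = xH ^ 3 * nH := by
      apply Subtype.ext
      rw [Subgroup.coe_mul, Subgroup.coe_mul, Subgroup.coe_pow, hxv, hnv]
      exact d_n
    rw [h, mul_assoc, mul_inv_cancel, mul_one]
  have hu : orderOf (φ xH) = 11 := by rw [MulEquiv.orderOf_eq, hord]
  obtain ⟨g1, r, hr, h1⟩ := AutInner.exists_conj_rep 11 xH nH 3 hord hcard hconj {1, 10} hR11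
    (φ xH) hu
  have hr' : r = 1 ∨ r = 10 := by simpa using hr
  obtain ⟨φ1, hφ1⟩ : ∃ φ1 : MulAut H, φ1 = (MulAut.conj g1)⁻¹ * φ := ⟨_, rfl⟩
  have hX1 : φ1 xH = xH ^ r := by
    rw [hφ1, MulAut.mul_apply, h1, ← map_inv, MulAut.conj_apply]; group
  have hn1 : φ1 nH * xH = xH ^ 3 * φ1 nH := by
    have h := congrArg φ1 hconj
    rw [map_mul, map_mul, map_inv, map_pow, hX1] at h
    rcases hr' with rfl | rfl
    · rw [pow_one] at h
      rw [← h]; group
    · have h22 : xH ^ 10 = xH⁻¹ := by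
        apply eq_inv_of_mul_eq_one_left
        rw [← pow_succ]
        have := pow_orderOf_eq_one xH
        rwa [hord] at this
      rw [h22] at h
      have h2 : φ1 nH * xH * (φ1 nH)⁻¹ = xH ^ 3 := by
        have h3 := congrArg (fun t => t⁻¹) h
        simp only [mul_inv_rev, inv_inv, inv_pow] at h3
        rw [← h3]; group
      rw [← h2]; group
  have hn1' : ((φ1 nH : H) : Equiv.Perm GolayPt) * nP =
      nP ^ 3 * ((φ1 nH : H) : Equiv.Perm GolayPt) := by
    have := congrArg Subtype.val hn1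
    rw [Subgroup.coe_mul, Subgroup.coe_mul, Subgroup.coe_pow, hxv] at this
    exact this
  obtain ⟨j, hj, hcj⟩ := semi_n3 (φ1 nH : Equiv.Perm GolayPt) (hH (φ1 nH).2) hn1'
  obtain ⟨ha, hca⟩ := cand3_candD j hj
  obtain ⟨a, haa⟩ : ∃ a, a = aOf j := ⟨_, rfl⟩
  rw [← haa] at ha hca
  rw [hca] at hcj
  have hN1 : φ1 nH = xH ^ a * nH * (xH ^ a)⁻¹ := by
    apply Subtype.ext
    rw [Subgroup.coe_mul, Subgroup.coe_mul, Subgroup.coe_inv, Subgroup.coe_pow, hxv, hnv]
    exact Coded.ext hcj (candD_coded a ha)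
  refine ⟨g1 * xH ^ a, r, hr', ?_, ?_⟩
  · have e : (MulAut.conj (g1 * xH ^ a))⁻¹ * φ = (MulAut.conj (xH ^ a))⁻¹ * φ1 := by
      rw [hφ1, map_mul, mul_inv_rev, mul_assoc]
    rw [e, MulAut.mul_apply, hX1, ← map_inv, MulAut.conj_apply]
    have hc : Commute (xH ^ a) (xH ^ r) := (Commute.refl xH).pow_pow a r
    rw [inv_inv, mul_assoc, ← hc.eq, ← mul_assoc, inv_mul_cancel, one_mul]
  · have e : (MulAut.conj (g1 * xH ^ a))⁻¹ * φ = (MulAut.conj (xH ^ a))⁻¹ * φ1 := by
      rw [hφ1, map_mul, mul_inv_rev, mul_assoc]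
    rw [e, MulAut.mul_apply, hN1, ← map_inv, MulAut.conj_apply]; group

/-! ### The third generator -/

/-- Fixed letters: letter 0 is the doubling map (or its inverse), letter 1 the cube twist. -/
def FIXnd (n0 : ℕ) (l : ℕ) : ℕ := cond (Nat.beq l 0) n0 (cond (Nat.beq l 1) dC idC)

theorem beq_false_of_ne {l k : ℕ} (h : l ≠ k) : Nat.beq l k = false := by
  cases hb : Nat.beq l k
  · rfl
  · exact absurd (Nat.eq_of_beq_eq_true hb) h

/-- The image of a third element `f` under an automorphism which fixes `d` and whose value at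
`n` is known: it is one of the listed candidates that are not excluded by a relation. -/
theorem third (H : Subgroup (Equiv.Perm GolayPt)) (hn : nP ∈ H) (hd : dP ∈ H)
    (fP : Equiv.Perm GolayPt) (hf : fP ∈ H) (fC : ℕ) (hfC : Coded fP fC)
    (CAND : ℕ → ℕ) (nCand : ℕ) (n0 : ℕ)
    (REL : ℕ → List ℕ) (nrel : ℕ) (CR CP GOOD : ℕ → ℕ) (nGood : ℕ)
    (hcert : allB nCand (certOK CAND (FIXnd n0) REL CR CP GOOD nGood) = true)
    (htrue : relsOK (kap (FIXnd nC) fC) REL nrel = true) (hnil : ∀ r, nrel ≤ r → REL r = [])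
    (φ : MulAut H) (hφn : Coded ((φ ⟨nP, hn⟩ : H) : Equiv.Perm GolayPt) n0)
    (hφd : φ ⟨dP, hd⟩ = ⟨dP, hd⟩)
    (hφf : InList CAND nCand ((φ ⟨fP, hf⟩ : H) : Equiv.Perm GolayPt)) :
    ∃ i < nGood, Coded ((φ ⟨fP, hf⟩ : H) : Equiv.Perm GolayPt) (GOOD i) := by
  let ρ : ℕ → H := fun l =>
    if l = 0 then ⟨nP, hn⟩ else if l = 1 then ⟨dP, hd⟩ else if l = 9 then ⟨fP, hf⟩ else 1
  have hρ : ∀ l, l ≠ 9 → Coded ((φ (ρ l) : H) : Equiv.Perm GolayPt) (FIXnd n0 l) := by
    intro l hl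
    by_cases h0 : l = 0
    · subst h0; exact hφn
    · by_cases h1 : l = 1
      · subst h1
        show Coded ((φ ⟨dP, hd⟩ : H) : Equiv.Perm GolayPt) dC
        rw [hφd]; exact dP_coded
      · have e : ρ l = 1 := by simp [ρ, h0, h1, hl]
        rw [e, map_one]
        have e2 : FIXnd n0 l = idC := by
          unfold FIXnd
          rw [beq_false_of_ne h0, beq_false_of_ne h1]; rfl
        rw [e2]; exact id_coded
  have htrue' : ∀ l, Coded ((ρ l : H) : Equiv.Perm GolayPt) (kap (FIXnd nC) fC l) := by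
    intro l
    unfold kap FIXnd
    by_cases h9 : l = 9
    · subst h9; exact hfC
    · by_cases h0 : l = 0
      · subst h0; exact nP_coded
      · by_cases h1 : l = 1
        · subst h1; exact dP_coded
        · have e : ρ l = 1 := by simp [ρ, h0, h1, h9]
          rw [e, beq_false_of_ne h9, beq_false_of_ne h0, beq_false_of_ne h1]; exact id_coded
  obtain ⟨j, hj, hcj⟩ := hφf
  have hrel : ∀ rr, evalWd (fun l => ((φ (ρ l) : H) : Equiv.Perm GolayPt)) (REL rr) = 1 :=
    fun rr => rel_transport φ ρ _ (relsOK_sound htrue hnil _ htrue' rr)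
  have h9 : Coded ((φ (ρ 9) : H) : Equiv.Perm GolayPt) (CAND j) := hcj
  obtain ⟨i, hi, hi2⟩ := certOK_sound (allB_true hcert j hj) _ hρ h9 hrel
  refine ⟨i, hi, ?_⟩
  rw [← hi2]; exact hcj

end Cfsg.Agent.Helper26.M24ND
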