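import Mathlib
import Cfsg.Agent.Lib.Helper26.M24ND

/-!
# The inversion `y1` of `M₂₄`: it is an involution commuting with the cube twist and inverting
the doubling map, and every element of `M₂₄` inverting the doubling map sends the extra point to
the residue `0`.
-/

set_option autoImplicit false

namespace Cfsg.Agent.Helper26.M24Y

open Cfsg Cfsg.Agent.Helper26 Cfsg.Agent.Helper26.PermCert Cfsg.Agent.Helper26.M24Semi
  Cfsg.Agent.Helper26.M24PD Cfsg.Agent.Helper26.M24A Cfsg.Agent.Helper26.M24O
  Cfsg.Agent.Helper26.M24ND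
open Cfsg.Agent.Helper29.M24
open Cfsg.Agent.S0358 (idx)

theorem y1_sq : y1P * y1P = 1 :=
  Coded.ext (coded_mul y1P_coded y1P_coded (by decide +kernel)) id_coded

theorem y1_d : y1P * dP = dP * y1P :=
  mul_eq_mul_of_coded y1P_coded dP_coded dP_coded y1P_coded (by decide +kernel)

theorem y1_n_y1 : y1P * nP * y1P = nP⁻¹ := by
  rw [y1_n, mul_assoc, y1_sq, mul_one]

theorem y1_d_y1 : y1P * dP * y1P = dP := by
  rw [y1_d, mul_assoc, y1_sq, mul_one]

theorem cand2_none : ∀ j < 11, app (cand2 j) 23 = 0 := by decide +kernel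

/-- An element of `M₂₄` inverting the doubling map sends the extra point to the residue `0`. -/
theorem inverting_none (g : Equiv.Perm GolayPt) (hg : g ∈ Cfsg.M24) (h : g * nP = nP⁻¹ * g) :
    idx (g (none : GolayPt)) = 0 := by
  obtain ⟨j, hj, hcj⟩ := semi_n1 g hg h
  rw [hcj]
  exact cand2_none j hj

theorem n_pow_ten : nP ^ 10 = nP⁻¹ := by
  apply eq_inv_of_mul_eq_one_left
  rw [← pow_succ]
  exact n_pow

end Cfsg.Agent.Helper26.M24Y
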