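import Mathlib
import Cfsg.Prelude.Def_Spor_Mathieu
import Cfsg.Agent.Lib.Helper26.M24Y1
import Cfsg.Agent.Lib.Helper26.DodSift
import Cfsg.Agent.Lib.Helper26.M11Data

/-!
# Every automorphism of `M₁₁` is inner
-/

set_option autoImplicit false

namespace Cfsg.Agent.Helper26.M11O

open Cfsg Cfsg.Agent.Helper26 Cfsg.Agent.Helper26.PermCert Cfsg.Agent.Helper26.M24Semi
  Cfsg.Agent.Helper26.M24PD Cfsg.Agent.Helper26.M24A Cfsg.Agent.Helper26.M24O
  Cfsg.Agent.Helper26.M24ND Cfsg.Agent.Helper26.M24NDD Cfsg.Agent.Helper26.PermSLP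
  Cfsg.Agent.Helper26.M24Y Cfsg.Agent.Helper26.DodSift Cfsg.Agent.Helper26.M11D
open Cfsg.Agent.Helper29.M24
open Cfsg.Agent.S0358 (idx)

/-! ### The elements -/

/-- The third generator: an element of order four normalizing the group generated by the cube
twist. -/
def fP : Equiv.Perm GolayPt := evalW wF

theorem wF_lt : ∀ l ∈ wF, l < ngen := by decide

theorem fP_coded : Coded fP fC := coded_evalW wF wF_lt fC (by decide +kernel)

theorem fP_mem24 : fP ∈ Cfsg.M24 :=
  grp_le_M24 0 (evalW_mem_grp 0 wF (fun l hl => ⟨wF_lt l hl, Nat.zero_le _⟩))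

theorem fixes_zero {σ : Equiv.Perm GolayPt} {c : ℕ} (hσ : Coded σ c) (h : app c 0 = 0) :
    σ (some 0 : GolayPt) = some 0 := by
  apply idx_injective
  rw [hσ]
  exact h

theorem nP_mem11 : nP ∈ Cfsg.Spor.M11 :=
  (mem_M11_iff _).2 ⟨mem_M12_of_coded nP_coded nP_mem (by decide +kernel),
    fixes_zero nP_coded (by decide)⟩
theorem dP_mem11 : dP ∈ Cfsg.Spor.M11 :=
  (mem_M11_iff _).2 ⟨mem_M12_of_coded dP_coded dP_mem (by decide +kernel),
    fixes_zero dP_coded (by decide)⟩
theorem fP_mem11 : fP ∈ Cfsg.Spor.M11 :=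
  (mem_M11_iff _).2 ⟨mem_M12_of_coded fP_coded fP_mem24 (by decide +kernel),
    fixes_zero fP_coded (by decide)⟩

theorem f_d : fP * dP = dP ^ 2 * fP :=
  mul_eq_mul_of_coded fP_coded dP_coded d2_coded fP_coded (by decide +kernel)

/-- The group `M₁₁`. -/
abbrev G11 := ↥Cfsg.Spor.M11

/-- The doubling map. -/
def nG : G11 := ⟨nP, nP_mem11⟩
/-- The cube twist. -/
def dG : G11 := ⟨dP, dP_mem11⟩
/-- The third generator. -/
def fG : G11 := ⟨fP, fP_mem11⟩

theorem M11_le24 : Cfsg.Spor.M11 ≤ Cfsg.M24 := M11_le.trans M12_le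

/-! ### Generation -/

/-- The subgroup generated by the three elements. -/
def K11 : Subgroup (Equiv.Perm GolayPt) := Subgroup.closure {nP, dP, fP}

theorem K11_le : K11 ≤ Cfsg.Spor.M12 := by
  unfold K11
  rw [Subgroup.closure_le]
  intro y hy
  rcases hy with rfl | rfl | rfl
  · exact M11_le nP_mem11
  · exact M11_le dP_mem11
  · exact M11_le fP_mem11

theorem slp_all : allR 4 54 (slpOK SC SA SB) = true := by decide +kernel

theorem base_codes : SC 0 = idC ∧ SC 1 = nC ∧ SC 2 = dC ∧ SC 3 = fC := by decide +kernel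

theorem node_mem : ∀ k < nS, ∃ σ ∈ K11, Coded σ (SC k) := by
  apply slp_sound SC SA SB 4 nS K11
  · intro k hk
    obtain ⟨h0, h1, h2, h3⟩ := base_codes
    interval_cases k
    · exact ⟨1, K11.one_mem, by rw [h0]; exact id_coded⟩
    · exact ⟨nP, Subgroup.subset_closure (by simp), by rw [h1]; exact nP_coded⟩
    · exact ⟨dP, Subgroup.subset_closure (by simp), by rw [h2]; exact dP_coded⟩
    · exact ⟨fP, Subgroup.subset_closure (by simp), by rw [h3]; exact fP_coded⟩
  · intro k hk1 hk2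
    exact allR_true slp_all k hk1 (by have : k < 58 := hk2; omega)

theorem tr_all : ∀ i < 5, 1 ≤ i → ∀ q < 24, trOK SC TG nS i q = true := by decide +kernel

theorem M11_le_K11 : Cfsg.Spor.M11 ≤ K11 := fun σ hσ => by
  obtain ⟨h12, h0⟩ := (mem_M11_iff σ).1 hσ
  refine sift_all K11 K11_le 1 (tr_sound SC TG nS 1 K11 node_mem tr_all) σ h12 ?_
  intro j hj
  have : j = 0 := by omega
  rw [this, dec_zero]
  exact h0

theorem closure_G11 : Subgroup.closure ({nG, dG, fG} : Set G11) = ⊤ := by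
  rw [eq_top_iff]
  intro g _
  let K : Subgroup (Equiv.Perm GolayPt) :=
    (Subgroup.closure ({nG, dG, fG} : Set G11)).map (Cfsg.Spor.M11).subtype
  have hn : nP ∈ K := ⟨nG, Subgroup.subset_closure (by simp), rfl⟩
  have hd : dP ∈ K := ⟨dG, Subgroup.subset_closure (by simp), rfl⟩
  have hf : fP ∈ K := ⟨fG, Subgroup.subset_closure (by simp), rfl⟩
  have hle : Cfsg.Spor.M11 ≤ K := by
    refine M11_le_K11.trans ?_
    unfold K11
    rw [Subgroup.closure_le]
    intro y hy
    rcases hy with rfl | rfl | rfl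
    · exact hn
    · exact hd
    · exact hf
  obtain ⟨k, hk, hkg⟩ := hle g.2
  have : k = g := Subtype.ext hkg
  rw [← this]; exact hk

/-! ### The normalizer of the cube twist -/

/-- The elements of `M₁₁` semiconjugating `d` to `d²`. -/
def SF : List (List ℕ) :=
  searchAll (fun i W => lvlE dC d2C edgesD i W && lvlFix [(1, 0)] i W && lvlMask MASK i W)
    (fun W => finE dC d2C W && finMask MASK W)

theorem SF_listed : listedIn SF candF 5 = true := by decide +kernel

theorem dec_bpt1 : dec (bpt 1) = (some 0 : GolayPt) := by decide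

theorem semi_f (g : Equiv.Perm GolayPt) (hg : g ∈ Cfsg.Spor.M11) (h : g * dP = dP ^ 2 * g) :
    InList candF 5 g := by
  obtain ⟨h12, h0⟩ := (mem_M11_iff g).1 hg
  obtain ⟨h24, h1⟩ := (mem_M12_iff g).1 h12
  obtain ⟨W, hW, hl, rfl⟩ := semi_search2 dP (dP ^ 2) dC d2C dP_coded d2_coded edgesD
    [(1, 0)] MASK g h24 h
    (by
      intro e he
      simp only [List.mem_cons, List.not_mem_nil, or_false] at he
      subst he
      show idx (g (dec (bpt 1))) = 0
      rw [dec_bpt1, h0]; rfl)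
    h1
  exact inList_of_listedIn SF_listed W hW hl

/-! ### The automorphisms -/

theorem certA : allB 5 (certOK candF (FIXnd nC) relA crA cpA GOODF 1) = true := by
  decide +kernel
theorem certB : allB 5 (certOK candF (FIXnd niC) relB crB cpB GOODF 0) = true := by
  decide +kernel

theorem trueA : relsOK (kap (FIXnd nC) fC) relA nrelA = true := by decide +kernel
theorem trueB : relsOK (kap (FIXnd nC) fC) relB nrelB = true := by decide +kernel

theorem nG_pow : nG ^ 10 = nG⁻¹ := Subtype.ext n_pow_ten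

theorem aut_inner (φ : MulAut G11) : ∃ g : G11, φ = MulAut.conj g := by
  obtain ⟨g, r, hr, hN, hD⟩ := normalize_nd Cfsg.Spor.M11 M11_le24 nP_mem11 dP_mem11 φ
  obtain ⟨φ2, hφ2⟩ : ∃ φ2 : MulAut G11, φ2 = (MulAut.conj g)⁻¹ * φ := ⟨_, rfl⟩
  rw [← hφ2] at hN hD
  have e2 : φ = MulAut.conj g * φ2 := by rw [hφ2, mul_inv_cancel_left]
  have hD' : φ2 dG = dG := hD
  have hrel : ((φ2 fG : G11) : Equiv.Perm GolayPt) * dP =
      dP ^ 2 * ((φ2 fG : G11) : Equiv.Perm GolayPt) := by
    have h0 : fG * dG = dG ^ 2 * fG := Subtype.ext f_d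
    have h := congrArg φ2 h0
    rw [map_mul, map_mul, map_pow, hD'] at h
    exact congrArg Subtype.val h
  rcases hr with rfl | rfl
  · have hN' : φ2 nG = nG := by
      have : φ2 nG = nG ^ 1 := hN
      rwa [pow_one] at this
    obtain ⟨i, _, hc⟩ := third Cfsg.Spor.M11 nP_mem11 dP_mem11 fP fP_mem11 fC fP_coded candF 5
      nC relA nrelA crA cpA GOODF 1 certA trueA (fun r hr => getD_nil_of_le hr) φ2
      (by
        show Coded ((φ2 nG : G11) : Equiv.Perm GolayPt) nC
        rw [hN']; exact nP_coded)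
      hD (semi_f _ (φ2 fG).2 hrel)
    have hF : φ2 fG = fG := Subtype.ext (Coded.ext hc fP_coded)
    have hone : φ2 = 1 := by
      apply AutInner.eq_one_of_fix_generators _ closure_G11
      intro s hs
      rcases hs with rfl | rfl | rfl
      · exact hN'
      · exact hD'
      · exact hF
    exact ⟨g, by rw [e2, hone, mul_one]⟩
  · exfalso
    have hN' : φ2 nG = nG⁻¹ := by
      have : φ2 nG = nG ^ 10 := hN
      rw [this, nG_pow]
    obtain ⟨i, hi, _⟩ := third Cfsg.Spor.M11 nP_mem11 dP_mem11 fP fP_mem11 fC fP_coded candF 5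
      niC relB nrelB crB cpB GOODF 0 certB trueB (fun r hr => getD_nil_of_le hr) φ2
      (by
        show Coded ((φ2 nG : G11) : Equiv.Perm GolayPt) niC
        rw [hN']; exact ni_coded)
      hD (semi_f _ (φ2 fG).2 hrel)
    exact Nat.not_lt_zero i hi

theorem card_Out_M11 : Nat.card (Cfsg.Out G11) = 1 := AutInner.card_Out_eq_one aut_inner

end Cfsg.Agent.Helper26.M11O
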