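import Mathlib
import Cfsg.Prelude.Def_Spor_Mathieu
import Cfsg.Agent.Lib.Helper26.M24Y1
import Cfsg.Agent.Lib.Helper26.DodSift
import Cfsg.Agent.Lib.Helper26.AutOuter
import Cfsg.Agent.Lib.Helper26.M12Data

/-!
# The outer automorphism group of `M₁₂` has order two
-/

set_option autoImplicit false

namespace Cfsg.Agent.Helper26.M12O

open Cfsg Cfsg.Agent.Helper26 Cfsg.Agent.Helper26.PermCert Cfsg.Agent.Helper26.M24Semi
  Cfsg.Agent.Helper26.M24PD Cfsg.Agent.Helper26.M24A Cfsg.Agent.Helper26.M24O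
  Cfsg.Agent.Helper26.M24ND Cfsg.Agent.Helper26.M24NDD Cfsg.Agent.Helper26.PermSLP
  Cfsg.Agent.Helper26.M24Y Cfsg.Agent.Helper26.DodSift Cfsg.Agent.Helper26.M12D
open Cfsg.Agent.Helper29.M24
open Cfsg.Agent.S0358 (idx)

/-! ### The elements -/

/-- The third generator: the involution centralizing the cube twist. -/
def zP : Equiv.Perm GolayPt := evalW wZ

theorem wZ_lt : ∀ l ∈ wZ, l < ngen := by decide

theorem zP_coded : Coded zP zC := coded_evalW wZ wZ_lt zC (by decide +kernel)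

theorem zP_mem24 : zP ∈ Cfsg.M24 :=
  grp_le_M24 0 (evalW_mem_grp 0 wZ (fun l hl => ⟨wZ_lt l hl, Nat.zero_le _⟩))

theorem nP_mem12 : nP ∈ Cfsg.Spor.M12 := mem_M12_of_coded nP_coded nP_mem (by decide +kernel)
theorem dP_mem12 : dP ∈ Cfsg.Spor.M12 := mem_M12_of_coded dP_coded dP_mem (by decide +kernel)
theorem zP_mem12 : zP ∈ Cfsg.Spor.M12 := mem_M12_of_coded zP_coded zP_mem24 (by decide +kernel)

theorem z_d : zP * dP = dP * zP :=
  mul_eq_mul_of_coded zP_coded dP_coded dP_coded zP_coded (by decide +kernel)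

/-- The group `M₁₂`. -/
abbrev G12 := ↥Cfsg.Spor.M12

/-- The doubling map. -/
def nG : G12 := ⟨nP, nP_mem12⟩
/-- The cube twist. -/
def dG : G12 := ⟨dP, dP_mem12⟩
/-- The third generator. -/
def zG : G12 := ⟨zP, zP_mem12⟩

/-! ### Generation -/

/-- The subgroup generated by the three elements. -/
def K12 : Subgroup (Equiv.Perm GolayPt) := Subgroup.closure {nP, dP, zP}

theorem K12_le : K12 ≤ Cfsg.Spor.M12 := by
  unfold K12
  rw [Subgroup.closure_le]
  intro y hy
  rcases hy with rfl | rfl | rfl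
  · exact nP_mem12
  · exact dP_mem12
  · exact zP_mem12

theorem slp_all : allR 4 94 (slpOK SC SA SB) = true := by decide +kernel

theorem base_codes : SC 0 = idC ∧ SC 1 = nC ∧ SC 2 = dC ∧ SC 3 = zC := by decide +kernel

theorem node_mem : ∀ k < nS, ∃ σ ∈ K12, Coded σ (SC k) := by
  apply slp_sound SC SA SB 4 nS K12
  · intro k hk
    obtain ⟨h0, h1, h2, h3⟩ := base_codes
    interval_cases k
    · exact ⟨1, K12.one_mem, by rw [h0]; exact id_coded⟩
    · exact ⟨nP, Subgroup.subset_closure (by simp), by rw [h1]; exact nP_coded⟩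
    · exact ⟨dP, Subgroup.subset_closure (by simp), by rw [h2]; exact dP_coded⟩
    · exact ⟨zP, Subgroup.subset_closure (by simp), by rw [h3]; exact zP_coded⟩
  · intro k hk1 hk2
    exact allR_true slp_all k hk1 (by have : k < 98 := hk2; omega)

theorem tr_all : ∀ i < 5, 0 ≤ i → ∀ q < 24, trOK SC TG nS i q = true := by decide +kernel

theorem M12_le_K12 : Cfsg.Spor.M12 ≤ K12 := fun σ hσ =>
  sift_all K12 K12_le 0 (tr_sound SC TG nS 0 K12 node_mem tr_all) σ hσ
    (fun j hj => absurd hj (Nat.not_lt_zero j))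

theorem closure_G12 : Subgroup.closure ({nG, dG, zG} : Set G12) = ⊤ := by
  rw [eq_top_iff]
  intro g _
  let K : Subgroup (Equiv.Perm GolayPt) :=
    (Subgroup.closure ({nG, dG, zG} : Set G12)).map (Cfsg.Spor.M12).subtype
  have hn : nP ∈ K := ⟨nG, Subgroup.subset_closure (by simp), rfl⟩
  have hd : dP ∈ K := ⟨dG, Subgroup.subset_closure (by simp), rfl⟩
  have hz : zP ∈ K := ⟨zG, Subgroup.subset_closure (by simp), rfl⟩
  have hle : Cfsg.Spor.M12 ≤ K := by
    refine M12_le_K12.trans ?_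
    unfold K12
    rw [Subgroup.closure_le]
    intro y hy
    rcases hy with rfl | rfl | rfl
    · exact hn
    · exact hd
    · exact hz
  obtain ⟨k, hk, hkg⟩ := hle g.2
  have : k = g := Subtype.ext hkg
  rw [← this]; exact hk

/-! ### The centralizer of the cube twist -/

/-- The elements of `M₁₂` commuting with `d`. -/
def SZ : List (List ℕ) :=
  searchAll (fun i W => lvlE dC dC edgesD i W && lvlFix [] i W && lvlMask MASK i W)
    (fun W => finE dC dC W && finMask MASK W)

theorem SZ_listed : listedIn SZ candZ 10 = true := by decide +kernel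

theorem semi_z (g : Equiv.Perm GolayPt) (hg : g ∈ Cfsg.Spor.M12) (h : g * dP = dP * g) :
    InList candZ 10 g := by
  obtain ⟨h24, h1⟩ := (mem_M12_iff g).1 hg
  obtain ⟨W, hW, hl, rfl⟩ := semi_search2 dP dP dC dC dP_coded dP_coded edgesD
    [] MASK g h24 h (by intro e he; exact absurd he List.not_mem_nil) h1
  exact inList_of_listedIn SZ_listed W hW hl

/-! ### Automorphisms fixing `n` and `d` -/

theorem certA : allB 10 (certOK candZ (FIXnd nC) relA crA cpA GOODZ 1) = true := by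
  decide +kernel

theorem trueA : relsOK (kap (FIXnd nC) zC) relA nrelA = true := by decide +kernel

theorem fix_all (φ : MulAut G12) (hn : φ nG = nG) (hd : φ dG = dG) : φ = 1 := by
  have hrel : ((φ zG : G12) : Equiv.Perm GolayPt) * dP = dP * ((φ zG : G12) : Equiv.Perm GolayPt) := by
    have h0 : zG * dG = dG * zG := Subtype.ext z_d
    have h := congrArg φ h0
    rw [map_mul, map_mul, hd] at h
    exact congrArg Subtype.val h
  obtain ⟨i, _, hc⟩ := third Cfsg.Spor.M12 nP_mem12 dP_mem12 zP zP_mem12 zC zP_coded candZ 10 nC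
    relA nrelA crA cpA GOODZ 1 certA trueA (fun r hr => getD_nil_of_le hr) φ
    (by
      show Coded ((φ nG : G12) : Equiv.Perm GolayPt) nC
      rw [hn]; exact nP_coded)
    hd (semi_z _ (φ zG).2 hrel)
  have hF : φ zG = zG := Subtype.ext (Coded.ext hc zP_coded)
  apply AutInner.eq_one_of_fix_generators _ closure_G12
  intro s hs
  rcases hs with rfl | rfl | rfl
  · exact hn
  · exact hd
  · exact hF

/-! ### The outer automorphism -/

theorem y1_mask : ∀ p < 24, MASK.testBit (app y1C p) = !MASK.testBit p := by decide +kernel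

theorem y1_norm : ∀ h ∈ Cfsg.Spor.M12, y1P * h * y1P ∈ Cfsg.Spor.M12 := by
  intro h hh
  obtain ⟨h24, h1⟩ := (mem_M12_iff h).1 hh
  refine (mem_M12_iff _).2 ⟨Subgroup.mul_mem _ (Subgroup.mul_mem _ y1P_mem h24) y1P_mem, ?_⟩
  intro q
  rw [Equiv.Perm.mul_apply, Equiv.Perm.mul_apply, y1P_coded, y1_mask _ (idx_lt _), h1,
    y1P_coded, y1_mask _ (idx_lt _), Bool.not_not]

/-- Conjugation by the inversion. -/
def τ : MulAut G12 := AutOuter.conjAut Cfsg.Spor.M12 y1P y1_sq y1_norm

theorem τ_n : τ nG = nG⁻¹ := Subtype.ext y1_n_y1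

theorem τ_d : τ dG = dG := Subtype.ext y1_d_y1

theorem nG_pow : nG ^ 10 = nG⁻¹ := Subtype.ext n_pow_ten

theorem aut_cases (φ : MulAut G12) :
    (∃ g : G12, φ = MulAut.conj g) ∨ ∃ g : G12, φ * τ = MulAut.conj g := by
  obtain ⟨g, r, hr, hN, hD⟩ := normalize_nd Cfsg.Spor.M12 M12_le nP_mem12 dP_mem12 φ
  obtain ⟨φ2, hφ2⟩ : ∃ φ2 : MulAut G12, φ2 = (MulAut.conj g)⁻¹ * φ := ⟨_, rfl⟩
  rw [← hφ2] at hN hD
  have e2 : φ = MulAut.conj g * φ2 := by rw [hφ2, mul_inv_cancel_left]
  rcases hr with rfl | rfl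
  · left
    have hN' : φ2 nG = nG := by
      have : φ2 nG = nG ^ 1 := hN
      rwa [pow_one] at this
    have hone := fix_all φ2 hN' hD
    exact ⟨g, by rw [e2, hone, mul_one]⟩
  · right
    have hN' : (φ2 * τ) nG = nG := by
      rw [MulAut.mul_apply, τ_n, map_inv]
      have : φ2 nG = nG ^ 10 := hN
      rw [this, nG_pow, inv_inv]
    have hD' : (φ2 * τ) dG = dG := by
      rw [MulAut.mul_apply, τ_d]; exact hD
    have hone := fix_all (φ2 * τ) hN' hD'
    exact ⟨g, by rw [e2, mul_assoc, hone, mul_one]⟩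

theorem tau_not_inner : ¬ ∃ g : G12, τ = MulAut.conj g := by
  rintro ⟨g, hg⟩
  have h1 : τ nG = g * nG * g⁻¹ := by rw [hg, MulAut.conj_apply]
  rw [τ_n] at h1
  have h2 : g * nG = nG⁻¹ * g := by rw [h1]; group
  have h3 : (g : Equiv.Perm GolayPt) * nP = nP⁻¹ * (g : Equiv.Perm GolayPt) :=
    congrArg Subtype.val h2
  have h4 := inverting_none (g : Equiv.Perm GolayPt) (M12_le g.2) h3
  have h5 := ((mem_M12_iff _).1 g.2).2 (none : GolayPt)
  rw [h4] at h5
  revert h5
  decide

theorem card_Out_M12 : Nat.card (Cfsg.Out G12) = 2 :=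
  AutOuter.card_Out_eq_two τ tau_not_inner aut_cases

end Cfsg.Agent.Helper26.M12O
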