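import Mathlib
import Cfsg.Agent.Lib.Helper26.PermSLP
import Cfsg.Agent.Lib.Helper26.M22BTab
import Cfsg.Agent.Lib.Helper26.M22BLab

/-!
# Checks for the conjugacy classes of `M₂₂`

The elements are numbered `960 j + 48 b + c`, standing for the product of the coset representatives
`U01 j`, `U2 b` and the stabiliser element `S48 c`.  Each element comes with its class, with an
element conjugating the class representative to it, and with the number of its product with the
class representative.
-/

set_option autoImplicit false

namespace Cfsg.Agent.Helper26.M22B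

open Cfsg.Agent.Helper26 Cfsg.Agent.Helper26.PermCert

/-- the image of a point under a product of three coded permutations -/
def e3 (A B C p : ℕ) : ℕ := appN A (appN B (appN C p))

/-- the entry `o` of a table of 20-bit fields -/
def ent20 (T o : ℕ) : ℕ := Nat.land (Nat.shiftRight T (Nat.mul 20 o)) 1048575

/-- the check at one element, the product of `A`, `B`, `C`: its class has the representative
coded by `R`, the element `cj` conjugates the representative to it, and `pr` is the product of
the representative with it -/
def chkPt (R A B C cj pr : ℕ) : Bool :=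
  Nat.blt cj nG && Nat.blt pr nG &&
  seqN (U01 (Nat.div cj 960)) fun A1 => seqN (U2 (Nat.mod (Nat.div cj 48) 20)) fun B1 =>
  seqN (S48 (Nat.mod cj 48)) fun C1 =>
  seqN (U01 (Nat.div pr 960)) fun A2 => seqN (U2 (Nat.mod (Nat.div pr 48) 20)) fun B2 =>
  seqN (S48 (Nat.mod pr 48)) fun C2 =>
  allB 24 fun p =>
    Nat.beq (e3 A1 B1 C1 (appN R p)) (e3 A B C (e3 A1 B1 C1 p)) &&
    Nat.beq (e3 A2 B2 C2 p) (appN R (e3 A B C p))

/-- the check of the elements `960 (j0 + dj) + 48 b + c`, `dj < nj` -/
def chkBlock (CJ PR j0 nj : ℕ) : Bool :=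
  allB nj fun dj => seqN (U01 (Nat.add j0 dj)) fun A =>
    allB 20 fun b => seqN (U2 b) fun B =>
      allB 48 fun c => seqN (S48 c) fun C =>
        seqN (Nat.add (Nat.mul 960 dj) (Nat.add (Nat.mul 48 b) c)) fun o =>
        seqN (label (Nat.add (Nat.mul 960 j0) o)) fun i =>
        Nat.blt i 12 && chkPt (RC i) A B C (ent20 CJ o) (ent20 PR o)

/-- sums -/
def sumB (n : ℕ) (f : ℕ → ℕ) : ℕ := Nat.rec 0 (fun k ih => Nat.add ih (f k)) n

/-- the packed counts of the pairs (class, class of the product) over a block of elements -/
def accBlock (PR lo nj : ℕ) : ℕ :=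
  sumB nj fun dj => sumB 960 fun o' =>
    seqN (Nat.add (Nat.mul 960 dj) o') fun o =>
      Nat.shiftLeft 1 (Nat.mul 20 (Nat.add (Nat.mul 12 (label (Nat.add lo o))) (label (ent20 PR o))))

end Cfsg.Agent.Helper26.M22B
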