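import Mathlib
import Cfsg.Prelude.Def_Spor_Mathieu
import Cfsg.Agent.Lib.Helper26.M24ND
import Cfsg.Agent.Lib.Helper26.PermSLP
import Cfsg.Agent.Lib.Helper26.AutOuter
import Cfsg.Agent.Lib.Helper26.M22Data

/-!
# The outer automorphism group of `M₂₂` has order two
-/

set_option autoImplicit false

namespace Cfsg.Agent.Helper26.M22O

open Cfsg Cfsg.Agent.Helper26 Cfsg.Agent.Helper26.PermCert Cfsg.Agent.Helper26.M24Semi
  Cfsg.Agent.Helper26.M24PD Cfsg.Agent.Helper26.M24A Cfsg.Agent.Helper26.M24O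
  Cfsg.Agent.Helper26.M24ND Cfsg.Agent.Helper26.M24NDD Cfsg.Agent.Helper26.PermSLP
  Cfsg.Agent.Helper26.M22D
open Cfsg.Agent.Helper29.M24
open Cfsg.Agent.S0358 (idx)

/-! ### The group -/

theorem mem_M22_iff (σ : Equiv.Perm GolayPt) :
    σ ∈ Cfsg.Spor.M22 ↔
      σ ∈ Cfsg.M24 ∧ σ (none : GolayPt) = none ∧ σ (some 0 : GolayPt) = some 0 := by
  unfold Cfsg.Spor.M22 Cfsg.Spor.M23
  rw [Subgroup.mem_inf, Subgroup.mem_inf]
  exact ⟨fun h => ⟨h.1.1, h.1.2, h.2⟩, fun h => ⟨⟨h.1, h.2.1⟩, h.2.2⟩⟩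

theorem M22_le : Cfsg.Spor.M22 ≤ Cfsg.M24 := fun σ h => ((mem_M22_iff σ).1 h).1

theorem dec_bpt0 : dec (bpt 0) = (none : GolayPt) := by decide
theorem dec_bpt1 : dec (bpt 1) = (some 0 : GolayPt) := by decide

theorem M22_eq_grp : Cfsg.Spor.M22 = grp 2 := by
  ext σ
  rw [mem_grp_iff 2 (by norm_num), mem_M22_iff]
  constructor
  · rintro ⟨h1, h2, h3⟩
    refine ⟨h1, fun i' hi' => ?_⟩
    have : i' = 0 ∨ i' = 1 := by omega
    rcases this with rfl | rfl
    · rw [dec_bpt0]; exact h2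
    · rw [dec_bpt1]; exact h3
  · rintro ⟨h1, h2⟩
    refine ⟨h1, ?_, ?_⟩
    · have := h2 0 (by norm_num)
      rw [dec_bpt0] at this
      exact this
    · have := h2 1 (by norm_num)
      rw [dec_bpt1] at this
      exact this

theorem fixes_none {σ : Equiv.Perm GolayPt} {c : ℕ} (hσ : Coded σ c) (h : app c 23 = 23) :
    σ (none : GolayPt) = none := by
  apply idx_injective
  rw [hσ]
  exact h

theorem fixes_zero {σ : Equiv.Perm GolayPt} {c : ℕ} (hσ : Coded σ c) (h : app c 0 = 0) :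
    σ (some 0 : GolayPt) = some 0 := by
  apply idx_injective
  rw [hσ]
  exact h

/-- The third generator. -/
def fP : Equiv.Perm GolayPt := evalW wF

theorem wF_lt : ∀ l ∈ wF, l < ngen := by decide

theorem fP_coded : Coded fP fC := coded_evalW wF wF_lt fC (by decide +kernel)

theorem fP_mem24 : fP ∈ Cfsg.M24 :=
  grp_le_M24 0 (evalW_mem_grp 0 wF (fun l hl => ⟨wF_lt l hl, Nat.zero_le _⟩))

theorem nP_mem22 : nP ∈ Cfsg.Spor.M22 :=
  (mem_M22_iff _).2 ⟨nP_mem, fixes_none nP_coded (by decide), fixes_zero nP_coded (by decide)⟩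
theorem dP_mem22 : dP ∈ Cfsg.Spor.M22 :=
  (mem_M22_iff _).2 ⟨dP_mem, fixes_none dP_coded (by decide), fixes_zero dP_coded (by decide)⟩
theorem fP_mem22 : fP ∈ Cfsg.Spor.M22 :=
  (mem_M22_iff _).2 ⟨fP_mem24, fixes_none fP_coded (by decide), fixes_zero fP_coded (by decide)⟩

theorem f_d : fP * dP = dP ^ 2 * fP :=
  mul_eq_mul_of_coded fP_coded dP_coded d2_coded fP_coded (by decide +kernel)

/-- The group `M₂₂`. -/
abbrev G22 := ↥Cfsg.Spor.M22

/-- The doubling map. -/
def nG : G22 := ⟨nP, nP_mem22⟩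
/-- The cube twist. -/
def dG : G22 := ⟨dP, dP_mem22⟩
/-- The third generator. -/
def fG : G22 := ⟨fP, fP_mem22⟩

/-! ### Generation -/

/-- The subgroup generated by the three elements. -/
def K22 : Subgroup (Equiv.Perm GolayPt) := Subgroup.closure {nP, dP, fP}

theorem slp_all : allR 4 98 (slpOK SC SA SB) = true := by decide +kernel

theorem base_codes : SC 0 = idC ∧ SC 1 = nC ∧ SC 2 = dC ∧ SC 3 = fC := by decide +kernel

theorem node_mem : ∀ k < nS, ∃ σ ∈ K22, Coded σ (SC k) := by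
  apply slp_sound SC SA SB 4 nS K22
  · intro k hk
    obtain ⟨h0, h1, h2, h3⟩ := base_codes
    interval_cases k
    · exact ⟨1, K22.one_mem, by rw [h0]; exact id_coded⟩
    · exact ⟨nP, Subgroup.subset_closure (by simp), by rw [h1]; exact nP_coded⟩
    · exact ⟨dP, Subgroup.subset_closure (by simp), by rw [h2]; exact dP_coded⟩
    · exact ⟨fP, Subgroup.subset_closure (by simp), by rw [h3]; exact fP_coded⟩
  · intro k hk1 hk2
    exact allR_true slp_all k hk1 (by have : k < 102 := hk2; omega)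

theorem targets : ∀ j < 13, 2 ≤ j → TG j < nS ∧ SC (TG j) = gcode j := by decide +kernel

theorem gP_mem_K22 (j : ℕ) (hj : j < ngen) (hj2 : 2 ≤ j) : gP j ∈ K22 := by
  obtain ⟨h1, h2⟩ := targets j hj hj2
  obtain ⟨σ, hσ, hc⟩ := node_mem (TG j) h1
  have : gP j = σ := by
    apply Coded.ext (c := gcode j)
    · exact fun q => idx_gP j hj q
    · rw [← h2]; exact hc
  rw [this]; exact hσ

theorem depth_small : depthOf 0 = 1 ∧ depthOf 1 = 0 := by decide

theorem grp2_le : grp 2 ≤ K22 := by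
  unfold grp
  rw [Subgroup.closure_le]
  rintro g ⟨j, hj, hd, rfl⟩
  apply gP_mem_K22 j hj
  by_contra h
  have : j = 0 ∨ j = 1 := by omega
  rcases this with rfl | rfl
  · rw [depth_small.1] at hd; omega
  · rw [depth_small.2] at hd; omega

theorem closure_G22 : Subgroup.closure ({nG, dG, fG} : Set G22) = ⊤ := by
  rw [eq_top_iff]
  intro g _
  let K : Subgroup (Equiv.Perm GolayPt) :=
    (Subgroup.closure ({nG, dG, fG} : Set G22)).map (Cfsg.Spor.M22).subtype
  have hn : nP ∈ K := ⟨nG, Subgroup.subset_closure (by simp), rfl⟩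
  have hd : dP ∈ K := ⟨dG, Subgroup.subset_closure (by simp), rfl⟩
  have hf : fP ∈ K := ⟨fG, Subgroup.subset_closure (by simp), rfl⟩
  have hle : Cfsg.Spor.M22 ≤ K := by
    rw [M22_eq_grp]
    refine grp2_le.trans ?_
    unfold K22
    rw [Subgroup.closure_le]
    intro y hy
    rcases hy with rfl | rfl | rfl
    · exact hn
    · exact hd
    · exact hf
  obtain ⟨k, hk, hkg⟩ := hle g.2
  have : k = g := Subtype.ext hkg
  rw [← this]; exact hk

/-! ### The normalizer of the cube twist -/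

/-- The elements of `M₂₂` semiconjugating `d` to `d²`. -/
def SF : List (List ℕ) :=
  searchAll (fun i W => lvlE dC d2C edgesD i W && lvlFix [(0, 23), (1, 0)] i W && lvlMask 0 i W)
    (fun W => finE dC d2C W && finMask 0 W)

theorem SF_listed : listedIn SF candF 5 = true := by decide +kernel

theorem semi_f (g : Equiv.Perm GolayPt) (hg : g ∈ Cfsg.Spor.M22) (h : g * dP = dP ^ 2 * g) :
    InList candF 5 g := by
  obtain ⟨h24, h1, h2⟩ := (mem_M22_iff g).1 hg
  obtain ⟨W, hW, hl, rfl⟩ := semi_search2 dP (dP ^ 2) dC d2C dP_coded d2_coded edgesD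
    [(0, 23), (1, 0)] 0 g h24 h
    (by
      intro e he
      simp only [List.mem_cons, List.not_mem_nil, or_false] at he
      rcases he with rfl | rfl
      · show idx (g (dec (bpt 0))) = 23
        rw [dec_bpt0, h1]; rfl
      · show idx (g (dec (bpt 1))) = 0
        rw [dec_bpt1, h2]; rfl)
    (by intro q; simp)
  exact inList_of_listedIn SF_listed W hW hl

/-! ### Automorphisms fixing `n` and `d` -/

theorem certA : allB 5 (certOK candF (FIXnd nC) relA crA cpA GOODF 1) = true := by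
  decide +kernel

theorem trueA : relsOK (kap (FIXnd nC) fC) relA nrelA = true := by decide +kernel

theorem fix_all (φ : MulAut G22) (hn : φ nG = nG) (hd : φ dG = dG) : φ = 1 := by
  have hrel : ((φ fG : G22) : Equiv.Perm GolayPt) * dP = dP ^ 2 * ((φ fG : G22) : Equiv.Perm GolayPt) := by
    have h0 : fG * dG = dG ^ 2 * fG := Subtype.ext f_d
    have h := congrArg φ h0
    rw [map_mul, map_mul, map_pow, hd] at h
    exact congrArg Subtype.val h
  obtain ⟨i, _, hc⟩ := third Cfsg.Spor.M22 nP_mem22 dP_mem22 fP fP_mem22 fC fP_coded candF 5 nC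
    relA nrelA crA cpA GOODF 1 certA trueA (fun r hr => getD_nil_of_le hr) φ
    (by
      show Coded ((φ nG : G22) : Equiv.Perm GolayPt) nC
      rw [hn]; exact nP_coded)
    hd (semi_f _ (φ fG).2 hrel)
  have hF : φ fG = fG := Subtype.ext (Coded.ext hc fP_coded)
  apply AutInner.eq_one_of_fix_generators _ closure_G22
  intro s hs
  rcases hs with rfl | rfl | rfl
  · exact hn
  · exact hd
  · exact hF

/-! ### The outer automorphism -/

theorem y1_sq : y1P * y1P = 1 :=
  Coded.ext (coded_mul y1P_coded y1P_coded (by decide +kernel)) id_coded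

theorem y1_none : y1P (none : GolayPt) = some 0 := by
  apply idx_injective
  rw [y1P_coded]
  decide

theorem y1_zero : y1P (some 0 : GolayPt) = none := by
  apply idx_injective
  rw [y1P_coded]
  decide

theorem y1_norm : ∀ h ∈ Cfsg.Spor.M22, y1P * h * y1P ∈ Cfsg.Spor.M22 := by
  intro h hh
  obtain ⟨h24, h1, h2⟩ := (mem_M22_iff h).1 hh
  refine (mem_M22_iff _).2 ⟨Subgroup.mul_mem _ (Subgroup.mul_mem _ y1P_mem h24) y1P_mem, ?_, ?_⟩
  · rw [Equiv.Perm.mul_apply, Equiv.Perm.mul_apply, y1_none, h2, y1_zero]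
  · rw [Equiv.Perm.mul_apply, Equiv.Perm.mul_apply, y1_zero, h1, y1_none]

/-- Conjugation by the inversion. -/
def τ : MulAut G22 := AutOuter.conjAut Cfsg.Spor.M22 y1P y1_sq y1_norm

theorem y1_d : y1P * dP = dP * y1P :=
  mul_eq_mul_of_coded y1P_coded dP_coded dP_coded y1P_coded (by decide +kernel)

theorem τ_n : τ nG = nG⁻¹ := by
  apply Subtype.ext
  show y1P * nP * y1P = nP⁻¹
  rw [y1_n, mul_assoc, y1_sq, mul_one]

theorem τ_d : τ dG = dG := by
  apply Subtype.ext
  show y1P * dP * y1P = dP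
  rw [y1_d, mul_assoc, y1_sq, mul_one]

theorem nG_pow : nG ^ 10 = nG⁻¹ := by
  apply eq_inv_of_mul_eq_one_left
  rw [← pow_succ]
  apply Subtype.ext
  exact n_pow

theorem aut_cases (φ : MulAut G22) :
    (∃ g : G22, φ = MulAut.conj g) ∨ ∃ g : G22, φ * τ = MulAut.conj g := by
  obtain ⟨g, r, hr, hN, hD⟩ := normalize_nd Cfsg.Spor.M22 M22_le nP_mem22 dP_mem22 φ
  obtain ⟨φ2, hφ2⟩ : ∃ φ2 : MulAut G22, φ2 = (MulAut.conj g)⁻¹ * φ := ⟨_, rfl⟩
  rw [← hφ2] at hN hD
  have e2 : φ = MulAut.conj g * φ2 := by rw [hφ2, mul_inv_cancel_left]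
  rcases hr with rfl | rfl
  · left
    have hN' : φ2 nG = nG := by
      have : φ2 nG = nG ^ 1 := hN
      rwa [pow_one] at this
    have hone := fix_all φ2 hN' hD
    exact ⟨g, by rw [e2, hone, mul_one]⟩
  · right
    have hN' : (φ2 * τ) nG = nG := by
      rw [MulAut.mul_apply, τ_n, map_inv]
      have : φ2 nG = nG ^ 10 := hN
      rw [this, nG_pow, inv_inv]
    have hD' : (φ2 * τ) dG = dG := by
      rw [MulAut.mul_apply, τ_d]; exact hD
    have hone := fix_all (φ2 * τ) hN' hD'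
    exact ⟨g, by rw [e2, mul_assoc, hone, mul_one]⟩

theorem cand2_none : ∀ j < 11, app (cand2 j) 23 = 0 := by decide +kernel

theorem tau_not_inner : ¬ ∃ g : G22, τ = MulAut.conj g := by
  rintro ⟨g, hg⟩
  have h1 : τ nG = g * nG * g⁻¹ := by rw [hg, MulAut.conj_apply]
  rw [τ_n] at h1
  have h2 : g * nG = nG⁻¹ * g := by rw [h1]; group
  have h3 : (g : Equiv.Perm GolayPt) * nP = nP⁻¹ * (g : Equiv.Perm GolayPt) :=
    congrArg Subtype.val h2
  obtain ⟨j, hj, hcj⟩ := semi_n1 (g : Equiv.Perm GolayPt) (M22_le g.2) h3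
  have h4 := hcj (none : GolayPt)
  rw [((mem_M22_iff _).1 g.2).2.1] at h4
  have h5 : app (cand2 j) (idx (none : GolayPt)) = 0 := cand2_none j hj
  rw [h5] at h4
  revert h4
  decide

theorem card_Out_M22 : Nat.card (Cfsg.Out G22) = 2 :=
  AutOuter.card_Out_eq_two τ tau_not_inner aut_cases

end Cfsg.Agent.Helper26.M22O
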