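
/-!
# Data for the subgroup `PSL(2,23)` of `M₂₄` (generated)

For `1 ≤ k ≤ 22`: `y1 * (x ^ k * y1) = (x ^ aT k * y1) * (x ^ cT k * n ^ eT k)`.
-/

set_option autoImplicit false

namespace Cfsg.Agent.Helper26.PSL23D

def aT (k : Nat) : Nat := [0, 22, 11, 15, 17, 9, 19, 13, 20, 5, 16, 2, 21, 7, 18, 3, 10, 4, 14, 6, 8, 12, 1].getD k 0
def cT (k : Nat) : Nat := [0, 22, 21, 20, 19, 18, 17, 16, 15, 14, 13, 12, 11, 10, 9, 8, 7, 6, 5, 4, 3, 2, 1].getD k 0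
def eT (k : Nat) : Nat := [0, 0, 2, 5, 4, 1, 7, 8, 6, 10, 3, 9, 9, 3, 10, 6, 8, 7, 1, 4, 5, 2, 0].getD k 0

end Cfsg.Agent.Helper26.PSL23D
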