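import Mathlib

/-!
# Counting Sylow subgroups of prime order

* `mem_normalizer_zpowers`: in a finite group, `h` normalizes `⟨g⟩` as soon as `h g h⁻¹ ∈ ⟨g⟩`.
* `card_normalizer_dvd`: if `g` has prime order `p` and `C(g) = ⟨g⟩`, then `|N(⟨g⟩)|` divides
  `p (p - 1)`.
* `sylow_count`: if `g` has prime order `p` and `p²` does not divide `|G|`, then
  `|G| = |N(⟨g⟩)| * t` with `t ≡ 1 (mod p)`.
* `isCoatom_subgroupOf`: maximality of `A` in `M` from the absence of intermediate subgroups.
-/

set_option autoImplicit false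

namespace Cfsg.Agent.Helper26.SylowCount

variable {G : Type*} [Group G]

theorem conj_pow_mem (g h : G) (hm : h * g * h⁻¹ ∈ Subgroup.zpowers g) :
    ∀ y ∈ Subgroup.zpowers g, h * y * h⁻¹ ∈ Subgroup.zpowers g := by
  intro y hy
  obtain ⟨k, rfl⟩ := Subgroup.mem_zpowers_iff.1 hy
  have : h * g ^ k * h⁻¹ = (h * g * h⁻¹) ^ k := by
    rw [conj_zpow]
  rw [this]
  exact Subgroup.zpow_mem _ hm k

theorem mem_normalizer_zpowers [Finite G] (g h : G) (hm : h * g * h⁻¹ ∈ Subgroup.zpowers g) :
    h ∈ Subgroup.normalizer (Subgroup.zpowers g : Set G) := by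
  have hpow : ∀ m : ℕ, ∀ y ∈ Subgroup.zpowers g, h ^ m * y * (h ^ m)⁻¹ ∈ Subgroup.zpowers g := by
    intro m
    induction m with
    | zero => intro y hy; simpa using hy
    | succ m ih =>
      intro y hy
      have e : h ^ (m + 1) * y * (h ^ (m + 1))⁻¹ = h * (h ^ m * y * (h ^ m)⁻¹) * h⁻¹ := by
        rw [pow_succ']; group
      rw [e]
      exact conj_pow_mem g h hm _ (ih y hy)
  rw [Subgroup.mem_normalizer_iff]
  intro y
  constructor
  · exact conj_pow_mem g h hm y
  · intro hy
    have h1 : 0 < orderOf h := orderOf_pos h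
    have hinv : h⁻¹ = h ^ (orderOf h - 1) := by
      have : h ^ (orderOf h - 1) * h = 1 := by
        rw [← pow_succ, Nat.sub_add_cancel h1, pow_orderOf_eq_one]
      exact (eq_inv_of_mul_eq_one_left this).symm
    have h2 := hpow (orderOf h - 1) _ hy
    rw [← hinv] at h2
    have e : h⁻¹ * (h * y * h⁻¹) * h⁻¹⁻¹ = y := by group
    rwa [e] at h2

theorem card_normalizer_dvd [Finite G] (g : G) (p : ℕ) [hp : Fact p.Prime] (hg : orderOf g = p)
    (hC : ∀ h : G, h * g = g * h → h ∈ Subgroup.zpowers g) :
    Nat.card (Subgroup.normalizer (Subgroup.zpowers g : Set G)) ∣ p * (p - 1) := by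
  set H : Subgroup G := Subgroup.zpowers g with hH
  have hcardH : Nat.card H = p := by rw [hH, Nat.card_zpowers, hg]
  have key := Subgroup.card_dvd_of_injective _
    (QuotientGroup.kerLift_injective H.normalizerMonoidHom)
  rw [Subgroup.normalizerMonoidHom_ker, ← Subgroup.index, ← Subgroup.relIndex] at key
  have hcyc : IsCyclic H := by rw [hH]; infer_instance
  rw [IsCyclic.card_mulAut, hcardH, Nat.totient_prime hp.out] at key
  -- the centralizer of `H` is `H`
  have hcent : Subgroup.centralizer (H : Set G) = H := by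
    apply le_antisymm
    · intro h hh
      apply hC
      have := hh g (Subgroup.mem_zpowers g)
      exact this.symm
    · intro h hh
      rw [Subgroup.mem_centralizer_iff]
      intro y hy
      obtain ⟨k, rfl⟩ := Subgroup.mem_zpowers_iff.1 hy
      obtain ⟨l, rfl⟩ := Subgroup.mem_zpowers_iff.1 hh
      exact (Commute.refl g).zpow_zpow k l
  rw [hcent] at key
  have h1 : H.relIndex (Subgroup.normalizer (H : Set G)) * Nat.card H =
      Nat.card (Subgroup.normalizer (H : Set G)) := by
    have h2 := Subgroup.relIndex_mul_relIndex ⊥ H (Subgroup.normalizer (H : Set G)) bot_le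
      Subgroup.le_normalizer
    rw [Subgroup.relIndex_bot_left, Subgroup.relIndex_bot_left] at h2
    rw [mul_comm]; exact h2
  rw [← h1, hcardH, mul_comm]
  exact Nat.mul_dvd_mul_left p key

theorem sylow_count [Finite G] (g : G) (p : ℕ) [hp : Fact p.Prime] (hg : orderOf g = p)
    (hp2 : ¬ p ^ 2 ∣ Nat.card G) :
    ∃ t, Nat.card G = Nat.card (Subgroup.normalizer (Subgroup.zpowers g : Set G)) * t ∧
      t % p = 1 := by
  have hG0 : Nat.card G ≠ 0 := Nat.card_pos.ne'
  have hpG : p ∣ Nat.card G := hg ▸ orderOf_dvd_natCard g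
  have hfac : (Nat.card G).factorization p = 1 := by
    have h1 : 1 ≤ (Nat.card G).factorization p :=
      (hp.out.dvd_iff_one_le_factorization hG0).1 hpG
    have h2 : ¬ 2 ≤ (Nat.card G).factorization p := by
      intro h
      exact hp2 ((hp.out.pow_dvd_iff_le_factorization hG0).2 h)
    omega
  let P : Sylow p G := Sylow.ofCard (Subgroup.zpowers g) (by
    rw [Nat.card_zpowers, hg, hfac, pow_one])
  have hP : (P : Subgroup G) = Subgroup.zpowers g := Sylow.coe_ofCard _ _
  have h1 : Nat.card (Sylow p G) ≡ 1 [MOD p] := card_sylow_modEq_one p G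
  have h2 : Nat.card (Sylow p G) = (Subgroup.normalizer ((P : Subgroup G) : Set G)).index :=
    Sylow.card_eq_index_normalizer P
  rw [hP] at h2
  refine ⟨(Subgroup.normalizer (Subgroup.zpowers g : Set G)).index, ?_, ?_⟩
  · exact (Subgroup.card_mul_index _).symm
  · rw [← h2]
    have := h1
    unfold Nat.ModEq at this
    rw [this]
    exact Nat.mod_eq_of_lt hp.out.one_lt

theorem isCoatom_subgroupOf (A M : Subgroup G) (hAM : A ≤ M) (hne : A ≠ M)
    (h : ∀ K : Subgroup G, A ≤ K → K ≤ M → K = A ∨ K = M) : IsCoatom (A.subgroupOf M) := by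
  constructor
  · intro htop
    rw [Subgroup.subgroupOf_eq_top] at htop
    exact hne (le_antisymm hAM htop)
  · intro K' hK'
    have hle : A ≤ K'.map M.subtype := by
      intro a ha
      have : (⟨a, hAM ha⟩ : M) ∈ A.subgroupOf M := ha
      exact ⟨⟨a, hAM ha⟩, hK'.le this, rfl⟩
    have hle2 : K'.map M.subtype ≤ M := Subgroup.map_subtype_le K'
    rcases h _ hle hle2 with h1 | h1
    · exfalso
      apply hK'.not_ge
      intro k hk
      have : (k : G) ∈ K'.map M.subtype := ⟨k, hk, rfl⟩
      rw [h1] at this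
      exact this
    · rw [eq_top_iff]
      intro m _
      have : (m : G) ∈ K'.map M.subtype := by rw [h1]; exact m.2
      obtain ⟨k, hk, hkm⟩ := this
      have : k = m := Subtype.ext hkm
      rw [← this]; exact hk

end Cfsg.Agent.Helper26.SylowCount
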