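import Mathlib
import Cfsg.Prelude.Def_Spor_Mathieu
import Cfsg.Agent.Lib.Helper26.M24Y1
import Cfsg.Agent.Lib.Helper26.SylowCount

/-!
# Centralizers and normalizers in `M₂₄` of the translation and of the doubling map

* `cent_x`, `cent_n`: the translation `x` and the doubling map `n` generate their own
  centralizers in `M₂₄`.
* `no_invert_x`: no element of `M₂₄` inverts `x`.
* `norm_x`: the normalizer of `⟨x⟩` in `M₂₄` is `⟨x, n⟩`.
-/

set_option autoImplicit false

namespace Cfsg.Agent.Helper26.PSL23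

open Cfsg Cfsg.Agent.Helper26 Cfsg.Agent.Helper26.PermCert Cfsg.Agent.Helper26.M24Semi
  Cfsg.Agent.Helper26.M24PD Cfsg.Agent.Helper26.M24A Cfsg.Agent.Helper26.M24O
  Cfsg.Agent.Helper26.M24ND Cfsg.Agent.Helper26.M24NDD Cfsg.Agent.Helper26.M24Y
open Cfsg.Agent.Helper29.M24
open Cfsg.Agent.S0358 (idx)

/-! ### Generalities -/

theorem semi_pow {G : Type*} [Group G] (n x : G) (m : ℕ) (h : n * x = x ^ m * n) (i : ℕ) :
    n * x ^ i = x ^ (m * i) * n := by
  have h1 : SemiconjBy n x (x ^ m) := h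
  have h2 := (h1.pow_right i).eq
  rw [← pow_mul] at h2
  exact h2

theorem mem_zpowers_of_conj {G : Type*} [Group G] (n x g : G) (m p minv a : ℕ)
    (hxp : x ^ p = 1) (hn : n * x = x ^ m * n) (hm : m * minv % p = 1)
    (h : n * g = x ^ a * n * (x ^ a)⁻¹) : g ∈ Subgroup.zpowers x := by
  have h1 : n * x ^ (minv * a) = x ^ (m * (minv * a)) * n := semi_pow n x m hn _
  have h2 : x ^ (m * (minv * a)) = x ^ a := by
    have e : m * (minv * a) = p * (m * minv / p * a) + a := by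
      have h3 := Nat.div_add_mod (m * minv) p
      rw [hm] at h3
      calc m * (minv * a) = (m * minv) * a := by ring
        _ = (p * (m * minv / p) + 1) * a := by rw [h3]
        _ = p * (m * minv / p * a) + a := by ring
    rw [e, pow_add, pow_mul, hxp, one_pow, one_mul]
  have h4 : x ^ a * n = n * x ^ (minv * a) := by rw [h1, h2]
  have h3 : g = x ^ (minv * a) * (x ^ a)⁻¹ := by
    calc g = n⁻¹ * (n * g) := by group
      _ = n⁻¹ * (x ^ a * n * (x ^ a)⁻¹) := by rw [h]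
      _ = n⁻¹ * (n * x ^ (minv * a)) * (x ^ a)⁻¹ := by rw [← h4]; group
      _ = x ^ (minv * a) * (x ^ a)⁻¹ := by group
  rw [h3]
  exact Subgroup.mul_mem _ (Subgroup.pow_mem _ (Subgroup.mem_zpowers x) _)
    (Subgroup.inv_mem _ (Subgroup.pow_mem _ (Subgroup.mem_zpowers x) _))

/-! ### Centralizers -/

theorem cent_x (g : Equiv.Perm GolayPt) (hg : g ∈ Cfsg.M24) (h : g * xP = xP * g) :
    g ∈ Subgroup.zpowers xP := by
  have h1 : (nP * g) * xP = xP ^ 2 * (nP * g) := by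
    rw [mul_assoc, h, ← mul_assoc, n_x, mul_assoc]
  obtain ⟨a, ha, hca⟩ := semi_x (nP * g) (Subgroup.mul_mem _ nP_mem hg) h1
  have h2 : nP * g = xP ^ a * nP * (xP ^ a)⁻¹ := Coded.ext hca (candN_coded a ha)
  exact mem_zpowers_of_conj nP xP g 2 23 12 a x_pow n_x (by norm_num) h2

theorem cent_n (g : Equiv.Perm GolayPt) (hg : g ∈ Cfsg.M24) (h : g * nP = nP * g) :
    g ∈ Subgroup.zpowers nP := by
  have h1 : (dP * g) * nP = nP ^ 3 * (dP * g) := by
    rw [mul_assoc, h, ← mul_assoc, d_n, mul_assoc]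
  obtain ⟨j, hj, hcj⟩ := semi_n3 (dP * g) (Subgroup.mul_mem _ dP_mem hg) h1
  obtain ⟨ha, hca⟩ := cand3_candD j hj
  rw [hca] at hcj
  have h2 : dP * g = nP ^ (aOf j) * dP * (nP ^ (aOf j))⁻¹ :=
    Coded.ext hcj (candD_coded (aOf j) ha)
  exact mem_zpowers_of_conj dP nP g 3 11 4 (aOf j) n_pow d_n (by norm_num) h2

/-! ### No element inverts the translation -/

/-- The elements semiconjugating `x` to `x⁻¹`: there are none. -/
def SXI : List (List ℕ) := searchAll (lvlE xC xiC edgesX) (finE xC xiC)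

theorem SXI_nil : SXI = [] := by decide +kernel

theorem no_invert_x (g : Equiv.Perm GolayPt) (hg : g ∈ Cfsg.M24) (h : g * xP = xP⁻¹ * g) :
    False := by
  obtain ⟨W, hW, _, _⟩ := semi_search xP xP⁻¹ xC xiC xP_coded xi_coded edgesX g hg h
  have hW' : W ∈ SXI := hW
  rw [SXI_nil] at hW'
  exact absurd hW' List.not_mem_nil

/-! ### The normalizer of the translation -/

/-- The group generated by the translation and the doubling map. -/
def Bgrp : Subgroup (Equiv.Perm GolayPt) := Subgroup.closure {xP, nP}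

theorem xP_mem_B : xP ∈ Bgrp := Subgroup.subset_closure (by simp)
theorem nP_mem_B : nP ∈ Bgrp := Subgroup.subset_closure (by simp)

theorem B_le_M24 : Bgrp ≤ Cfsg.M24 := by
  unfold Bgrp
  rw [Subgroup.closure_le]
  intro y hy
  rcases hy with rfl | rfl
  · exact xP_mem
  · exact nP_mem

theorem n_conj_x : nP * xP * nP⁻¹ = xP ^ 2 := by
  rw [n_x, mul_assoc, mul_inv_cancel, mul_one]

theorem x_pow_mod (k : ℕ) : xP ^ k = xP ^ (k % 23) := by
  rw [← orderOf_xP, pow_mod_orderOf]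

theorem x_pow_22 : xP ^ 22 = xP⁻¹ := by
  apply eq_inv_of_mul_eq_one_left
  rw [← pow_succ]
  exact x_pow

theorem norm_x (g : Equiv.Perm GolayPt) (hg : g ∈ Cfsg.M24)
    (hm : g * xP * g⁻¹ ∈ Subgroup.zpowers xP) : g ∈ Bgrp := by
  have hm' : g * xP * g⁻¹ ∈ Submonoid.powers xP := mem_powers_iff_mem_zpowers.2 hm
  obtain ⟨k0, hk0⟩ := hm'
  have hk0' : xP ^ k0 = g * xP * g⁻¹ := hk0
  rw [x_pow_mod] at hk0'
  obtain ⟨k, hk⟩ : ∃ k, k = k0 % 23 := ⟨_, rfl⟩
  rw [← hk] at hk0'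
  have hk23 : k < 23 := by rw [hk]; exact Nat.mod_lt _ (by norm_num)
  have hkpos : 0 < k := by
    rcases Nat.eq_zero_or_pos k with h0 | h0
    · exfalso
      rw [h0, pow_zero] at hk0'
      apply x_ne_one
      have : xP = g⁻¹ * (g * xP * g⁻¹) * g := by group
      rw [this, ← hk0']; group
    · exact h0
  obtain ⟨e, r, hr, hmod⟩ := hR23 k hk23 hkpos
  have hr' : r = 1 ∨ r = 22 := by simpa using hr
  have hpow : xP ^ k = xP ^ (r * 2 ^ e) := by
    rw [pow_eq_pow_iff_modEq, orderOf_xP]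
    exact hmod
  have hit := AutInner.conj_pow_iterate xP nP 2 n_conj_x e
  obtain ⟨g', hg'⟩ : ∃ g' : Equiv.Perm GolayPt, g' = (nP ^ e)⁻¹ * g := ⟨_, rfl⟩
  have hg'24 : g' ∈ Cfsg.M24 := by
    rw [hg']
    exact Subgroup.mul_mem _ (Subgroup.inv_mem _ (Subgroup.pow_mem _ nP_mem _)) hg
  have hgg : g = nP ^ e * g' := by rw [hg']; group
  have hconj : g' * xP * g'⁻¹ = xP ^ r := by
    have h1 : g' * xP * g'⁻¹ = (nP ^ e)⁻¹ * (g * xP * g⁻¹) * nP ^ e := by
      rw [hg']; group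
    rw [h1, ← hk0', hpow, mul_comm r, pow_mul, ← hit]
    have : (nP ^ e)⁻¹ * (nP ^ e * xP * (nP ^ e)⁻¹) ^ r * nP ^ e =
        ((nP ^ e)⁻¹ * (nP ^ e * xP * (nP ^ e)⁻¹) * nP ^ e) ^ r := by
      have := conj_pow (a := (nP ^ e)⁻¹) (b := (nP ^ e * xP * (nP ^ e)⁻¹)) (i := r)
      simpa using this.symm
    rw [this]
    congr 1
    group
  rcases hr' with rfl | rfl
  · rw [pow_one] at hconj
    have hcomm : g' * xP = xP * g' := by
      have : g' * xP = (g' * xP * g'⁻¹) * g' := by group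
      rw [this, hconj]
    have hz := cent_x g' hg'24 hcomm
    rw [hgg]
    refine Subgroup.mul_mem _ (Subgroup.pow_mem _ nP_mem_B _) ?_
    exact (Subgroup.zpowers_le.2 xP_mem_B) hz
  · exfalso
    rw [x_pow_22] at hconj
    apply no_invert_x g' hg'24
    have : g' * xP = (g' * xP * g'⁻¹) * g' := by group
    rw [this, hconj]

end Cfsg.Agent.Helper26.PSL23
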