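import Mathlib
import Cfsg.Agent.Lib.Helper26.PSL23a
import Cfsg.Agent.Lib.Helper26.Schreier
import Cfsg.Agent.Lib.Helper26.PSL23Data

/-!
# The orders of `⟨x, n⟩` and of `⟨x, n, y1⟩` in `M₂₄`

Two Schreier steps: `⟨x, n⟩` has order `23 * 11` and `⟨x, n, y1⟩ = PSL(2,23)` has order
`24 * 253 = 6072`.
-/

set_option autoImplicit false

namespace Cfsg.Agent.Helper26.PSL23

open Cfsg Cfsg.Agent.Helper26 Cfsg.Agent.Helper26.PermCert Cfsg.Agent.Helper26.M24Semi
  Cfsg.Agent.Helper26.M24PD Cfsg.Agent.Helper26.M24A Cfsg.Agent.Helper26.M24O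
  Cfsg.Agent.Helper26.M24ND Cfsg.Agent.Helper26.M24NDD Cfsg.Agent.Helper26.M24Y
  Cfsg.Agent.Helper26.PSL23D
open Cfsg.Agent.Helper29.M24
open Cfsg.Agent.S0358 (idx)

theorem iter_x_zero : ∀ i < 23, iter (app xC) i 0 = i := by decide +kernel

theorem dec_zero' : dec 0 = (some 0 : GolayPt) := by decide
theorem dec_none' : dec 23 = (none : GolayPt) := by decide

theorem xpow_zero (i : ℕ) (hi : i < 23) : (xP ^ i) (some 0 : GolayPt) = dec i := by
  apply idx_injective
  rw [idx_pow_apply xP xC xP_coded, idx_dec ⟨i, by omega⟩]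
  exact iter_x_zero i hi

theorem fix_none_of_coded {σ : Equiv.Perm GolayPt} {c : ℕ} (hσ : Coded σ c) (h : app c 23 = 23) :
    σ (none : GolayPt) = none := by
  apply idx_injective
  rw [hσ]
  exact h

theorem fix_zero_of_coded {σ : Equiv.Perm GolayPt} {c : ℕ} (hσ : Coded σ c) (h : app c 0 = 0) :
    σ (some 0 : GolayPt) = some 0 := by
  apply idx_injective
  rw [hσ]
  exact h

theorem x_none : xP (none : GolayPt) = none := fix_none_of_coded xP_coded (by decide)
theorem n_none : nP (none : GolayPt) = none := fix_none_of_coded nP_coded (by decide)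
theorem n_zero : nP (some 0 : GolayPt) = some 0 := fix_zero_of_coded nP_coded (by decide)

theorem y1_none : y1P (none : GolayPt) = some 0 := by
  apply idx_injective
  rw [y1P_coded]
  decide

/-! ### The order of `⟨x, n⟩` -/

theorem card_B_and_stab :
    (∀ k ∈ Bgrp, k (some 0 : GolayPt) = some 0 → k ∈ Subgroup.zpowers nP) ∧
      Nat.card Bgrp = 253 := by
  have h := schreier_idx ({xP, nP} : Set (Equiv.Perm GolayPt)) (Subgroup.zpowers nP)
    (some 0 : GolayPt) 23 (fun i => xP ^ i) (by norm_num) (pow_zero _)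
    (fun i _ => Subgroup.pow_mem _ xP_mem_B i)
    (by
      intro i hi j hj hij
      have hij' : (xP ^ i) (some 0 : GolayPt) = (xP ^ j) (some 0 : GolayPt) := hij
      rw [xpow_zero i hi, xpow_zero j hj] at hij'
      have := congrArg idx hij'
      rwa [idx_dec ⟨i, by omega⟩, idx_dec ⟨j, by omega⟩] at this)
    (Subgroup.zpowers_le.2 nP_mem_B)
    (by
      intro h hh
      have hle : Subgroup.zpowers nP ≤
          MulAction.stabilizer (Equiv.Perm GolayPt) (some 0 : GolayPt) :=
        Subgroup.zpowers_le.2 (MulAction.mem_stabilizer_iff.2 n_zero)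
      exact MulAction.mem_stabilizer_iff.1 (hle hh))
    (by
      intro g hg i hi
      rcases hg with rfl | rfl
      · refine ⟨(i + 1) % 23, Nat.mod_lt _ (by norm_num), ?_⟩
        have : (xP ^ ((i + 1) % 23))⁻¹ * xP * xP ^ i = 1 := by
          rw [← x_pow_mod, mul_assoc, ← pow_succ', inv_mul_cancel]
        rw [this]; exact Subgroup.one_mem _
      · refine ⟨(2 * i) % 23, Nat.mod_lt _ (by norm_num), ?_⟩
        have : (xP ^ ((2 * i) % 23))⁻¹ * nP * xP ^ i = nP := by
          rw [← x_pow_mod, mul_assoc, semi_pow nP xP 2 n_x i, ← mul_assoc, inv_mul_cancel,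
            one_mul]
        rw [this]; exact Subgroup.mem_zpowers nP)
  refine ⟨fun k hk hk0 => h.1 k hk hk0, ?_⟩
  have h2 := h.2
  rw [Nat.card_zpowers, orderOf_nP] at h2
  exact h2

theorem card_B : Nat.card Bgrp = 253 := card_B_and_stab.2

theorem B_fix_none : ∀ h ∈ Bgrp, h (none : GolayPt) = none := by
  intro h hh
  have hle : Bgrp ≤ MulAction.stabilizer (Equiv.Perm GolayPt) (none : GolayPt) := by
    unfold Bgrp
    rw [Subgroup.closure_le]
    intro y hy
    rcases hy with rfl | rfl
    · exact MulAction.mem_stabilizer_iff.2 x_none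
    · exact MulAction.mem_stabilizer_iff.2 n_none
  exact MulAction.mem_stabilizer_iff.1 (hle hh)

/-! ### The order of `⟨x, n, y1⟩` -/

/-- The group generated by the translation, the doubling map and the inversion. -/
def Lgrp : Subgroup (Equiv.Perm GolayPt) := Subgroup.closure {xP, nP, y1P}

theorem xP_mem_L : xP ∈ Lgrp := Subgroup.subset_closure (by simp)
theorem nP_mem_L : nP ∈ Lgrp := Subgroup.subset_closure (by simp)
theorem y1P_mem_L : y1P ∈ Lgrp := Subgroup.subset_closure (by simp)

theorem B_le_L : Bgrp ≤ Lgrp := by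
  unfold Bgrp
  rw [Subgroup.closure_le]
  intro y hy
  rcases hy with rfl | rfl
  · exact xP_mem_L
  · exact nP_mem_L

theorem L_le_M24 : Lgrp ≤ Cfsg.M24 := by
  unfold Lgrp
  rw [Subgroup.closure_le]
  intro y hy
  rcases hy with rfl | rfl | rfl
  · exact xP_mem
  · exact nP_mem
  · exact y1P_mem

/-- The transversal. -/
def T (i : ℕ) : Equiv.Perm GolayPt := if i = 0 then 1 else xP ^ (i - 1) * y1P

theorem T_none (i : ℕ) (hi : i < 24) :
    idx ((T i) (none : GolayPt)) = if i = 0 then 23 else i - 1 := by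
  unfold T
  by_cases h0 : i = 0
  · rw [if_pos h0, if_pos h0]; rfl
  · rw [if_neg h0, if_neg h0, Equiv.Perm.mul_apply, y1_none, xpow_zero (i - 1) (by omega),
      idx_dec ⟨i - 1, by omega⟩]

theorem y1_inv : y1P⁻¹ = y1P := inv_eq_of_mul_eq_one_left y1_sq

theorem n_y1 : nP * y1P = y1P * nP⁻¹ := by
  calc nP * y1P = y1P * (y1P * nP * y1P) := by
        rw [← mul_assoc, ← mul_assoc, y1_sq, one_mul]
    _ = y1P * nP⁻¹ := by rw [y1_n_y1]

theorem yxy_table : ∀ k < 22, ∀ p < 24,
    app y1C (iter (app xC) (k + 1) (app y1C p)) =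
      iter (app xC) (aT (k + 1)) (app y1C (iter (app xC) (cT (k + 1))
        (iter (app nC) (eT (k + 1)) p))) := by decide +kernel

theorem aT_lt : ∀ k < 23, aT k < 23 := by decide

theorem yxy (k : ℕ) (hk1 : 1 ≤ k) (hk : k < 23) :
    y1P * (xP ^ k * y1P) = (xP ^ (aT k) * y1P) * (xP ^ (cT k) * nP ^ (eT k)) := by
  apply Equiv.ext
  intro q
  apply idx_injective
  simp only [Equiv.Perm.mul_apply]
  rw [y1P_coded, idx_pow_apply xP xC xP_coded, y1P_coded, idx_pow_apply xP xC xP_coded,
    y1P_coded, idx_pow_apply xP xC xP_coded, idx_pow_apply nP nC nP_coded]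
  have := yxy_table (k - 1) (by omega) (idx q) (idx_lt q)
  rw [Nat.sub_add_cancel hk1] at this
  exact this

theorem T_zero : T 0 = 1 := by simp [T]
theorem T_succ (k : ℕ) : T (k + 1) = xP ^ k * y1P := by simp [T]

theorem card_L_and_stab :
    (∀ k ∈ Lgrp, k (none : GolayPt) = none → k ∈ Bgrp) ∧ Nat.card Lgrp = 6072 := by
  have h := schreier_idx ({xP, nP, y1P} : Set (Equiv.Perm GolayPt)) Bgrp
    (none : GolayPt) 24 T (by norm_num) T_zero
    (by
      intro i _
      rcases Nat.eq_zero_or_pos i with h0 | h0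
      · rw [h0, T_zero]; exact Subgroup.one_mem _
      · obtain ⟨k, rfl⟩ : ∃ k, i = k + 1 := ⟨i - 1, by omega⟩
        rw [T_succ]
        exact Subgroup.mul_mem _ (Subgroup.pow_mem _ xP_mem_L _) y1P_mem_L)
    (by
      intro i hi j hj hij
      have hij' : (T i) (none : GolayPt) = (T j) (none : GolayPt) := hij
      have h1 := congrArg idx hij'
      rw [T_none i hi, T_none j hj] at h1
      by_cases hi0 : i = 0
      · by_cases hj0 : j = 0
        · rw [hi0, hj0]
        · rw [if_pos hi0, if_neg hj0] at h1; omega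
      · by_cases hj0 : j = 0
        · rw [if_neg hi0, if_pos hj0] at h1; omega
        · rw [if_neg hi0, if_neg hj0] at h1; omega)
    B_le_L B_fix_none
    (by
      intro g hg i hi
      rcases Nat.eq_zero_or_pos i with h0 | h0
      · subst h0
        rcases hg with rfl | rfl | rfl
        · refine ⟨0, by norm_num, ?_⟩
          rw [T_zero, inv_one, one_mul, mul_one]; exact xP_mem_B
        · refine ⟨0, by norm_num, ?_⟩
          rw [T_zero, inv_one, one_mul, mul_one]; exact nP_mem_B
        · refine ⟨1, by norm_num, ?_⟩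
          have : (T 1)⁻¹ * y1P * T 0 = 1 := by
            rw [T_zero, show T 1 = xP ^ 0 * y1P from T_succ 0, pow_zero, one_mul, mul_one,
              inv_mul_cancel]
          rw [this]; exact Subgroup.one_mem _
      · obtain ⟨k, rfl⟩ : ∃ k, i = k + 1 := ⟨i - 1, by omega⟩
        have hk : k < 23 := by omega
        rcases hg with rfl | rfl | rfl
        · refine ⟨(k + 1) % 23 + 1, by have := Nat.mod_lt (k + 1) (show 0 < 23 by norm_num); omega,
            ?_⟩
          have : (T ((k + 1) % 23 + 1))⁻¹ * xP * T (k + 1) = 1 := by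
            rw [T_succ, T_succ, ← x_pow_mod, ← mul_assoc, mul_assoc _ xP, ← pow_succ',
              mul_assoc, inv_mul_cancel]
          rw [this]; exact Subgroup.one_mem _
        · refine ⟨(2 * k) % 23 + 1, by have := Nat.mod_lt (2 * k) (show 0 < 23 by norm_num); omega,
            ?_⟩
          have : (T ((2 * k) % 23 + 1))⁻¹ * nP * T (k + 1) = nP⁻¹ := by
            rw [T_succ, T_succ, ← x_pow_mod]
            have e : nP * (xP ^ k * y1P) = (xP ^ (2 * k) * y1P) * nP⁻¹ := by
              rw [← mul_assoc, semi_pow nP xP 2 n_x k, mul_assoc, n_y1, ← mul_assoc]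
            rw [mul_assoc, e, ← mul_assoc, inv_mul_cancel, one_mul]
          rw [this]; exact Subgroup.inv_mem _ nP_mem_B
        · rcases Nat.eq_zero_or_pos k with hk0 | hk0
          · subst hk0
            refine ⟨0, by norm_num, ?_⟩
            have : (T 0)⁻¹ * y1P * T (0 + 1) = 1 := by
              rw [T_zero, T_succ, pow_zero, one_mul, inv_one, one_mul, y1_sq]
            rw [this]; exact Subgroup.one_mem _
          · refine ⟨aT k + 1, by have := aT_lt k hk; omega, ?_⟩
            have : (T (aT k + 1))⁻¹ * y1P * T (k + 1) = xP ^ (cT k) * nP ^ (eT k) := by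
              rw [T_succ, T_succ, mul_assoc, yxy k hk0 hk, ← mul_assoc, inv_mul_cancel, one_mul]
            rw [this]
            exact Subgroup.mul_mem _ (Subgroup.pow_mem _ xP_mem_B _)
              (Subgroup.pow_mem _ nP_mem_B _))
  refine ⟨fun k hk hk0 => h.1 k hk hk0, ?_⟩
  have h2 := h.2
  rw [card_B] at h2
  exact h2

theorem card_L : Nat.card Lgrp = 6072 := card_L_and_stab.2

end Cfsg.Agent.Helper26.PSL23
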