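import Mathlib
import Cfsg.Agent.Lib.Helper26.PSL23b

/-!
# Counting Sylow 23- and 11-subgroups in the subgroups of `M₂₄` containing `⟨x, n⟩`
-/

set_option autoImplicit false

namespace Cfsg.Agent.Helper26.PSL23

open Cfsg Cfsg.Agent.Helper26 Cfsg.Agent.Helper26.PermCert Cfsg.Agent.Helper26.M24Semi
  Cfsg.Agent.Helper26.M24PD Cfsg.Agent.Helper26.M24A Cfsg.Agent.Helper26.M24O
  Cfsg.Agent.Helper26.M24ND Cfsg.Agent.Helper26.M24NDD Cfsg.Agent.Helper26.M24Y
  Cfsg.Agent.Helper26.SylowCount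
open Cfsg.Agent.Helper29.M24
open Cfsg.Agent.S0358 (idx)

theorem coe_mem_zpowers {K : Subgroup (Equiv.Perm GolayPt)} (g y : K) :
    y ∈ Subgroup.zpowers g ↔
      (y : Equiv.Perm GolayPt) ∈ Subgroup.zpowers (g : Equiv.Perm GolayPt) := by
  constructor
  · intro h
    obtain ⟨k, rfl⟩ := Subgroup.mem_zpowers_iff.1 h
    exact Subgroup.mem_zpowers_iff.2 ⟨k, by rw [Subgroup.coe_zpow]⟩
  · intro h
    obtain ⟨k, hk⟩ := Subgroup.mem_zpowers_iff.1 h
    refine Subgroup.mem_zpowers_iff.2 ⟨k, Subtype.ext ?_⟩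
    rw [Subgroup.coe_zpow]; exact hk

theorem exists_pow_of_mem_zpowers {G : Type*} [Group G] [Finite G] (x y : G) (p : ℕ)
    (hord : orderOf x = p) (hp : 0 < p) (h : y ∈ Subgroup.zpowers x) : ∃ k < p, y = x ^ k := by
  have h' : y ∈ Submonoid.powers x := mem_powers_iff_mem_zpowers.2 h
  obtain ⟨k0, hk0⟩ := h'
  refine ⟨k0 % p, Nat.mod_lt _ hp, ?_⟩
  have hk0' : x ^ k0 = y := hk0
  rw [← hk0', ← hord, pow_mod_orderOf]

theorem B_normalizes (g : Equiv.Perm GolayPt) (hg : g ∈ Bgrp) :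
    g * xP * g⁻¹ ∈ Subgroup.zpowers xP := by
  have hle : Bgrp ≤ Subgroup.normalizer (Subgroup.zpowers xP : Set (Equiv.Perm GolayPt)) := by
    unfold Bgrp
    rw [Subgroup.closure_le]
    intro y hy
    rcases hy with rfl | rfl
    · exact Subgroup.le_normalizer (Subgroup.mem_zpowers _)
    · apply mem_normalizer_zpowers
      rw [n_conj_x]
      exact Subgroup.pow_mem _ (Subgroup.mem_zpowers _) _
  exact (Subgroup.mem_normalizer_iff.1 (hle hg) xP).1 (Subgroup.mem_zpowers xP)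

theorem not_sq23_dvd (K : Subgroup (Equiv.Perm GolayPt)) (hK : K ≤ Cfsg.M24) :
    ¬ 23 ^ 2 ∣ Nat.card K := by
  intro h
  have h1 : Nat.card K ∣ Nat.card Cfsg.M24 := Subgroup.card_dvd_of_le hK
  rw [card_M24] at h1
  have h2 := h.trans h1
  revert h2
  norm_num

/-- The number of Sylow 23-subgroups of a subgroup of `M₂₄` containing `⟨x, n⟩`. -/
theorem count23 (K : Subgroup (Equiv.Perm GolayPt)) (hK : K ≤ Cfsg.M24) (hB : Bgrp ≤ K) :
    ∃ t, Nat.card K = 253 * t ∧ t % 23 = 1 := by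
  have h23 : Fact (Nat.Prime 23) := ⟨by norm_num⟩
  have hx : xP ∈ K := hB xP_mem_B
  obtain ⟨xK, hxK⟩ : ∃ xK : K, xK = ⟨xP, hx⟩ := ⟨_, rfl⟩
  have hxv : (xK : Equiv.Perm GolayPt) = xP := by rw [hxK]
  have hord : orderOf xK = 23 := by
    rw [← Subgroup.orderOf_coe, hxv]; exact orderOf_xP
  obtain ⟨t, ht, ht1⟩ := sylow_count xK 23 hord (not_sq23_dvd K hK)
  have hN : Nat.card (Subgroup.normalizer (Subgroup.zpowers xK : Set K)) = 253 := by
    have hmap : (Subgroup.normalizer (Subgroup.zpowers xK : Set K)).map K.subtype = Bgrp := by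
      ext g
      constructor
      · rintro ⟨k, hk, rfl⟩
        have h1 := (Subgroup.mem_normalizer_iff.1 hk xK).1 (Subgroup.mem_zpowers xK)
        rw [coe_mem_zpowers] at h1
        have h2 : (k : Equiv.Perm GolayPt) * xP * (k : Equiv.Perm GolayPt)⁻¹ ∈
            Subgroup.zpowers xP := by
          rw [← hxv]; exact h1
        exact norm_x _ (hK k.2) h2
      · intro hg
        refine ⟨⟨g, hB hg⟩, ?_, rfl⟩
        apply mem_normalizer_zpowers
        rw [coe_mem_zpowers]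
        have := B_normalizes g hg
        rw [← hxv] at this
        exact this
    rw [← Subgroup.card_map_of_injective K.subtype_injective, hmap, card_B]
  rw [hN] at ht
  exact ⟨t, ht, ht1⟩

theorem y1_ne_one : y1P ≠ 1 := by
  intro h
  have h1 := y1P_coded (none : GolayPt)
  rw [h, Equiv.Perm.one_apply] at h1
  revert h1
  decide

theorem orderOf_y1P : orderOf y1P = 2 := by
  have : Fact (Nat.Prime 2) := ⟨by norm_num⟩
  apply orderOf_eq_prime
  · rw [pow_two]; exact y1_sq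
  · exact y1_ne_one

theorem sq_mod11 : ∀ k < 11, 1 ≡ k * k [MOD 11] → k = 1 ∨ k = 10 := by decide

/-- The number of Sylow 11-subgroups of a subgroup of `M₂₄` containing `n`. -/
theorem count11 (K : Subgroup (Equiv.Perm GolayPt)) (hK : K ≤ Cfsg.M24) (hn : nP ∈ K) :
    ∃ s t, s ∣ 110 ∧ 11 ∣ s ∧ (y1P ∈ K → 2 ∣ s) ∧
      ((∀ g ∈ K, g (none : GolayPt) = none) → ¬ 2 ∣ s) ∧ Nat.card K = s * t ∧ t % 11 = 1 := by
  have h11 : Fact (Nat.Prime 11) := ⟨by norm_num⟩
  have h2p : Fact (Nat.Prime 2) := ⟨by norm_num⟩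
  obtain ⟨nK, hnK⟩ : ∃ nK : K, nK = ⟨nP, hn⟩ := ⟨_, rfl⟩
  have hnv : (nK : Equiv.Perm GolayPt) = nP := by rw [hnK]
  have hord : orderOf nK = 11 := by
    rw [← Subgroup.orderOf_coe, hnv]; exact orderOf_nP
  obtain ⟨t, ht, ht1⟩ := sylow_count nK 11 hord (not_sq11_dvd K hK)
  have hC : ∀ h : K, h * nK = nK * h → h ∈ Subgroup.zpowers nK := by
    intro h hh
    rw [coe_mem_zpowers, hnv]
    apply cent_n _ (hK h.2)
    have := congrArg Subtype.val hh
    rw [Subgroup.coe_mul, Subgroup.coe_mul, hnv] at this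
    exact this
  have hdvd := card_normalizer_dvd nK 11 hord hC
  obtain ⟨N, hN⟩ : ∃ N : Subgroup K, N = Subgroup.normalizer (Subgroup.zpowers nK : Set K) :=
    ⟨_, rfl⟩
  rw [← hN] at hdvd ht
  refine ⟨Nat.card N, t, by simpa using hdvd, ?_, ?_, ?_, ht, ht1⟩
  · have hle : Subgroup.zpowers nK ≤ N := by rw [hN]; exact Subgroup.le_normalizer
    have := Subgroup.card_dvd_of_le hle
    rwa [Nat.card_zpowers, hord] at this
  · intro hy
    obtain ⟨yK, hyK⟩ : ∃ yK : K, yK = ⟨y1P, hy⟩ := ⟨_, rfl⟩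
    have hyv : (yK : Equiv.Perm GolayPt) = y1P := by rw [hyK]
    have hmem : yK ∈ N := by
      rw [hN]
      apply mem_normalizer_zpowers
      rw [coe_mem_zpowers, Subgroup.coe_mul, Subgroup.coe_mul, Subgroup.coe_inv, hyv, hnv,
        y1_inv, y1_n_y1]
      exact Subgroup.inv_mem _ (Subgroup.mem_zpowers _)
    have hle : Subgroup.zpowers yK ≤ N := Subgroup.zpowers_le.2 hmem
    have := Subgroup.card_dvd_of_le hle
    rwa [Nat.card_zpowers, ← Subgroup.orderOf_coe, hyv, orderOf_y1P] at this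
  · intro hfix h2
    obtain ⟨t0, ht0⟩ := exists_prime_orderOf_dvd_card' 2 h2
    obtain ⟨τ, hτ⟩ : ∃ τ : Equiv.Perm GolayPt, τ = ((t0 : K) : Equiv.Perm GolayPt) := ⟨_, rfl⟩
    have hτord : orderOf τ = 2 := by
      rw [hτ, Subgroup.orderOf_coe, Subgroup.orderOf_coe]; exact ht0
    have hτ24 : τ ∈ Cfsg.M24 := by rw [hτ]; exact hK (t0 : K).2
    have hτsq : τ * τ = 1 := by
      have := pow_orderOf_eq_one τ
      rwa [hτord, pow_two] at this
    have hτinv : τ⁻¹ = τ := inv_eq_of_mul_eq_one_left hτsq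
    have hnorm : τ * nP * τ⁻¹ ∈ Subgroup.zpowers nP := by
      have h0 : (t0 : K) ∈ Subgroup.normalizer (Subgroup.zpowers nK : Set K) := by
        rw [← hN]; exact t0.2
      have h1 := (Subgroup.mem_normalizer_iff.1 h0 nK).1 (Subgroup.mem_zpowers nK)
      rw [coe_mem_zpowers, Subgroup.coe_mul, Subgroup.coe_mul, Subgroup.coe_inv, hnv, ← hτ] at h1
      exact h1
    obtain ⟨k, hk, hkk⟩ := exists_pow_of_mem_zpowers nP _ 11 orderOf_nP (by norm_num) hnorm
    have hsq : nP ^ 1 = nP ^ (k * k) := by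
      have h1 : nP = τ * (τ * nP * τ⁻¹) * τ⁻¹ := by
        rw [hτinv]
        calc nP = (τ * τ) * nP * (τ * τ) := by rw [hτsq, one_mul, mul_one]
          _ = τ * (τ * nP * τ) * τ := by simp only [mul_assoc]
      have h2 : τ * nP ^ k * τ⁻¹ = (τ * nP * τ⁻¹) ^ k :=
        (conj_pow (a := τ) (b := nP) (i := k)).symm
      calc nP ^ 1 = nP := pow_one _
        _ = τ * (τ * nP * τ⁻¹) * τ⁻¹ := h1
        _ = τ * nP ^ k * τ⁻¹ := by rw [hkk]
        _ = (τ * nP * τ⁻¹) ^ k := h2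
        _ = (nP ^ k) ^ k := by rw [hkk]
        _ = nP ^ (k * k) := (pow_mul _ _ _).symm
    rw [pow_eq_pow_iff_modEq, orderOf_nP] at hsq
    have hcomm : τ * nP = (τ * nP * τ⁻¹) * τ := by group
    rcases sq_mod11 k hk hsq with rfl | rfl
    · rw [hkk, pow_one] at hcomm
      have hz := cent_n τ hτ24 hcomm
      have h3 := orderOf_dvd_of_mem_zpowers hz
      rw [hτord, orderOf_nP] at h3
      revert h3
      norm_num
    · rw [hkk, n_pow_ten] at hcomm
      have h3 := inverting_none τ hτ24 hcomm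
      have h4 : τ (none : GolayPt) = none := by
        apply hfix
        rw [hτ]; exact (t0 : K).2
      rw [h4] at h3
      revert h3
      decide

end Cfsg.Agent.Helper26.PSL23
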