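import Mathlib
import Cfsg.Agent.Lib.Helper26.SylowCount

/-!
# Counting Sylow subgroups of prime order inside a subgroup

Versions of the lemmas of `SylowCount` for a subgroup `K` of a finite group `G`, where the
normalizer in `K` of `⟨g⟩` is expressed as `K ⊓ N_G(⟨g⟩)`.
-/

set_option autoImplicit false

namespace Cfsg.Agent.Helper26.SylowCount

variable {G : Type*} [Group G]

theorem coe_mem_zpowers' {K : Subgroup G} (g y : K) :
    y ∈ Subgroup.zpowers g ↔ (y : G) ∈ Subgroup.zpowers (g : G) := by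
  constructor
  · intro h
    obtain ⟨k, rfl⟩ := Subgroup.mem_zpowers_iff.1 h
    exact Subgroup.mem_zpowers_iff.2 ⟨k, by rw [Subgroup.coe_zpow]⟩
  · intro h
    obtain ⟨k, hk⟩ := Subgroup.mem_zpowers_iff.1 h
    refine Subgroup.mem_zpowers_iff.2 ⟨k, Subtype.ext ?_⟩
    rw [Subgroup.coe_zpow]; exact hk

/-- The normalizer in `K` of `⟨g⟩`, as a subgroup of `G`. -/
theorem map_normalizer_zpowers [Finite G] (K : Subgroup G) (g : G) (hg : g ∈ K) :
    (Subgroup.normalizer (Subgroup.zpowers (⟨g, hg⟩ : K) : Set K)).map K.subtype =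
      K ⊓ Subgroup.normalizer (Subgroup.zpowers g : Set G) := by
  ext k
  constructor
  · rintro ⟨k', hk', rfl⟩
    refine ⟨k'.2, ?_⟩
    apply mem_normalizer_zpowers
    have h1 := (Subgroup.mem_normalizer_iff.1 hk' ⟨g, hg⟩).1 (Subgroup.mem_zpowers _)
    rw [coe_mem_zpowers'] at h1
    exact h1
  · rintro ⟨hkK, hkN⟩
    refine ⟨⟨k, hkK⟩, ?_, rfl⟩
    apply mem_normalizer_zpowers
    rw [coe_mem_zpowers']
    exact (Subgroup.mem_normalizer_iff.1 hkN g).1 (Subgroup.mem_zpowers g)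

theorem card_normalizer_zpowers [Finite G] (K : Subgroup G) (g : G) (hg : g ∈ K) :
    Nat.card (Subgroup.normalizer (Subgroup.zpowers (⟨g, hg⟩ : K) : Set K)) =
      Nat.card ↥(K ⊓ Subgroup.normalizer (Subgroup.zpowers g : Set G)) := by
  rw [← map_normalizer_zpowers K g hg, Subgroup.card_map_of_injective K.subtype_injective]

theorem sylow_count_sub [Finite G] (K : Subgroup G) (g : G) (hg : g ∈ K) (p : ℕ)
    [hp : Fact p.Prime] (hord : orderOf g = p) (hp2 : ¬ p ^ 2 ∣ Nat.card K) :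
    ∃ t, Nat.card K = Nat.card ↥(K ⊓ Subgroup.normalizer (Subgroup.zpowers g : Set G)) * t ∧
      t % p = 1 := by
  have hord' : orderOf (⟨g, hg⟩ : K) = p := by
    rw [← Subgroup.orderOf_coe]; exact hord
  obtain ⟨t, ht, ht1⟩ := sylow_count (⟨g, hg⟩ : K) p hord' hp2
  rw [card_normalizer_zpowers K g hg] at ht
  exact ⟨t, ht, ht1⟩

theorem card_normalizer_sub_dvd [Finite G] (K : Subgroup G) (g : G) (hg : g ∈ K) (p : ℕ)
    [hp : Fact p.Prime] (hord : orderOf g = p)
    (hC : ∀ h ∈ K, h * g = g * h → h ∈ Subgroup.zpowers g) :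
    Nat.card ↥(K ⊓ Subgroup.normalizer (Subgroup.zpowers g : Set G)) ∣ p * (p - 1) := by
  have hord' : orderOf (⟨g, hg⟩ : K) = p := by
    rw [← Subgroup.orderOf_coe]; exact hord
  rw [← card_normalizer_zpowers K g hg]
  apply card_normalizer_dvd (⟨g, hg⟩ : K) p hord'
  intro h hh
  rw [coe_mem_zpowers']
  apply hC _ h.2
  have := congrArg Subtype.val hh
  exact this

theorem prime_dvd_card_normalizer_sub [Finite G] (K : Subgroup G) (g : G) (hg : g ∈ K) (p : ℕ)
    (hord : orderOf g = p) :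
    p ∣ Nat.card ↥(K ⊓ Subgroup.normalizer (Subgroup.zpowers g : Set G)) := by
  have hle : Subgroup.zpowers g ≤ K ⊓ Subgroup.normalizer (Subgroup.zpowers g : Set G) :=
    le_inf (Subgroup.zpowers_le.2 hg) Subgroup.le_normalizer
  have := Subgroup.card_dvd_of_le hle
  rwa [Nat.card_zpowers, hord] at this

end Cfsg.Agent.Helper26.SylowCount
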