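import Mathlib
import Cfsg.Prelude.Def_Spor_Mathieu
import Cfsg.Agent.Lib.Helper26.M22Out
import Cfsg.Agent.Lib.Helper26.PSL23c
import Cfsg.Agent.Lib.Helper26.SylowCount2
import Cfsg.Agent.Lib.Helper26.AutInner

/-!
# `M₂₂` has no subgroups of order 7920 or 2112

The argument counts Sylow 11- and 5-subgroups.  A subgroup `K` of `M₂₂` whose order is divisible
by 11 may be assumed to contain the doubling map `n`.  Its Sylow 11-normalizer has order 11 or
55; order 2112 is excluded by the congruence, and order 7920 forces the normalizer to have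
order 55, so to contain the cube twist `d`.  Then the Sylow 5-normalizer is forced to have order
20, so to contain `f`, and `n`, `d`, `f` generate `M₂₂`.
-/

set_option autoImplicit false

namespace Cfsg.Agent.Helper26.M22S

open Cfsg Cfsg.Agent.Helper26 Cfsg.Agent.Helper26.PermCert Cfsg.Agent.Helper26.M24Semi
  Cfsg.Agent.Helper26.M24PD Cfsg.Agent.Helper26.M24A Cfsg.Agent.Helper26.M24O
  Cfsg.Agent.Helper26.M24ND Cfsg.Agent.Helper26.M24NDD Cfsg.Agent.Helper26.M24Y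
  Cfsg.Agent.Helper26.SylowCount Cfsg.Agent.Helper26.M22O Cfsg.Agent.Helper26.M22D
  Cfsg.Agent.Helper26.PSL23
open Cfsg.Agent.Helper29.M24
open Cfsg.Agent.S0358 (idx)

theorem card_M22 : Nat.card Cfsg.Spor.M22 = 443520 := by
  rw [M22_eq_grp]
  exact card_grp 2 (by norm_num)

/-! ### The cube twist has order five and is self-centralizing in `M₂₂` -/

/-- The codes of the powers of the cube twist. -/
def dpC (i : ℕ) : ℕ := [984818244535754528103549039458486304, 974380510768821363662145534143076928,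
  977864963184960973661438897150854272, 969952412052033243847481939299780672,
  980275914351787324191492553553580224].getD i 0

theorem dpC_zero : ∀ p < 24, app (dpC 0) p = p := by decide +kernel

theorem dpC_chain : allB 4 (fun i => allB 24 (fun p =>
    Nat.beq (app dC (app (dpC i) p)) (app (dpC (i + 1)) p))) = true := by decide +kernel

theorem dpow_coded (i : ℕ) (hi : i < 5) : Coded (dP ^ i) (dpC i) := by
  induction i with
  | zero => rw [pow_zero]; exact coded_one _ dpC_zero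
  | succ i ih =>
    rw [pow_succ']
    refine coded_mul dP_coded (ih (by omega)) ?_
    intro p hp
    have h := allB_true dpC_chain i (by omega)
    have h2 := allB_true h p hp
    exact Nat.eq_of_beq_eq_true h2

theorem d_pow : dP ^ 5 = 1 := by
  apply Equiv.ext
  intro q
  apply idx_injective
  rw [idx_pow_apply dP dC dP_coded, Equiv.Perm.one_apply]
  have h : ∀ p < 24, iter (app dC) 5 p = p := by decide +kernel
  exact h _ (idx_lt q)

theorem d_ne_one : dP ≠ 1 := by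
  intro h
  have h1 := dP_coded (dec 1)
  rw [h, Equiv.Perm.one_apply] at h1
  revert h1
  decide

theorem orderOf_dP : orderOf dP = 5 := by
  have : Fact (Nat.Prime 5) := ⟨by norm_num⟩
  exact orderOf_eq_prime d_pow d_ne_one

/-- The exponent `i` such that the `j`-th candidate is `f * d ^ i`. -/
def iOf (j : ℕ) : ℕ := [0, 3, 1, 2, 4].getD j 0

theorem candF_eq : allB 5 (fun j => Nat.blt (iOf j) 5 && allB 24 (fun p =>
    Nat.beq (app fC (app (dpC (iOf j)) p)) (app (candF j) p))) = true := by decide +kernel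

theorem candF_coded (j : ℕ) (hj : j < 5) : iOf j < 5 ∧ Coded (fP * dP ^ iOf j) (candF j) := by
  have h := allB_true candF_eq j hj
  rw [Bool.and_eq_true] at h
  have hi : iOf j < 5 := by have := h.1; rwa [Nat.blt_eq] at this
  refine ⟨hi, coded_mul fP_coded (dpow_coded _ hi) ?_⟩
  intro p hp
  exact Nat.eq_of_beq_eq_true (allB_true h.2 p hp)

theorem cent_d22 (g : Equiv.Perm GolayPt) (hg : g ∈ Cfsg.Spor.M22) (h : g * dP = dP * g) :
    g ∈ Subgroup.zpowers dP := by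
  have h1 : (fP * g) * dP = dP ^ 2 * (fP * g) := by
    rw [mul_assoc, h, ← mul_assoc, f_d, mul_assoc]
  obtain ⟨j, hj, hcj⟩ := semi_f (fP * g) (Subgroup.mul_mem _ fP_mem22 hg) h1
  obtain ⟨_, hc⟩ := candF_coded j hj
  have h2 : fP * g = fP * dP ^ iOf j := Coded.ext hcj hc
  have h3 : g = dP ^ iOf j := mul_left_cancel h2
  rw [h3]
  exact Subgroup.pow_mem _ (Subgroup.mem_zpowers _) _

/-! ### Normalizers -/

/-- The normalizer of `⟨n⟩`. -/
abbrev Nn : Subgroup (Equiv.Perm GolayPt) :=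
  Subgroup.normalizer (Subgroup.zpowers nP : Set (Equiv.Perm GolayPt))

/-- The normalizer of `⟨d⟩`. -/
abbrev Nd : Subgroup (Equiv.Perm GolayPt) :=
  Subgroup.normalizer (Subgroup.zpowers dP : Set (Equiv.Perm GolayPt))

theorem dP_mem_Nn : dP ∈ Nn := by
  apply mem_normalizer_zpowers
  rw [d_n, mul_assoc, mul_inv_cancel, mul_one]
  exact Subgroup.pow_mem _ (Subgroup.mem_zpowers _) _

theorem fP_mem_Nd : fP ∈ Nd := by
  apply mem_normalizer_zpowers
  rw [f_d, mul_assoc, mul_inv_cancel, mul_one]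
  exact Subgroup.pow_mem _ (Subgroup.mem_zpowers _) _

theorem M22_fix_none (K : Subgroup (Equiv.Perm GolayPt)) (hK : K ≤ Cfsg.Spor.M22) :
    ∀ g ∈ K, g (none : GolayPt) = none := fun g hg => ((mem_M22_iff g).1 (hK hg)).2.1

/-- A subgroup fixing the point at infinity has no involution normalizing `⟨n⟩`. -/
theorem odd_normalizer_n (K : Subgroup (Equiv.Perm GolayPt)) (hK : K ≤ Cfsg.M24)
    (hfix : ∀ g ∈ K, g (none : GolayPt) = none) : ¬ 2 ∣ Nat.card ↥(K ⊓ Nn) := by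
  intro h2
  have h2p : Fact (Nat.Prime 2) := ⟨by norm_num⟩
  obtain ⟨t0, ht0⟩ := exists_prime_orderOf_dvd_card' 2 h2
  obtain ⟨τ, hτ⟩ : ∃ τ : Equiv.Perm GolayPt, τ = (t0 : Equiv.Perm GolayPt) := ⟨_, rfl⟩
  have hτord : orderOf τ = 2 := by
    rw [hτ, Subgroup.orderOf_coe]; exact ht0
  have hτK : τ ∈ K := by rw [hτ]; exact t0.2.1
  have hτN : τ ∈ Nn := by rw [hτ]; exact t0.2.2
  have hτ24 : τ ∈ Cfsg.M24 := hK hτK
  have hτsq : τ * τ = 1 := by
    have := pow_orderOf_eq_one τ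
    rwa [hτord, pow_two] at this
  have hτinv : τ⁻¹ = τ := inv_eq_of_mul_eq_one_left hτsq
  have hnorm : τ * nP * τ⁻¹ ∈ Subgroup.zpowers nP :=
    (Subgroup.mem_normalizer_iff.1 hτN nP).1 (Subgroup.mem_zpowers nP)
  obtain ⟨k, hk, hkk⟩ := exists_pow_of_mem_zpowers nP _ 11 orderOf_nP (by norm_num) hnorm
  have hsq : nP ^ 1 = nP ^ (k * k) := by
    have h1 : nP = τ * (τ * nP * τ⁻¹) * τ⁻¹ := by
      rw [hτinv]
      calc nP = (τ * τ) * nP * (τ * τ) := by rw [hτsq, one_mul, mul_one]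
        _ = τ * (τ * nP * τ) * τ := by simp only [mul_assoc]
    have h2 : τ * nP ^ k * τ⁻¹ = (τ * nP * τ⁻¹) ^ k :=
      (conj_pow (a := τ) (b := nP) (i := k)).symm
    calc nP ^ 1 = nP := pow_one _
      _ = τ * (τ * nP * τ⁻¹) * τ⁻¹ := h1
      _ = τ * nP ^ k * τ⁻¹ := by rw [hkk]
      _ = (τ * nP * τ⁻¹) ^ k := h2
      _ = (nP ^ k) ^ k := by rw [hkk]
      _ = nP ^ (k * k) := (pow_mul _ _ _).symm
  rw [pow_eq_pow_iff_modEq, orderOf_nP] at hsq
  have hcomm : τ * nP = (τ * nP * τ⁻¹) * τ := by group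
  rcases sq_mod11 k hk hsq with rfl | rfl
  · rw [hkk, pow_one] at hcomm
    have hz := cent_n τ hτ24 hcomm
    have h3 := orderOf_dvd_of_mem_zpowers hz
    rw [hτord, orderOf_nP] at h3
    revert h3
    norm_num
  · rw [hkk, n_pow_ten] at hcomm
    have h3 := inverting_none τ hτ24 hcomm
    rw [hfix τ hτK] at h3
    revert h3
    decide

theorem card_Nn_dvd (K : Subgroup (Equiv.Perm GolayPt)) (hK : K ≤ Cfsg.Spor.M22) (hn : nP ∈ K) :
    Nat.card ↥(K ⊓ Nn) ∣ 55 := by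
  have h11 : Fact (Nat.Prime 11) := ⟨by norm_num⟩
  have hK24 : K ≤ Cfsg.M24 := hK.trans M22_le
  have h1 : Nat.card ↥(K ⊓ Nn) ∣ 11 * (11 - 1) :=
    card_normalizer_sub_dvd K nP hn 11 orderOf_nP (fun h hh hc => cent_n h (hK24 hh) hc)
  have h2 := odd_normalizer_n K hK24 (M22_fix_none K hK)
  have h3 : Nat.Coprime (Nat.card ↥(K ⊓ Nn)) 2 := by
    rw [Nat.coprime_comm]
    exact (Nat.Prime.coprime_iff_not_dvd Nat.prime_two).2 h2
  have h4 : Nat.card ↥(K ⊓ Nn) ∣ 55 * 2 := by simpa using h1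
  exact h3.dvd_of_dvd_mul_right h4

theorem card_Nd_dvd (K : Subgroup (Equiv.Perm GolayPt)) (hK : K ≤ Cfsg.Spor.M22) (hd : dP ∈ K) :
    Nat.card ↥(K ⊓ Nd) ∣ 20 := by
  have h5 : Fact (Nat.Prime 5) := ⟨by norm_num⟩
  have h1 : Nat.card ↥(K ⊓ Nd) ∣ 5 * (5 - 1) :=
    card_normalizer_sub_dvd K dP hd 5 orderOf_dP (fun h hh hc => cent_d22 h (hK hh) hc)
  simpa using h1

theorem not_sq11_dvd22 (K : Subgroup (Equiv.Perm GolayPt)) (hK : K ≤ Cfsg.Spor.M22) :
    ¬ 11 ^ 2 ∣ Nat.card K := not_sq11_dvd K (hK.trans M22_le)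

theorem not_sq5_dvd22 (K : Subgroup (Equiv.Perm GolayPt)) (hK : K ≤ Cfsg.Spor.M22) :
    ¬ 5 ^ 2 ∣ Nat.card K := by
  intro h
  have h1 : Nat.card K ∣ Nat.card Cfsg.Spor.M22 := Subgroup.card_dvd_of_le hK
  rw [card_M22] at h1
  have h2 := h.trans h1
  revert h2
  norm_num

/-- The Sylow 11-count in a subgroup of `M₂₂` containing `n`. -/
theorem count11 (K : Subgroup (Equiv.Perm GolayPt)) (hK : K ≤ Cfsg.Spor.M22) (hn : nP ∈ K) :
    ∃ t, Nat.card ↥(K ⊓ Nn) ∣ 55 ∧ 11 ∣ Nat.card ↥(K ⊓ Nn) ∧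
      Nat.card K = Nat.card ↥(K ⊓ Nn) * t ∧ t % 11 = 1 := by
  have h11 : Fact (Nat.Prime 11) := ⟨by norm_num⟩
  obtain ⟨t, ht, ht1⟩ := sylow_count_sub K nP hn 11 orderOf_nP (not_sq11_dvd22 K hK)
  exact ⟨t, card_Nn_dvd K hK hn, prime_dvd_card_normalizer_sub K nP hn 11 orderOf_nP, ht, ht1⟩

/-- The Sylow 5-count in a subgroup of `M₂₂` containing `d`. -/
theorem count5 (K : Subgroup (Equiv.Perm GolayPt)) (hK : K ≤ Cfsg.Spor.M22) (hd : dP ∈ K) :
    ∃ t, Nat.card ↥(K ⊓ Nd) ∣ 20 ∧ 5 ∣ Nat.card ↥(K ⊓ Nd) ∧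
      Nat.card K = Nat.card ↥(K ⊓ Nd) * t ∧ t % 5 = 1 := by
  have h5 : Fact (Nat.Prime 5) := ⟨by norm_num⟩
  obtain ⟨t, ht, ht1⟩ := sylow_count_sub K dP hd 5 orderOf_dP (not_sq5_dvd22 K hK)
  exact ⟨t, card_Nd_dvd K hK hd, prime_dvd_card_normalizer_sub K dP hd 5 orderOf_dP, ht, ht1⟩

theorem arith2112 (s t : ℕ) (h1 : s ∣ 55) (h2 : 11 ∣ s) (h3 : 2112 = s * t) (h4 : t % 11 = 1) :
    False := by
  have hs : s ≤ 55 := Nat.le_of_dvd (by norm_num) h1
  interval_cases s <;> omega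

theorem arith7920 (s t : ℕ) (h1 : s ∣ 55) (h2 : 11 ∣ s) (h3 : 7920 = s * t) (h4 : t % 11 = 1) :
    s = 55 := by
  have hs : s ≤ 55 := Nat.le_of_dvd (by norm_num) h1
  interval_cases s <;> omega

theorem arith7920' (s t : ℕ) (h1 : s ∣ 20) (h2 : 5 ∣ s) (h3 : 7920 = s * t) (h4 : t % 5 = 1) :
    s = 20 := by
  have hs : s ≤ 20 := Nat.le_of_dvd (by norm_num) h1
  interval_cases s <;> omega

/-- If the normalizer in `K` has the largest possible order, it is the whole normalizer. -/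
theorem inf_eq_of_card (K N : Subgroup (Equiv.Perm GolayPt)) (hK : K ≤ Cfsg.Spor.M22) (m : ℕ)
    (hm : 0 < m) (h1 : Nat.card ↥(K ⊓ N) = m) (h2 : Nat.card ↥(Cfsg.Spor.M22 ⊓ N) ∣ m) :
    K ⊓ N = Cfsg.Spor.M22 ⊓ N := by
  have hle : K ⊓ N ≤ Cfsg.Spor.M22 ⊓ N := inf_le_inf_right N hK
  apply Subgroup.eq_of_le_of_card_ge hle
  rw [h1]
  exact Nat.le_of_dvd hm h2

theorem M22_le_of_mem (K : Subgroup (Equiv.Perm GolayPt)) (hn : nP ∈ K) (hd : dP ∈ K)
    (hf : fP ∈ K) : Cfsg.Spor.M22 ≤ K := by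
  rw [M22_eq_grp]
  refine grp2_le.trans ?_
  unfold K22
  rw [Subgroup.closure_le]
  intro y hy
  rcases hy with rfl | rfl | rfl
  · exact hn
  · exact hd
  · exact hf

/-- The main lemma for subgroups containing the doubling map. -/
theorem main_n (K : Subgroup (Equiv.Perm GolayPt)) (hK : K ≤ Cfsg.Spor.M22) (hn : nP ∈ K) :
    Nat.card K ≠ 2112 ∧ Nat.card K ≠ 7920 := by
  obtain ⟨t, hs1, hs2, hs3, hs4⟩ := count11 K hK hn
  constructor
  · intro hc
    rw [hc] at hs3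
    exact arith2112 _ t hs1 hs2 hs3 hs4
  · intro hc
    rw [hc] at hs3
    have hs55 := arith7920 _ t hs1 hs2 hs3 hs4
    have heq := inf_eq_of_card K Nn hK 55 (by norm_num) hs55
      (card_Nn_dvd Cfsg.Spor.M22 le_rfl nP_mem22)
    have hd : dP ∈ K := by
      have : dP ∈ K ⊓ Nn := by rw [heq]; exact ⟨dP_mem22, dP_mem_Nn⟩
      exact this.1
    obtain ⟨t', hr1, hr2, hr3, hr4⟩ := count5 K hK hd
    rw [hc] at hr3
    have hs20 := arith7920' _ t' hr1 hr2 hr3 hr4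
    have heq' := inf_eq_of_card K Nd hK 20 (by norm_num) hs20
      (card_Nd_dvd Cfsg.Spor.M22 le_rfl dP_mem22)
    have hf : fP ∈ K := by
      have : fP ∈ K ⊓ Nd := by rw [heq']; exact ⟨fP_mem22, fP_mem_Nd⟩
      exact this.1
    have hle := M22_le_of_mem K hn hd hf
    have heqK : K = Cfsg.Spor.M22 := le_antisymm hK hle
    rw [heqK, card_M22] at hc
    revert hc
    norm_num

end Cfsg.Agent.Helper26.M22S
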