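import Mathlib
import Cfsg.Prelude.Def_Spor_Mathieu
import Cfsg.Agent.Lib.Helper26.M22Sub
import Cfsg.Agent.Lib.Helper26.M22BSum

/-!
# The elements of `M₂₂`, numbered, with their classes
-/

set_option autoImplicit false

namespace Cfsg.Agent.Helper26.M22B

open Cfsg Cfsg.Agent.Helper26 Cfsg.Agent.Helper26.PermCert Cfsg.Agent.Helper26.PermSLP
open Cfsg.Agent.Helper26.M24A
open Cfsg.Agent.Helper29.M24
open Cfsg.Agent.S0358 (idx)

/-! ### The straight-line program -/

theorem slp_all : allR 12 623 (slpOK SC SA SB) = true := by decide +kernel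

theorem base_id : ∀ p < 24, app (SC 0) p = p := by decide +kernel

theorem base_gen : ∀ j < 13, 2 ≤ j → SC (j - 1) = gcode j ∧ 2 ≤ depthOf j := by decide +kernel

theorem gP_mem (j : ℕ) (hj : j < 13) (hj2 : 2 ≤ j) : gP j ∈ Cfsg.Spor.M22 := by
  rw [M22O.M22_eq_grp]
  exact Subgroup.subset_closure ⟨j, hj, (base_gen j hj hj2).2, rfl⟩

theorem node_mem : ∀ k < nS, ∃ σ ∈ Cfsg.Spor.M22, Coded σ (SC k) := by
  apply slp_sound SC SA SB 12 nS Cfsg.Spor.M22
  · intro k hk
    rcases Nat.eq_zero_or_pos k with rfl | hpos
    · exact ⟨1, one_mem _, coded_one _ base_id⟩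
    · have hj : k + 1 < 13 := by omega
      obtain ⟨h1, _⟩ := base_gen (k + 1) hj (by omega)
      refine ⟨gP (k + 1), gP_mem (k + 1) hj (by omega), ?_⟩
      intro q
      have h2 : SC k = gcode (k + 1) := by simpa using h1
      rw [h2]
      exact idx_gP (k + 1) hj q
  · intro k hk1 hk2
    exact allR_true slp_all k hk1 (by have : k < 635 := hk2; omega)

/-- the permutation of the node `k` -/
noncomputable def nodeP (k : ℕ) : Equiv.Perm GolayPt :=
  if h : k < nS then (node_mem k h).choose else 1

theorem nodeP_mem (k : ℕ) (h : k < nS) : nodeP k ∈ Cfsg.Spor.M22 := by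
  unfold nodeP; rw [dif_pos h]; exact (node_mem k h).choose_spec.1

theorem nodeP_coded (k : ℕ) (h : k < nS) : Coded (nodeP k) (SC k) := by
  unfold nodeP; rw [dif_pos h]; exact (node_mem k h).choose_spec.2

/-- coset representatives -/
noncomputable def uP (j : ℕ) : Equiv.Perm GolayPt := nodeP (105 + j)
/-- coset representatives -/
noncomputable def vP (b : ℕ) : Equiv.Perm GolayPt := nodeP (567 + b)
/-- stabiliser elements -/
noncomputable def sP (c : ℕ) : Equiv.Perm GolayPt := nodeP (587 + c)

theorem uP_coded (j : ℕ) (hj : j < 462) : Coded (uP j) (U01 j) :=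
  nodeP_coded (105 + j) (by show 105 + j < 635; omega)
theorem vP_coded (b : ℕ) (hb : b < 20) : Coded (vP b) (U2 b) :=
  nodeP_coded (567 + b) (by show 567 + b < 635; omega)
theorem sP_coded (c : ℕ) (hc : c < 48) : Coded (sP c) (S48 c) :=
  nodeP_coded (587 + c) (by show 587 + c < 635; omega)
theorem uP_mem (j : ℕ) (hj : j < 462) : uP j ∈ Cfsg.Spor.M22 :=
  nodeP_mem (105 + j) (by show 105 + j < 635; omega)
theorem vP_mem (b : ℕ) (hb : b < 20) : vP b ∈ Cfsg.Spor.M22 :=
  nodeP_mem (567 + b) (by show 567 + b < 635; omega)
theorem sP_mem (c : ℕ) (hc : c < 48) : sP c ∈ Cfsg.Spor.M22 :=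
  nodeP_mem (587 + c) (by show 587 + c < 635; omega)

/-! ### The numbered elements -/

/-- the element with the number `n` -/
noncomputable def elt (n : ℕ) : Equiv.Perm GolayPt := uP (n / 960) * vP (n / 48 % 20) * sP (n % 48)

theorem bounds {n : ℕ} (hn : n < nG) : n / 960 < 462 ∧ n / 48 % 20 < 20 ∧ n % 48 < 48 := by
  have : n < 443520 := hn
  omega

theorem elt_mem (n : ℕ) (hn : n < nG) : elt n ∈ Cfsg.Spor.M22 := by
  obtain ⟨h1, h2, h3⟩ := bounds hn
  exact mul_mem (mul_mem (uP_mem _ h1) (vP_mem _ h2)) (sP_mem _ h3)

theorem elt_app (n : ℕ) (hn : n < nG) (q : GolayPt) :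
    idx (elt n q) = e3 (U01 (n / 960)) (U2 (n / 48 % 20)) (S48 (n % 48)) (idx q) := by
  obtain ⟨h1, h2, h3⟩ := bounds hn
  unfold elt e3
  rw [Equiv.Perm.mul_apply, Equiv.Perm.mul_apply, uP_coded _ h1, vP_coded _ h2, sP_coded _ h3]
  rfl

theorem fixS : ∀ c < 48, app (S48 c) 1 = 1 ∧ app (S48 c) 2 = 2 ∧ app (S48 c) 3 = 3 := by
  decide +kernel

theorem fixV : ∀ b < 20, app (U2 b) 1 = 1 ∧ app (U2 b) 2 = 2 := by decide +kernel

def POSU : Nat := 0x389badcf0b8fc5e46f781c6e0f0f7dccde72f77cde4eff9400000000000000000000006b401a7d9e9353b1db6bf69a5dbecb61aad76a359b8daeaf4c000000000000000000000067b2e00d16473595d0e63399bca64b3f90cee5b338fd068f2600000000000000000000005faf7840063b0581c4e22ff8dbd5f70f86be62f0b80c56330600000000000000000000005dad178b7002e36bb95e6e76cba5dee16fb6d96d575b359ed20000000000000000000000562a752af588015dafd42c757aa56eb955a8d92b561b0566ac00000000000000000000005368f4ba7d269c009fd06854a9e5028b3d9f51a893ba65228600000000000000000000004ea6d2d964ba6332004ce4f2997cc26b269bcd2732b9c4a2540000000000000000000000446271c8cc8a2b24900023b168fc4a311e8dc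5e291a90c9646000000000000000000000042e0101843fa090987c2800fd7fc0a210681bf21d0d82c1e1800000000000000000000003adf0e874bc1eaf3763d1e200773bdf2f27dbd9eeed73ba9f40000000000000000000000389a6e06a385aad871b65cada00391bedb6b379b8dd6935dcc000000000000000000000030182ca662f590cf63b398ac362001a2bf6333596c264af9a000000000000000000000002d174ac55ae16cb25dadd6abc582b400a9572cd5eaa58ae5500000000000000000000000265469852a4d289a4ba993a9553a5944004e26d3ea052279420000000000000000000000200fe893f21d228c49221208347219168f002350885412051400000000000000000000001e8f27c391b4d876389c0d66a3d9d0f07737800dc753e9ccd20000000000000000000000150b45532180bc6534158c4613397ccc592e15c005d2c16cc6000000000000000000000012088422710ca649261408a4a259489a46289048e002013c7e00000000000000000000000a85631170ec78351b0c0642d160bc6e3e1d0cc7034000f47200000000000000000000000903a1a108544c1c110783e23148603620140944e190b0002e00000000000000000000000502612088401e0e06830160a048200e06028100602008000000000000000000000000000000000000000000000000000000000000000000000000000000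
def POSS : Nat := 0x8c422f17090002b140004c2514880542d110b000270000000000000000000000000000000000000000000000000000000000000000000000000000000000000000000000000000000000000000000000000000000000000000000000000000000000000000000000000000007438130886800140b00032100c05c361f0907800150000000000000000000000000000000000000000000000000000000000000000000000000000000000000000000000000000000000000000000000000000000000000000000000000000000000000000000000000000000000000000000000000000000000000000000000000000000000000000000000000000000000000000000000000000000000000000000000000000000000000000000000000000000000000000000000000000000000000000000000000000000000000000000000000000000000000000000000000000000000000000000000000000000000000000000000000000000000000000000000000000000000000000000000000000000000000000000000000000000000000000000000000000000000000000000000000000000000000000000000000000003c1c0d0602c000a048001007030140803010040000000000000000000000000000000000000000000000000000000000000000000000000000000000000000000000000000000000000000000000000000000000000000000000000000000000000000000000000000000000000000000000000000000000000000000000000000000000000000000000000000000000000000000000000000000000000000000000000000000000000000000000000000000000000000000000000000000000000000000000000000000000000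

/-- the position of a coset representative, from the images of the first two base points -/
def posU (k : ℕ) : ℕ := Nat.land (Nat.shiftRight POSU (Nat.mul 9 k)) 511

/-- the position of a stabiliser element, from the images of the last two base points -/
def posS (k : ℕ) : ℕ := Nat.land (Nat.shiftRight POSS (Nat.mul 9 k)) 511

theorem posU_chk : allB 462 (fun j => seqN (U01 j) fun a =>
    Nat.beq (posU (Nat.add (Nat.mul (appN a 1) 32) (appN a 2))) j) = true := by decide +kernel

theorem posS_chk : allB 48 (fun c => seqN (S48 c) fun a =>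
    Nat.beq (posS (Nat.add (Nat.mul (appN a 5) 32) (appN a 4))) c) = true := by decide +kernel

theorem injU : ∀ j < 462, ∀ j' < 462, app (U01 j) 1 = app (U01 j') 1 →
    app (U01 j) 2 = app (U01 j') 2 → j = j' := by
  intro j hj j' hj' h1 h2
  have e1 := allB_true posU_chk j hj
  have e2 := allB_true posU_chk j' hj'
  rw [seqN_eq] at e1 e2
  have e1' := Nat.eq_of_beq_eq_true e1
  have e2' := Nat.eq_of_beq_eq_true e2
  simp only [appN_eq] at e1' e2'
  rw [← e1', ← e2', h1, h2]

theorem injV : ∀ b < 20, ∀ b' < 20, app (U2 b) 3 = app (U2 b') 3 → b = b' := by decide +kernel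

theorem injS : ∀ c < 48, ∀ c' < 48, (∀ p < 24, app (S48 c) p = app (S48 c') p) → c = c' := by
  intro c hc c' hc' h
  have e1 := allB_true posS_chk c hc
  have e2 := allB_true posS_chk c' hc'
  rw [seqN_eq] at e1 e2
  have e1' := Nat.eq_of_beq_eq_true e1
  have e2' := Nat.eq_of_beq_eq_true e2
  simp only [appN_eq] at e1' e2'
  rw [← e1', ← e2', h 5 (by norm_num), h 4 (by norm_num)]

theorem idx_d1 : idx (dec 1) = 1 := idx_dec ⟨1, by norm_num⟩
theorem idx_d2 : idx (dec 2) = 2 := idx_dec ⟨2, by norm_num⟩
theorem idx_d3 : idx (dec 3) = 3 := idx_dec ⟨3, by norm_num⟩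

theorem elt_inj {n m : ℕ} (hn : n < nG) (hm : m < nG) (h : elt n = elt m) : n = m := by
  obtain ⟨h1, h2, h3⟩ := bounds hn
  obtain ⟨k1, k2, k3⟩ := bounds hm
  obtain ⟨s1, s2, s3⟩ := fixS _ h3
  obtain ⟨t1, t2, t3⟩ := fixS _ k3
  obtain ⟨v1, v2⟩ := fixV _ h2
  obtain ⟨w1, w2⟩ := fixV _ k2
  -- the first coordinate
  have ej : n / 960 = m / 960 := by
    apply injU _ h1 _ k1
    · have e1 := elt_app n hn (dec 1)
      have e2 := elt_app m hm (dec 1)
      rw [h, e2, idx_d1] at e1
      unfold e3 at e1
      simp only [appN_eq] at e1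
      rw [s1, t1, v1, w1] at e1
      exact e1.symm
    · have e1 := elt_app n hn (dec 2)
      have e2 := elt_app m hm (dec 2)
      rw [h, e2, idx_d2] at e1
      unfold e3 at e1
      simp only [appN_eq] at e1
      rw [s2, t2, v2, w2] at e1
      exact e1.symm
  -- the second coordinate
  have h' : vP (n / 48 % 20) * sP (n % 48) = vP (m / 48 % 20) * sP (m % 48) := by
    unfold elt at h
    rw [ej, mul_assoc, mul_assoc] at h
    exact mul_left_cancel h
  have eb : n / 48 % 20 = m / 48 % 20 := by
    apply injV _ h2 _ k2
    have e0 : idx ((vP (n / 48 % 20) * sP (n % 48)) (dec 3)) =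
        idx ((vP (m / 48 % 20) * sP (m % 48)) (dec 3)) := by rw [h']
    rw [Equiv.Perm.mul_apply, Equiv.Perm.mul_apply, vP_coded _ h2, vP_coded _ k2, sP_coded _ h3,
      sP_coded _ k3, idx_d3, s3, t3] at e0
    exact e0
  have h'' : sP (n % 48) = sP (m % 48) := by
    rw [eb] at h'
    exact mul_left_cancel h'
  have ec : n % 48 = m % 48 := by
    apply injS _ h3 _ k3
    intro p hp
    have e0 : idx (sP (n % 48) (dec p)) = idx (sP (m % 48) (dec p)) := by rw [h'']
    rw [sP_coded _ h3, sP_coded _ k3, idx_dec ⟨p, hp⟩] at e0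
    exact e0
  omega

theorem exists_elt (g : Equiv.Perm GolayPt) (hg : g ∈ Cfsg.Spor.M22) : ∃ n < nG, elt n = g := by
  let f : Fin nG → ↥Cfsg.Spor.M22 := fun n => ⟨elt n.1, elt_mem n.1 n.2⟩
  have hinj : Function.Injective f := by
    intro a b hab
    apply Fin.ext
    exact elt_inj a.2 b.2 (congrArg Subtype.val hab)
  have hbij := hinj.bijective_of_nat_card_le
    (by rw [M22S.card_M22, Nat.card_eq_fintype_card, Fintype.card_fin]; exact le_refl _)
  obtain ⟨n, hn⟩ := hbij.2 ⟨g, hg⟩
  exact ⟨n.1, n.2, congrArg Subtype.val hn⟩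

/-! ### The certificates at each element -/

/-- the conjugating element of the element `n` -/
def cjF (n : ℕ) : ℕ := ent20 (CJp (n / 10560)) (n % 10560)

/-- the number of the product of the class representative with the element `n` -/
def prF (n : ℕ) : ℕ := ent20 (PRp (n / 10560)) (n % 10560)

theorem chk_pt (n : ℕ) (hn : n < nG) : label n < 12 ∧
    chkPt (RC (label n)) (U01 (n / 960)) (U2 (n / 48 % 20)) (S48 (n % 48)) (cjF n) (prF n)
      = true := by
  have hn' : n < 443520 := hn
  have hk : n / 10560 < 42 := by omega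
  have h := chk_all (n / 10560) hk
  unfold chkBlock at h
  have h1 := allB_true h (n / 960 - 11 * (n / 10560)) (by omega)
  rw [seqN_eq] at h1
  have h2 := allB_true h1 (n / 48 % 20) (by omega)
  rw [seqN_eq] at h2
  have h3 := allB_true h2 (n % 48) (by omega)
  simp only [seqN_eq] at h3
  have e1 : Nat.add (11 * (n / 10560)) (n / 960 - 11 * (n / 10560)) = n / 960 := by
    show 11 * (n / 10560) + (n / 960 - 11 * (n / 10560)) = n / 960
    omega
  have e2 : Nat.add (Nat.mul 960 (n / 960 - 11 * (n / 10560)))
      (Nat.add (Nat.mul 48 (n / 48 % 20)) (n % 48)) = n % 10560 := by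
    show 960 * (n / 960 - 11 * (n / 10560)) + (48 * (n / 48 % 20) + n % 48) = n % 10560
    omega
  have e3' : Nat.add (Nat.mul 960 (11 * (n / 10560))) (n % 10560) = n := by
    show 960 * (11 * (n / 10560)) + n % 10560 = n
    omega
  rw [e1, e2, e3', Bool.and_eq_true] at h3
  refine ⟨?_, h3.2⟩
  have := h3.1
  unfold Nat.blt at this
  have h4 := Nat.le_of_ble_eq_true this
  omega

end Cfsg.Agent.Helper26.M22B
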