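import Mathlib

/-!
# Reading counts off a packed sum

If `∑_{k < n} B ^ f k = ∑_{d < m} c d * B ^ d` with `n < B` and all `c d < B`, then `c d` is the
number of `k < n` with `f k = d`.
-/

set_option autoImplicit false

namespace Cfsg.Agent.Helper26.PackCount

open Finset

theorem digits_unique (B : ℕ) (hB : 0 < B) : ∀ (m : ℕ) (a b : ℕ → ℕ), (∀ d < m, a d < B) →
    (∀ d < m, b d < B) →
    ∑ d ∈ range m, a d * B ^ d = ∑ d ∈ range m, b d * B ^ d → ∀ d < m, a d = b d := by
  intro m
  induction m with
  | zero => intro a b _ _ _ d hd; omega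
  | succ m ih =>
    intro a b ha hb h d hd
    rw [sum_range_succ', sum_range_succ'] at h
    have e1 : ∀ c : ℕ → ℕ, ∑ k ∈ range m, c (k + 1) * B ^ (k + 1) =
        B * ∑ k ∈ range m, c (k + 1) * B ^ k := by
      intro c
      rw [mul_sum]
      apply sum_congr rfl
      intro k _
      rw [pow_succ]; ring
    rw [e1 a, e1 b, pow_zero, mul_one, mul_one] at h
    have h0 : a 0 = b 0 := by
      have h1 : (B * ∑ k ∈ range m, a (k + 1) * B ^ k + a 0) % B =
          (B * ∑ k ∈ range m, b (k + 1) * B ^ k + b 0) % B := by rw [h]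
      rw [Nat.mul_add_mod, Nat.mul_add_mod, Nat.mod_eq_of_lt (ha 0 (by omega)),
        Nat.mod_eq_of_lt (hb 0 (by omega))] at h1
      exact h1
    rw [h0] at h
    have h2 := Nat.eq_of_mul_eq_mul_left hB (Nat.add_right_cancel h)
    rcases Nat.eq_zero_or_pos d with rfl | hpos
    · exact h0
    · have h3 : a (d - 1 + 1) = b (d - 1 + 1) :=
        ih (fun k => a (k + 1)) (fun k => b (k + 1)) (fun k hk => ha (k + 1) (by omega))
          (fun k hk => hb (k + 1) (by omega)) h2 (d - 1) (by omega)
      rwa [Nat.sub_add_cancel hpos] at h3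

theorem packed_counts {n m B : ℕ} (hB : n < B) (f : ℕ → ℕ) (hf : ∀ k < n, f k < m) (c : ℕ → ℕ)
    (hc : ∀ d < m, c d < B)
    (h : ∑ k ∈ range n, B ^ f k = ∑ d ∈ range m, c d * B ^ d) :
    ∀ d < m, ((range n).filter (fun k => f k = d)).card = c d := by
  have key : ∑ k ∈ range n, B ^ f k =
      ∑ d ∈ range m, ((range n).filter (fun k => f k = d)).card * B ^ d := by
    rw [← sum_fiberwise_of_maps_to' (g := f) (t := range m)
      (fun k hk => mem_range.mpr (hf k (mem_range.mp hk))) (fun d => B ^ d)]
    apply sum_congr rfl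
    intro d _
    rw [sum_const, smul_eq_mul]
  apply digits_unique B (by omega) m _ c _ hc (key.symm.trans h)
  intro d _
  calc ((range n).filter (fun k => f k = d)).card ≤ (range n).card := card_filter_le _ _
    _ = n := card_range n
    _ < B := hB

theorem sum_range_mul (p q : ℕ) (F : ℕ → ℕ) :
    ∑ a ∈ range p, ∑ b ∈ range q, F (q * a + b) = ∑ n ∈ range (q * p), F n := by
  induction p with
  | zero => simp
  | succ p ih =>
    rw [sum_range_succ, ih, Nat.mul_succ, sum_range_add]

end Cfsg.Agent.Helper26.PackCount
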