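import Mathlib
import Cfsg.Agent.Lib.Helper26.M22BMain1
import Cfsg.Agent.Lib.Helper26.PackCount

/-!
# The numbered elements of `M₂₂`: conjugacy certificates, orders, counts
-/

set_option autoImplicit false

namespace Cfsg.Agent.Helper26.M22B

open Cfsg Cfsg.Agent.Helper26 Cfsg.Agent.Helper26.PermCert Cfsg.Agent.Helper26.PermSLP
open Cfsg.Agent.Helper26.M24A
open Cfsg.Agent.Helper29.M24
open Cfsg.Agent.S0358 (idx)

theorem lt_of_blt {a b : ℕ} (h : Nat.blt a b = true) : a < b := by
  unfold Nat.blt at h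
  have := Nat.le_of_ble_eq_true h
  omega

/-! ### Class representatives -/

theorem rep_code : ∀ i < 12, RI i < nG ∧ label (RI i) = i ∧
    ∀ p < 24, app (RC i) p = e3 (U01 (RI i / 960)) (U2 (RI i / 48 % 20)) (S48 (RI i % 48)) p := by
  decide +kernel

/-- the class representatives -/
noncomputable def A (i : ℕ) : Equiv.Perm GolayPt := elt (RI i)

theorem A_coded (i : ℕ) (hi : i < 12) : Coded (A i) (RC i) := by
  intro q
  obtain ⟨h1, _, h3⟩ := rep_code i hi
  unfold A
  rw [elt_app _ h1, h3 _ (idx_lt q)]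

theorem cert (n : ℕ) (hn : n < nG) : label n < 12 ∧ cjF n < nG ∧ prF n < nG ∧
    elt (cjF n) * A (label n) = elt n * elt (cjF n) ∧ elt (prF n) = A (label n) * elt n := by
  obtain ⟨hl, h⟩ := chk_pt n hn
  unfold chkPt at h
  simp only [Bool.and_eq_true, seqN_eq] at h
  obtain ⟨⟨hcj, hpr⟩, hall⟩ := h
  have hcj' : cjF n < nG := lt_of_blt hcj
  have hpr' : prF n < nG := lt_of_blt hpr
  have hq : ∀ q : GolayPt,
      e3 (U01 (cjF n / 960)) (U2 (cjF n / 48 % 20)) (S48 (cjF n % 48)) (app (RC (label n)) (idx q)) =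
        e3 (U01 (n / 960)) (U2 (n / 48 % 20)) (S48 (n % 48))
          (e3 (U01 (cjF n / 960)) (U2 (cjF n / 48 % 20)) (S48 (cjF n % 48)) (idx q)) ∧
      e3 (U01 (prF n / 960)) (U2 (prF n / 48 % 20)) (S48 (prF n % 48)) (idx q) =
        app (RC (label n)) (e3 (U01 (n / 960)) (U2 (n / 48 % 20)) (S48 (n % 48)) (idx q)) := by
    intro q
    have := allB_true hall (idx q) (idx_lt q)
    rw [Bool.and_eq_true] at this
    exact ⟨Nat.eq_of_beq_eq_true this.1, Nat.eq_of_beq_eq_true this.2⟩
  refine ⟨hl, hcj', hpr', ?_, ?_⟩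
  · apply Equiv.ext
    intro q
    apply idx_injective
    rw [Equiv.Perm.mul_apply, Equiv.Perm.mul_apply, elt_app _ hcj', A_coded _ hl, elt_app _ hn,
      elt_app _ hcj']
    exact (hq q).1
  · apply Equiv.ext
    intro q
    apply idx_injective
    rw [Equiv.Perm.mul_apply, elt_app _ hpr', A_coded _ hl, elt_app _ hn]
    exact (hq q).2

/-! ### The elements in the group -/

/-- the group -/
abbrev G22 := ↥Cfsg.Spor.M22

/-- the numbered elements of the group -/
noncomputable def E (n : ℕ) : G22 := if h : n < nG then ⟨elt n, elt_mem n h⟩ else 1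

theorem E_val {n : ℕ} (hn : n < nG) : ((E n : G22) : Equiv.Perm GolayPt) = elt n := by
  unfold E; rw [dif_pos hn]

theorem E_inj {n m : ℕ} (hn : n < nG) (hm : m < nG) (h : E n = E m) : n = m :=
  elt_inj hn hm (by rw [← E_val hn, ← E_val hm, h])

theorem E_surj (g : G22) : ∃ n < nG, E n = g := by
  obtain ⟨n, hn, h⟩ := exists_elt g.1 g.2
  exact ⟨n, hn, Subtype.ext (by rw [E_val hn, h])⟩

/-- the class representatives in the group -/
noncomputable def AG (i : ℕ) : G22 := E (RI i)

theorem AG_val (i : ℕ) (hi : i < 12) : ((AG i : G22) : Equiv.Perm GolayPt) = A i :=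
  E_val (rep_code i hi).1

theorem label_RI (i : ℕ) (hi : i < 12) : label (RI i) = i := (rep_code i hi).2.1

theorem conj_E (n : ℕ) (hn : n < nG) : IsConj (AG (label n)) (E n) := by
  obtain ⟨hl, hcj, hpr, h1, h2⟩ := cert n hn
  rw [isConj_iff]
  refine ⟨E (cjF n), ?_⟩
  rw [mul_inv_eq_iff_eq_mul]
  apply Subtype.ext
  rw [Subgroup.coe_mul, Subgroup.coe_mul, E_val hcj, AG_val _ hl, E_val hn]
  exact h1

theorem prod_E (n : ℕ) (hn : n < nG) : E (prF n) = AG (label n) * E n := by
  obtain ⟨hl, hcj, hpr, h1, h2⟩ := cert n hn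
  apply Subtype.ext
  rw [Subgroup.coe_mul, E_val hpr, AG_val _ hl, E_val hn]
  exact h2

theorem label_lt (n : ℕ) (hn : n < nG) : label n < 12 := (cert n hn).1

theorem prF_lt (n : ℕ) (hn : n < nG) : prF n < nG := (cert n hn).2.2.1

/-! ### Orders -/

/-- iterated application -/
def iterApp (c m p : ℕ) : ℕ := Nat.rec p (fun _ x => appN c x) m

/-- the orders of the class representatives -/
def ORD (i : ℕ) : ℕ := [1, 2, 3, 5, 4, 4, 7, 7, 11, 11, 8, 6].getD i 0

theorem ord_chk : ∀ i < 12, 0 < ORD i ∧ (∀ p < 24, iterApp (RC i) (ORD i) p = p) ∧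
    ∀ m < ORD i, 0 < m → ∃ p < 24, iterApp (RC i) m p ≠ p := by decide +kernel

theorem pow_app {σ : Equiv.Perm GolayPt} {c : ℕ} (h : Coded σ c) (m : ℕ) (q : GolayPt) :
    idx ((σ ^ m) q) = iterApp c m (idx q) := by
  induction m with
  | zero => rfl
  | succ m ih =>
    rw [pow_succ', Equiv.Perm.mul_apply, h, ih]
    rfl

theorem orderOf_A (i : ℕ) (hi : i < 12) : orderOf (A i) = ORD i := by
  obtain ⟨h0, h1, h2⟩ := ord_chk i hi
  have hc := A_coded i hi
  rw [orderOf_eq_iff h0]
  constructor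
  · apply Equiv.ext
    intro q
    apply idx_injective
    rw [pow_app hc, h1 _ (idx_lt q)]
    rfl
  · intro m hm hpos heq
    obtain ⟨p, hp, hne⟩ := h2 m hm hpos
    apply hne
    have h3 := pow_app hc m (dec p)
    rw [heq, idx_dec ⟨p, hp⟩] at h3
    have h4 : idx ((1 : Equiv.Perm GolayPt) (dec p)) = p := idx_dec ⟨p, hp⟩
    rw [h4] at h3
    exact h3.symm

theorem orderOf_AG (i : ℕ) (hi : i < 12) : orderOf (AG i) = ORD i := by
  rw [← Subgroup.orderOf_coe, AG_val i hi, orderOf_A i hi]

theorem orderOf_eq_of_isConj {G : Type*} [Group G] {a b : G} (h : IsConj a b) :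
    orderOf a = orderOf b := by
  obtain ⟨c, hc⟩ := isConj_iff.mp h
  rw [← hc]
  exact ((MulAut.conj c).orderOf_eq a).symm

theorem orderOf_E (n : ℕ) (hn : n < nG) : orderOf (E n) = ORD (label n) := by
  rw [← orderOf_eq_of_isConj (conj_E n hn), orderOf_AG _ (label_lt n hn)]

theorem RC_zero : ∀ p < 24, app (RC 0) p = p := by decide +kernel

theorem AG_zero : AG 0 = 1 := by
  apply Subtype.ext
  rw [AG_val 0 (by norm_num)]
  exact Coded.ext (A_coded 0 (by norm_num)) (coded_one _ RC_zero)

/-! ### Counts -/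

/-- the code of the pair (class, class of the product with the representative) -/
def fP2 (n : ℕ) : ℕ := 12 * label n + label (prF n)

theorem fP2_lt (n : ℕ) (hn : n < nG) : fP2 n < 144 := by
  have h1 := label_lt n hn
  have h2 := label_lt _ (prF_lt n hn)
  unfold fP2
  omega

theorem sumB_eq (n : ℕ) (f : ℕ → ℕ) : sumB n f = ∑ k ∈ Finset.range n, f k := by
  induction n with
  | zero => rfl
  | succ n ih =>
    rw [Finset.sum_range_succ, ← ih]
    rfl

theorem shift_eq (x : ℕ) : Nat.shiftLeft 1 (Nat.mul 20 x) = 1048576 ^ x := by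
  show 1 <<< (20 * x) = 1048576 ^ x
  rw [Nat.shiftLeft_eq, one_mul, pow_mul]
  norm_num

theorem acc_block (k : ℕ) (hk : k < 42) :
    ACC k = ∑ o ∈ Finset.range 10560, 1048576 ^ fP2 (10560 * k + o) := by
  rw [← acc_all k hk]
  unfold accBlock
  rw [sumB_eq]
  rw [← PackCount.sum_range_mul 11 960]
  apply Finset.sum_congr rfl
  intro dj hdj
  rw [sumB_eq]
  apply Finset.sum_congr rfl
  intro o' ho'
  rw [Finset.mem_range] at hdj ho'
  rw [seqN_eq, shift_eq]
  have e1 : Nat.add (10560 * k) (Nat.add (Nat.mul 960 dj) o') = 10560 * k + (960 * dj + o') := rfl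
  have e2 : Nat.add (Nat.mul 960 dj) o' = 960 * dj + o' := rfl
  rw [e1, e2]
  unfold fP2 prF
  have e3 : (10560 * k + (960 * dj + o')) / 10560 = k := by omega
  have e4 : (10560 * k + (960 * dj + o')) % 10560 = 960 * dj + o' := by omega
  rw [e3, e4]
  rfl

theorem acc_sum : ∑ n ∈ Finset.range nG, 1048576 ^ fP2 n = accTotal := by
  rw [← acc_total, sumB_eq]
  have : nG = 10560 * 42 := by norm_num [nG]
  rw [this, ← PackCount.sum_range_mul 42 10560]
  apply Finset.sum_congr rfl
  intro k hk
  rw [Finset.mem_range] at hk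
  exact (acc_block k hk).symm

theorem CP_lt : ∀ d < 144, CP d < 1048576 := by decide +kernel

theorem count_pairs : ∀ d < 144,
    ((Finset.range nG).filter (fun n => fP2 n = d)).card = CP d := by
  have hB : nG < 1048576 := by unfold nG; norm_num
  have h : ∑ k ∈ Finset.range nG, 1048576 ^ fP2 k =
      ∑ d ∈ Finset.range 144, CP d * 1048576 ^ d := by
    refine acc_sum.trans (accTotal_eq.trans ?_)
    rw [sumB_eq]
    apply Finset.sum_congr rfl
    intro d _
    rfl
  exact PackCount.packed_counts hB fP2 (fun n hn => fP2_lt n hn) CP CP_lt h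

theorem count_ik (i k : ℕ) (hi : i < 12) (hk : k < 12) :
    ((Finset.range nG).filter (fun n => label n = i ∧ label (prF n) = k)).card =
      CP (12 * i + k) := by
  rw [← count_pairs (12 * i + k) (by omega)]
  apply congrArg Finset.card
  apply Finset.filter_congr
  intro n hn
  rw [Finset.mem_range] at hn
  have h1 := label_lt n hn
  have h2 := label_lt _ (prF_lt n hn)
  unfold fP2
  constructor
  · rintro ⟨rfl, rfl⟩; rfl
  · intro h; constructor <;> omega

theorem CN_eq : ∀ i < 12, CN i = ∑ k ∈ Finset.range 12, CP (12 * i + k) := by decide +kernel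

theorem count_i (i : ℕ) (hi : i < 12) :
    ((Finset.range nG).filter (fun n => label n = i)).card = CN i := by
  rw [CN_eq i hi]
  rw [Finset.card_eq_sum_card_fiberwise (f := fun n => label (prF n)) (t := Finset.range 12)]
  · apply Finset.sum_congr rfl
    intro k hk
    rw [Finset.mem_range] at hk
    rw [← count_ik i k hi hk, Finset.filter_filter]
  · intro n hn
    rw [Finset.mem_coe, Finset.mem_filter, Finset.mem_range] at hn
    rw [Finset.mem_coe, Finset.mem_range]
    exact label_lt _ (prF_lt n hn.1)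

end Cfsg.Agent.Helper26.M22B
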