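import Mathlib
import Cfsg.Agent.Lib.Helper26.M22BMain2
import Cfsg.Agent.Lib.Helper26.BlkSq

/-!
# The classes of `M₂₂` and the squares of the central character values
-/

set_option autoImplicit false
set_option linter.style.haveILetI false

namespace Cfsg.Agent.Helper26.M22B

open Cfsg Cfsg.Agent.Helper26 Cfsg.Agent.Helper24

/-! ### Sums over the group -/

theorem E_bij : Function.Bijective (fun n : Fin nG => E n.1) := by
  constructor
  · intro a b h
    exact Fin.ext (E_inj a.2 b.2 h)
  · intro g
    obtain ⟨n, hn, h⟩ := E_surj g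
    exact ⟨⟨n, hn⟩, h⟩

theorem sum_G22 {β : Type*} [AddCommMonoid β] [Fintype G22] (F : G22 → β) :
    ∑ g : G22, F g = ∑ n ∈ Finset.range nG, F (E n) := by
  rw [← Fin.sum_univ_eq_sum_range (fun n => F (E n)) nG]
  exact (Fintype.sum_bijective (fun n : Fin nG => E n.1) E_bij _ _ (fun _ => rfl)).symm

theorem sum_filter_G22 {β : Type*} [AddCommMonoid β] [Fintype G22] (P : G22 → Prop)
    [DecidablePred P] (F : G22 → β) :
    ∑ g ∈ Finset.univ.filter P, F g =
      ∑ n ∈ (Finset.range nG).filter (fun n => P (E n)), F (E n) := by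
  rw [Finset.sum_filter, Finset.sum_filter, sum_G22]

theorem card_filter_G22 [Fintype G22] (P : G22 → Prop) [DecidablePred P] :
    (Finset.univ.filter P).card = ((Finset.range nG).filter (fun n => P (E n))).card := by
  rw [Finset.card_eq_sum_ones, Finset.card_eq_sum_ones, sum_filter_G22]

/-! ### Separation of the classes -/

set_option synthInstance.maxSize 2000 in
theorem ord_sep : ∀ i < 12, ∀ j < 12, ORD i = ORD j →
    i = j ∨ (i = 4 ∧ j = 5) ∨ (i = 5 ∧ j = 4) ∨ (i = 6 ∧ j = 7) ∨ (i = 7 ∧ j = 6) ∨
      (i = 8 ∧ j = 9) ∨ (i = 9 ∧ j = 8) := by decide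

theorem card_G22 [Fintype G22] : Fintype.card G22 = 443520 := by
  rw [← Nat.card_eq_fintype_card]
  exact M22S.card_M22

theorem sep_aux (i j : ℕ) (hi : i < 12) (hj : j < 12) (hij : i ≠ j)
    (hno : ∀ k < 12, ORD k = ORD i → k = i ∨ k = j) (hnd : ¬ (CN i + CN j ∣ 443520)) :
    ¬ IsConj (AG i) (AG j) := by
  classical
  haveI : Fintype G22 := Fintype.ofFinite _
  intro hc
  apply hnd
  have h1 : (Finset.univ.filter (IsConj (AG i))).card = CN i + CN j := by
    rw [card_filter_G22]
    have h2 : (Finset.range nG).filter (fun n => IsConj (AG i) (E n)) =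
        (Finset.range nG).filter (fun n => label n = i) ∪
          (Finset.range nG).filter (fun n => label n = j) := by
      rw [← Finset.filter_or]
      apply Finset.filter_congr
      intro n hn
      rw [Finset.mem_range] at hn
      constructor
      · intro h
        apply hno _ (label_lt n hn)
        rw [← orderOf_E n hn, ← orderOf_AG i hi]
        exact (orderOf_eq_of_isConj h).symm
      · rintro (h | h)
        · rw [← h]; exact conj_E n hn
        · have := conj_E n hn
          rw [h] at this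
          exact hc.trans this
    rw [h2, Finset.card_union_of_disjoint, count_i i hi, count_i j hj]
    rw [Finset.disjoint_filter]
    intro n _ h1 h2
    exact hij (h1.symm.trans h2)
  rw [← h1, card_filter_isConj, ← card_G22, ← Nat.card_eq_fintype_card]
  exact Subgroup.index_dvd_card _

theorem sep (i j : ℕ) (hi : i < 12) (hj : j < 12) (hc : IsConj (AG i) (AG j)) : i = j := by
  have ho : ORD i = ORD j := by
    rw [← orderOf_AG i hi, ← orderOf_AG j hj]
    exact orderOf_eq_of_isConj hc
  have hno45 : ∀ k < 12, ORD k = ORD 4 → k = 4 ∨ k = 5 := by decide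
  have hno67 : ∀ k < 12, ORD k = ORD 6 → k = 6 ∨ k = 7 := by decide
  have hno89 : ∀ k < 12, ORD k = ORD 8 → k = 8 ∨ k = 9 := by decide
  have h45 : ¬ (CN 4 + CN 5 ∣ 443520) := by decide
  have h67 : ¬ (CN 6 + CN 7 ∣ 443520) := by decide
  have h89 : ¬ (CN 8 + CN 9 ∣ 443520) := by decide
  rcases ord_sep i hi j hj ho with h | ⟨rfl, rfl⟩ | ⟨rfl, rfl⟩ | ⟨rfl, rfl⟩ | ⟨rfl, rfl⟩ |
      ⟨rfl, rfl⟩ | ⟨rfl, rfl⟩
  · exact h
  · exact absurd hc (sep_aux 4 5 (by norm_num) (by norm_num) (by norm_num) hno45 h45)
  · exact absurd hc.symm (sep_aux 4 5 (by norm_num) (by norm_num) (by norm_num) hno45 h45)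
  · exact absurd hc (sep_aux 6 7 (by norm_num) (by norm_num) (by norm_num) hno67 h67)
  · exact absurd hc.symm (sep_aux 6 7 (by norm_num) (by norm_num) (by norm_num) hno67 h67)
  · exact absurd hc (sep_aux 8 9 (by norm_num) (by norm_num) (by norm_num) hno89 h89)
  · exact absurd hc.symm (sep_aux 8 9 (by norm_num) (by norm_num) (by norm_num) hno89 h89)

theorem conj_iff (i n : ℕ) (hi : i < 12) (hn : n < nG) : IsConj (AG i) (E n) ↔ label n = i := by
  constructor
  · intro h
    exact (sep i (label n) hi (label_lt n hn) (h.trans (conj_E n hn).symm)).symm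
  · intro h
    rw [← h]
    exact conj_E n hn

theorem card_class [Fintype G22] (i : ℕ) (hi : i < 12) [DecidablePred (IsConj (AG i))] :
    (Finset.univ.filter (IsConj (AG i))).card = CN i := by
  rw [card_filter_G22, ← count_i i hi]
  apply congrArg Finset.card
  apply Finset.filter_congr
  intro n hn
  rw [Finset.mem_range] at hn
  exact conj_iff i n hi hn

/-! ### Central character values -/

theorem CN_pos : ∀ i < 12, 0 < CN i := by decide

theorem centralChar_AG (χ : G22 → ℂ) (i : ℕ) (hi : i < 12) :
    centralChar χ (AG i) = (CN i : ℂ) * χ (AG i) / χ 1 := by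
  classical
  haveI : Fintype G22 := Fintype.ofFinite _
  unfold centralChar
  rw [← card_filter_isConj (AG i), card_class i hi]

theorem sum_class_mul {χ : G22 → ℂ} (hχ : IsClassFunction G22 χ) [Fintype G22] (i : ℕ)
    (hi : i < 12) [DecidablePred (IsConj (AG i))] :
    ∑ b ∈ Finset.univ.filter (IsConj (AG i)), χ (AG i * b) =
      ∑ k ∈ Finset.range 12, (CP (12 * i + k) : ℂ) * χ (AG k) := by
  rw [sum_filter_G22]
  have h1 : (Finset.range nG).filter (fun n => IsConj (AG i) (E n)) =
      (Finset.range nG).filter (fun n => label n = i) := by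
    apply Finset.filter_congr
    intro n hn
    rw [Finset.mem_range] at hn
    exact conj_iff i n hi hn
  rw [h1]
  rw [← Finset.sum_fiberwise_of_maps_to (g := fun n => label (prF n)) (t := Finset.range 12)]
  · apply Finset.sum_congr rfl
    intro k hk
    rw [Finset.mem_range] at hk
    rw [← count_ik i k hi hk, Finset.filter_filter, ← nsmul_eq_mul, ← Finset.sum_const]
    apply Finset.sum_congr rfl
    intro n hn
    rw [Finset.mem_filter, Finset.mem_range] at hn
    obtain ⟨hn, hl, hp⟩ := hn
    have h2 := prod_E n hn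
    rw [hl] at h2
    rw [← h2]
    have h3 := conj_E (prF n) (prF_lt n hn)
    rw [hp] at h3
    obtain ⟨c, hc⟩ := isConj_iff.mp h3
    rw [← hc, hχ]
  · intro n hn
    rw [Finset.mem_filter, Finset.mem_range] at hn
    rw [Finset.mem_range]
    exact label_lt _ (prF_lt n hn.1)

theorem CA_CN : ∀ i < 12, ∀ k < 12, CA (12 * i + k) * CN k = CN i * CP (12 * i + k) := by
  decide +kernel

/-- the square of a central character value in terms of the structure constants -/
theorem centralChar_sq {χ : G22 → ℂ} (hχ : IsIrrCharacter G22 χ) (i : ℕ) (hi : i < 12) :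
    centralChar χ (AG i) ^ 2 =
      ∑ k ∈ Finset.range 12, (CA (12 * i + k) : ℂ) * centralChar χ (AG k) := by
  classical
  haveI : Fintype G22 := Fintype.ofFinite _
  have hcf := isClassFunction_of_isIrrCharacter hχ
  have h1 := BlkSq.centralChar_sq_mul hχ (AG i)
  rw [card_class i hi, sum_class_mul hcf i hi] at h1
  have hχ1 : χ 1 ≠ 0 := Cfsg.Agent.Helper23.Blk.irr_one_ne_zero hχ
  have h2 : (∑ k ∈ Finset.range 12, (CA (12 * i + k) : ℂ) * centralChar χ (AG k)) * χ 1 =
      (CN i : ℂ) * ∑ k ∈ Finset.range 12, (CP (12 * i + k) : ℂ) * χ (AG k) := by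
    rw [Finset.sum_mul, Finset.mul_sum]
    apply Finset.sum_congr rfl
    intro k hk
    rw [Finset.mem_range] at hk
    rw [centralChar_AG χ k hk]
    have h3 : ((CA (12 * i + k) * CN k : ℕ) : ℂ) = ((CN i * CP (12 * i + k) : ℕ) : ℂ) := by
      rw [CA_CN i hi k hk]
    push_cast at h3
    field_simp
    linear_combination χ (AG k) * h3
  exact mul_right_cancel₀ hχ1 (h1.trans h2.symm)

theorem centralChar_AG_zero {χ : G22 → ℂ} (hχ : IsIrrCharacter G22 χ) :
    centralChar χ (AG 0) = 1 := by
  classical
  haveI : Fintype G22 := Fintype.ofFinite _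
  have hχ1 : χ 1 ≠ 0 := Cfsg.Agent.Helper23.Blk.irr_one_ne_zero hχ
  rw [centralChar_AG χ 0 (by norm_num), AG_zero]
  have : CN 0 = 1 := by decide
  rw [this, Nat.cast_one]
  field_simp

/-- every element is conjugate to one of the twelve representatives -/
theorem exists_conj_AG (g : G22) : ∃ i < 12, IsConj (AG i) g := by
  obtain ⟨n, hn, rfl⟩ := E_surj g
  exact ⟨label n, label_lt n hn, conj_E n hn⟩

end Cfsg.Agent.Helper26.M22B
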