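import Mathlib
import Cfsg.Agent.Lib.Helper26.M22BMain3

/-!
# `M₂₂` has a single 2-block

With `w i` the value of the central character of `χ` at the `i`-th class representative, the
identities `w i ^ 2 = ∑ k, a_{iik} w k` and the parities of the structure constants `a_{iik}` give
`w i ≡ c i` modulo the local ideal, with constants `c i` not depending on `χ`.
-/

set_option autoImplicit false
set_option linter.style.haveILetI false

namespace Cfsg.Agent.Helper26.M22B

open Cfsg Cfsg.Agent.Helper26 Cfsg.Agent.Helper24 Cfsg.Agent.Helper23.Blk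

section

variable {M : Ideal AlgInt}

theorem even_rows : ∀ i < 12, (i = 3 ∨ i = 4 ∨ i = 6 ∨ i = 7 ∨ i = 8 ∨ i = 9 ∨ i = 10) →
    ∀ k < 12, 2 ∣ CA (12 * i + k) := by decide +kernel

theorem row_five : ∀ k < 12, 2 ∣ CA (12 * 5 + k) ∨ k = 3 := by decide +kernel

theorem row_two : ∀ k < 12, 2 ∣ CA (12 * 2 + k) ∨ k = 8 ∨ k = 9 := by decide +kernel

theorem row_eleven : ∀ k < 12, 2 ∣ CA (12 * 11 + k) ∨ k = 8 ∨ k = 9 := by decide +kernel

theorem row_one : ∀ k < 11, 2 ∣ CA (12 * 1 + (k + 1)) ∨ k + 1 = 3 := by decide +kernel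

theorem row_one_zero : 2 ∣ CA (12 * 1 + 0) + 1 := by decide +kernel

theorem memRing (hM : IsPModular 2 M) (χ : IrrCharacter G22) (g : G22) :
    MemLocalRing M (centralChar (χ : G22 → ℂ) g) := by
  classical
  haveI : Fintype G22 := Fintype.ofFinite _
  haveI := isPrime_of_isPModular hM
  exact memLocalRing_of_isIntegral (isIntegral_centralChar χ.2 g) ne_top

theorem memIdeal_term (hM : IsPModular 2 M) (χ : IrrCharacter G22) (c k : ℕ)
    (h : 2 ∣ c ∨ MemLocalIdeal M (centralChar (χ : G22 → ℂ) (AG k))) :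
    MemLocalIdeal M ((c : ℂ) * centralChar (χ : G22 → ℂ) (AG k)) := by
  haveI := isPrime_of_isPModular hM
  rcases h with h | h
  · exact memLocalIdeal_mul_right ((memLocalIdeal_natCast_iff hM c).2 h) (memRing hM χ _)
  · exact memLocalIdeal_mul_left (memLocalRing_natCast c) h

theorem memIdeal_of_sq (hM : IsPModular 2 M) (χ : IrrCharacter G22) (i : ℕ) (hi : i < 12)
    (h : ∀ k < 12, 2 ∣ CA (12 * i + k) ∨ MemLocalIdeal M (centralChar (χ : G22 → ℂ) (AG k))) :
    MemLocalIdeal M (centralChar (χ : G22 → ℂ) (AG i)) := by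
  haveI := isPrime_of_isPModular hM
  have h1 : MemLocalIdeal M (centralChar (χ : G22 → ℂ) (AG i) ^ 2) := by
    rw [centralChar_sq χ.2 i hi]
    apply memLocalIdeal_sum
    intro k hk
    rw [Finset.mem_range] at hk
    exact memIdeal_term hM χ _ k (h k hk)
  rw [pow_two] at h1
  rcases memLocalIdeal_or_of_mul (memRing hM χ _) (memRing hM χ _) h1 with h2 | h2 <;> exact h2

/-- the constants to which the central character values are congruent -/
def cst (i : ℕ) : ℂ := if i < 2 then 1 else 0

theorem memIdeal_all (hM : IsPModular 2 M) (χ : IrrCharacter G22) (i : ℕ) (hi : i < 12) :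
    MemLocalIdeal M (centralChar (χ : G22 → ℂ) (AG i) - cst i) := by
  haveI := isPrime_of_isPModular hM
  have hev : ∀ i < 12, (i = 3 ∨ i = 4 ∨ i = 6 ∨ i = 7 ∨ i = 8 ∨ i = 9 ∨ i = 10) →
      MemLocalIdeal M (centralChar (χ : G22 → ℂ) (AG i)) := by
    intro i hi h
    apply memIdeal_of_sq hM χ i hi
    intro k hk
    exact Or.inl (even_rows i hi h k hk)
  have h3 := hev 3 (by norm_num) (by norm_num)
  have h8 := hev 8 (by norm_num) (by norm_num)
  have h9 := hev 9 (by norm_num) (by norm_num)
  have h5 : MemLocalIdeal M (centralChar (χ : G22 → ℂ) (AG 5)) := by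
    apply memIdeal_of_sq hM χ 5 (by norm_num)
    intro k hk
    rcases row_five k hk with h | rfl
    · exact Or.inl h
    · exact Or.inr h3
  have h2 : MemLocalIdeal M (centralChar (χ : G22 → ℂ) (AG 2)) := by
    apply memIdeal_of_sq hM χ 2 (by norm_num)
    intro k hk
    rcases row_two k hk with h | rfl | rfl
    · exact Or.inl h
    · exact Or.inr h8
    · exact Or.inr h9
  have h11 : MemLocalIdeal M (centralChar (χ : G22 → ℂ) (AG 11)) := by
    apply memIdeal_of_sq hM χ 11 (by norm_num)
    intro k hk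
    rcases row_eleven k hk with h | rfl | rfl
    · exact Or.inl h
    · exact Or.inr h8
    · exact Or.inr h9
  have h0 : centralChar (χ : G22 → ℂ) (AG 0) = 1 := centralChar_AG_zero χ.2
  have h1 : MemLocalIdeal M (centralChar (χ : G22 → ℂ) (AG 1) - 1) := by
    have hsq : MemLocalIdeal M ((centralChar (χ : G22 → ℂ) (AG 1) - 1) *
        (centralChar (χ : G22 → ℂ) (AG 1) - 1)) := by
      have e1 : (centralChar (χ : G22 → ℂ) (AG 1) - 1) * (centralChar (χ : G22 → ℂ) (AG 1) - 1) =
          (∑ k ∈ Finset.range 11, (CA (12 * 1 + (k + 1)) : ℂ) *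
              centralChar (χ : G22 → ℂ) (AG (k + 1))) +
            (((CA (12 * 1 + 0) + 1 : ℕ) : ℂ) -
              (2 : ℕ) * centralChar (χ : G22 → ℂ) (AG 1)) := by
        have e2 := centralChar_sq χ.2 1 (by norm_num)
        rw [Finset.sum_range_succ', h0] at e2
        push_cast
        linear_combination e2
      rw [e1]
      apply memLocalIdeal_add
      · apply memLocalIdeal_sum
        intro k hk
        rw [Finset.mem_range] at hk
        apply memIdeal_term hM χ
        rcases row_one k hk with h | h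
        · exact Or.inl h
        · rw [h]; exact Or.inr h3
      · apply memLocalIdeal_sub
        · exact (memLocalIdeal_natCast_iff hM _).2 row_one_zero
        · exact memLocalIdeal_mul_right ((memLocalIdeal_natCast_iff hM 2).2 (dvd_refl 2))
            (memRing hM χ _)
    have hr : MemLocalRing M (centralChar (χ : G22 → ℂ) (AG 1) - 1) :=
      memLocalRing_sub (memRing hM χ _) (memLocalRing_one ne_top)
    rcases memLocalIdeal_or_of_mul hr hr hsq with h | h <;> exact h
  have hz : ∀ j, 2 ≤ j → cst j = 0 := by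
    intro j hj
    unfold cst
    rw [if_neg (by omega)]
  have hev' : ∀ i < 12, (i = 3 ∨ i = 4 ∨ i = 6 ∨ i = 7 ∨ i = 8 ∨ i = 9 ∨ i = 10) →
      MemLocalIdeal M (centralChar (χ : G22 → ℂ) (AG i) - cst i) := by
    intro i hi h
    rw [hz i (by omega), sub_zero]
    exact hev i hi h
  interval_cases i
  · rw [h0]
    have : cst 0 = 1 := by unfold cst; rw [if_pos (by norm_num)]
    rw [this, sub_self]
    exact memLocalIdeal_zero ne_top
  · have : cst 1 = 1 := by unfold cst; rw [if_pos (by norm_num)]
    rw [this]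
    exact h1
  · rw [hz 2 (by norm_num), sub_zero]; exact h2
  · exact hev' 3 (by norm_num) (by norm_num)
  · exact hev' 4 (by norm_num) (by norm_num)
  · rw [hz 5 (by norm_num), sub_zero]; exact h5
  · exact hev' 6 (by norm_num) (by norm_num)
  · exact hev' 7 (by norm_num) (by norm_num)
  · exact hev' 8 (by norm_num) (by norm_num)
  · exact hev' 9 (by norm_num) (by norm_num)
  · exact hev' 10 (by norm_num) (by norm_num)
  · rw [hz 11 (by norm_num), sub_zero]; exact h11

/-- all irreducible characters of `M₂₂` lie in one 2-block -/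
theorem sameBlock_M22 (hM : IsPModular 2 M) (χ ψ : IrrCharacter G22) :
    SameBlock M (χ : G22 → ℂ) (ψ : G22 → ℂ) := by
  classical
  haveI : Fintype G22 := Fintype.ofFinite _
  haveI := isPrime_of_isPModular hM
  intro g
  obtain ⟨i, hi, hc⟩ := exists_conj_AG g
  obtain ⟨c, hc⟩ := isConj_iff.mp hc
  rw [← hc, centralChar_conj (isClassFunction_of_isIrrCharacter χ.2),
    centralChar_conj (isClassFunction_of_isIrrCharacter ψ.2)]
  have e : centralChar (χ : G22 → ℂ) (AG i) - centralChar (ψ : G22 → ℂ) (AG i) =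
      (centralChar (χ : G22 → ℂ) (AG i) - cst i) - (centralChar (ψ : G22 → ℂ) (AG i) - cst i) := by
    ring
  rw [e]
  exact memLocalIdeal_sub (memIdeal_all hM χ i hi) (memIdeal_all hM ψ i hi)

end

end Cfsg.Agent.Helper26.M22B
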