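import Mathlib
import Cfsg.Prelude.Def_Spor_Mathieu
import Cfsg.Agent.Lib.Helper26.M22Sub
import Cfsg.Agent.Lib.Helper29.M24Trans

/-!
# The two-point stabilizers in `M₂₄` have no subgroups of index 56 or 210
-/

set_option autoImplicit false

namespace Cfsg.Agent.Helper26.M22S

open Cfsg Cfsg.Agent.Helper26 Cfsg.Agent.Helper26.PermCert Cfsg.Agent.Helper26.M24Semi
  Cfsg.Agent.Helper26.M24PD Cfsg.Agent.Helper26.M24A Cfsg.Agent.Helper26.M24O
  Cfsg.Agent.Helper26.M24ND Cfsg.Agent.Helper26.M24NDD Cfsg.Agent.Helper26.M24Y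
  Cfsg.Agent.Helper26.SylowCount Cfsg.Agent.Helper26.M22O Cfsg.Agent.Helper26.M22D
  Cfsg.Agent.Helper26.PSL23
open Cfsg.Agent.Helper29.M24
open Cfsg.Agent.S0358 (idx)

theorem mem_of_pow_mem {G : Type*} [Group G] (x : G) (p : ℕ) (hp : p.Prime) (hx : orderOf x = p)
    (k : ℕ) (hk : x ^ k ≠ 1) (H : Subgroup G) (h : x ^ k ∈ H) : x ∈ H := by
  have hcop : Nat.Coprime k (orderOf x) := by
    rw [hx, Nat.coprime_comm, Nat.Prime.coprime_iff_not_dvd hp]
    intro hd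
    apply hk
    rw [← hx] at hd
    exact orderOf_dvd_iff_pow_eq_one.1 hd
  obtain ⟨m, hm⟩ := exists_pow_eq_self_of_coprime hcop
  rw [← hm]
  exact Subgroup.pow_mem _ h m

/-- A subgroup of `M₂₂` of order divisible by 11 has a conjugate containing the doubling map. -/
theorem exists_conj_with_n (K : Subgroup (Equiv.Perm GolayPt)) (hK : K ≤ Cfsg.Spor.M22)
    (h11 : 11 ∣ Nat.card K) :
    ∃ K' : Subgroup (Equiv.Perm GolayPt), K' ≤ Cfsg.Spor.M22 ∧ nP ∈ K' ∧
      Nat.card K' = Nat.card K := by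
  have h11p : Fact (Nat.Prime 11) := ⟨by norm_num⟩
  obtain ⟨u0, hu0⟩ := exists_prime_orderOf_dvd_card' 11 h11
  obtain ⟨u, hu⟩ : ∃ u : Equiv.Perm GolayPt, u = (u0 : Equiv.Perm GolayPt) := ⟨_, rfl⟩
  have huK : u ∈ K := by rw [hu]; exact u0.2
  have huord : orderOf u = 11 := by rw [hu, Subgroup.orderOf_coe]; exact hu0
  obtain ⟨uG, huG⟩ : ∃ uG : G22, uG = ⟨u, hK huK⟩ := ⟨_, rfl⟩
  have huGv : (uG : Equiv.Perm GolayPt) = u := by rw [huG]
  have huGord : orderOf uG = 11 := by rw [← Subgroup.orderOf_coe, huGv]; exact huord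
  have hnGord : orderOf M22O.nG = 11 := by
    rw [← Subgroup.orderOf_coe]; exact orderOf_nP
  have hp2 : ¬ 11 ^ 2 ∣ Nat.card G22 := not_sq11_dvd22 Cfsg.Spor.M22 le_rfl
  obtain ⟨g, k, hgk⟩ := AutInner.exists_conj_pow_of_prime_order 11 M22O.nG hnGord hp2 uG huGord
  obtain ⟨a, ha⟩ : ∃ a : Equiv.Perm GolayPt, a = (g : Equiv.Perm GolayPt) := ⟨_, rfl⟩
  have ha22 : a ∈ Cfsg.Spor.M22 := by rw [ha]; exact g.2
  have hu' : u = a * nP ^ k * a⁻¹ := by
    have := congrArg Subtype.val hgk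
    rw [huGv] at this
    rw [this, ha]
    rfl
  refine ⟨K.map (MulAut.conj a⁻¹).toMonoidHom, ?_, ?_, ?_⟩
  · rintro _ ⟨y, hy, rfl⟩
    show (MulAut.conj a⁻¹) y ∈ Cfsg.Spor.M22
    rw [MulAut.conj_apply]
    exact Subgroup.mul_mem _ (Subgroup.mul_mem _ (Subgroup.inv_mem _ ha22) (hK hy))
      (Subgroup.inv_mem _ (Subgroup.inv_mem _ ha22))
  · have hmem : nP ^ k ∈ K.map (MulAut.conj a⁻¹).toMonoidHom := by
      refine ⟨u, huK, ?_⟩
      show (MulAut.conj a⁻¹) u = nP ^ k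
      rw [MulAut.conj_apply, hu']
      group
    have hne : nP ^ k ≠ 1 := by
      intro h1
      rw [h1, mul_one, mul_inv_cancel] at hu'
      rw [hu', orderOf_one] at huord
      revert huord
      norm_num
    exact mem_of_pow_mem nP 11 (by norm_num) orderOf_nP k hne _ hmem
  · exact Subgroup.card_map_of_injective (MulEquiv.injective _)

theorem no_subgroup (K : Subgroup (Equiv.Perm GolayPt)) (hK : K ≤ Cfsg.Spor.M22) :
    Nat.card K ≠ 2112 ∧ Nat.card K ≠ 7920 := by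
  by_cases h11 : 11 ∣ Nat.card K
  · obtain ⟨K', hK', hn, hc⟩ := exists_conj_with_n K hK h11
    rw [← hc]
    exact main_n K' hK' hn
  · constructor
    · intro hc
      rw [hc] at h11
      exact h11 (by norm_num)
    · intro hc
      rw [hc] at h11
      exact h11 (by norm_num)

/-! ### Two-point stabilizers -/

theorem two_point_aux (p q : GolayPt) (hpq : p ≠ q) (Gpq : Subgroup ↥Cfsg.M24)
    (hGpq : Gpq = MulAction.stabilizer Cfsg.M24 p ⊓ MulAction.stabilizer Cfsg.M24 q)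
    (H : Subgroup ↥Gpq) : H.index ≠ 56 ∧ H.index ≠ 210 := by
  obtain ⟨g, hg, hgxy⟩ := exists_map_emb₂ (by norm_num : 2 ≤ 5)
    (⟨![p, q], by
      intro i j hij
      fin_cases i <;> fin_cases j <;> simp_all [eq_comm]⟩ : Fin 2 ↪ GolayPt)
    (⟨![(none : GolayPt), some 0], by
      intro i j hij
      fin_cases i <;> fin_cases j <;> simp_all [eq_comm]⟩ : Fin 2 ↪ GolayPt)
  have hgp : g p = none := hgxy 0
  have hgq : g q = some 0 := hgxy 1
  have hgp' : g⁻¹ (none : GolayPt) = p := by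
    rw [← hgp, Equiv.Perm.inv_def, Equiv.symm_apply_apply]
  have hgq' : g⁻¹ (some 0 : GolayPt) = q := by
    rw [← hgq, Equiv.Perm.inv_def, Equiv.symm_apply_apply]
  have hmemG : ∀ x : ↥Cfsg.M24, x ∈ Gpq ↔
      (x : Equiv.Perm GolayPt) p = p ∧ (x : Equiv.Perm GolayPt) q = q := by
    intro x
    rw [hGpq, Subgroup.mem_inf, MulAction.mem_stabilizer_iff, MulAction.mem_stabilizer_iff,
      Subgroup.smul_def, Subgroup.smul_def, Equiv.Perm.smul_def, Equiv.Perm.smul_def]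
  let ψ : ↥Gpq →* Equiv.Perm GolayPt :=
    (MulAut.conj g).toMonoidHom.comp ((Cfsg.M24).subtype.comp Gpq.subtype)
  have hψ : ∀ x : ↥Gpq, ψ x = g * ((x : ↥Cfsg.M24) : Equiv.Perm GolayPt) * g⁻¹ := fun x => rfl
  have hinj : Function.Injective ψ := by
    intro x y hxy
    rw [hψ, hψ] at hxy
    have h1 : ((x : ↥Cfsg.M24) : Equiv.Perm GolayPt) = ((y : ↥Cfsg.M24) : Equiv.Perm GolayPt) :=
      mul_left_cancel (mul_right_cancel hxy)
    exact Subtype.ext (Subtype.ext h1)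
  have hrange : ψ.range = Cfsg.Spor.M22 := by
    ext m
    constructor
    · rintro ⟨x, rfl⟩
      obtain ⟨hxp, hxq⟩ := (hmemG x).1 x.2
      rw [hψ, mem_M22_iff]
      refine ⟨Subgroup.mul_mem _ (Subgroup.mul_mem _ hg (x : ↥Cfsg.M24).2)
        (Subgroup.inv_mem _ hg), ?_, ?_⟩
      · rw [Equiv.Perm.mul_apply, Equiv.Perm.mul_apply, hgp', hxp, hgp]
      · rw [Equiv.Perm.mul_apply, Equiv.Perm.mul_apply, hgq', hxq, hgq]
    · intro hm
      obtain ⟨hm24, hm1, hm2⟩ := (mem_M22_iff m).1 hm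
      have hx24 : g⁻¹ * m * g ∈ Cfsg.M24 :=
        Subgroup.mul_mem _ (Subgroup.mul_mem _ (Subgroup.inv_mem _ hg) hm24) hg
      have hxG : (⟨g⁻¹ * m * g, hx24⟩ : ↥Cfsg.M24) ∈ Gpq := by
        rw [hmemG]
        constructor
        · show (g⁻¹ * m * g) p = p
          rw [Equiv.Perm.mul_apply, Equiv.Perm.mul_apply, hgp, hm1, hgp']
        · show (g⁻¹ * m * g) q = q
          rw [Equiv.Perm.mul_apply, Equiv.Perm.mul_apply, hgq, hm2, hgq']
      refine ⟨⟨⟨g⁻¹ * m * g, hx24⟩, hxG⟩, ?_⟩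
      rw [hψ]
      show g * (g⁻¹ * m * g) * g⁻¹ = m
      group
  have hcardG : Nat.card ↥Gpq = 443520 := by
    rw [Nat.card_congr (MonoidHom.ofInjective hinj).toEquiv, hrange, card_M22]
  have hKle : H.map ψ ≤ Cfsg.Spor.M22 := by
    rw [← hrange]
    exact Subgroup.map_le_range ψ H
  have hcardK : Nat.card ↥(H.map ψ) = Nat.card H := Subgroup.card_map_of_injective hinj
  obtain ⟨h1, h2⟩ := no_subgroup (H.map ψ) hKle
  rw [hcardK] at h1 h2
  have hmul := Subgroup.card_mul_index H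
  rw [hcardG] at hmul
  constructor
  · intro hi
    rw [hi] at hmul
    apply h2
    omega
  · intro hi
    rw [hi] at hmul
    apply h1
    omega

theorem two_point (p q : GolayPt) (hpq : p ≠ q)
    (H : Subgroup ↥(MulAction.stabilizer Cfsg.M24 p ⊓ MulAction.stabilizer Cfsg.M24 q)) :
    H.index ≠ 56 ∧ H.index ≠ 210 := two_point_aux p q hpq _ rfl H

end Cfsg.Agent.Helper26.M22S
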