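import Mathlib
import Cfsg.Agent.Lib.Helper26.M24Out

/-!
# Normalizing an automorphism of a subgroup of `M₂₄` containing the translation and the doubling map
-/

set_option autoImplicit false

namespace Cfsg.Agent.Helper26.M24N

open Cfsg Cfsg.Agent.Helper26 Cfsg.Agent.Helper26.PermCert Cfsg.Agent.Helper26.M24Semi
  Cfsg.Agent.Helper26.M24PD Cfsg.Agent.Helper26.M24A Cfsg.Agent.Helper26.M24O
open Cfsg.Agent.Helper29.M24
open Cfsg.Agent.S0358 (idx)

/-- Up to an inner automorphism, an automorphism of a subgroup `H` of `M₂₄` containing `x` and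
`n`, of order not divisible by `23²`, fixes `n` and sends `x` to `x` or `x⁻¹`. -/
theorem normalize_xn (H : Subgroup (Equiv.Perm GolayPt)) (hH : H ≤ Cfsg.M24) (hx : xP ∈ H)
    (hn : nP ∈ H) [Finite H] (hcard : ¬ 23 ^ 2 ∣ Nat.card H) (φ : MulAut H) :
    ∃ g : H, ∃ r : ℕ, (r = 1 ∨ r = 22) ∧
      ((MulAut.conj g)⁻¹ * φ) ⟨xP, hx⟩ = (⟨xP, hx⟩ : H) ^ r ∧
      ((MulAut.conj g)⁻¹ * φ) ⟨nP, hn⟩ = ⟨nP, hn⟩ := by
  have h23 : Fact (Nat.Prime 23) := ⟨by norm_num⟩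
  obtain ⟨xH, hxH⟩ : ∃ xH : H, xH = ⟨xP, hx⟩ := ⟨_, rfl⟩
  obtain ⟨nH, hnH⟩ : ∃ nH : H, nH = ⟨nP, hn⟩ := ⟨_, rfl⟩
  rw [← hxH, ← hnH]
  have hxv : (xH : Equiv.Perm GolayPt) = xP := by rw [hxH]
  have hnv : (nH : Equiv.Perm GolayPt) = nP := by rw [hnH]
  have hord : orderOf xH = 23 := by
    rw [← Subgroup.orderOf_coe, hxv]; exact orderOf_xP
  have hconj : nH * xH * nH⁻¹ = xH ^ 2 := by
    have h : nH * xH = xH ^ 2 * nH := by
      apply Subtype.ext
      rw [Subgroup.coe_mul, Subgroup.coe_mul, Subgroup.coe_pow, hxv, hnv]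
      exact n_x
    rw [h, mul_assoc, mul_inv_cancel, mul_one]
  have hu : orderOf (φ xH) = 23 := by rw [MulEquiv.orderOf_eq, hord]
  obtain ⟨g1, r, hr, h1⟩ := AutInner.exists_conj_rep 23 xH nH 2 hord hcard hconj {1, 22} hR23
    (φ xH) hu
  have hr' : r = 1 ∨ r = 22 := by simpa using hr
  obtain ⟨φ1, hφ1⟩ : ∃ φ1 : MulAut H, φ1 = (MulAut.conj g1)⁻¹ * φ := ⟨_, rfl⟩
  have hX1 : φ1 xH = xH ^ r := by
    rw [hφ1, MulAut.mul_apply, h1, ← map_inv, MulAut.conj_apply]; group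
  have hn1 : φ1 nH * xH = xH ^ 2 * φ1 nH := by
    have h := congrArg φ1 hconj
    rw [map_mul, map_mul, map_inv, map_pow, hX1] at h
    rcases hr' with rfl | rfl
    · rw [pow_one] at h
      rw [← h]; group
    · have h22 : xH ^ 22 = xH⁻¹ := by
        apply eq_inv_of_mul_eq_one_left
        rw [← pow_succ]
        have := pow_orderOf_eq_one xH
        rwa [hord] at this
      rw [h22] at h
      have h2 : φ1 nH * xH * (φ1 nH)⁻¹ = xH ^ 2 := by
        have h3 := congrArg (fun t => t⁻¹) h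
        simp only [mul_inv_rev, inv_inv, inv_pow] at h3
        rw [← h3]; group
      rw [← h2]; group
  have hn1' : ((φ1 nH : H) : Equiv.Perm GolayPt) * xP = xP ^ 2 * ((φ1 nH : H) : Equiv.Perm GolayPt) := by
    have := congrArg Subtype.val hn1
    rw [Subgroup.coe_mul, Subgroup.coe_mul, Subgroup.coe_pow, hxv] at this
    exact this
  obtain ⟨a, ha, hca⟩ := semi_x (φ1 nH : Equiv.Perm GolayPt) (hH (φ1 nH).2) hn1'
  have hN1 : φ1 nH = xH ^ a * nH * (xH ^ a)⁻¹ := by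
    apply Subtype.ext
    rw [Subgroup.coe_mul, Subgroup.coe_mul, Subgroup.coe_inv, Subgroup.coe_pow, hxv, hnv]
    exact Coded.ext hca (candN_coded a ha)
  refine ⟨g1 * xH ^ a, r, hr', ?_, ?_⟩
  · have e : (MulAut.conj (g1 * xH ^ a))⁻¹ * φ = (MulAut.conj (xH ^ a))⁻¹ * φ1 := by
      rw [hφ1, map_mul, mul_inv_rev, mul_assoc]
    rw [e, MulAut.mul_apply, hX1, ← map_inv, MulAut.conj_apply]
    have hc : Commute (xH ^ a) (xH ^ r) := (Commute.refl xH).pow_pow a r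
    rw [inv_inv, mul_assoc, ← hc.eq, ← mul_assoc, inv_mul_cancel, one_mul]
  · have e : (MulAut.conj (g1 * xH ^ a))⁻¹ * φ = (MulAut.conj (xH ^ a))⁻¹ * φ1 := by
      rw [hφ1, map_mul, mul_inv_rev, mul_assoc]
    rw [e, MulAut.mul_apply, hN1, ← map_inv, MulAut.conj_apply]; group

end Cfsg.Agent.Helper26.M24N
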