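import Mathlib
import Cfsg.Prelude.Def_Spor_Mathieu
import Cfsg.Agent.Lib.Helper26.M24Norm
import Cfsg.Agent.Lib.Helper26.PermSLP
import Cfsg.Agent.Lib.Helper26.M23SData

/-!
# Every automorphism of `M₂₃` is inner
-/

set_option autoImplicit false

namespace Cfsg.Agent.Helper26.M23O

open Cfsg Cfsg.Agent.Helper26 Cfsg.Agent.Helper26.PermCert Cfsg.Agent.Helper26.M24Semi
  Cfsg.Agent.Helper26.M24PD Cfsg.Agent.Helper26.M24A Cfsg.Agent.Helper26.M24O
  Cfsg.Agent.Helper26.M24N Cfsg.Agent.Helper26.PermSLP Cfsg.Agent.Helper26.M23SD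
open Cfsg.Agent.Helper29.M24
open Cfsg.Agent.S0358 (idx)

/-! ### Generation -/

/-- The subgroup generated by the translation, the doubling map and the cube twist. -/
def K23 : Subgroup (Equiv.Perm GolayPt) := Subgroup.closure {xP, nP, dP}

theorem slp_all : allR 4 172 (slpOK SC SA SB) = true := by decide +kernel

theorem base_codes : SC 0 = idC ∧ SC 1 = xC ∧ SC 2 = nC ∧ SC 3 = dC := by decide +kernel

theorem node_mem : ∀ k < nS, ∃ σ ∈ K23, Coded σ (SC k) := by
  apply slp_sound SC SA SB 4 nS K23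
  · intro k hk
    obtain ⟨h0, h1, h2, h3⟩ := base_codes
    interval_cases k
    · exact ⟨1, K23.one_mem, by rw [h0]; exact id_coded⟩
    · exact ⟨xP, Subgroup.subset_closure (by simp), by rw [h1]; exact xP_coded⟩
    · exact ⟨nP, Subgroup.subset_closure (by simp), by rw [h2]; exact nP_coded⟩
    · exact ⟨dP, Subgroup.subset_closure (by simp), by rw [h3]; exact dP_coded⟩
  · intro k hk1 hk2
    exact allR_true slp_all k hk1 (by have : k < 176 := hk2; omega)

theorem targets : ∀ j < 13, j ≠ 1 → TG j < nS ∧ SC (TG j) = gcode j := by decide +kernel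

theorem gP_mem_K23 (j : ℕ) (hj : j < ngen) (hj1 : j ≠ 1) : gP j ∈ K23 := by
  obtain ⟨h1, h2⟩ := targets j hj hj1
  obtain ⟨σ, hσ, hc⟩ := node_mem (TG j) h1
  have : gP j = σ := by
    apply Coded.ext (c := gcode j)
    · exact fun q => idx_gP j hj q
    · rw [← h2]; exact hc
  rw [this]; exact hσ

theorem depth_one : depthOf 1 = 0 := by decide

theorem grp1_le : grp 1 ≤ K23 := by
  unfold grp
  rw [Subgroup.closure_le]
  rintro g ⟨j, hj, hd, rfl⟩
  apply gP_mem_K23 j hj
  intro h
  rw [h, depth_one] at hd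
  exact absurd hd (by norm_num)

theorem dec_bpt0 : dec (bpt 0) = (none : GolayPt) := by decide

theorem mem_M23_iff (σ : Equiv.Perm GolayPt) :
    σ ∈ Cfsg.Spor.M23 ↔ σ ∈ Cfsg.M24 ∧ σ (none : GolayPt) = none := by
  unfold Cfsg.Spor.M23
  rw [Subgroup.mem_inf]
  exact Iff.rfl

theorem M23_eq_grp : Cfsg.Spor.M23 = grp 1 := by
  ext σ
  rw [mem_grp_iff 1 (by norm_num), mem_M23_iff]
  constructor
  · rintro ⟨h1, h2⟩
    refine ⟨h1, fun i' hi' => ?_⟩
    have : i' = 0 := by omega
    rw [this, dec_bpt0]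
    exact h2
  · rintro ⟨h1, h2⟩
    refine ⟨h1, ?_⟩
    have := h2 0 (by norm_num)
    rw [dec_bpt0] at this
    exact this

theorem fixes_none {σ : Equiv.Perm GolayPt} {c : ℕ} (hσ : Coded σ c) (h : app c 23 = 23) :
    σ (none : GolayPt) = none := by
  apply idx_injective
  rw [hσ]
  exact h

theorem xP_mem23 : xP ∈ Cfsg.Spor.M23 :=
  (mem_M23_iff _).2 ⟨xP_mem, fixes_none xP_coded (by decide)⟩
theorem nP_mem23 : nP ∈ Cfsg.Spor.M23 :=
  (mem_M23_iff _).2 ⟨nP_mem, fixes_none nP_coded (by decide)⟩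
theorem dP_mem23 : dP ∈ Cfsg.Spor.M23 :=
  (mem_M23_iff _).2 ⟨dP_mem, fixes_none dP_coded (by decide)⟩

/-- The group `M₂₃`. -/
abbrev G23 := ↥Cfsg.Spor.M23

/-- The translation. -/
def xG : G23 := ⟨xP, xP_mem23⟩
/-- The doubling map. -/
def nG : G23 := ⟨nP, nP_mem23⟩
/-- The cube twist. -/
def dG : G23 := ⟨dP, dP_mem23⟩

theorem card_G23 : Nat.card G23 = 10200960 := by
  show Nat.card ↥Cfsg.Spor.M23 = 10200960
  rw [M23_eq_grp]
  exact card_grp 1 (by norm_num)

instance : Finite G23 := Nat.finite_of_card_ne_zero (by rw [card_G23]; norm_num)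

theorem closure_G23 : Subgroup.closure ({xG, nG, dG} : Set G23) = ⊤ := by
  rw [eq_top_iff]
  intro g _
  let K : Subgroup (Equiv.Perm GolayPt) :=
    (Subgroup.closure ({xG, nG, dG} : Set G23)).map (Cfsg.Spor.M23).subtype
  have hx : xP ∈ K := ⟨xG, Subgroup.subset_closure (by simp), rfl⟩
  have hn : nP ∈ K := ⟨nG, Subgroup.subset_closure (by simp), rfl⟩
  have hd : dP ∈ K := ⟨dG, Subgroup.subset_closure (by simp), rfl⟩
  have hle : Cfsg.Spor.M23 ≤ K := by
    rw [M23_eq_grp]
    refine grp1_le.trans ?_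
    unfold K23
    rw [Subgroup.closure_le]
    intro y hy
    rcases hy with rfl | rfl | rfl
    · exact hx
    · exact hn
    · exact hd
  obtain ⟨k, hk, hkg⟩ := hle g.2
  have : k = g := Subtype.ext hkg
  rw [← this]; exact hk

/-! ### The certificates -/

theorem certA3 : allB 11 (certOK cand3 (FIX2 xC) relA3m23 crA3m23 cpA3m23 GOOD3 1) = true := by
  decide +kernel
theorem certB3 : allB 11 (certOK cand3 (FIX2 xiC) relB3m23 crB3m23 cpB3m23 GOOD3 0) = true := by
  decide +kernel
theorem trueA3 : relsOK (kap (FIX2 xC) dC) relA3m23 nrelA3m23 = true := by decide +kernel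
theorem trueB3 : relsOK (kap (FIX2 xC) dC) relB3m23 nrelB3m23 = true := by decide +kernel

/-- Every automorphism of `M₂₃` is inner. -/
theorem aut_inner (φ : MulAut G23) : ∃ g : G23, φ = MulAut.conj g := by
  obtain ⟨g, r, hr', hX2, hN2⟩ := normalize_xn Cfsg.Spor.M23 inf_le_left xP_mem23 nP_mem23
    (by rw [card_G23]; norm_num) φ
  obtain ⟨φ2, hφ2⟩ : ∃ φ2 : MulAut G23, φ2 = (MulAut.conj g)⁻¹ * φ := ⟨_, rfl⟩
  rw [← hφ2] at hX2 hN2
  have hX2' : φ2 xG = xG ^ r := hX2
  have hN2' : φ2 nG = nG := hN2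
  have hX2c : Coded ((φ2 xG : G23) : Equiv.Perm GolayPt) (c0 r) := by
    rw [hX2']; exact xpow_coded r hr'
  have hd1 : φ2 dG * nG = nG ^ 3 * φ2 dG := by
    have h0 : dG * nG = nG ^ 3 * dG := Subtype.ext d_n
    have h := congrArg φ2 h0
    rwa [map_mul, map_mul, map_pow, hN2'] at h
  obtain ⟨j3, hj3, hc3⟩ := semi_n3 (φ2 dG : Equiv.Perm GolayPt)
    ((inf_le_left : Cfsg.Spor.M23 ≤ Cfsg.M24) (φ2 dG).2) (congrArg Subtype.val hd1)
  let ρ3 : ℕ → G23 := fun l => if l = 0 then xG else if l = 1 then nG else if l = 9 then dG else 1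
  have hρ3 : ∀ l, l ≠ 9 → Coded ((φ2 (ρ3 l) : G23) : Equiv.Perm GolayPt) (FIX2 (c0 r) l) := by
    intro l hl
    by_cases h0 : l = 0
    · subst h0; exact hX2c
    · by_cases h1' : l = 1
      · subst h1'
        show Coded ((φ2 nG : G23) : Equiv.Perm GolayPt) nC
        rw [hN2']; exact nP_coded
      · have e : ρ3 l = 1 := by simp [ρ3, h0, h1', hl]
        rw [e, map_one]
        have e2 : FIX2 (c0 r) l = idC := by
          unfold FIX2
          have b0 : Nat.beq l 0 = false := by
            cases hb : Nat.beq l 0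
            · rfl
            · exact absurd (Nat.eq_of_beq_eq_true hb) h0
          have b1 : Nat.beq l 1 = false := by
            cases hb : Nat.beq l 1
            · rfl
            · exact absurd (Nat.eq_of_beq_eq_true hb) h1'
          rw [b0, b1]; rfl
        rw [e2]; exact id_coded
  have htrue3 : ∀ l, Coded ((ρ3 l : G23) : Equiv.Perm GolayPt) (kap (FIX2 xC) dC l) := by
    intro l
    unfold kap FIX2
    by_cases h9 : l = 9
    · subst h9; exact dP_coded
    · by_cases h0 : l = 0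
      · subst h0; exact xP_coded
      · by_cases h1' : l = 1
        · subst h1'; exact nP_coded
        · have e : ρ3 l = 1 := by simp [ρ3, h0, h1', h9]
          have b9 : Nat.beq l 9 = false := by
            cases hb : Nat.beq l 9
            · rfl
            · exact absurd (Nat.eq_of_beq_eq_true hb) h9
          have b0 : Nat.beq l 0 = false := by
            cases hb : Nat.beq l 0
            · rfl
            · exact absurd (Nat.eq_of_beq_eq_true hb) h0
          have b1 : Nat.beq l 1 = false := by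
            cases hb : Nat.beq l 1
            · rfl
            · exact absurd (Nat.eq_of_beq_eq_true hb) h1'
          rw [e, b9, b0, b1]; exact id_coded
  have h93 : Coded ((φ2 (ρ3 9) : G23) : Equiv.Perm GolayPt) (cand3 j3) := hc3
  rcases hr' with rfl | rfl
  · have hrel : ∀ rr,
        evalWd (fun l => ((φ2 (ρ3 l) : G23) : Equiv.Perm GolayPt)) (relA3m23 rr) = 1 :=
      fun rr => rel_transport φ2 ρ3 _
        (relsOK_sound trueA3 (fun r hr => getD_nil_of_le hr) _ htrue3 rr)
    obtain ⟨i, _, hi⟩ := certOK_sound (allB_true certA3 j3 hj3) _ hρ3 h93 hrel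
    rw [hi] at hc3
    have hD2 : φ2 dG = dG := Subtype.ext (Coded.ext hc3 dP_coded)
    rw [pow_one] at hX2'
    have hone : φ2 = 1 := by
      apply AutInner.eq_one_of_fix_generators _ closure_G23
      intro s hs
      rcases hs with rfl | rfl | rfl
      · exact hX2'
      · exact hN2'
      · exact hD2
    refine ⟨g, ?_⟩
    have e2 : φ = MulAut.conj g * φ2 := by rw [hφ2, mul_inv_cancel_left]
    rw [e2, hone, mul_one]
  · exfalso
    have hrel : ∀ rr,
        evalWd (fun l => ((φ2 (ρ3 l) : G23) : Equiv.Perm GolayPt)) (relB3m23 rr) = 1 :=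
      fun rr => rel_transport φ2 ρ3 _
        (relsOK_sound trueB3 (fun r hr => getD_nil_of_le hr) _ htrue3 rr)
    obtain ⟨i, hi0, _⟩ := certOK_sound (allB_true certB3 j3 hj3) _ hρ3 h93 hrel
    exact Nat.not_lt_zero i hi0

theorem card_Out_M23 : Nat.card (Cfsg.Out G23) = 1 := AutInner.card_Out_eq_one aut_inner

end Cfsg.Agent.Helper26.M23O
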