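import Mathlib
import Cfsg.Agent.Lib.Helper29.FusM24
import Cfsg.Agent.Lib.Helper26.M24QData

set_option autoImplicit false
open Cfsg

namespace Cfsg.Agent.Helper26.M24Q

open Cfsg.Agent.Helper27 Cfsg.Agent.Helper29 Cfsg.Agent.Helper29.M24
open Cfsg.Agent.Helper29.FusCert Cfsg.Agent.Helper29.Syl2

/-! ### Packed permutations as names for the elements of the quotient by the centre -/

/-- the packed actions of the listed elements -/
def PCc : List ℕ := PC.map Prod.snd

/-- equality modulo the central involution -/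
def eqZ (c d : ℕ) : Bool := eqC d c || eqC d (compF c zc)

/-- commuting modulo the central involution -/
def cmZ (c d : ℕ) : Bool := eqZ (compF c d) (compF d c)

/-- the elements of the abelian subgroup -/
def Al : List ℕ := AlT.map Prod.fst

/-- the coset representatives -/
def ckf (k : ℕ) : ℕ := ckl.getD k cId

/-- packed actions of elements of the subgroup -/
def Good (c : ℕ) : Prop := ∃ W : List ℕ, Repr c W ∧ evalW W ∈ P0

theorem good_of_mem_PC (q : List ℕ × ℕ) (hq : q ∈ PC) : Good q.2 := by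
  have h := searchCAll_sound lvlC finC q ((PC_mem_search q).1 hq)
  exact ⟨q.1, h.1, mem_P0_of_fin q.1 q.2 h.1 h.2⟩

theorem good_of_mem_PCc (c : ℕ) (hc : c ∈ PCc) : Good c := by
  unfold PCc at hc
  obtain ⟨q, hq, rfl⟩ := List.mem_map.1 hc
  exact good_of_mem_PC q hq

theorem good_cId : Good cId := ⟨[], repr_cId, by rw [evalW_nil]; exact one_mem _⟩

theorem good_compF (c d : ℕ) (hc : Good c) (hd : Good d) : Good (compF c d) := by
  obtain ⟨W, hW, hWm⟩ := hc
  obtain ⟨V, hV, hVm⟩ := hd
  exact ⟨W ++ V, repr_compF c d W V hW hV, by rw [evalW_append]; exact mul_mem hWm hVm⟩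

theorem eqC_self (c : ℕ) : eqC c c = true := by
  unfold eqC
  rw [List.all_eq_true]
  intro x _
  exact Nat.beq_refl _

theorem evalW_eq_of_eqC_true (c d : ℕ) (W V : List ℕ) (hc : Repr c W) (hd : Repr d V)
    (h : eqC c d = true) : evalW W = evalW V := by
  apply evalW_eq_of_appW W V hc.1 hd.1
  intro x hx
  unfold eqC at h
  rw [List.all_eq_true] at h
  have h1 := h x (List.mem_range.2 hx)
  rw [← hc.2 x hx, ← hd.2 x hx, ← appF_eq, ← appF_eq]
  exact Nat.eq_of_beq_eq_true h1

open Classical in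
/-- the element of the subgroup with a given packed action -/
noncomputable def pel (c : ℕ) : ↥P0 :=
  if h : Good c then ⟨evalW h.choose, h.choose_spec.2⟩ else 1

theorem pel_eq (c : ℕ) (W : List ℕ) (hr : Repr c W) (hm : evalW W ∈ P0) :
    pel c = ⟨evalW W, hm⟩ := by
  have hg : Good c := ⟨W, hr, hm⟩
  unfold pel
  rw [dif_pos hg]
  apply Subtype.ext
  exact evalW_eq_of_eqC_true c c _ _ hg.choose_spec.1 hr (eqC_self c)

theorem pel_cId : pel cId = 1 := by
  rw [pel_eq cId [] repr_cId (by rw [evalW_nil]; exact one_mem _)]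
  apply Subtype.ext
  exact evalW_nil

theorem pel_compF (c d : ℕ) (hc : Good c) (hd : Good d) :
    pel (compF c d) = pel c * pel d := by
  obtain ⟨W, hW, hWm⟩ := hc
  obtain ⟨V, hV, hVm⟩ := hd
  rw [pel_eq c W hW hWm, pel_eq d V hV hVm,
    pel_eq (compF c d) (W ++ V) (repr_compF c d W V hW hV)
      (by rw [evalW_append]; exact mul_mem hWm hVm)]
  apply Subtype.ext
  exact evalW_append W V

theorem pel_eq_iff (c d : ℕ) (hc : Good c) (hd : Good d) :
    pel c = pel d ↔ eqC c d = true := by
  obtain ⟨W, hW, hWm⟩ := hc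
  obtain ⟨V, hV, hVm⟩ := hd
  rw [pel_eq c W hW hWm, pel_eq d V hV hVm]
  constructor
  · intro h
    exact eqC_of_evalW_eq c d W V hW hV (congrArg Subtype.val h)
  · intro h
    exact Subtype.ext (evalW_eq_of_eqC_true c d W V hW hV h)

theorem pel_surj (x : ↥P0) : ∃ c ∈ PCc, pel c = x := by
  obtain ⟨q, hq, hr, e⟩ := P0_sub x.1 x.2
  refine ⟨q.2, List.mem_map.2 ⟨q, hq, rfl⟩, ?_⟩
  have hm : evalW q.1 ∈ P0 := e ▸ x.2
  rw [pel_eq q.2 q.1 hr hm]
  exact Subtype.ext e.symm

theorem good_zc : Good zc :=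
  ⟨FusM24.zz.1, FusM24.zz_ok.1, mem_P0_of_fin _ _ FusM24.zz_ok.1 FusM24.zz_ok.2.1⟩

/-- the central involution commutes with the listed elements -/
def checkZ : Bool := PCc.all fun c => eqC (compF c zc) (compF zc c)

theorem mem_center_iff (hZ : checkZ = true) (x : ↥P0) :
    x ∈ Subgroup.center ↥P0 ↔ x = 1 ∨ x = pel zc := by
  constructor
  · intro hx
    rw [Subgroup.mem_center_iff] at hx
    obtain ⟨q, hq, hr, e⟩ := P0_sub x.1 x.2
    have hgq := good_of_mem_PC q hq
    have hxq : x = pel q.2 := by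
      have hm : evalW q.1 ∈ P0 := e ▸ x.2
      rw [pel_eq q.2 q.1 hr hm]
      exact Subtype.ext e
    have hc := FusM24.check
    unfold checkA at hc
    rw [Bool.and_eq_true, Bool.and_eq_true, Bool.and_eq_true] at hc
    obtain ⟨⟨⟨_, h2⟩, h3⟩, _⟩ := hc
    rw [List.all_eq_true] at h2 h3
    have h := h3 q hq
    rw [Bool.or_eq_true, Bool.or_eq_true] at h
    rcases h with (h | h) | h
    · left
      rw [hxq, Nat.eq_of_beq_eq_true h]
      exact pel_cId
    · right
      rw [hxq, Nat.eq_of_beq_eq_true h]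
      rfl
    · exfalso
      rw [List.any_eq_true] at h
      obtain ⟨y, hy, hne⟩ := h
      have hy2 := h2 y hy
      rw [Bool.and_eq_true, decide_eq_true_eq] at hy2
      have hgy : Good y.2 := ⟨y.1, hy2.1, mem_P0_of_fin _ _ hy2.1 hy2.2⟩
      have h4 := hx (pel y.2)
      rw [hxq, ← pel_compF _ _ hgy hgq, ← pel_compF _ _ hgq hgy,
        pel_eq_iff _ _ (good_compF _ _ hgy hgq) (good_compF _ _ hgq hgy)] at h4
      have h5 : eqC (compF q.2 y.2) (compF y.2 q.2) = true :=
        (pel_eq_iff _ _ (good_compF _ _ hgq hgy) (good_compF _ _ hgy hgq)).1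
          ((pel_eq_iff _ _ (good_compF _ _ hgy hgq) (good_compF _ _ hgq hgy)).2 h4).symm
      rw [h5] at hne
      exact Bool.false_ne_true hne
  · rintro (rfl | rfl)
    · exact one_mem _
    · rw [Subgroup.mem_center_iff]
      intro t
      obtain ⟨c, hc, rfl⟩ := pel_surj t
      have hgc := good_of_mem_PCc c hc
      rw [← pel_compF _ _ hgc good_zc, ← pel_compF _ _ good_zc hgc,
        pel_eq_iff _ _ (good_compF _ _ hgc good_zc) (good_compF _ _ good_zc hgc)]
      unfold checkZ at hZ
      rw [List.all_eq_true] at hZ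
      exact hZ c hc

/-! ### Models of the quotient -/

/-- a group whose elements are named by packed actions, as the quotient by the centre is -/
structure Model (S : Type*) [Group S] (g : ℕ → S) : Prop where
  fin : Finite S
  pgrp : IsPGroup 2 S
  surj : ∀ s : S, ∃ c ∈ PCc, g c = s
  one : g cId = 1
  mul : ∀ c d, Good c → Good d → g (compF c d) = g c * g d
  eq_iff : ∀ c d, Good c → Good d → (g c = g d ↔ eqZ c d = true)

theorem Model.commute_iff {S : Type*} [Group S] {g : ℕ → S} (hM : Model S g) (c d : ℕ)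
    (hc : Good c) (hd : Good d) : g c * g d = g d * g c ↔ cmZ c d = true := by
  rw [← hM.mul c d hc hd, ← hM.mul d c hd hc]
  exact hM.eq_iff _ _ (good_compF _ _ hc hd) (good_compF _ _ hd hc)

theorem isPGroup_P0 : IsPGroup 2 ↥P0 := by
  intro x
  refine ⟨3, ?_⟩
  apply Subtype.ext
  have := P0_pow8 x.1 x.2
  simpa using this

theorem model_of_hom (hZ : checkZ = true) {S : Type*} [Group S] (f : ↥P0 →* S)
    (hf : Function.Surjective f) (hk : f.ker = Subgroup.center ↥P0) :
    Model S (fun c => f (pel c)) where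
  fin := Finite.of_surjective f hf
  pgrp := isPGroup_P0.of_surjective f hf
  surj := by
    intro s
    obtain ⟨x, rfl⟩ := hf s
    obtain ⟨c, hc, rfl⟩ := pel_surj x
    exact ⟨c, hc, rfl⟩
  one := by
    show f (pel cId) = 1
    rw [pel_cId, map_one]
  mul := by
    intro c d hc hd
    show f (pel (compF c d)) = f (pel c) * f (pel d)
    rw [pel_compF c d hc hd, map_mul]
  eq_iff := by
    intro c d hc hd
    show f (pel c) = f (pel d) ↔ eqZ c d = true
    rw [eq_comm, MonoidHom.eq_iff, hk, mem_center_iff hZ, inv_mul_eq_one, inv_mul_eq_iff_eq_mul,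
      ← pel_compF c zc hc good_zc]
    unfold eqZ
    rw [Bool.or_eq_true, ← pel_eq_iff d c hd hc,
      ← pel_eq_iff d (compF c zc) hd (good_compF _ _ hc good_zc)]
    constructor
    · rintro (h | h)
      · exact Or.inl h.symm
      · exact Or.inr h
    · rintro (h | h)
      · exact Or.inl h.symm
      · exact Or.inr h

end Cfsg.Agent.Helper26.M24Q
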