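import Mathlib
import Cfsg.Agent.Lib.Helper26.M24QDefs
import Cfsg.Agent.Lib.Helper1.PGroupCoatom

set_option autoImplicit false
open Cfsg

namespace Cfsg.Agent.Helper26.M24Q

open Cfsg.Agent.Helper27 Cfsg.Agent.Helper29 Cfsg.Agent.Helper29.M24
open Cfsg.Agent.Helper29.FusCert Cfsg.Agent.Helper29.Syl2

/-! ### From checks on packed actions to the three statements about the quotient -/

/-- all the packed actions of the data -/
def dataL : List ℕ :=
  Wl ++ (gens6 ++ (Al ++ (ckl ++ (prs.map Prod.fst ++ prs.map Prod.snd))))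

/-- the data are listed elements -/
def check0 : Bool := dataL.all fun c => PCc.any fun d => Nat.beq c d

/-- outside twelve classes, the centralizer misses two elements and their product -/
def check1 : Bool := PCc.all fun c => (Wl.any fun w => eqZ w c) ||
  prs.any fun p => !cmZ c p.1 && !cmZ c p.2 && !cmZ c (compF p.1 p.2)

def check2a : Bool := Al.all fun a => gens6.all fun b => cmZ a b

def check2b : Bool := PCc.all fun c => (gens6.any fun b => !cmZ c b) || Al.any fun a => eqZ a c

def check2c : Bool := Al.all fun a => Al.all fun b => cmZ a b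

def check2d : Bool := Al.all fun a => eqZ (compF a a) cId

/-- pairwise distinct modulo the central involution -/
def pwB : List ℕ → Bool
  | [] => true
  | a :: l => (l.all fun b => !eqZ a b) && pwB l

def check2e : Bool := pwB Al && Nat.beq Al.length 64

def check3a : Bool := TU.all fun p => Nat.blt p.2 512 &&
  eqZ (compF (ckf (p.2 / 64)) (Al.getD (p.2 % 64) cId)) p.1

def check3b : Bool := AlT.all fun p => (List.range 8).all fun k =>
  (p.2.testBit k) == cmZ p.1 (ckf k)

/-- the checks -/
structure Checks : Prop where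
  h0 : check0 = true
  h1 : check1 = true
  h2a : check2a = true
  h2b : check2b = true
  h2c : check2c = true
  h2d : check2d = true
  h2e : check2e = true
  h3a : check3a = true
  h3a' : TU.map Prod.fst = PCc
  h3b : check3b = true
  h3c : ∀ K : Finset (Fin 8), K.Nonempty → K ≠ {0} →
    K.card * (AlT.filter fun p => decide (∀ k ∈ K, p.2.testBit k.val = true)).length < 64

theorem good_of_data (hC : Checks) (c : ℕ) (hc : c ∈ dataL) : Good c := by
  have h0 := hC.h0
  unfold check0 at h0
  rw [List.all_eq_true] at h0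
  have := h0 c hc
  rw [List.any_eq_true] at this
  obtain ⟨d, hd, hb⟩ := this
  rw [Nat.eq_of_beq_eq_true hb]
  exact good_of_mem_PCc d hd

theorem good_W (hC : Checks) (c : ℕ) (hc : c ∈ Wl) : Good c :=
  good_of_data hC c (by unfold dataL; exact List.mem_append_left _ hc)

theorem good_gens (hC : Checks) (c : ℕ) (hc : c ∈ gens6) : Good c :=
  good_of_data hC c (by
    unfold dataL
    exact List.mem_append_right _ (List.mem_append_left _ hc))

theorem good_Al (hC : Checks) (c : ℕ) (hc : c ∈ Al) : Good c :=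
  good_of_data hC c (by
    unfold dataL
    exact List.mem_append_right _ (List.mem_append_right _ (List.mem_append_left _ hc)))

theorem good_ckl (hC : Checks) (c : ℕ) (hc : c ∈ ckl) : Good c :=
  good_of_data hC c (by
    unfold dataL
    exact List.mem_append_right _ (List.mem_append_right _ (List.mem_append_right _
      (List.mem_append_left _ hc))))

theorem good_prs (hC : Checks) (p : ℕ × ℕ) (hp : p ∈ prs) : Good p.1 ∧ Good p.2 := by
  constructor
  · apply good_of_data hC
    unfold dataL
    exact List.mem_append_right _ (List.mem_append_right _ (List.mem_append_right _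
      (List.mem_append_right _ (List.mem_append_left _ (List.mem_map_of_mem hp)))))
  · apply good_of_data hC
    unfold dataL
    exact List.mem_append_right _ (List.mem_append_right _ (List.mem_append_right _
      (List.mem_append_right _ (List.mem_append_right _ (List.mem_map_of_mem hp)))))

theorem good_ckf (hC : Checks) (k : ℕ) : Good (ckf k) := by
  unfold ckf
  exact getD_prop Good ckl cId good_cId (fun v hv => good_ckl hC v hv) k

section

variable {S : Type*} [Group S] {g : ℕ → S}

/-! #### Centres of maximal subgroups -/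

theorem part1 (hM : Model S g) (hC : Checks) (M : Subgroup S) (hco : IsCoatom M) :
    Nat.card ↥(Subgroup.center ↥M) ≤ 8 := by
  classical
  have := hM.fin
  have : Fact (Nat.Prime 2) := ⟨Nat.prime_two⟩
  obtain ⟨_, hidx⟩ := Cfsg.Agent.Helper1.coatom_normal_index_of_isPGroup hM.pgrp M hco
  have key : ∀ m : ↥M, m ∈ Subgroup.center ↥M → (m : S) ∈ (Wl.map g).toFinset := by
    intro m hm
    rw [Subgroup.mem_center_iff] at hm
    obtain ⟨c, hc, hcm⟩ := hM.surj (m : S)
    have hgc := good_of_mem_PCc c hc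
    have h1 := hC.h1
    unfold check1 at h1
    rw [List.all_eq_true] at h1
    have h := h1 c hc
    rw [Bool.or_eq_true] at h
    rcases h with h | h
    · rw [List.any_eq_true] at h
      obtain ⟨w, hw, hwe⟩ := h
      rw [List.mem_toFinset, List.mem_map]
      refine ⟨w, hw, ?_⟩
      rw [← hcm]
      exact (hM.eq_iff w c (good_W hC w hw) hgc).2 hwe
    · exfalso
      rw [List.any_eq_true] at h
      obtain ⟨p, hp, hpe⟩ := h
      rw [Bool.and_eq_true, Bool.and_eq_true, Bool.not_eq_true', Bool.not_eq_true',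
        Bool.not_eq_true'] at hpe
      obtain ⟨⟨hp1, hp2⟩, hp3⟩ := hpe
      obtain ⟨g1, g2⟩ := good_prs hC p hp
      have hcomm : ∀ y : S, y ∈ M → g c * y = y * g c := by
        intro y hy
        have h2 := congrArg Subtype.val (hm ⟨y, hy⟩)
        rw [hcm]
        exact h2.symm
      have n1 : g p.1 ∉ M := by
        intro hy
        have h2 := (hM.commute_iff c p.1 hgc g1).1 (hcomm _ hy)
        rw [hp1] at h2
        exact Bool.false_ne_true h2
      have n2 : g p.2 ∉ M := by
        intro hy
        have h2 := (hM.commute_iff c p.2 hgc g2).1 (hcomm _ hy)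
        rw [hp2] at h2
        exact Bool.false_ne_true h2
      have h3 : g p.1 * g p.2 ∈ M :=
        (Subgroup.mul_mem_iff_of_index_two hidx).2 (iff_of_false n1 n2)
      rw [← hM.mul p.1 p.2 g1 g2] at h3
      have h4 := (hM.commute_iff c (compF p.1 p.2) hgc (good_compF _ _ g1 g2)).1 (hcomm _ h3)
      rw [hp3] at h4
      exact Bool.false_ne_true h4
  have hle : Nat.card ↥(Subgroup.center ↥M) ≤ 12 := by
    have hinj : Function.Injective (fun x : ↥(Subgroup.center ↥M) =>
        (⟨((x : ↥M) : S), key x.1 x.2⟩ : ↥((Wl.map g).toFinset))) := by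
      intro x y h
      have h2 := congrArg Subtype.val h
      exact Subtype.ext (Subtype.ext h2)
    have h3 := Nat.card_le_card_of_injective _ hinj
    rw [Nat.card_eq_fintype_card (α := ↥((Wl.map g).toFinset)), Fintype.card_coe] at h3
    refine h3.trans ((List.toFinset_card_le _).trans ?_)
    rw [List.length_map]
    decide
  have hp : IsPGroup 2 ↥(Subgroup.center ↥M) := (hM.pgrp.to_subgroup M).to_subgroup _
  obtain ⟨n, hn⟩ := hp.exists_card_eq
  rw [hn] at hle ⊢
  have hn3 : n ≤ 3 := by
    by_contra hcon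
    rw [not_le] at hcon
    have h4 : 2 ^ 4 ≤ 2 ^ n := Nat.pow_le_pow_right (by norm_num) hcon
    omega
  calc 2 ^ n ≤ 2 ^ 3 := Nat.pow_le_pow_right (by norm_num) hn3
    _ = 8 := by norm_num

/-! #### The abelian subgroup -/

/-- the abelian subgroup, as the centralizer of six elements -/
def A0 (g : ℕ → S) : Subgroup S := Subgroup.centralizer {s | ∃ b ∈ gens6, g b = s}

theorem mem_A0_iff (hM : Model S g) (hC : Checks) (c : ℕ) (hc : Good c) :
    g c ∈ A0 g ↔ (gens6.all fun b => cmZ c b) = true := by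
  unfold A0
  rw [Subgroup.mem_centralizer_iff, List.all_eq_true]
  constructor
  · intro h b hb
    rw [← hM.commute_iff c b hc (good_gens hC b hb)]
    exact (h (g b) ⟨b, hb, rfl⟩).symm
  · rintro h s ⟨b, hb, rfl⟩
    exact ((hM.commute_iff c b hc (good_gens hC b hb)).2 (h b hb)).symm

theorem A0_sup (hM : Model S g) (hC : Checks) (a : ℕ) (ha : a ∈ Al) : g a ∈ A0 g := by
  rw [mem_A0_iff hM hC a (good_Al hC a ha)]
  have h := hC.h2a
  unfold check2a at h
  rw [List.all_eq_true] at h
  exact h a ha

theorem A0_sub (hM : Model S g) (hC : Checks) (s : S) (hs : s ∈ A0 g) :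
    ∃ a ∈ Al, g a = s := by
  obtain ⟨c, hc, rfl⟩ := hM.surj s
  have hgc := good_of_mem_PCc c hc
  have h := hC.h2b
  unfold check2b at h
  rw [List.all_eq_true] at h
  have h2 := h c hc
  rw [Bool.or_eq_true] at h2
  rcases h2 with h2 | h2
  · exfalso
    rw [List.any_eq_true] at h2
    obtain ⟨b, hb, hn⟩ := h2
    have h3 := (mem_A0_iff hM hC c hgc).1 hs
    rw [List.all_eq_true] at h3
    rw [h3 b hb] at hn
    exact Bool.false_ne_true hn
  · rw [List.any_eq_true] at h2
    obtain ⟨a, ha, he⟩ := h2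
    exact ⟨a, ha, (hM.eq_iff a c (good_Al hC a ha) hgc).2 he⟩

theorem A0_comm (hM : Model S g) (hC : Checks) (s : S) (hs : s ∈ A0 g) (t : S) (ht : t ∈ A0 g) :
    s * t = t * s := by
  obtain ⟨a, ha, rfl⟩ := A0_sub hM hC s hs
  obtain ⟨b, hb, rfl⟩ := A0_sub hM hC t ht
  rw [hM.commute_iff a b (good_Al hC a ha) (good_Al hC b hb)]
  have h := hC.h2c
  unfold check2c at h
  rw [List.all_eq_true] at h
  have h2 := h a ha
  rw [List.all_eq_true] at h2
  exact h2 b hb

theorem A0_sq (hM : Model S g) (hC : Checks) (s : S) (hs : s ∈ A0 g) : s ^ 2 = 1 := by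
  obtain ⟨a, ha, rfl⟩ := A0_sub hM hC s hs
  have hga := good_Al hC a ha
  have h := hC.h2d
  unfold check2d at h
  rw [List.all_eq_true] at h
  have h2 := (hM.eq_iff _ _ (good_compF _ _ hga hga) good_cId).2 (h a ha)
  rw [hM.mul a a hga hga, hM.one] at h2
  rw [pow_two]
  exact h2

theorem pwB_pairwise : ∀ L : List ℕ, pwB L = true → L.Pairwise fun a b => eqZ a b = false
  | [], _ => List.Pairwise.nil
  | a :: l, h => by
    unfold pwB at h
    rw [Bool.and_eq_true, List.all_eq_true] at h
    refine List.Pairwise.cons ?_ (pwB_pairwise l h.2)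
    intro b hb
    have := h.1 b hb
    rw [Bool.not_eq_true'] at this
    exact this

theorem Al_length (hC : Checks) : Al.length = 64 := by
  have h := hC.h2e
  unfold check2e at h
  rw [Bool.and_eq_true] at h
  exact Nat.eq_of_beq_eq_true h.2

theorem card_A0 (hM : Model S g) (hC : Checks) : Nat.card ↥(A0 g) = 64 := by
  classical
  have hset : ((A0 g : Subgroup S) : Set S) = ↑((Al.map g).toFinset) := by
    ext s
    rw [SetLike.mem_coe, Finset.mem_coe, List.mem_toFinset, List.mem_map]
    constructor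
    · intro hs
      exact A0_sub hM hC s hs
    · rintro ⟨a, ha, rfl⟩
      exact A0_sup hM hC a ha
  have hnd : (Al.map g).Nodup := by
    have h := hC.h2e
    unfold check2e at h
    rw [Bool.and_eq_true] at h
    unfold List.Nodup
    rw [List.pairwise_map]
    refine (pwB_pairwise Al h.1).imp_of_mem ?_
    intro a b ha hb hab hne
    rw [(hM.eq_iff a b (good_Al hC a ha) (good_Al hC b hb)).1 hne] at hab
    exact Bool.false_ne_true hab.symm
  have h1 : Nat.card ↥(A0 g) = Nat.card ↥((A0 g : Subgroup S) : Set S) := rfl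
  rw [h1, hset, Nat.card_coe_set_eq, Set.ncard_coe_finset, List.toFinset_card_of_nodup hnd,
    List.length_map]
  exact Al_length hC

/-! #### Cosets of the abelian subgroup -/

theorem decomp (hM : Model S g) (hC : Checks) (s : S) :
    ∃ k : Fin 8, ∃ r : S, r ∈ A0 g ∧ s = g (ckf k) * r := by
  obtain ⟨c, hc, rfl⟩ := hM.surj s
  rw [← hC.h3a'] at hc
  obtain ⟨p, hp, rfl⟩ := List.mem_map.1 hc
  have h := hC.h3a
  unfold check3a at h
  rw [List.all_eq_true] at h
  have h2 := h p hp
  rw [Bool.and_eq_true] at h2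
  obtain ⟨hlt, he⟩ := h2
  have hlt' : p.2 < 512 := by
    rw [Nat.blt_eq] at hlt
    exact hlt
  have hk : p.2 / 64 < 8 := by omega
  have hj : p.2 % 64 < Al.length := by
    rw [Al_length hC]
    omega
  have hmem : Al.getD (p.2 % 64) cId ∈ Al := by
    rw [List.getD_eq_getElem _ _ hj]
    exact List.getElem_mem _
  have hga := good_Al hC _ hmem
  have hgp : Good p.1 := good_of_mem_PCc p.1 (hC.h3a' ▸ List.mem_map_of_mem hp)
  refine ⟨⟨p.2 / 64, hk⟩, g (Al.getD (p.2 % 64) cId), A0_sup hM hC _ hmem, ?_⟩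
  rw [← hM.mul _ _ (good_ckf hC _) hga]
  exact ((hM.eq_iff _ _ (good_compF _ _ (good_ckf hC _) hga) hgp).2 he).symm

theorem mask_eq (hC : Checks) (p : ℕ × ℕ) (hp : p ∈ AlT) (k : ℕ) (hk : k < 8) :
    p.2.testBit k = cmZ p.1 (ckf k) := by
  have h := hC.h3b
  unfold check3b at h
  rw [List.all_eq_true] at h
  have h2 := h p hp
  rw [List.all_eq_true] at h2
  have h3 := h2 k (List.mem_range.2 hk)
  exact eq_of_beq h3

theorem inv_mul_of_decomp (y x c r1 r2 : S) (hy : y = c * r1) (hx : x = c * r2) :
    y⁻¹ * x = r1⁻¹ * r2 := by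
  rw [hy, hx]
  group

/-! #### Uniqueness -/

theorem unique_abelian (hM : Model S g) (hC : Checks) (A : Subgroup S)
    (hAc : ∀ x ∈ A, ∀ y ∈ A, x * y = y * x) (hcard : Nat.card ↥A = 64) : A = A0 g := by
  classical
  have := hM.fin
  choose lab rem hrem hdec using decomp hM hC
  let K : Finset (Fin 8) := Finset.univ.filter fun k => ∃ x ∈ A, lab x = k
  have hK : ∀ k, k ∈ K ↔ ∃ x ∈ A, lab x = k := by
    intro k
    simp only [K, Finset.mem_filter, Finset.mem_univ, true_and]
  have hBc : ∀ k ∈ K, ∀ b ∈ A ⊓ A0 g, b * g (ckf k) = g (ckf k) * b := by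
    intro k hk b hb
    obtain ⟨x, hx, rfl⟩ := (hK k).1 hk
    have hb' := Subgroup.mem_inf.1 hb
    have c1 : Commute b x := hAc b hb'.1 x hx
    have c2 : Commute b (rem x) := A0_comm hM hC b hb'.2 (rem x) (hrem x)
    have e3 : g (ckf (lab x)) = x * (rem x)⁻¹ := by
      rw [eq_mul_inv_iff_mul_eq]
      exact (hdec x).symm
    rw [e3]
    exact (c1.mul_right c2.inv_right).eq
  have hBcard : Nat.card ↥(A ⊓ A0 g) ≤
      (AlT.filter fun p => decide (∀ k ∈ K, p.2.testBit k.val = true)).length := by
    have hsub : ∀ b : ↥(A ⊓ A0 g), (b : S) ∈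
        (((AlT.filter fun p => decide (∀ k ∈ K, p.2.testBit k.val = true))).map
          fun p => g p.1).toFinset := by
      intro b
      have hb' := Subgroup.mem_inf.1 b.2
      obtain ⟨a, ha, hab⟩ := A0_sub hM hC (b : S) hb'.2
      have ha' := ha
      unfold Al at ha'
      obtain ⟨p, hp, hpa⟩ := List.mem_map.1 ha'
      rw [List.mem_toFinset, List.mem_map]
      refine ⟨p, ?_, by rw [hpa]; exact hab⟩
      rw [List.mem_filter]
      refine ⟨hp, ?_⟩
      rw [decide_eq_true_eq]
      intro k hk
      rw [mask_eq hC p hp k.val k.2, hpa,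
        ← hM.commute_iff a (ckf k.val) (good_Al hC a ha) (good_ckf hC _), hab]
      exact hBc k hk b b.2
    have hinj : Function.Injective (fun b : ↥(A ⊓ A0 g) =>
        (⟨(b : S), hsub b⟩ : ↥((((AlT.filter fun p =>
          decide (∀ k ∈ K, p.2.testBit k.val = true))).map fun p => g p.1).toFinset))) := by
      intro x y h
      have h2 := congrArg Subtype.val h
      exact Subtype.ext h2
    have h3 := Nat.card_le_card_of_injective _ hinj
    rw [Nat.card_eq_fintype_card (α := ↥((((AlT.filter fun p =>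
      decide (∀ k ∈ K, p.2.testBit k.val = true))).map fun p => g p.1).toFinset)),
      Fintype.card_coe] at h3
    refine h3.trans ((List.toFinset_card_le _).trans ?_)
    rw [List.length_map]
  have hAcard : Nat.card ↥A ≤ K.card * Nat.card ↥(A ⊓ A0 g) := by
    have hrep : ∀ k : ↥K, ∃ x ∈ A, lab x = k.1 := fun k => (hK k.1).1 k.2
    choose xk hxkA hxkl using hrep
    have hlabK : ∀ x : ↥A, lab (x : S) ∈ K := fun x => (hK _).2 ⟨x, x.2, rfl⟩
    have hmemB : ∀ x : ↥A, (xk ⟨lab (x : S), hlabK x⟩)⁻¹ * (x : S) ∈ A ⊓ A0 g := by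
      intro x
      rw [Subgroup.mem_inf]
      refine ⟨mul_mem (inv_mem (hxkA _)) x.2, ?_⟩
      have e1 := hdec (xk ⟨lab (x : S), hlabK x⟩)
      rw [hxkl ⟨lab (x : S), hlabK x⟩] at e1
      rw [inv_mul_of_decomp _ _ _ _ _ e1 (hdec (x : S))]
      exact mul_mem (inv_mem (hrem _)) (hrem _)
    have hinj : Function.Injective (fun x : ↥A =>
        ((⟨lab (x : S), hlabK x⟩, ⟨_, hmemB x⟩) : ↥K × ↥(A ⊓ A0 g))) := by
      intro x y h
      rw [Prod.mk.injEq] at h
      obtain ⟨h1, h2⟩ := h
      have h3 := congrArg Subtype.val h2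
      simp only at h3
      rw [h1] at h3
      exact Subtype.ext (mul_left_cancel h3)
    have h3 := Nat.card_le_card_of_injective _ hinj
    rw [Nat.card_prod, Nat.card_eq_fintype_card (α := ↥K), Fintype.card_coe] at h3
    exact h3
  by_cases hK0 : K = {0}
  · have hle : A ≤ A0 g := by
      intro x hx
      have h1 : lab x ∈ K := (hK _).2 ⟨x, hx, rfl⟩
      rw [hK0, Finset.mem_singleton] at h1
      have e := hdec x
      rw [h1] at e
      have h2 : g (ckf ((0 : Fin 8) : ℕ)) = 1 := hM.one
      rw [h2, one_mul] at e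
      rw [e]
      exact hrem x
    exact Subgroup.eq_of_le_of_card_ge hle (by rw [card_A0 hM hC, hcard])
  · exfalso
    have hKne : K.Nonempty := ⟨lab 1, (hK _).2 ⟨1, A.one_mem, rfl⟩⟩
    have h1 := hC.h3c K hKne hK0
    have h2 : 64 ≤ K.card *
        (AlT.filter fun p => decide (∀ k ∈ K, p.2.testBit k.val = true)).length :=
      calc 64 = Nat.card ↥A := hcard.symm
        _ ≤ K.card * Nat.card ↥(A ⊓ A0 g) := hAcard
        _ ≤ _ := Nat.mul_le_mul_left _ hBcard
    omega

/-! #### The three statements -/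

theorem concl (hM : Model S g) (hC : Checks) :
    (∀ M : Subgroup S, IsCoatom M → Nat.card ↥(Subgroup.center ↥M) ≤ 8) ∧
      (∃ A : Subgroup S, Cfsg.IsElementaryAbelian 2 A ∧ Nat.card ↥A = 64) ∧
      ∀ A B : Subgroup S, IsMulCommutative ↥A → Nat.card ↥A = 64 → IsMulCommutative ↥B →
        Nat.card ↥B = 64 → A = B := by
  refine ⟨fun M hco => part1 hM hC M hco, ⟨A0 g, ⟨⟨⟨fun a b => ?_⟩⟩, fun a ha => ?_⟩, ?_⟩, ?_⟩
  · exact Subtype.ext (A0_comm hM hC a.1 a.2 b.1 b.2)
  · exact A0_sq hM hC a ha
  · exact card_A0 hM hC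
  · intro A B hA hcA hB hcB
    have e1 : A = A0 g := by
      apply unique_abelian hM hC A _ hcA
      intro x hx y hy
      exact congrArg Subtype.val (hA.is_comm.comm (⟨x, hx⟩ : ↥A) ⟨y, hy⟩)
    have e2 : B = A0 g := by
      apply unique_abelian hM hC B _ hcB
      intro x hx y hy
      exact congrArg Subtype.val (hB.is_comm.comm (⟨x, hx⟩ : ↥B) ⟨y, hy⟩)
    rw [e1, e2]

end

end Cfsg.Agent.Helper26.M24Q
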