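import Mathlib
import Cfsg.Agent.Lib.Helper26.M24QAbs

set_option autoImplicit false
open Cfsg

namespace Cfsg.Agent.Helper26.M24Q

/-! ### The checks, evaluated by the kernel -/

set_option maxRecDepth 100000 in
theorem checkZ_ok : checkZ = true := by decide +kernel

set_option maxRecDepth 100000 in
theorem check0_ok : check0 = true := by decide +kernel

set_option maxRecDepth 100000 in
theorem check1_ok : check1 = true := by decide +kernel

set_option maxRecDepth 100000 in
theorem check2a_ok : check2a = true := by decide +kernel

set_option maxRecDepth 100000 in
theorem check2b_ok : check2b = true := by decide +kernel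

set_option maxRecDepth 100000 in
theorem check2c_ok : check2c = true := by decide +kernel

set_option maxRecDepth 100000 in
theorem check2d_ok : check2d = true := by decide +kernel

set_option maxRecDepth 100000 in
theorem check2e_ok : check2e = true := by decide +kernel

set_option maxRecDepth 100000 in
theorem check3a_ok : check3a = true := by decide +kernel

set_option maxRecDepth 100000 in
theorem check3a'_ok : TU.map Prod.fst = PCc := by decide +kernel

set_option maxRecDepth 100000 in
theorem check3b_ok : check3b = true := by decide +kernel

set_option maxRecDepth 100000 in
theorem check3c_ok : ∀ K : Finset (Fin 8), K.Nonempty → K ≠ {0} →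
    K.card * (AlT.filter fun p => decide (∀ k ∈ K, p.2.testBit k.val = true)).length < 64 := by
  decide +kernel

theorem checks : Checks where
  h0 := check0_ok
  h1 := check1_ok
  h2a := check2a_ok
  h2b := check2b_ok
  h2c := check2c_ok
  h2d := check2d_ok
  h2e := check2e_ok
  h3a := check3a_ok
  h3a' := check3a'_ok
  h3b := check3b_ok
  h3c := check3c_ok

end Cfsg.Agent.Helper26.M24Q
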