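import Mathlib
import Cfsg.Agent.Lib.Helper26.MHDefs
import Cfsg.Agent.Lib.Helper26.MHBW
import Cfsg.Agent.Lib.Helper26.MHBasic
import Cfsg.Agent.Lib.Helper22.SharpK
import Cfsg.Agent.Lib.Helper25.MHINV1
import Cfsg.Agent.Lib.Helper7.MHINV2
import Cfsg.Agent.Lib.Helper15.MHP3DICH
import Cfsg.Agent.Lib.Helper27.MHSMALL
import Cfsg.Agent.Lib.Helper27.MHBRIDGE
import Cfsg.Agent.Lib.Helper23.MHP3SET
import Cfsg.Agent.Lib.Helper23.MHVGRP
import Cfsg.Agent.Lib.Helper23.MHPHI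
import Cfsg.Agent.Lib.Helper1.MHWITT
import Cfsg.Agent.Lib.Helper1.MHSTAR
import Cfsg.Agent.Lib.Helper2.MHP2B
import Cfsg.Agent.Lib.Helper16.MHP2A
import Cfsg.Agent.Lib.Helper19.MHP3B
import Cfsg.Agent.Lib.Helper12.MHP3ASM

/-!
# S4221 (M. Hall): final assembly (helper26).  Paper proof: plans/S4221_proof.md
-/

set_option autoImplicit false

namespace Cfsg.Agent.Helper26.MH

open MulAction Cfsg.Agent.Helper22.SharpFour

variable {G : Type*} [Group G] [Finite G] {α : Type*} [Fintype α] [DecidableEq α] [MulAction G α]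

/-- MAIN: for `n ≥ 8` the action is sharply 4-transitive. -/
theorem main (h : Hall G α) (h8 : 8 ≤ Fintype.card α) {p q r s : α} (hd : D4 p q r s) :
    St4 G p q r s = ⊥ := by
  classical
  obtain ⟨a, c, hV⟩ := exists_vdata h hd
  have h2 := two_le_card_fixF h h8 hV.ia
  have h3 := card_fixF_le_three h hV.ia
  have hphi : ∀ t : G, IsInv t → (fixF α t).card = (fixF α a).card := fun t ht => card_fixF_eq h h8 ht hV.ia
  have hcases : (fixF α a).card = 2 ∨ (fixF α a).card = 3 := by omega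
  rcases hcases with h2' | h3'
  · exfalso
    have hphi2 : ∀ t : G, IsInv t → (fixF α t).card = 2 := fun t ht => by rw [hphi t ht, h2']
    by_cases hex : ∃ w₁ w₂ : G, IsInv w₁ ∧ IsInv w₂ ∧ w₁ ≠ w₂ ∧ w₁ * w₂ = w₂ * w₁ ∧
        w₁ • p = p ∧ w₁ • q = q ∧ w₂ • p = p ∧ w₂ • q = q
    · obtain ⟨w₁, w₂, hw₁, hw₂, hne, hcomm, h1p, h1q, h2p, h2q⟩ := hex
      exact phi_two_four_group h h8 hphi2 hd.ab hw₁ hw₂ hne hcomm h1p h1q h2p h2q
    · exact phi_two_no_four_group h h8 hphi2 hd.ab hex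
  · have hphi3 : ∀ t : G, IsInv t → (fixF α t).card = 3 := fun t ht => by rw [hphi t ht, h3']
    obtain ⟨w, k, k', hO⟩ := exists_omega3 h h8 hphi3 hV
    rcases dichotomy h h8 hphi3 hV hO with hA | ⟨hB1, -, hB2⟩
    · exact caseA h h8 hphi3 hV hO hA
    · exact absurd (caseB h h8 hphi3 hV hO hB1 hB2) id

/-- S4221 -/
theorem s4221 {α : Type*} [Fintype α] [DecidableEq α] (G : Subgroup (Equiv.Perm α))
    (hG : MulAction.IsMultiplyPretransitive G α 4) (x : Fin 4 ↪ α)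
    (hodd : Odd (Nat.card (MulAction.stabilizer G x))) :
    ((Fintype.card α = 4 ∨ Fintype.card α = 5) ∧ G = ⊤) ∨
      ((Fintype.card α = 6 ∨ Fintype.card α = 7) ∧ G = alternatingGroup α) ∨
      (Fintype.card α = 11 ∧ Nat.card G = 7920) := by
  by_cases h7 : Fintype.card α ≤ 7
  · exact small G hG x hodd h7
  · push Not at h7
    have hH := hall_of_hyp G hG x hodd
    exact Or.inr (Or.inr (big G hG (by omega) (fun p q r s hd => main hH (by omega) hd)))

end Cfsg.Agent.Helper26.MH
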