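import Mathlib
import Cfsg.Agent.Lib.Helper26.NSEDefs

/-!
# S3431, PIECE BASIC (helper26): the arithmetic shadow of a finite group
(`cyc` and `weakB` enter as hypotheses; they are the pieces CYC and WEAKB)
-/

set_option autoImplicit false

namespace Cfsg.Agent.Helper26.NSE

open Cfsg.Agent.Helper20

namespace BASIC

variable {G : Type*} [Group G] [Finite G]

theorem exists_of_ne_zero {m : ℕ} (h : ordCnt G m ≠ 0) : ∃ g : G, orderOf g = m :=
  (ordCnt_pos_iff m).1 (Nat.pos_of_ne_zero h)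

theorem ne_zero_of_orderOf (g : G) : ordCnt G (orderOf g) ≠ 0 :=
  ((ordCnt_pos_iff _).2 ⟨g, rfl⟩).ne'

theorem down (m d : ℕ) (hd : d ∣ m) (h : ordCnt G m ≠ 0) : ordCnt G d ≠ 0 := by
  obtain ⟨g, hg⟩ := exists_of_ne_zero h
  have hm0 : 0 < m := hg ▸ orderOf_pos g
  obtain ⟨e, rfl⟩ := hd
  have he0 : e ≠ 0 := by
    rintro rfl
    simp at hm0
  have hd0 : 0 < d := Nat.pos_of_ne_zero (by rintro rfl; simp at hm0)
  have : orderOf (g ^ e) = d := by
    rw [orderOf_pow_of_dvd he0 (hg ▸ Dvd.intro_left d rfl), hg, Nat.mul_div_cancel _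
      (Nat.pos_of_ne_zero he0)]
  rw [← this]
  exact ne_zero_of_orderOf _

theorem np_dvd (p k : ℕ) (hp : p.Prime) (h1 : p ^ k ∣ Nat.card G)
    (h2 : ¬ p ^ (k + 1) ∣ Nat.card G) : Nat.card (Sylow p G) * p ^ k ∣ Nat.card G := by
  have : Fact p.Prime := ⟨hp⟩
  have hN0 : Nat.card G ≠ 0 := Nat.card_pos.ne'
  have hk1 : k ≤ (Nat.card G).factorization p := (hp.pow_dvd_iff_le_factorization hN0).1 h1
  have hk2 : ¬ k + 1 ≤ (Nat.card G).factorization p :=
    fun h => h2 ((hp.pow_dvd_iff_le_factorization hN0).2 h)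
  have hk : (Nat.card G).factorization p = k := by omega
  obtain ⟨P⟩ : Nonempty (Sylow p G) := inferInstance
  have hP : Nat.card P = p ^ k := by rw [Sylow.card_eq_multiplicity, hk]
  have hidx : Nat.card (Sylow p G) ∣ (P : Subgroup G).index := Sylow.card_dvd_index P
  have hmul : (P : Subgroup G).index * Nat.card P = Nat.card G := by
    rw [mul_comm]
    exact Subgroup.card_mul_index _
  rw [← hmul, hP]
  exact Nat.mul_dvd_mul_right hidx _

end BASIC

variable {G : Type*} [Group G] [Finite G]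

/-- PIECE BASIC, with the pieces CYC and WEAKB as hypotheses. -/
theorem ctx_of_group_core
    (hcyc : ∀ p k : ℕ, p.Prime → 0 < k → p ^ k ∣ Nat.card G → ¬ p ^ (k + 1) ∣ Nat.card G →
      ordCnt G (p ^ k) ≠ 0 →
      ordCnt G (p ^ k) = Nat.totient (p ^ k) * Nat.card (Sylow p G) ∧
        ordCnt G p ≤ (p - 1) * Nat.card (Sylow p G))
    (hB : ∀ p m : ℕ, p.Prime → p ∣ Nat.card G → ¬ p ^ 2 ∣ Nat.card G → ¬ p ∣ m →
      Nat.card (Sylow p G) ∣ ordCnt G (p * m)) :
    Ctx (Nat.card G) (ordCnt G) (fun p => Nat.card (Sylow p G)) where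
  pos := Nat.card_pos
  s_one := ordCnt_one
  tot := totient_dvd_ordCnt
  dvd := fun m h => by
    obtain ⟨g, hg⟩ := BASIC.exists_of_ne_zero h
    exact hg ▸ orderOf_dvd_natCard g
  down := BASIC.down
  cauchy := fun p hp h => by
    have : Fact p.Prime := ⟨hp⟩
    obtain ⟨g, hg⟩ := exists_prime_orderOf_dvd_card' p h
    exact hg ▸ BASIC.ne_zero_of_orderOf g
  total := fun T hT => natCard_eq_sum_ordCnt T fun g => hT _ (BASIC.ne_zero_of_orderOf g)
  frob := frobenius_dvd_sum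
  np_mod := fun p hp => by
    have : Fact p.Prime := ⟨hp⟩
    have h := card_sylow_modEq_one p G
    rw [Nat.ModEq, Nat.mod_eq_of_lt hp.one_lt] at h
    exact h
  np_dvd := BASIC.np_dvd
  cyc := hcyc
  weakB := hB

end Cfsg.Agent.Helper26.NSE
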