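import Mathlib
import Cfsg.Agent.Lib.Helper26.NSEDefs
import Cfsg.Agent.Lib.Helper26.NSEBasic
import Cfsg.Agent.Lib.Helper18.NSE0A4
import Cfsg.Agent.Lib.Helper5.NSENSE0A5
import Cfsg.Agent.Lib.Helper28.NSENSE0A6
import Cfsg.Agent.Lib.Helper4.NSECYC
import Cfsg.Agent.Lib.Helper4.NSEWEAKB
import Cfsg.Agent.Lib.Helper3.NSEA4ARITH
import Cfsg.Agent.Lib.Helper3.NSEA4END
import Cfsg.Agent.Lib.Helper6.NSEA5FACTS
import Cfsg.Agent.Lib.Helper6.NSEA5ARITH
import Cfsg.Agent.Lib.Helper12.NSEA6FACTS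
import Cfsg.Agent.Lib.Helper12.NSEA6ARITH
import Cfsg.Agent.Lib.Helper14.NSENOR
import Cfsg.Agent.Lib.Helper14.NSEFULLP
import Cfsg.Agent.S0494
import Cfsg.Agent.S0497

/-!
# S3431: assembly (helper26).  Paper proof: plans/S3431_proof.md.
Pieces by helpers 3, 4, 5, 6, 12, 14, 18, 28.
-/

set_option autoImplicit false

namespace Cfsg.Agent.Helper26.NSE

open Cfsg.Agent.Helper20

section Tools

variable {G : Type*} [Group G] [Finite G]

/-- the arithmetic shadow of a finite group -/
theorem ctx_of_group : Ctx (Nat.card G) (ordCnt G) (fun p => Nat.card (Sylow p G)) :=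
  ctx_of_group_core tools_cyc tools_weakB

end Tools

/-! ## Part IV: assembly (helper26) -/

section Assembly

variable {G : Type*} [Group G] [Finite G]

theorem isNse_of_eq {S : Finset ℕ}
    (h : ((fun m : ℕ => Nat.card {g : G // orderOf g = m}) '' Set.range (orderOf : G → ℕ)) =
      (S : Set ℕ)) : IsNse (ordCnt G) S := by
  constructor
  · intro m
    by_cases h0 : ordCnt G m = 0
    · exact Or.inl h0
    · right
      obtain ⟨g, hg⟩ := (ordCnt_pos_iff m).1 (Nat.pos_of_ne_zero h0)
      have hmem : ordCnt G m ∈ (S : Set ℕ) := by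
        rw [← h]
        exact ⟨m, ⟨g, hg⟩, rfl⟩
      exact_mod_cast hmem
  · intro v hv
    have hmem : v ∈ (S : Set ℕ) := by exact_mod_cast hv
    rw [← h] at hmem
    obtain ⟨m, _, hm⟩ := hmem
    exact ⟨m, hm⟩

/-- common part of the two simplicity proofs: a normal subgroup of order prime to 5 is trivial -/
theorem eq_bot_of_not_five_dvd (M : ℕ) (hM : Nat.card G = M) (h5 : 5 ∣ M)
    (hM2 : ∀ k, 2 ^ k ∣ M → 2 ^ k % 5 ≠ 1 ∨ k = 0) (hM3 : ∀ k, 3 ^ k ∣ M → 3 ^ k % 5 ≠ 1 ∨ k = 0)
    (hMp : ∀ r, r.Prime → r ∣ M → r = 2 ∨ r = 3 ∨ r = 5)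
    (h10 : ordCnt G 10 = 0) (h15 : ordCnt G 15 = 0) (N : Subgroup G) [N.Normal]
    (hN : ¬ 5 ∣ Nat.card N) : N = ⊥ := by
  by_contra hne
  have : Fact (Nat.Prime 5) := ⟨by norm_num⟩
  obtain ⟨r, k, hr, hr5, hk, hdvd, hor⟩ :=
    exists_prime_pow_of_normal 5 N hne (hM ▸ h5) hN
  have hdvdM : r ^ k ∣ M := hM ▸ dvd_trans hdvd (Subgroup.card_subgroup_dvd_card N)
  have hrM : r ∣ M := dvd_trans (dvd_pow_self r hk.ne') hdvdM
  rcases hMp r hr hrM with rfl | rfl | rfl
  · rcases hM2 k hdvdM with h | h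
    · rcases hor with h' | h'
      · exact h h'
      · exact h' h10
    · omega
  · rcases hM3 k hdvdM with h | h
    · rcases hor with h' | h'
      · exact h h'
      · exact h' h15
    · omega
  · exact hr5 rfl

theorem a5_simple (h60 : Nat.card G = 60) (h3 : ordCnt G 3 = 20) (h5 : ordCnt G 5 = 24)
    (h10 : ordCnt G 10 = 0) (h15 : ordCnt G 15 = 0) : IsSimpleGroup G := by
  have : Nontrivial G := by
    rw [← Finite.one_lt_card_iff_nontrivial]
    omega
  refine ⟨fun N hN => ?_⟩
  by_contra hcon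
  obtain ⟨hbot, htop⟩ := not_or.1 hcon
  have hmul : Nat.card N * N.index = 60 := by rw [Subgroup.card_mul_index, h60]
  have hidx1 : N.index ≠ 1 := fun h => htop (Subgroup.index_eq_one.1 h)
  by_cases hN5 : 5 ∣ Nat.card N
  · have hi5 : ¬ 5 ∣ N.index := by
      intro hi
      have h25 : 5 * 5 ∣ Nat.card N * N.index := Nat.mul_dvd_mul hN5 hi
      rw [hmul] at h25
      omega
    have hge := card_ge_of_full_one N 5 (by norm_num) hi5
    rw [h5] at hge
    have hi2 : N.index ≤ 2 := by
      by_contra hlt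
      have hlt' : 3 ≤ N.index := by omega
      nlinarith
    have hi0 : N.index ≠ 0 := by
      intro h0
      rw [h0] at hmul
      omega
    have hieq : N.index = 2 := by omega
    have hi3 : ¬ 3 ∣ N.index := by rw [hieq]; omega
    have hge2 := card_ge_of_full N 5 3 (by norm_num) (by norm_num) (by norm_num) hi5 hi3
    rw [h5, h3] at hge2
    rw [hieq] at hmul
    omega
  · apply hbot
    refine eq_bot_of_not_five_dvd 60 h60 (by norm_num) ?_ ?_ ?_ h10 h15 N hN5
    · intro k hk
      have hk2 : k ≤ 2 := by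
        by_contra hlt
        have hlt' : 3 ≤ k := by omega
        have : 2 ^ 3 ∣ 60 := dvd_trans (pow_dvd_pow 2 hlt') hk
        omega
      interval_cases k <;> simp
    · intro k hk
      have hk2 : k ≤ 1 := by
        by_contra hlt
        have hlt' : 2 ≤ k := by omega
        have : 3 ^ 2 ∣ 60 := dvd_trans (pow_dvd_pow 3 hlt') hk
        omega
      interval_cases k <;> simp
    · intro r hr hrd
      have h60' : (60 : ℕ) = 2 ^ 2 * 3 * 5 := by norm_num
      rw [h60'] at hrd
      rcases (Nat.Prime.dvd_mul hr).1 hrd with h | h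
      · rcases (Nat.Prime.dvd_mul hr).1 h with h | h
        · exact Or.inl ((Nat.prime_dvd_prime_iff_eq hr Nat.prime_two).1 (hr.dvd_of_dvd_pow h))
        · exact Or.inr (Or.inl ((Nat.prime_dvd_prime_iff_eq hr Nat.prime_three).1 h))
      · exact Or.inr (Or.inr ((Nat.prime_dvd_prime_iff_eq hr Nat.prime_five).1 h))

theorem a6_simple (h360 : Nat.card G = 360) (h3 : ordCnt G 3 = 80) (h5 : ordCnt G 5 = 144)
    (h10 : ordCnt G 10 = 0) (h15 : ordCnt G 15 = 0) : IsSimpleGroup G := by
  have : Nontrivial G := by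
    rw [← Finite.one_lt_card_iff_nontrivial]
    omega
  refine ⟨fun N hN => ?_⟩
  by_contra hcon
  obtain ⟨hbot, htop⟩ := not_or.1 hcon
  have hmul : Nat.card N * N.index = 360 := by rw [Subgroup.card_mul_index, h360]
  have hidx1 : N.index ≠ 1 := fun h => htop (Subgroup.index_eq_one.1 h)
  by_cases hN5 : 5 ∣ Nat.card N
  · have hi5 : ¬ 5 ∣ N.index := by
      intro hi
      have h25 : 5 * 5 ∣ Nat.card N * N.index := Nat.mul_dvd_mul hN5 hi
      rw [hmul] at h25
      omega
    have hge := card_ge_of_full_one N 5 (by norm_num) hi5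
    rw [h5] at hge
    have hi2 : N.index ≤ 2 := by
      by_contra hlt
      have hlt' : 3 ≤ N.index := by omega
      nlinarith
    have hi0 : N.index ≠ 0 := by
      intro h0
      rw [h0] at hmul
      omega
    have hieq : N.index = 2 := by omega
    have hi3 : ¬ 3 ∣ N.index := by rw [hieq]; omega
    have hge2 := card_ge_of_full N 5 3 (by norm_num) (by norm_num) (by norm_num) hi5 hi3
    rw [h5, h3] at hge2
    rw [hieq] at hmul
    omega
  · apply hbot
    refine eq_bot_of_not_five_dvd 360 h360 (by norm_num) ?_ ?_ ?_ h10 h15 N hN5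
    · intro k hk
      have hk2 : k ≤ 3 := by
        by_contra hlt
        have hlt' : 4 ≤ k := by omega
        have : 2 ^ 4 ∣ 360 := dvd_trans (pow_dvd_pow 2 hlt') hk
        omega
      interval_cases k <;> simp
    · intro k hk
      have hk2 : k ≤ 2 := by
        by_contra hlt
        have hlt' : 3 ≤ k := by omega
        have : 3 ^ 3 ∣ 360 := dvd_trans (pow_dvd_pow 3 hlt') hk
        omega
      interval_cases k <;> simp
    · intro r hr hrd
      have h360' : (360 : ℕ) = 2 ^ 3 * 3 ^ 2 * 5 := by norm_num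
      rw [h360'] at hrd
      rcases (Nat.Prime.dvd_mul hr).1 hrd with h | h
      · rcases (Nat.Prime.dvd_mul hr).1 h with h | h
        · exact Or.inl ((Nat.prime_dvd_prime_iff_eq hr Nat.prime_two).1 (hr.dvd_of_dvd_pow h))
        · exact Or.inr (Or.inl ((Nat.prime_dvd_prime_iff_eq hr Nat.prime_three).1
            (hr.dvd_of_dvd_pow h)))
      · exact Or.inr (Or.inr ((Nat.prime_dvd_prime_iff_eq hr Nat.prime_five).1 h))

theorem main (n : ℕ) (hn : n = 4 ∨ n = 5 ∨ n = 6)
    (h : ((fun m : ℕ => Nat.card {g : G // orderOf g = m}) '' Set.range (orderOf : G → ℕ)) =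
      ((fun m : ℕ => Nat.card {g : ↥(alternatingGroup (Fin n)) // orderOf g = m}) ''
        Set.range (orderOf : ↥(alternatingGroup (Fin n)) → ℕ))) :
    Nonempty (G ≃* ↥(alternatingGroup (Fin n))) := by
  have C := ctx_of_group (G := G)
  rcases hn with rfl | rfl | rfl
  · rw [nse_A4] at h
    have hnse : IsNse (ordCnt G) {1, 3, 8} := isNse_of_eq (by rw [h]; push_cast; rfl)
    obtain ⟨h12, h3⟩ := a4_arith C hnse
    exact a4_end h12 h3
  · rw [nse_A5] at h
    have hnse : IsNse (ordCnt G) {1, 15, 20, 24} := isNse_of_eq (by rw [h]; push_cast; rfl)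
    obtain ⟨h60, h3, h5, h10, h15⟩ := a5_arith C hnse (a5_facts C hnse)
    have := a5_simple h60 h3 h5 h10 h15
    exact Cfsg.Agent.S0494.result h60
  · rw [nse_A6] at h
    have hnse : IsNse (ordCnt G) {1, 45, 80, 90, 144} :=
      isNse_of_eq (by rw [h]; push_cast; rfl)
    obtain ⟨h360, h3, h5, h10, h15⟩ := a6_arith C hnse (a6_facts C hnse)
    have := a6_simple h360 h3 h5 h10 h15
    exact Cfsg.Agent.S0497.result h360

end Assembly

end Cfsg.Agent.Helper26.NSE
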