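import Mathlib

/-!
# S0984 pieces N1, N3, N4 (`num_inv5_I`, `num_inv5_III`, `num_inv5_IV`): pure integer arithmetic
-/

set_option autoImplicit false
set_option linter.unusedVariables false

namespace Cfsg.Agent.Helper28.A7U

namespace N134

theorem a_cases {a : ℤ} (ha : |a| ≤ 15) (ha4 : (4 : ℤ) ∣ 15 - a) (ha5 : (10 : ℤ) ∣ 15 + a) :
    a = -5 ∨ a = 15 := by
  obtain ⟨h1, h2⟩ := abs_le.mp ha
  omega

end N134

/-- PIECE N1 (case (I), an involution commuting with an element of order 5): only the identity pattern.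
`a = χ15(t)`, `b = χ6(t)`, `c = θ(t)`. -/
theorem num_inv5_I {a b c : ℤ} (hrel : -c + 1 + a - b = 0)
    (h : 30 + 2 * a ^ 2 - 5 * b ^ 2 - 3 * c ^ 2 = 0)
    (ha : |a| ≤ 15) (hb : |b| ≤ 6) (hc : |c| ≤ 10)
    (ha4 : (4 : ℤ) ∣ 15 - a) (hb4 : (4 : ℤ) ∣ 6 - b) (hc4 : (4 : ℤ) ∣ 10 - c)
    (ha5 : (10 : ℤ) ∣ 15 + a) (hc5 : (10 : ℤ) ∣ 10 + c) : a = 15 := by
  rcases N134.a_cases ha ha4 ha5 with h5 | h15
  · exfalso
    subst h5
    obtain ⟨hb1, hb2⟩ := abs_le.mp hb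
    obtain ⟨hc1, hc2⟩ := abs_le.mp hc
    have hcv : c = -10 := by omega
    have hbv : b = 6 := by omega
    subst hcv; subst hbv
    norm_num at h
  · exact h15

/-- PIECE N3 (case (III)): `a = χ15(t)`, `b = χ8(t)`, `c = θ(t)` (`θ(1) = 24`). -/
theorem num_inv5_III {a b c : ℤ} (hrel : -c + 1 + a + b = 0)
    (h : 120 + 8 * a ^ 2 + 15 * b ^ 2 - 5 * c ^ 2 = 0)
    (ha : |a| ≤ 15) (hb : |b| ≤ 8) (hc : |c| ≤ 24)
    (ha4 : (4 : ℤ) ∣ 15 - a) (hb4 : (4 : ℤ) ∣ 8 - b) (hc4 : (4 : ℤ) ∣ 24 - c)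
    (ha5 : (10 : ℤ) ∣ 15 + a) : a = 15 := by
  rcases N134.a_cases ha ha4 ha5 with h5 | h15
  · exfalso
    subst h5
    have hcv : c = b - 4 := by linarith
    subst hcv
    nlinarith [sq_nonneg (b + 2)]
  · exact h15

/-- PIECE N4 (case (IV)): `a = χ15(t)`, `b = χ20(t)`, `c = θ(t)` (`θ(1) = 4`). -/
theorem num_inv5_IV {a b c : ℤ} (hrel : c + 1 + a - b = 0)
    (h : 60 + 4 * a ^ 2 - 3 * b ^ 2 + 15 * c ^ 2 = 0)
    (ha : |a| ≤ 15) (hb : |b| ≤ 20) (hc : |c| ≤ 4)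
    (ha4 : (4 : ℤ) ∣ 15 - a) (hb4 : (4 : ℤ) ∣ 20 - b) (hc4 : (4 : ℤ) ∣ 4 - c)
    (ha5 : (10 : ℤ) ∣ 15 + a) (hb5 : (10 : ℤ) ∣ 20 + b) : a = 15 := by
  rcases N134.a_cases ha ha4 ha5 with h5 | h15
  · exfalso
    subst h5
    obtain ⟨hb1, hb2⟩ := abs_le.mp hb
    obtain ⟨hc1, hc2⟩ := abs_le.mp hc
    have hcv : c = 4 := by omega
    have hbv : b = 0 := by omega
    subst hcv; subst hbv
    norm_num at h
  · exact h15

end Cfsg.Agent.Helper28.A7U
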