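import Mathlib

/-!
# S0984 piece N5 (`num_invol`): the values at an involution, pure integer arithmetic
-/

set_option autoImplicit false
set_option linter.unusedVariables false
set_option maxHeartbeats 4000000
set_option linter.unusedTactic false

namespace Cfsg.Agent.Helper28.A7U

namespace N5

/-- from `x² ≤ 71` to `|x| ≤ 8` -/
theorem bound8 {x : ℤ} (h : x ^ 2 ≤ 71) : -8 ≤ x ∧ x ≤ 8 := by
  constructor <;> nlinarith

end N5

theorem num_invol {d a b c c' e f : ℤ} {N : ℕ} (R7 : -b + 1 + d - a = 0)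
    (R5 : 1 + a - c - c' + e = 0)
    (R1 : 1 + 15 * d + 6 * a + 20 * b + 14 * c + 14 * c' + 21 * e + 35 * f = 0)
    (RN : (N : ℤ) = 1 + d ^ 2 + a ^ 2 + 2 * b ^ 2 + c ^ 2 + c' ^ 2 + e ^ 2 + f ^ 2) (hN : N ∣ 72)
    (hd4 : (4 : ℤ) ∣ 15 - d) (ha4 : (4 : ℤ) ∣ 6 - a) (hb4 : (4 : ℤ) ∣ 10 - b)
    (hc4 : (4 : ℤ) ∣ 14 - c) (hc'4 : (4 : ℤ) ∣ 14 - c') (he4 : (4 : ℤ) ∣ 21 - e)
    (hf4 : (4 : ℤ) ∣ 35 - f)
    (hdI : (15 * (N : ℤ)) ∣ 2520 * d) (haI : (6 * (N : ℤ)) ∣ 2520 * a)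
    (hbI : (10 * (N : ℤ)) ∣ 2520 * b) (hcI : (14 * (N : ℤ)) ∣ 2520 * c)
    (hc'I : (14 * (N : ℤ)) ∣ 2520 * c') (heI : (21 * (N : ℤ)) ∣ 2520 * e)
    (hfI : (35 * (N : ℤ)) ∣ 2520 * f) (ha6 : a ≠ 6) :
    N = 24 ∧ d = -1 ∧ e = 1 ∧ f = -1 ∧
      ((a = 2 ∧ b = -2 ∧ c = 2 ∧ c' = 2) ∨ (a = -2 ∧ b = 2 ∧ c = -2 ∧ c' = 2) ∨
        (a = -2 ∧ b = 2 ∧ c = 2 ∧ c' = -2)) := by
  have hN72 : N ≤ 72 := Nat.le_of_dvd (by norm_num) hN
  have hNz : (N : ℤ) ≤ 72 := by exact_mod_cast hN72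
  have hd2 := sq_nonneg d
  have ha2 := sq_nonneg a
  have hb2 := sq_nonneg b
  have hc2 := sq_nonneg c
  have hc'2 := sq_nonneg c'
  have he2 := sq_nonneg e
  have hf2 := sq_nonneg f
  obtain ⟨ha_lo, ha_hi⟩ := N5.bound8 (x := a) (by linarith)
  obtain ⟨hc_lo, hc_hi⟩ := N5.bound8 (x := c) (by linarith)
  obtain ⟨hc'_lo, hc'_hi⟩ := N5.bound8 (x := c') (by linarith)
  obtain ⟨hf_lo, hf_hi⟩ := N5.bound8 (x := f) (by linarith)
  obtain ⟨hb_lo, hb_hi⟩ := N5.bound8 (x := b) (by linarith)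
  -- the values allowed by the congruences mod 4
  have hav : a = -6 ∨ a = -2 ∨ a = 2 := by omega
  have hbv : b = -6 ∨ b = -2 ∨ b = 2 ∨ b = 6 := by omega
  have hcv : c = -6 ∨ c = -2 ∨ c = 2 ∨ c = 6 := by omega
  have hc'v : c' = -6 ∨ c' = -2 ∨ c' = 2 ∨ c' = 6 := by omega
  have hfv : f = -5 ∨ f = -1 ∨ f = 3 ∨ f = 7 := by omega
  have hdv : d = a + b - 1 := by linarith
  have hev : e = c + c' - a - 1 := by linarith
  subst hdv; subst hev
  rcases hav with rfl | rfl | rfl <;> rcases hbv with rfl | rfl | rfl | rfl <;>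
    rcases hcv with rfl | rfl | rfl | rfl <;> rcases hc'v with rfl | rfl | rfl | rfl <;>
    first
    | (exfalso; omega)
    | (rcases hfv with rfl | rfl | rfl | rfl <;>
        first
        | (exfalso; omega)
        | (norm_num at RN
           first
           | (exfalso; omega)
           | (have hNv : N = 24 := by omega
              subst hNv
              norm_num)
           | (exfalso
              have hNn : N ∣ 72 := hN
              revert hNn hdI haI hbI hcI hc'I heI hfI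
              rw [show N = (Int.toNat (N : ℤ)) by simp]
              rw [RN]
              norm_num)))

end Cfsg.Agent.Helper28.A7U
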