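import Mathlib

/-!
# S0984 piece N7 (`num_cc`) and pieces N1, N3, N4 (`num_inv5_I`, `num_inv5_III`, `num_inv5_IV`): pure integer arithmetic
-/

set_option autoImplicit false

namespace Cfsg.Agent.Helper28.A7U

/-- PIECE N7 (pure arithmetic): positivity of the class constant `a(t,z,u)`. -/
theorem num_cc {c c' e : ℤ} (R5 : 1 - c - c' + e = 0) (he : e ^ 2 < 81) :
    (1 : ℚ) - 2 * c / 14 - 2 * c' / 14 + e / 21 ≠ 0 := by
  have hcc : (c : ℚ) + c' = 1 + e := by
    have : c + c' = 1 + e := by linarith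
    exact_mod_cast this
  have hne : e ≠ 9 := by
    intro h
    rw [h] at he
    norm_num at he
  intro h
  have h1 : (1 : ℚ) - 2 * c / 14 - 2 * c' / 14 + e / 21 = (18 - 2 * (e : ℚ)) / 21 := by
    have : (c' : ℚ) = 1 + e - c := by linarith
    rw [this]; ring
  rw [h1] at h
  have h2 : (18 : ℚ) - 2 * e = 0 := by
    have := div_eq_zero_iff.mp h
    rcases this with h | h
    · exact h
    · norm_num at h
  have h3 : (e : ℚ) = 9 := by linarith
  exact hne (by exact_mod_cast h3)

end Cfsg.Agent.Helper28.A7U
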