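import Mathlib
import Cfsg.Agent.Lib.Helper10.OmegaLemma

set_option autoImplicit false

/-!
The `Ω`-lemma for an automorphism of a finite `p`-group and an invariant subgroup: an automorphism of order
prime to `p` fixing the elements of order `p` (and `4` when `p = 2`) of an invariant subgroup fixes that
subgroup pointwise.
-/

namespace Cfsg.Agent.Helper26

theorem fixes_of_omega {P : Type*} [Group P] [Finite P] {p : ℕ} [Fact p.Prime] (hP : IsPGroup p P)
    (H : Subgroup P) (β : MulAut P) (hβ : Nat.Coprime (orderOf β) p) (hH : ∀ x ∈ H, β x ∈ H)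
    (hΩ : ∀ x ∈ H, (x ^ p = 1 ∨ (p = 2 ∧ x ^ 4 = 1)) → β x = x) : ∀ x ∈ H, β x = x := by
  -- work in the holomorph
  let G := P ⋊[MonoidHom.id (MulAut P)] MulAut P
  haveI : Finite (MulAut P) := Finite.of_injective (fun f : MulAut P => (f : P → P))
    (fun f g hfg => MulEquiv.ext (congrFun hfg))
  haveI : Finite G := Finite.of_equiv _ SemidirectProduct.equivProd.symm
  let H' : Subgroup G := H.map (SemidirectProduct.inl : P →* G)
  let a' : G := SemidirectProduct.inr β
  have hconj : ∀ y : P, a' * SemidirectProduct.inl y * a'⁻¹ = SemidirectProduct.inl (β y) := by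
    intro y
    have := SemidirectProduct.inl_aut (φ := MonoidHom.id (MulAut P)) β y
    rw [map_inv] at this
    exact this.symm
  have hH'p : IsPGroup p H' := by
    have e : H ≃* H' := H.equivMapOfInjective _ SemidirectProduct.inl_injective
    exact (hP.to_subgroup H).of_equiv e
  have hord : orderOf a' = orderOf β := orderOf_injective _ SemidirectProduct.inr_injective β
  -- `β` maps `H` onto `H`
  have hsurj : ∀ y ∈ H, ∃ x ∈ H, β x = y := by
    intro y hy
    let f : H → H := fun x => ⟨β x, hH x x.2⟩
    have hf : Function.Injective f := by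
      intro a b hab
      have := congrArg Subtype.val hab
      exact Subtype.ext (β.injective this)
    obtain ⟨x, hx⟩ := (Finite.injective_iff_surjective.mp hf) ⟨y, hy⟩
    exact ⟨x, x.2, congrArg Subtype.val hx⟩
  have haN : a' ∈ Subgroup.normalizer (H' : Set G) := by
    rw [Subgroup.mem_set_normalizer_iff]
    intro h
    constructor
    · rintro ⟨y, hy, rfl⟩
      rw [hconj]
      exact ⟨β y, hH y hy, rfl⟩
    · rintro ⟨y, hy, hyh⟩
      obtain ⟨x, hx, rfl⟩ := hsurj y hy
      refine ⟨x, hx, ?_⟩
      rw [← hconj] at hyh
      exact mul_left_cancel (mul_right_cancel hyh)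
  have key := Cfsg.Agent.Helper10.mem_centralizer_of_omega H' hH'p a' (by rw [hord]; exact hβ) haN
    (by
      rintro _ ⟨y, hy, rfl⟩ hx
      have hy' : y ^ p = 1 ∨ (p = 2 ∧ y ^ 4 = 1) := by
        rcases hx with hx | ⟨h2, hx⟩
        · left
          apply SemidirectProduct.inl_injective (φ := MonoidHom.id (MulAut P))
          rw [map_pow, map_one]; exact hx
        · right
          refine ⟨h2, ?_⟩
          apply SemidirectProduct.inl_injective (φ := MonoidHom.id (MulAut P))
          rw [map_pow, map_one]; exact hx
      have h1 := hconj y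
      rw [hΩ y hy hy'] at h1
      calc a' * SemidirectProduct.inl y = (a' * SemidirectProduct.inl y * a'⁻¹) * a' :=
            (inv_mul_cancel_right _ _).symm
        _ = SemidirectProduct.inl y * a' := by rw [h1])
  intro y hy
  have h1 := Subgroup.mem_centralizer_iff.mp key (SemidirectProduct.inl y) ⟨y, hy, rfl⟩
  have h2 := hconj y
  apply SemidirectProduct.inl_injective (φ := MonoidHom.id (MulAut P))
  rw [← h2, ← h1]
  exact mul_inv_cancel_right _ _

end Cfsg.Agent.Helper26
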