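import Mathlib
import Cfsg.Agent.Lib.Helper3.SmallOrd
import Cfsg.Agent.S0985

/-!
# Sylow intersections in simple groups with Sylow `p`-subgroups of order `p ^ 2` (helper26)

If `n_p ≢ 1 (mod p ^ 2)`, two Sylow `p`-subgroups `P ≠ R` meet in a subgroup `D` of order `p`
(S0985); both are abelian, so they lie in `H = N_G(D)`, a proper subgroup with more than one Sylow
`p`-subgroup.
-/

set_option autoImplicit false
open Cfsg

namespace Cfsg.Agent.Helper3.SmallOrd

namespace SylInt

variable {G : Type*} [Group G] [Finite G]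

omit [Finite G] in
theorem card_subgroupOf (H K : Subgroup G) : Nat.card (H.subgroupOf K) = Nat.card (H ⊓ K : Subgroup G) := by
  rw [← Subgroup.inf_subgroupOf_right H K]
  exact Nat.card_congr (Subgroup.subgroupOfEquivOfLe inf_le_right).toEquiv

end SylInt

variable {G : Type*} [Group G] [Finite G] [IsSimpleGroup G]

/-- Sylow `p`-subgroups of order `p ^ 2` and `n_p ≢ 1 (mod p ^ 2)`: a proper subgroup `H` with more
than one Sylow `p`-subgroup, each of order `p ^ 2`. -/
theorem exists_sub_of_not_modEq {p m : ℕ} [Fact p.Prime] (hG : ∃ x y : G, x * y ≠ y * x)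
    (hcard : Nat.card G = p ^ 2 * m) (hm : ¬ p ∣ m)
    (hnp : ¬ Nat.card (Sylow p G) ≡ 1 [MOD p ^ 2]) :
    ∃ H : Subgroup G, H ≠ ⊤ ∧ 1 < Nat.card (Sylow p H) ∧ Nat.card (Sylow p H) % p = 1 ∧
      Nat.card (Sylow p H) * p ^ 2 ∣ Nat.card H := by
  have hp : p.Prime := Fact.out
  obtain ⟨-, -, -, -, h5⟩ := basic hG (by norm_num : 0 < 2) hcard hm
  obtain ⟨P, R, hPR, hidx⟩ := Cfsg.Agent.S0985.result p 2 hnp
  have hP : Nat.card (P : Subgroup G) = p ^ 2 := (h5 P).1
  have hR : Nat.card (R : Subgroup G) = p ^ 2 := (h5 R).1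
  set D : Subgroup G := (R : Subgroup G) ⊓ (P : Subgroup G) with hD
  -- the order of `D`
  have hmul : Nat.card D * ((R : Subgroup G).subgroupOf (P : Subgroup G)).index = p ^ 2 := by
    rw [← SylInt.card_subgroupOf, Subgroup.card_mul_index, hP]
  have hidx' : ((R : Subgroup G).subgroupOf (P : Subgroup G)).index ≤ p := by simpa using hidx
  have hDge : p ≤ Nat.card D := by
    by_contra hlt
    have hlt' : Nat.card D < p := not_le.1 hlt
    have h1 : Nat.card D * ((R : Subgroup G).subgroupOf (P : Subgroup G)).index < p * p := by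
      calc Nat.card D * ((R : Subgroup G).subgroupOf (P : Subgroup G)).index
          ≤ Nat.card D * p := Nat.mul_le_mul_left _ hidx'
        _ < p * p := Nat.mul_lt_mul_of_pos_right hlt' hp.pos
    rw [hmul] at h1
    nlinarith
  have hDbot : D ≠ ⊥ := by
    intro h
    rw [h, Subgroup.card_bot] at hDge
    exact absurd hDge (not_le.2 hp.one_lt)
  have hDtop : D ≠ ⊤ := by
    intro h
    apply hPR
    have h1 : (P : Subgroup G) = ⊤ := top_le_iff.1 (h ▸ inf_le_right)
    have h2 : (R : Subgroup G) = ⊤ := top_le_iff.1 (h ▸ inf_le_left)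
    exact Sylow.ext (h1.trans h2.symm)
  -- `P` and `R` are abelian, hence normalize `D`
  have hPc : IsMulCommutative (P : Subgroup G) := IsPGroup.isMulCommutative_of_card_eq_prime_sq hP
  have hRc : IsMulCommutative (R : Subgroup G) := IsPGroup.isMulCommutative_of_card_eq_prime_sq hR
  have hnorm : ∀ (Q : Subgroup G), IsMulCommutative Q → D ≤ Q → Q ≤ Subgroup.normalizer (D : Set G) := by
    intro Q hQc hDQ x hx
    rw [Subgroup.mem_normalizer_iff]
    intro d
    constructor
    · intro hd
      have hcomm : x * d = d * x := by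
        have := hQc.is_comm.comm ⟨x, hx⟩ ⟨d, hDQ hd⟩
        exact congrArg Subtype.val this
      rw [hcomm, mul_inv_cancel_right]
      exact hd
    · intro hd
      have hdQ : x * d * x⁻¹ ∈ Q := hDQ hd
      have hdQ' : d ∈ Q := by
        have := Q.mul_mem (Q.mul_mem (Q.inv_mem hx) hdQ) hx
        simpa [mul_assoc] using this
      have hcomm : x * d = d * x := by
        have := hQc.is_comm.comm ⟨x, hx⟩ ⟨d, hdQ'⟩
        exact congrArg Subtype.val this
      rw [hcomm, mul_inv_cancel_right] at hd
      exact hd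
  set H : Subgroup G := Subgroup.normalizer (D : Set G) with hH
  have hPH : (P : Subgroup G) ≤ H := hnorm _ hPc inf_le_right
  have hRH : (R : Subgroup G) ≤ H := hnorm _ hRc inf_le_left
  have hHtop : H ≠ ⊤ := by
    intro h
    have hn : D.Normal := Subgroup.normalizer_eq_top_iff.1 h
    rcases hn.eq_bot_or_eq_top with h' | h'
    · exact hDbot h'
    · exact hDtop h'
  refine ⟨H, hHtop, ?_, ?_, ?_⟩
  · have hne : P.subtype hPH ≠ R.subtype hRH := by
      intro h
      apply hPR
      apply Sylow.ext
      have h1 := congrArg (fun S : Sylow p H => (S : Subgroup H).map H.subtype) h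
      simp only [Sylow.coe_subtype, Subgroup.subgroupOf_map_subtype] at h1
      rwa [inf_of_le_left hPH, inf_of_le_left hRH] at h1
    have : Nontrivial (Sylow p H) := nontrivial_of_ne _ _ hne
    exact Finite.one_lt_card_iff_nontrivial.2 this
  · have h := card_sylow_modEq_one p H
    rw [Nat.ModEq, Nat.mod_eq_of_lt hp.one_lt] at h
    exact h
  · have hcardS : Nat.card ((P.subtype hPH : Sylow p H) : Subgroup H) = p ^ 2 := by
      rw [Sylow.coe_subtype, SylInt.card_subgroupOf, inf_of_le_left hPH, hP]
    have h1 : Nat.card (Sylow p H) ∣ ((P.subtype hPH : Sylow p H) : Subgroup H).index :=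
      Sylow.card_dvd_index _
    have h2 := Subgroup.card_mul_index ((P.subtype hPH : Sylow p H) : Subgroup H)
    rw [hcardS] at h2
    rw [← h2, mul_comm]
    exact Nat.mul_dvd_mul_left _ h1

end Cfsg.Agent.Helper3.SmallOrd
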