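import Mathlib
import Cfsg.Agent.Lib.Helper3.SmallOrd
import Cfsg.Agent.Lib.Helper26.OrdSylInt

/-!
Piece ORD4725 of helper10's farm-out of S0983: there is no simple group of order 4725
(`n_5 = 21` is not `1 mod 25`: Sylow intersection of order 5, whose normalizer has index dividing 9).
-/

set_option autoImplicit false
open Cfsg

namespace Cfsg.Agent.Helper3.SmallOrd

variable {G : Type*} [Group G] [Finite G] [IsSimpleGroup G]

theorem no_simple_4725 (h : Nat.card G = 4725) : False := by
  have hG : ∃ x y : G, x * y ≠ y * x :=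
    Cfsg.Agent.Lead.nonabelian_of_not_prime (by rw [h]; norm_num)
  have : Fact (Nat.Prime 5) := ⟨by norm_num⟩
  have hcard : Nat.card G = 5 ^ 2 * 189 := by rw [h]; norm_num
  obtain ⟨h1, h2, h3, -, -⟩ := basic hG (by norm_num) hcard (by norm_num)
  have hn : Nat.card (Sylow 5 G) = 21 := by
    have hle : Nat.card (Sylow 5 G) ≤ 189 := Nat.le_of_dvd (by norm_num) h1
    generalize Nat.card (Sylow 5 G) = n at *
    interval_cases n <;> first | rfl | omega
  have hnp : ¬ Nat.card (Sylow 5 G) ≡ 1 [MOD 5 ^ 2] := by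
    rw [hn]
    decide
  obtain ⟨H, hHtop, h1', h2', h3'⟩ := exists_sub_of_not_modEq hG hcard (by norm_num) hnp
  have hmul := Subgroup.card_mul_index H
  have hfac := two_mul_card_dvd_factorial_index hG H hHtop
  have hi1 : H.index ≠ 1 := fun hi => hHtop (Subgroup.index_eq_one.1 hi)
  rw [h] at hmul hfac
  obtain ⟨k, hk⟩ := h3'
  rw [hk] at hmul
  generalize Nat.card (Sylow 5 H) = n' at *
  generalize H.index = i at *
  have hn'dvd : n' ∣ 189 := by
    refine ⟨k * i, ?_⟩
    have : 5 ^ 2 * (n' * (k * i)) = 5 ^ 2 * 189 := by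
      rw [show (5 : ℕ) ^ 2 * 189 = 4725 by norm_num, ← hmul]
      ring
    exact (Nat.eq_of_mul_eq_mul_left (by norm_num) this).symm
  have hn'le : n' ≤ 189 := Nat.le_of_dvd (by norm_num) hn'dvd
  have hn' : n' = 21 := by
    interval_cases n' <;> first | rfl | omega
  subst hn'
  have hki : k * i = 9 := by
    have : 525 * (k * i) = 525 * 9 := by
      rw [show (525 : ℕ) * 9 = 4725 by norm_num, ← hmul]
      ring
    exact Nat.eq_of_mul_eq_mul_left (by norm_num) this
  have hile : i ≤ 9 := Nat.le_of_dvd (by norm_num) ⟨k, by rw [← hki]; ring⟩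
  interval_cases i <;> first | omega | (revert hfac; decide)

end Cfsg.Agent.Helper3.SmallOrd
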