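import Mathlib
import Cfsg.Agent.Lib.Helper3.SmallOrd
import Cfsg.Agent.Lib.Helper10.Ord83BR
import Cfsg.Agent.S0073

/-!
# S4274 piece ORD87780 (core): no simple group of order 87780 = 2^2.3.5.7.11.19

`no_simple_87780_core` takes the conclusion of piece KLEIN (`klein_formula`) as a hypothesis.
See plans/S4274_plan.md section 3.
-/

set_option autoImplicit false

namespace Cfsg.Agent.Helper3.SmallOrd.O87780

/-- the two-sided estimate of `(x₁+1)(x₂+ε)(x₃-1)` against `x₁ x₂ x₃` for `xᵢ ≥ 9` -/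
theorem prod_bounds (x₁ x₂ x₃ ε : ℤ) (hε : ε = 1 ∨ ε = -1) (h1 : 9 ≤ x₁) (h2 : 9 ≤ x₂)
    (h3 : 9 ≤ x₃) :
    64 * (x₁ * x₂ * x₃) ≤ 81 * ((x₁ + 1) * (x₂ + ε) * (x₃ - 1)) ∧
      81 * ((x₁ + 1) * (x₂ + ε) * (x₃ - 1)) ≤ 100 * (x₁ * x₂ * x₃) := by
  have hε1 : ε ≤ 1 := by rcases hε with h | h <;> omega
  have hε2 : -1 ≤ ε := by rcases hε with h | h <;> omega
  constructor
  · have a1 : x₁ ≤ x₁ + 1 := by omega
    have a2 : 8 * x₂ ≤ 9 * (x₂ + ε) := by omega
    have a3 : 8 * x₃ ≤ 9 * (x₃ - 1) := by omega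
    have b1 : x₁ * (8 * x₂) ≤ (x₁ + 1) * (9 * (x₂ + ε)) :=
      mul_le_mul a1 a2 (by omega) (by omega)
    have b2 : x₁ * (8 * x₂) * (8 * x₃) ≤ (x₁ + 1) * (9 * (x₂ + ε)) * (9 * (x₃ - 1)) :=
      mul_le_mul b1 a3 (by omega) (mul_nonneg (by omega) (by omega))
    calc 64 * (x₁ * x₂ * x₃) = x₁ * (8 * x₂) * (8 * x₃) := by ring
      _ ≤ (x₁ + 1) * (9 * (x₂ + ε)) * (9 * (x₃ - 1)) := b2
      _ = 81 * ((x₁ + 1) * (x₂ + ε) * (x₃ - 1)) := by ring
  · have a1 : 9 * (x₁ + 1) ≤ 10 * x₁ := by omega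
    have a2 : 9 * (x₂ + ε) ≤ 10 * x₂ := by omega
    have a3 : x₃ - 1 ≤ x₃ := by omega
    have b1 : 9 * (x₁ + 1) * (9 * (x₂ + ε)) ≤ 10 * x₁ * (10 * x₂) :=
      mul_le_mul a1 a2 (by omega) (by omega)
    have b2 : 9 * (x₁ + 1) * (9 * (x₂ + ε)) * (x₃ - 1) ≤ 10 * x₁ * (10 * x₂) * x₃ :=
      mul_le_mul b1 a3 (by omega) (mul_nonneg (by omega) (by omega))
    calc 81 * ((x₁ + 1) * (x₂ + ε) * (x₃ - 1)) = 9 * (x₁ + 1) * (9 * (x₂ + ε)) * (x₃ - 1) := by
          ring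
      _ ≤ 10 * x₁ * (10 * x₂) * x₃ := b2
      _ = 100 * (x₁ * x₂ * x₃) := by ring

/-- from the order formula to the two inequalities between `cP` and `cJ` -/
theorem cJ_bounds (N cP cJ x₁ x₂ x₃ ε : ℤ) (hε : ε = 1 ∨ ε = -1) (h1 : 9 ≤ x₁) (h2 : 9 ≤ x₂)
    (h3 : 9 ≤ x₃) (hN : 0 ≤ N)
    (hform : N * cP ^ 2 * ((x₁ + 1) * (x₂ + ε) * (x₃ - 1)) = 8 * (x₁ * x₂ * x₃) * cJ ^ 3) :
    64 * N * cP ^ 2 ≤ 648 * cJ ^ 3 ∧ 648 * cJ ^ 3 ≤ 100 * N * cP ^ 2 := by
  obtain ⟨hlo, hhi⟩ := prod_bounds x₁ x₂ x₃ ε hε h1 h2 h3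
  have hX : 0 < x₁ * x₂ * x₃ := mul_pos (mul_pos (by omega) (by omega)) (by omega)
  have hNc : 0 ≤ N * cP ^ 2 := mul_nonneg hN (sq_nonneg cP)
  constructor
  · apply le_of_mul_le_mul_right _ hX
    calc 64 * N * cP ^ 2 * (x₁ * x₂ * x₃) = N * cP ^ 2 * (64 * (x₁ * x₂ * x₃)) := by ring
      _ ≤ N * cP ^ 2 * (81 * ((x₁ + 1) * (x₂ + ε) * (x₃ - 1))) :=
          mul_le_mul_of_nonneg_left hlo hNc
      _ = 81 * (N * cP ^ 2 * ((x₁ + 1) * (x₂ + ε) * (x₃ - 1))) := by ring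
      _ = 81 * (8 * (x₁ * x₂ * x₃) * cJ ^ 3) := by rw [hform]
      _ = 648 * cJ ^ 3 * (x₁ * x₂ * x₃) := by ring
  · apply le_of_mul_le_mul_right _ hX
    calc 648 * cJ ^ 3 * (x₁ * x₂ * x₃) = 81 * (8 * (x₁ * x₂ * x₃) * cJ ^ 3) := by ring
      _ = 81 * (N * cP ^ 2 * ((x₁ + 1) * (x₂ + ε) * (x₃ - 1))) := by rw [hform]
      _ = N * cP ^ 2 * (81 * ((x₁ + 1) * (x₂ + ε) * (x₃ - 1))) := by ring
      _ ≤ N * cP ^ 2 * (100 * (x₁ * x₂ * x₃)) := mul_le_mul_of_nonneg_left hhi hNc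
      _ = 100 * N * cP ^ 2 * (x₁ * x₂ * x₃) := by ring

/-- the divisor pairs `(cP, cJ)` of 87780 allowed by the inequalities -/
theorem pairs (cP cJ : ℕ) (h4 : 4 ∣ cP) (hPJ : cP ∣ cJ) (hJ : cJ ∣ 87780) (h3 : 3 * cP ∣ 87780)
    (hlo : 64 * 87780 * cP ^ 2 ≤ 648 * cJ ^ 3) (hhi : 648 * cJ ^ 3 ≤ 100 * 87780 * cP ^ 2) :
    (cP = 4 ∧ cJ = 60) ∨ 19 ∣ cJ := by
  obtain ⟨a, rfl⟩ := h4
  obtain ⟨b, rfl⟩ := hPJ
  have hJ0 : 4 * a * b ≠ 0 := by
    intro h0
    rw [h0] at hJ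
    omega
  have ha : 0 < a := by
    rcases Nat.eq_zero_or_pos a with h | h
    · exfalso; apply hJ0; rw [h]; ring
    · exact h
  have hb : 0 < b := by
    rcases Nat.eq_zero_or_pos b with h | h
    · exfalso; apply hJ0; rw [h]; ring
    · exact h
  have ha7 : a ∣ 7315 := by
    have : 12 * a ∣ 12 * 7315 := by
      have e : 3 * (4 * a) = 12 * a := by ring
      rw [e] at h3
      exact h3
    exact Nat.dvd_of_mul_dvd_mul_left (by norm_num) this
  have hab : a * b ∣ 21945 := by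
    have : 4 * (a * b) ∣ 4 * 21945 := by
      have e : 4 * a * b = 4 * (a * b) := by ring
      rw [e] at hJ
      exact hJ
    exact Nat.dvd_of_mul_dvd_mul_left (by norm_num) this
  have ha2 : 0 < a ^ 2 := by positivity
  -- the inequalities in terms of `a * b ^ 3`
  have hlo' : 2168 ≤ a * b ^ 3 := by
    have e : a ^ 2 * 89886720 ≤ a ^ 2 * (41472 * (a * b ^ 3)) := by
      calc a ^ 2 * 89886720 = 64 * 87780 * (4 * a) ^ 2 := by ring
        _ ≤ 648 * (4 * a * b) ^ 3 := hlo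
        _ = a ^ 2 * (41472 * (a * b ^ 3)) := by ring
    have := Nat.le_of_mul_le_mul_left e ha2
    omega
  have hhi' : a * b ^ 3 ≤ 3386 := by
    have e : a ^ 2 * (41472 * (a * b ^ 3)) ≤ a ^ 2 * 140448000 := by
      calc a ^ 2 * (41472 * (a * b ^ 3)) = 648 * (4 * a * b) ^ 3 := by ring
        _ ≤ 100 * 87780 * (4 * a) ^ 2 := hhi
        _ = a ^ 2 * 140448000 := by ring
    have := Nat.le_of_mul_le_mul_left e ha2
    omega
  have hb15 : b ≤ 15 := by
    by_contra hcon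
    have h16 : 16 ≤ b := by omega
    have h1 : 16 ^ 3 ≤ b ^ 3 := Nat.pow_le_pow_left h16 3
    have h2 : b ^ 3 ≤ a * b ^ 3 := Nat.le_mul_of_pos_left _ ha
    omega
  have hm1 : 7315 % a = 0 := Nat.mod_eq_zero_of_dvd ha7
  have hm2 : 21945 % (a * b) = 0 := Nat.mod_eq_zero_of_dvd hab
  have hbd : b ∣ 21945 := (Dvd.intro_left a rfl).trans hab
  have hm3 : 21945 % b = 0 := Nat.mod_eq_zero_of_dvd hbd
  interval_cases b
  · -- b = 1
    exfalso
    obtain ⟨k, hk⟩ := ha7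
    have hk3 : k = 3 := by
      have h1 : k ≤ 3 := by
        by_contra hcon
        have : 4 ≤ k := by omega
        nlinarith
      have h2 : 3 ≤ k := by
        by_contra hcon
        have : k ≤ 2 := by omega
        nlinarith
      omega
    subst hk3
    omega
  all_goals first
    | (exfalso; omega)
    | skip
  · -- b = 3 : a in [81, 125]
    have h1 : 81 ≤ a := by omega
    have h2 : a ≤ 125 := by omega
    interval_cases a <;> first | (exfalso; omega) | (right; norm_num)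
  · -- b = 5 : a in [18, 27]
    have h1 : 18 ≤ a := by omega
    have h2 : a ≤ 27 := by omega
    interval_cases a <;> first | (exfalso; omega) | (right; norm_num)
  · -- b = 7 : a in [7, 9]
    have h1 : 7 ≤ a := by omega
    have h2 : a ≤ 9 := by omega
    exfalso
    interval_cases a <;> omega
  · -- b = 11 : a = 2
    have h1 : a = 2 := by omega
    subst h1
    exfalso
    omega
  · -- b = 15 : a = 1
    have h1 : a = 1 := by omega
    subst h1
    left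
    constructor <;> norm_num

/-- the pair `(cP, cJ) = (4, 60)` is impossible -/
theorem case_4_60 (x₁ x₂ x₃ ε : ℤ) (hε : ε = 1 ∨ ε = -1) (h1 : 9 ≤ x₁) (h2 : 9 ≤ x₂)
    (h3 : 9 ≤ x₃) (hrel : 1 + x₁ + ε * x₂ - x₃ = 0)
    (hform : 87780 * 4 ^ 2 * ((x₁ + 1) * (x₂ + ε) * (x₃ - 1)) = 8 * (x₁ * x₂ * x₃) * 60 ^ 3) :
    False := by
  have hform' : 1463 * ((x₁ + 1) * (x₂ + ε) * (x₃ - 1)) = 1800 * (x₁ * x₂ * x₃) := by
    have : 960 * (1463 * ((x₁ + 1) * (x₂ + ε) * (x₃ - 1))) = 960 * (1800 * (x₁ * x₂ * x₃)) := by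
      calc 960 * (1463 * ((x₁ + 1) * (x₂ + ε) * (x₃ - 1)))
          = 87780 * 4 ^ 2 * ((x₁ + 1) * (x₂ + ε) * (x₃ - 1)) := by ring
        _ = 8 * (x₁ * x₂ * x₃) * 60 ^ 3 := hform
        _ = 960 * (1800 * (x₁ * x₂ * x₃)) := by ring
    exact mul_left_cancel₀ (by norm_num) this
  rcases hε with rfl | rfl
  · -- ε = 1
    have hx3 : x₃ = 1 + x₁ + x₂ := by linarith
    subst hx3
    have hp : 0 ≤ (x₁ - 9) * (x₂ - 9) := mul_nonneg (by linarith) (by linarith)
    have hs : 9 * (x₁ + x₂) ≤ 2 * (x₁ * x₂) := by nlinarith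
    have hs0 : 0 ≤ x₁ + x₂ := by linarith
    have hkey : 0 < 1800 * (x₁ * x₂ * (1 + x₁ + x₂)) -
        1463 * ((x₁ + 1) * (x₂ + 1) * (1 + x₁ + x₂ - 1)) := by
      have e : 1800 * (x₁ * x₂ * (1 + x₁ + x₂)) -
          1463 * ((x₁ + 1) * (x₂ + 1) * (1 + x₁ + x₂ - 1)) =
          337 * (x₁ * x₂) * (x₁ + x₂) + 1800 * (x₁ * x₂) - 1463 * (x₁ + x₂) ^ 2
            - 1463 * (x₁ + x₂) := by ring
      rw [e]
      nlinarith [mul_nonneg hs0 (sub_nonneg.mpr hs)]
    linarith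
  · -- ε = -1
    have hx1 : x₁ = x₃ - 1 + x₂ := by linarith
    subst hx1
    have hX : 0 < (x₃ - 1 + x₂) * x₂ * x₃ := by positivity
    have hlt : (x₃ - 1 + x₂ + 1) * (x₂ + -1) * (x₃ - 1) < (x₃ - 1 + x₂) * x₂ * x₃ := by
      have e : (x₃ - 1 + x₂ + 1) * (x₂ + -1) * (x₃ - 1) =
          ((x₃ - 1 + x₂) * x₂ - x₃) * (x₃ - 1) := by ring
      rw [e]
      nlinarith [mul_pos (show (0:ℤ) < x₃ - 1 + x₂ by linarith) (show (0:ℤ) < x₂ by linarith)]
    linarith

/-- the possible numbers of Sylow 19-subgroups -/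
theorem n19_list (n : ℕ) (hd : n ∣ 4620) (hm : n % 19 = 1) (h1 : n ≠ 1) :
    n = 20 ∨ n = 77 ∨ n = 210 ∨ n = 1540 := by
  obtain ⟨c, hc⟩ := hd
  have hc0 : 0 < c := by
    rcases Nat.eq_zero_or_pos c with h | h
    · rw [h] at hc; omega
    · exact h
  have hn20 : 20 ≤ n := by omega
  have hc231 : c ≤ 231 := by
    by_contra hcon
    have : 232 ≤ c := by omega
    nlinarith
  interval_cases c <;> omega

/-- the third alternative of `s4700_filter` is impossible for `n ≤ 4` -/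
theorem no_hu (n : ℕ) (hn : n ≤ 4) (h u : ℕ) (hh : 0 < h) (hu : 0 < u)
    (e : n * (u + 1) = h * u * 19 + u ^ 2 + u + h) : False := by
  have h1 : u ≤ h * u := Nat.le_mul_of_pos_left u hh
  have h2 : n * (u + 1) ≤ 4 * (u + 1) := Nat.mul_le_mul_right _ hn
  nlinarith

theorem not_two_pow (m : ℕ) (h : 19 = 2 ^ m + 1) : False := by
  have h18 : 2 ^ m = 18 := by omega
  have hm : m < 5 := by
    by_contra hcon
    have : 2 ^ 5 ≤ 2 ^ m := Nat.pow_le_pow_right (by norm_num) (by omega)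
    omega
  interval_cases m <;> omega

variable {G : Type*} [Group G] [Finite G] [IsSimpleGroup G]

/-- in a simple group of order 87780 no involution centralizes an element of order 19 -/
theorem no_19_dvd (h : Nat.card G = 87780) (J : G) (hJ : orderOf J = 2)
    (h19 : 19 ∣ Nat.card (Subgroup.centralizer ({J} : Set G))) : False := by
  have : Fact (Nat.Prime 19) := ⟨by norm_num⟩
  have hG : ∃ x y : G, x * y ≠ y * x :=
    Cfsg.Agent.Lead.nonabelian_of_not_prime (by rw [h]; norm_num)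
  obtain ⟨hn1, hn2, hn3, -, hn5⟩ := basic hG (p := 19) (a := 1) (m := 4620) Nat.one_pos
    (by rw [h]; norm_num) (by norm_num)
  -- an element of order 19 commuting with `J`
  obtain ⟨g, hg⟩ := exists_prime_orderOf_dvd_card' (G := Subgroup.centralizer ({J} : Set G)) 19 h19
  have hg' : orderOf (g : G) = 19 := by rw [Subgroup.orderOf_coe]; exact hg
  have hcomm : (g : G) * J = J * (g : G) := by
    have := g.2
    rw [Subgroup.mem_centralizer_singleton_iff] at this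
    exact this
  have hp : IsPGroup 19 (Subgroup.zpowers (g : G)) := by
    apply IsPGroup.of_card (n := 1)
    rw [Nat.card_zpowers, hg', pow_one]
  obtain ⟨P, hP⟩ := hp.exists_le_sylow
  obtain ⟨hPc, hPN⟩ := hn5 P
  rw [pow_one] at hPc
  have hPeq : Subgroup.zpowers (g : G) = (P : Subgroup G) := by
    apply Subgroup.eq_of_le_of_card_ge hP
    rw [Nat.card_zpowers, hg', hPc]
  -- `J` centralizes `P`
  have hJC : J ∈ Subgroup.centralizer ((P : Subgroup G) : Set G) := by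
    rw [Subgroup.mem_centralizer_iff]
    intro y hy
    rw [← hPeq] at hy
    obtain ⟨k, rfl⟩ := Subgroup.mem_zpowers_iff.mp hy
    exact ((Commute.zpow_left (show Commute (g : G) J from hcomm) k)).eq
  have hPC : (P : Subgroup G) ≤ Subgroup.centralizer ((P : Subgroup G) : Set G) := by
    intro y hy
    rw [Subgroup.mem_centralizer_iff]
    intro z hz
    rw [← hPeq] at hy hz
    obtain ⟨k, rfl⟩ := Subgroup.mem_zpowers_iff.mp hy
    obtain ⟨l, rfl⟩ := Subgroup.mem_zpowers_iff.mp hz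
    exact (Commute.zpow_zpow_self (g : G) l k).eq
  have h19C : 19 ∣ Nat.card (Subgroup.centralizer ((P : Subgroup G) : Set G)) := by
    have := Subgroup.card_dvd_of_le hPC
    rwa [hPc] at this
  have h2C : 2 ∣ Nat.card (Subgroup.centralizer ((P : Subgroup G) : Set G)) := by
    have h1 : orderOf (⟨J, hJC⟩ : Subgroup.centralizer ((P : Subgroup G) : Set G)) = 2 := by
      rw [← Subgroup.orderOf_coe]; exact hJ
    rw [← h1]
    exact orderOf_dvd_natCard _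
  have h38 : 38 ∣ Nat.card (Subgroup.centralizer ((P : Subgroup G) : Set G)) := by
    have : (2 * 19) ∣ Nat.card (Subgroup.centralizer ((P : Subgroup G) : Set G)) :=
      Nat.Coprime.mul_dvd_of_dvd_of_dvd (by norm_num) h2C h19C
    exact this
  have hCN : Nat.card (Subgroup.centralizer ((P : Subgroup G) : Set G)) ∣
      Nat.card (Subgroup.normalizer ((P : Subgroup G) : Set G)) :=
    Subgroup.card_dvd_of_le (Subgroup.centralizer_le_normalizer _)
  rw [h] at hPN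
  rcases n19_list _ hn1 hn2 hn3 with hn | hn | hn | hn
  · -- 20 = 1 + 1 * 19
    rcases Cfsg.Agent.Helper10.Ord83.s4700_filter hG 19 P hPc 1 (by rw [hn]) with
      h1 | ⟨m, hm, -⟩ | ⟨hh, u, hh0, hu0, e⟩
    · rw [h] at h1; omega
    · exact not_two_pow m hm
    · exact no_hu 1 (by norm_num) hh u hh0 hu0 e
  · -- 77 = 1 + 4 * 19
    rcases Cfsg.Agent.Helper10.Ord83.s4700_filter hG 19 P hPc 4 (by rw [hn]) with
      h1 | ⟨m, hm, -⟩ | ⟨hh, u, hh0, hu0, e⟩
    · rw [h] at h1; omega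
    · exact not_two_pow m hm
    · exact no_hu 4 (by norm_num) hh u hh0 hu0 e
  · -- 210: |N| = 418, N = C
    rw [hn] at hPN
    have hN : Nat.card (Subgroup.normalizer ((P : Subgroup G) : Set G)) = 418 := by omega
    have hrel := Cfsg.Agent.Lead.relIndex_centralizer_normalizer_dvd P hPc
    have hmul : Nat.card (Subgroup.centralizer ((P : Subgroup G) : Set G)) *
        (Subgroup.centralizer ((P : Subgroup G) : Set G)).relIndex
          (Subgroup.normalizer ((P : Subgroup G) : Set G)) = 418 := by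
      have := Subgroup.relIndex_mul_relIndex (⊥ : Subgroup G)
        (Subgroup.centralizer ((P : Subgroup G) : Set G))
        (Subgroup.normalizer ((P : Subgroup G) : Set G)) bot_le
        (Subgroup.centralizer_le_normalizer _)
      rw [Subgroup.relIndex_bot_left, Subgroup.relIndex_bot_left, hN] at this
      exact this
    obtain ⟨c, hc⟩ := h38
    rw [hc] at hmul
    obtain ⟨r, hr⟩ := hrel
    have hr18 : (19 : ℕ) - 1 = 18 := by norm_num
    rw [hr18] at hr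
    have hone : (Subgroup.centralizer ((P : Subgroup G) : Set G)).relIndex
          (Subgroup.normalizer ((P : Subgroup G) : Set G)) = 1 := by
      set e := (Subgroup.centralizer ((P : Subgroup G) : Set G)).relIndex
          (Subgroup.normalizer ((P : Subgroup G) : Set G)) with he
      have he18 : e ≤ 18 := Nat.le_of_dvd (by norm_num) ⟨r, hr⟩
      have hce : c * e = 11 := by nlinarith
      have hed : e ∣ 11 := Dvd.intro_left c hce
      have hed18 : e ∣ 18 := ⟨r, hr⟩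
      have : e ∣ Nat.gcd 11 18 := Nat.dvd_gcd hed hed18
      have hg1 : Nat.gcd 11 18 = 1 := by norm_num
      rw [hg1] at this
      exact Nat.eq_one_of_dvd_one this
    exact Cfsg.Agent.S0073.not_normalizer_le_centralizer hG P (by rw [h]; norm_num)
      (Subgroup.relIndex_eq_one.mp hone)
  · -- 1540: |N| = 57 is odd
    rw [hn] at hPN
    have hN : Nat.card (Subgroup.normalizer ((P : Subgroup G) : Set G)) = 57 := by omega
    rw [hN] at hCN
    have : 38 ∣ 57 := h38.trans hCN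
    omega

/-- ORD87780 with the conclusion of `klein_formula` as a hypothesis -/
theorem no_simple_87780_core (h : Nat.card G = 87780)
    (hK : ∃ (T : Sylow 2 G) (J : G) (x₁ x₂ x₃ : ℕ) (ε : ℤ),
      J ∈ (T : Subgroup G) ∧ orderOf J = 2 ∧ (ε = 1 ∨ ε = -1) ∧
      Nat.card (Subgroup.normalizer ((T : Subgroup G) : Set G)) =
        3 * Nat.card (Subgroup.centralizer ((T : Subgroup G) : Set G)) ∧
      4 ∣ Nat.card (Subgroup.centralizer ((T : Subgroup G) : Set G)) ∧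
      Nat.card (Subgroup.centralizer ((T : Subgroup G) : Set G)) ∣
        Nat.card (Subgroup.centralizer ({J} : Set G)) ∧
      x₁ ∣ Nat.card G ∧ x₂ ∣ Nat.card G ∧ x₃ ∣ Nat.card G ∧
      (4 : ℤ) ∣ (x₁ : ℤ) - 1 ∧ (4 : ℤ) ∣ (x₂ : ℤ) - ε ∧ (4 : ℤ) ∣ (x₃ : ℤ) + 1 ∧
      (1 : ℤ) + x₁ + ε * x₂ - x₃ = 0 ∧
      (∀ p : ℕ, p.Prime → p ∣ Nat.card G → ¬ p ^ 2 ∣ Nat.card G →
        p ≤ 2 * x₁ + 1 ∧ p ≤ 2 * x₂ + 1 ∧ p ≤ 2 * x₃ + 1) ∧
      (Nat.card G : ℤ) * (Nat.card (Subgroup.centralizer ((T : Subgroup G) : Set G)) : ℤ) ^ 2 *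
          (((x₁ : ℤ) + 1) * ((x₂ : ℤ) + ε) * ((x₃ : ℤ) - 1)) =
        8 * ((x₁ : ℤ) * x₂ * x₃) *
          (Nat.card (Subgroup.centralizer ({J} : Set G)) : ℤ) ^ 3) : False := by
  obtain ⟨T, J, x₁, x₂, x₃, ε, -, hJ2, hε, hNT, h4, hPJ, -, -, -, -, -, -, hrel, hbd, hform⟩ := hK
  obtain ⟨b1, b2, b3⟩ := hbd 19 (by norm_num) (by rw [h]; norm_num) (by rw [h]; norm_num)
  have hx1 : (9 : ℤ) ≤ x₁ := by omega
  have hx2 : (9 : ℤ) ≤ x₂ := by omega
  have hx3 : (9 : ℤ) ≤ x₃ := by omega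
  have hcJ : Nat.card (Subgroup.centralizer ({J} : Set G)) ∣ 87780 := by
    rw [← h]; exact Subgroup.card_subgroup_dvd_card _
  have h3cP : 3 * Nat.card (Subgroup.centralizer ((T : Subgroup G) : Set G)) ∣ 87780 := by
    rw [← h, ← hNT]; exact Subgroup.card_subgroup_dvd_card _
  rw [h] at hform
  obtain ⟨hlo, hhi⟩ := cJ_bounds (87780 : ℤ)
    (Nat.card (Subgroup.centralizer ((T : Subgroup G) : Set G)) : ℤ)
    (Nat.card (Subgroup.centralizer ({J} : Set G)) : ℤ) x₁ x₂ x₃ ε hε hx1 hx2 hx3 (by norm_num)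
    (by exact_mod_cast hform)
  have hlo' : 64 * 87780 * Nat.card (Subgroup.centralizer ((T : Subgroup G) : Set G)) ^ 2 ≤
      648 * Nat.card (Subgroup.centralizer ({J} : Set G)) ^ 3 := by exact_mod_cast hlo
  have hhi' : 648 * Nat.card (Subgroup.centralizer ({J} : Set G)) ^ 3 ≤
      100 * 87780 * Nat.card (Subgroup.centralizer ((T : Subgroup G) : Set G)) ^ 2 := by
    exact_mod_cast hhi
  rcases pairs _ _ h4 hPJ hcJ h3cP hlo' hhi' with ⟨hP4, hJ60⟩ | h19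
  · rw [hP4, hJ60] at hform
    exact case_4_60 x₁ x₂ x₃ ε hε hx1 hx2 hx3 hrel (by exact_mod_cast hform)
  · exact no_19_dvd h J hJ2 h19

end Cfsg.Agent.Helper3.SmallOrd.O87780
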