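import Mathlib
import Cfsg.Agent.Lib.Helper26.Ord87780Core
import Cfsg.Agent.Lib.Helper1.J1KLEIN

/-!
# S4274 piece ORD87780: no simple group of order 87780
-/

set_option autoImplicit false

namespace Cfsg.Agent.Helper3.SmallOrd

variable {G : Type*} [Group G] [Finite G] [IsSimpleGroup G]

theorem no_simple_87780 (h : Nat.card G = 87780) : False :=
  O87780.no_simple_87780_core h
    (Cfsg.Agent.Helper10.J1Ord.klein_formula 21945 (by decide) (by rw [h]) (by norm_num))

end Cfsg.Agent.Helper3.SmallOrd
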