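import Mathlib
import Cfsg.Agent.Lib.Helper26.P11Abs1

set_option autoImplicit false

namespace Cfsg.Agent.Helper26.P11

open scoped Pointwise

/-! ### Twenty two subgroups of order 60 in a group named by matrices modulo 11 -/

structure Big where
  D0 : A5Data
  D1 : A5Data
  gs : List M4
  gis : List M4
  HL : List (List M4)
  INV : List M4
  O3 : List M4

def Big.cls (B : Big) (i : ℕ) : A5Data := cond (Nat.blt i 11) B.D0 B.D1

def Big.g (B : Big) (i : ℕ) : M4 := B.gs.getD i idM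

def Big.gi (B : Big) (i : ℕ) : M4 := B.gis.getD i idM

def Big.hl (B : Big) (i : ℕ) : List M4 := B.HL.getD i []

def Big.hel (B : Big) (i k : ℕ) : M4 := (B.hl i).getD k idM

def Big.memH (B : Big) (i : ℕ) (p : M4) : Bool := (B.hl i).any fun q => eqM p q

def memL (D : A5Data) (p : M4) : Bool := D.L.any fun q => eqM p q

def invM (p : M4) : M4 := (p.2.2.2, (11 - p.2.1) % 11, (11 - p.2.2.1) % 11, p.1)

def all4 (f : M4 → Bool) : Bool :=
  (List.range 11).all fun a => (List.range 11).all fun b => (List.range 11).all fun c =>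
    (List.range 11).all fun d => f (a, b, c, d)

theorem all4_spec (f : M4 → Bool) (h : all4 f = true) (p : M4) (hp : validM p = true) :
    f p = true := by
  rw [validM_iff] at hp
  obtain ⟨h1, h2, h3, h4, _⟩ := hp
  unfold all4 at h
  rw [List.all_eq_true] at h
  have a1 := h p.1 (List.mem_range.2 h1)
  rw [List.all_eq_true] at a1
  have a2 := a1 p.2.1 (List.mem_range.2 h2)
  rw [List.all_eq_true] at a2
  have a3 := a2 p.2.2.1 (List.mem_range.2 h3)
  rw [List.all_eq_true] at a3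
  exact a3 p.2.2.2 (List.mem_range.2 h4)

def Big.okG (B : Big) : Bool :=
  (List.range 22).all fun i =>
    validM (B.g i) && validM (B.gi i) && isId (mulM (B.g i) (B.gi i))

def Big.okHL (B : Big) : Bool :=
  (List.range 22).all fun i =>
    Nat.beq (B.hl i).length 60 && (B.hl i).all validM &&
      (List.range 60).all fun k =>
        eqM (B.hel i k) (mulM (mulM (B.g i) ((B.cls i).el k)) (B.gi i))

def Big.okINV (B : Big) : Bool :=
  B.INV.all validM &&
    all4 fun p => !validM p || !isId (mulM p p) || isId p || B.INV.any fun q => eqM p q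

def Big.okO3 (B : Big) : Bool :=
  B.O3.all validM &&
    all4 fun p => !validM p || !isId (powM p 3) || isId p || B.O3.any fun q => eqM p q

def Big.okBig (B : Big) : Bool :=
  B.INV.all fun p => B.O3.all fun q =>
    !isId (powM (mulM p q) 5) || isId (mulM p q) ||
      (List.range 22).any fun i => B.memH i p && B.memH i q

def Big.okDistinct (B : Big) : Bool :=
  (List.range 22).all fun i => (List.range 22).all fun j =>
    Nat.beq i j || (B.hl i).any fun h => !B.memH j h

def Big.okNonconj (B : Big) : Bool :=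
  all4 fun g => !validM g ||
    (validM (invM g) && isId (mulM g (invM g)) &&
      B.D0.L.any fun h => !memL B.D1 (mulM (mulM g h) (invM g)))

structure Big.Ok (B : Big) : Prop where
  h0 : B.D0.Ok
  h1 : B.D1.Ok
  hG : B.okG = true
  hHL : B.okHL = true
  hINV : B.okINV = true
  hO3 : B.okO3 = true
  hBig : B.okBig = true
  hDistinct : B.okDistinct = true
  hNonconj : B.okNonconj = true

theorem eqM_refl (p : M4) : eqM p p = true := by
  unfold eqM
  rw [(beq4_iff p p).2 rfl]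
  rfl

section

variable {G : Type*} [Group G] {mk : M4 → G}

def Big.Hs (B : Big) (mk : M4 → G) (i : ℕ) : Subgroup G :=
  MulAut.conj (mk (B.g i)) • (B.cls i).sub mk

theorem Big.cls_ok (B : Big) (h : B.Ok) (i : ℕ) : (B.cls i).Ok := by
  unfold Big.cls
  cases Nat.blt i 11
  · exact h.h1
  · exact h.h0

theorem Big.g_facts (hM : Model G mk) (B : Big) (h : B.Ok) (i : ℕ) (hi : i < 22) :
    validM (B.g i) = true ∧ validM (B.gi i) = true ∧ mk (B.gi i) = (mk (B.g i))⁻¹ := by
  have hG := h.hG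
  unfold Big.okG at hG
  rw [List.all_eq_true] at hG
  have h2 := hG i (List.mem_range.2 hi)
  rw [Bool.and_eq_true, Bool.and_eq_true] at h2
  obtain ⟨⟨v1, v2⟩, h3⟩ := h2
  refine ⟨v1, v2, ?_⟩
  apply eq_inv_of_mul_eq_one_right
  rw [← hM.mul _ _ v1 v2]
  exact (hM.eq_one_iff _ (hM.valid_mul _ _ v1 v2)).2 h3

theorem Big.hl_facts (B : Big) (h : B.Ok) (i : ℕ) (hi : i < 22) :
    (B.hl i).length = 60 ∧ (∀ q ∈ B.hl i, validM q = true) ∧
      ∀ k < 60, eqM (B.hel i k) (mulM (mulM (B.g i) ((B.cls i).el k)) (B.gi i)) = true := by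
  have hH := h.hHL
  unfold Big.okHL at hH
  rw [List.all_eq_true] at hH
  have h2 := hH i (List.mem_range.2 hi)
  rw [Bool.and_eq_true, Bool.and_eq_true, List.all_eq_true, List.all_eq_true] at h2
  obtain ⟨⟨a1, a2⟩, a3⟩ := h2
  refine ⟨Nat.eq_of_beq_eq_true a1, a2, ?_⟩
  intro k hk
  exact a3 k (List.mem_range.2 hk)

theorem Big.valid_hel (B : Big) (h : B.Ok) (i : ℕ) (hi : i < 22) (k : ℕ) :
    validM (B.hel i k) = true := by
  unfold Big.hel
  rw [List.getD_eq_getElem?_getD]
  cases hq : (B.hl i)[k]? with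
  | none => exact valid_idM
  | some v => exact (B.hl_facts h i hi).2.1 v (List.mem_of_getElem? hq)

/-- the listed elements of the conjugate subgroup -/
theorem Big.mk_hel (hM : Model G mk) (B : Big) (h : B.Ok) (i : ℕ) (hi : i < 22) (k : ℕ)
    (hk : k < 60) :
    mk (B.hel i k) = mk (B.g i) * mk ((B.cls i).el k) * (mk (B.g i))⁻¹ := by
  obtain ⟨v1, v2, hinv⟩ := B.g_facts hM h i hi
  have ve := (B.cls i).valid_el (B.cls_ok h i) k
  have h3 := (B.hl_facts h i hi).2.2 k hk
  have v3 := hM.valid_mul _ _ v1 ve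
  rw [(hM.eq_iff _ _ (B.valid_hel h i hi k) (hM.valid_mul _ _ v3 v2)).2 h3,
    hM.mul _ _ v3 v2, hM.mul _ _ v1 ve, hinv]

theorem Big.mem_Hs_iff (hM : Model G mk) [Finite G] (B : Big) (h : B.Ok) (i : ℕ) (hi : i < 22)
    (z : G) : z ∈ B.Hs mk i ↔ ∃ k < 60, z = mk (B.hel i k) := by
  unfold Big.Hs
  rw [Subgroup.mem_smul_pointwise_iff_exists]
  constructor
  · rintro ⟨s, hs, rfl⟩
    obtain ⟨k, hk, rfl⟩ := ((B.cls i).level hM (B.cls_ok h i)).1 s hs
    refine ⟨k, hk, ?_⟩
    rw [B.mk_hel hM h i hi k hk]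
    rfl
  · rintro ⟨k, hk, rfl⟩
    refine ⟨mk ((B.cls i).el k), (B.cls i).el_mem hM (B.cls_ok h i) k hk, ?_⟩
    rw [B.mk_hel hM h i hi k hk]
    rfl

theorem Big.mem_Hs_of_memH (hM : Model G mk) [Finite G] (B : Big) (h : B.Ok) (i : ℕ)
    (hi : i < 22) (p : M4) (hp : validM p = true) (hm : B.memH i p = true) :
    mk p ∈ B.Hs mk i := by
  unfold Big.memH at hm
  rw [List.any_eq_true] at hm
  obtain ⟨q, hq, he⟩ := hm
  obtain ⟨k, hk, hqk⟩ := List.getElem_of_mem hq
  rw [(B.hl_facts h i hi).1] at hk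
  rw [B.mem_Hs_iff hM h i hi]
  refine ⟨k, hk, ?_⟩
  have : B.hel i k = q := by
    unfold Big.hel
    rw [List.getD_eq_getElem?_getD, List.getElem?_eq_getElem (by rw [(B.hl_facts h i hi).1]; exact hk)]
    exact hqk
  rw [this]
  exact (hM.eq_iff _ _ hp ((B.hl_facts h i hi).2.1 q hq)).2 he

theorem Big.memH_of_mem_Hs (hM : Model G mk) [Finite G] (B : Big) (h : B.Ok) (i : ℕ)
    (hi : i < 22) (p : M4) (hp : validM p = true) (hm : mk p ∈ B.Hs mk i) :
    B.memH i p = true := by
  rw [B.mem_Hs_iff hM h i hi] at hm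
  obtain ⟨k, hk, he⟩ := hm
  unfold Big.memH
  rw [List.any_eq_true]
  have hlen := (B.hl_facts h i hi).1
  have hmem : B.hel i k ∈ B.hl i := by
    unfold Big.hel
    rw [List.getD_eq_getElem?_getD, List.getElem?_eq_getElem (by rw [hlen]; exact hk)]
    exact List.getElem_mem _
  exact ⟨_, hmem, (hM.eq_iff _ _ hp (B.valid_hel h i hi k)).1 he⟩

theorem Big.Hs_equiv (hM : Model G mk) [Finite G] (B : Big) (h : B.Ok) (i : ℕ) :
    Nonempty (↥(B.Hs mk i) ≃* alternatingGroup (Fin 5)) := by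
  obtain ⟨e⟩ := (B.cls i).equiv hM (B.cls_ok h i)
  exact ⟨(Subgroup.equivSMul (MulAut.conj (mk (B.g i))) ((B.cls i).sub mk)).symm.trans e⟩

end

/-! #### Subgroups isomorphic to the alternating group of degree five -/

theorem exists_235 : ∃ a b : alternatingGroup (Fin 5),
    orderOf a = 2 ∧ orderOf b = 3 ∧ orderOf (a * b) = 5 := by
  have : Fact (Nat.Prime 2) := ⟨by norm_num⟩
  have : Fact (Nat.Prime 3) := ⟨by norm_num⟩
  have : Fact (Nat.Prime 5) := ⟨by norm_num⟩
  refine ⟨⟨Equiv.swap 0 1 * Equiv.swap 2 3, ?_⟩, ⟨Equiv.swap 1 2 * Equiv.swap 2 4, ?_⟩, ?_, ?_, ?_⟩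
  · rw [Equiv.Perm.mem_alternatingGroup]
    decide
  · rw [Equiv.Perm.mem_alternatingGroup]
    decide
  · exact orderOf_eq_prime (by decide) (by decide)
  · exact orderOf_eq_prime (by decide) (by decide)
  · exact orderOf_eq_prime (by decide) (by decide)

theorem iso_facts {G : Type*} [Group G] (L : Subgroup G)
    (e : ↥L ≃* alternatingGroup (Fin 5)) :
    IsSimpleGroup ↥L ∧ Nat.card ↥L = 60 ∧ ∃ x y : G, x ∈ L ∧ y ∈ L ∧ orderOf x = 2 ∧
      orderOf y = 3 ∧ orderOf (x * y) = 5 := by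
  refine ⟨?_, ?_, ?_⟩
  · have : IsSimpleGroup (alternatingGroup (Fin 5)) :=
      alternatingGroup.isSimpleGroup (by rw [Nat.card_eq_fintype_card, Fintype.card_fin])
    exact e.isSimpleGroup
  · rw [Nat.card_congr e.toEquiv, nat_card_alternatingGroup, Nat.card_eq_fintype_card,
      Fintype.card_fin]
    rfl
  · obtain ⟨a, b, ha, hb, hab⟩ := exists_235
    refine ⟨(e.symm a : G), (e.symm b : G), (e.symm a).2, (e.symm b).2, ?_, ?_, ?_⟩
    · rw [Subgroup.orderOf_coe, MulEquiv.orderOf_eq, ha]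
    · rw [Subgroup.orderOf_coe, MulEquiv.orderOf_eq, hb]
    · rw [← Subgroup.coe_mul, ← map_mul, Subgroup.orderOf_coe, MulEquiv.orderOf_eq, hab]

end Cfsg.Agent.Helper26.P11
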