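import Mathlib
import Cfsg.Agent.Lib.Helper26.P11Abs2

set_option autoImplicit false

namespace Cfsg.Agent.Helper26.P11

open scoped Pointwise

section

variable {G : Type*} [Group G] {mk : M4 → G}

theorem A5Data.el_mem_L (D : A5Data) (h : D.Ok) (k : ℕ) (hk : k < 60) : D.el k ∈ D.L := by
  unfold A5Data.el
  have hlen := (D.facts h).2.2.2.2.2.2.2
  rw [List.getD_eq_getElem?_getD, List.getElem?_eq_getElem (by rw [hlen]; exact hk)]
  exact List.getElem_mem _

theorem A5Data.exists_of_mem_L (D : A5Data) (h : D.Ok) (q : M4) (hq : q ∈ D.L) :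
    ∃ k < 60, D.el k = q := by
  obtain ⟨k, hk, hqk⟩ := List.getElem_of_mem hq
  have hlen := (D.facts h).2.2.2.2.2.2.2
  refine ⟨k, by rw [← hlen]; exact hk, ?_⟩
  unfold A5Data.el
  rw [List.getD_eq_getElem?_getD, List.getElem?_eq_getElem hk]
  exact hqk

theorem A5Data.memL_of_mem (hM : Model G mk) [Finite G] (D : A5Data) (h : D.Ok) (p : M4)
    (hp : validM p = true) (hm : mk p ∈ D.sub mk) : memL D p = true := by
  obtain ⟨k, hk, he⟩ := (D.level hM h).1 _ hm
  unfold memL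
  rw [List.any_eq_true]
  exact ⟨_, D.el_mem_L h k hk, (hM.eq_iff _ _ hp (D.valid_el h k)).1 he⟩

/-- an element of order two has a listed name -/
theorem Big.name_inv (hM : Model G mk) (B : Big) (h : B.Ok) (x : G) (hx : orderOf x = 2) :
    ∃ p ∈ B.INV, validM p = true ∧ mk p = x := by
  obtain ⟨p, vp, rfl⟩ := hM.surj x
  have hI := h.hINV
  unfold Big.okINV at hI
  rw [Bool.and_eq_true, List.all_eq_true] at hI
  have h2 := all4_spec _ hI.2 p vp
  have c1 : isId (mulM p p) = true := by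
    rw [← hM.eq_one_iff _ (hM.valid_mul _ _ vp vp), hM.mul _ _ vp vp, ← pow_two, ← hx]
    exact pow_orderOf_eq_one _
  have c2 : isId p = false := by
    cases hc : isId p
    · rfl
    · exfalso
      rw [(hM.eq_one_iff p vp).2 hc, orderOf_one] at hx
      omega
  rw [vp, c1, c2] at h2
  simp only [Bool.not_true, Bool.false_or, List.any_eq_true] at h2
  obtain ⟨q, hq, he⟩ := h2
  exact ⟨q, hq, hI.1 q hq, ((hM.eq_iff _ _ vp (hI.1 q hq)).2 he).symm⟩

/-- an element of order three has a listed name -/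
theorem Big.name_o3 (hM : Model G mk) (B : Big) (h : B.Ok) (x : G) (hx : orderOf x = 3) :
    ∃ p ∈ B.O3, validM p = true ∧ mk p = x := by
  obtain ⟨p, vp, rfl⟩ := hM.surj x
  have hI := h.hO3
  unfold Big.okO3 at hI
  rw [Bool.and_eq_true, List.all_eq_true] at hI
  have h2 := all4_spec _ hI.2 p vp
  have c1 : isId (powM p 3) = true := by
    rw [← hM.eq_one_iff _ (hM.valid_pow _ vp 3), hM.mk_pow _ vp, ← hx]
    exact pow_orderOf_eq_one _
  have c2 : isId p = false := by
    cases hc : isId p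
    · rfl
    · exfalso
      rw [(hM.eq_one_iff p vp).2 hc, orderOf_one] at hx
      omega
  rw [vp, c1, c2] at h2
  simp only [Bool.not_true, Bool.false_or, List.any_eq_true] at h2
  obtain ⟨q, hq, he⟩ := h2
  exact ⟨q, hq, hI.1 q hq, ((hM.eq_iff _ _ vp (hI.1 q hq)).2 he).symm⟩

theorem Big.exists_index (hM : Model G mk) [Finite G] (B : Big) (h : B.Ok) (L : Subgroup G)
    (e : ↥L ≃* alternatingGroup (Fin 5)) : ∃ i < 22, L = B.Hs mk i := by
  obtain ⟨hs, hc, x, y, hxL, hyL, ox, oy, oxy⟩ := iso_facts L e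
  obtain ⟨p, hpI, vp, rfl⟩ := B.name_inv hM h x ox
  obtain ⟨q, hqO, vq, rfl⟩ := B.name_o3 hM h y oy
  have hb := h.hBig
  unfold Big.okBig at hb
  rw [List.all_eq_true] at hb
  have h2 := hb p hpI
  rw [List.all_eq_true] at h2
  have h3 := h2 q hqO
  have vpq := hM.valid_mul _ _ vp vq
  have c1 : isId (powM (mulM p q) 5) = true := by
    rw [← hM.eq_one_iff _ (hM.valid_pow _ vpq 5), hM.mk_pow _ vpq, hM.mul _ _ vp vq, ← oxy]
    exact pow_orderOf_eq_one _
  have c2 : isId (mulM p q) = false := by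
    cases hc : isId (mulM p q)
    · rfl
    · exfalso
      have := (hM.eq_one_iff _ vpq).2 hc
      rw [hM.mul _ _ vp vq] at this
      rw [this, orderOf_one] at oxy
      omega
  rw [c1, c2] at h3
  simp only [Bool.not_true, Bool.false_or, List.any_eq_true, Bool.and_eq_true] at h3
  obtain ⟨i, hi, m1, m2⟩ := h3
  have hi' := List.mem_range.1 hi
  refine ⟨i, hi', ?_⟩
  have hx2 := B.mem_Hs_of_memH hM h i hi' p vp m1
  have hy2 := B.mem_Hs_of_memH hM h i hi' q vq m2
  obtain ⟨e2⟩ := B.Hs_equiv hM h i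
  obtain ⟨hs2, hc2, _⟩ := iso_facts _ e2
  rw [← closure_eq_of_235 L hs hc _ _ hxL hyL ox oy oxy,
    ← closure_eq_of_235 (B.Hs mk i) hs2 hc2 _ _ hx2 hy2 ox oy oxy]

theorem Big.Hs_inj (hM : Model G mk) [Finite G] (B : Big) (h : B.Ok) (i j : ℕ) (hi : i < 22)
    (hj : j < 22) (he : B.Hs mk i = B.Hs mk j) : i = j := by
  by_contra hij
  have hd := h.hDistinct
  unfold Big.okDistinct at hd
  rw [List.all_eq_true] at hd
  have h2 := hd i (List.mem_range.2 hi)
  rw [List.all_eq_true] at h2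
  have h3 := h2 j (List.mem_range.2 hj)
  rw [Bool.or_eq_true] at h3
  rcases h3 with h3 | h3
  · exact hij (Nat.eq_of_beq_eq_true h3)
  · rw [List.any_eq_true] at h3
    obtain ⟨q, hq, hn⟩ := h3
    have vq := (B.hl_facts h i hi).2.1 q hq
    have m1 : B.memH i q = true := by
      unfold Big.memH
      rw [List.any_eq_true]
      exact ⟨q, hq, eqM_refl q⟩
    have m2 := B.mem_Hs_of_memH hM h i hi q vq m1
    rw [he] at m2
    rw [B.memH_of_mem_Hs hM h j hj q vq m2] at hn
    exact Bool.noConfusion hn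

theorem Big.nonconj (hM : Model G mk) [Finite G] (B : Big) (h : B.Ok) (g : G) :
    MulAut.conj g • B.D0.sub mk ≠ B.D1.sub mk := by
  intro he
  obtain ⟨c, vc, rfl⟩ := hM.surj g
  have hn := h.hNonconj
  unfold Big.okNonconj at hn
  have h2 := all4_spec _ hn c vc
  rw [vc] at h2
  simp only [Bool.not_true, Bool.false_or, Bool.and_eq_true, List.any_eq_true,
    Bool.not_eq_true'] at h2
  obtain ⟨⟨vi, hinv⟩, q, hq, hm⟩ := h2
  obtain ⟨k, hk, rfl⟩ := B.D0.exists_of_mem_L h.h0 q hq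
  have vq := B.D0.valid_el h.h0 k
  have hmem : mk (B.D0.el k) ∈ B.D0.sub mk := B.D0.el_mem hM h.h0 k hk
  have hinv' : mk (invM c) = (mk c)⁻¹ := by
    apply eq_inv_of_mul_eq_one_right
    rw [← hM.mul _ _ vc vi]
    exact (hM.eq_one_iff _ (hM.valid_mul _ _ vc vi)).2 hinv
  have v2 := hM.valid_mul _ _ vc vq
  have h3 : mk (mulM (mulM c (B.D0.el k)) (invM c)) ∈ B.D1.sub mk := by
    rw [← he, hM.mul _ _ v2 vi, hM.mul _ _ vc vq, hinv']
    exact Subgroup.smul_mem_pointwise_smul _ (MulAut.conj (mk c)) _ hmem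
  rw [B.D1.memL_of_mem hM h.h1 _ (hM.valid_mul _ _ v2 vi) h3] at hm
  exact Bool.noConfusion hm

theorem Big.main (hM : Model G mk) [Finite G] (B : Big) (h : B.Ok) :
    Nat.card {H : Subgroup G // Nonempty (H ≃* alternatingGroup (Fin 5))} = 22 ∧
    ∃ H K : Subgroup G, Nonempty (H ≃* alternatingGroup (Fin 5)) ∧
      Nonempty (K ≃* alternatingGroup (Fin 5)) ∧ (∀ g : G, MulAut.conj g • H ≠ K) ∧
      ∀ L : Subgroup G, Nonempty (L ≃* alternatingGroup (Fin 5)) →
        ∃ g : G, MulAut.conj g • L = H ∨ MulAut.conj g • L = K := by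
  constructor
  · have hbij : Function.Bijective (fun i : Fin 22 =>
        (⟨B.Hs mk i.1, B.Hs_equiv hM h i.1⟩ :
          {H : Subgroup G // Nonempty (H ≃* alternatingGroup (Fin 5))})) := by
      constructor
      · intro i j hij
        apply Fin.ext
        exact B.Hs_inj hM h i.1 j.1 i.2 j.2 (congrArg Subtype.val hij)
      · rintro ⟨L, ⟨e⟩⟩
        obtain ⟨i, hi, rfl⟩ := B.exists_index hM h L e
        exact ⟨⟨i, hi⟩, rfl⟩
    rw [← Nat.card_eq_of_bijective _ hbij, Nat.card_eq_fintype_card, Fintype.card_fin]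
  · refine ⟨B.D0.sub mk, B.D1.sub mk, B.D0.equiv hM h.h0, B.D1.equiv hM h.h1,
      B.nonconj hM h, ?_⟩
    rintro L ⟨e⟩
    obtain ⟨i, hi, rfl⟩ := B.exists_index hM h L e
    refine ⟨(mk (B.g i))⁻¹, ?_⟩
    have : MulAut.conj (mk (B.g i))⁻¹ • B.Hs mk i = (B.cls i).sub mk := by
      unfold Big.Hs
      rw [map_inv, inv_smul_smul]
    rw [this]
    unfold Big.cls
    cases Nat.blt i 11
    · right
      rfl
    · left
      rfl

end

end Cfsg.Agent.Helper26.P11
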