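import Mathlib
import Cfsg.Agent.Lib.Helper26.P11Abs2

set_option autoImplicit false

namespace Cfsg.Agent.Helper26.P11

def dat0 : A5Data where
  x := (0,1,10,0)
  y := (0,2,5,1)
  L := [(1,0,0,1),(0,1,10,0),(0,2,5,1),(2,0,1,6),(5,1,0,9),(1,9,6,0),(1,6,9,0),(2,1,0,6),(0,4,8,8),(5,0,1,9),(4,0,8,3),(0,5,2,1),(3,3,0,4),(5,5,8,6),(2,7,4,9),(3,8,4,0),(5,6,6,3),(4,2,2,4),(0,3,7,3),(3,5,5,5),(4,9,9,4),(3,4,8,0),(3,0,3,4),(5,8,5,6),(2,4,7,9),(4,8,0,3),(3,6,7,7),(1,1,2,3),(4,3,4,6),(5,3,4,7),(1,10,3,9),(3,7,6,7),(4,4,3,6),(2,3,10,10),(4,6,7,8),(3,10,9,1),(4,7,6,8),(3,9,10,1),(5,4,3,7),(1,3,10,9),(5,10,10,7),(2,2,2,8),(2,10,3,10),(1,5,4,10),(2,9,8,9),(1,2,1,3),(1,4,5,10),(2,8,9,9),(4,5,1,7),(5,2,9,6),(4,10,10,6),(3,2,2,9),(5,7,7,10),(2,6,6,2),(1,7,7,6),(2,5,5,2),(4,1,5,7),(5,9,2,6),(3,1,1,8),(1,8,8,10)]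
  par := [0,0,0,1,2,2,3,3,4,5,6,7,8,8,9,10,10,11,12,13,14,14,15,16,17,17,18,19,20,22,23,24,26,27,27,28,29,30,30,31,32,33,35,36,37,39,40,40,41,42,43,43,44,45,48,49,52,53,54,56]
  sg := [0,0,1,1,0,1,0,1,1,0,1,0,0,1,1,0,1,1,1,0,0,1,1,0,0,1,1,1,1,1,1,1,0,0,1,1,0,0,1,1,1,1,0,1,1,0,0,1,1,1,0,1,1,1,0,0,0,0,1,1]

def dat1 : A5Data where
  x := (0,1,10,0)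
  y := (0,2,5,10)
  L := [(1,0,0,1),(0,1,10,0),(0,2,5,10),(2,0,10,6),(5,10,0,9),(1,2,5,0),(1,5,2,0),(2,10,0,6),(0,4,8,3),(5,0,10,9),(4,0,3,3),(0,5,2,10),(3,8,0,4),(5,6,3,6),(2,4,7,9),(3,3,7,0),(5,5,5,3),(4,9,9,4),(0,3,7,8),(3,6,6,5),(4,2,2,4),(3,7,3,0),(3,0,8,4),(5,3,6,6),(2,7,4,9),(4,3,0,3),(3,5,4,7),(1,10,9,3),(4,8,7,6),(5,8,7,7),(1,1,8,9),(3,4,5,7),(4,7,8,6),(2,8,1,10),(4,5,4,8),(3,1,2,1),(4,4,5,8),(3,2,1,1),(5,7,8,7),(1,8,1,9),(5,1,1,7),(2,9,9,8),(2,1,8,10),(1,6,7,10),(2,2,3,9),(1,9,10,3),(1,7,6,10),(2,3,2,9),(4,6,10,7),(5,9,2,6),(4,1,1,6),(3,9,9,9),(5,4,4,10),(2,5,5,2),(1,4,4,6),(2,6,6,2),(4,10,6,7),(5,2,9,6),(3,10,10,8),(1,3,3,10)]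
  par := [0,0,0,1,2,2,3,3,4,5,6,7,8,8,9,10,10,11,12,13,14,14,15,16,17,17,18,19,20,22,23,24,26,27,27,28,29,30,30,31,32,33,35,36,37,39,40,40,41,42,43,43,44,45,48,49,52,53,54,56]
  sg := [0,0,1,1,0,1,0,1,1,0,1,0,0,1,1,0,1,1,1,0,0,1,1,0,0,1,1,1,1,1,1,1,0,0,1,1,0,0,1,1,1,1,0,1,1,0,0,1,1,1,0,1,1,1,0,0,0,0,1,1]

def bigData : Big where
  D0 := dat0
  D1 := dat1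
  gs := [(1,0,0,1),(0,1,10,1),(0,1,10,2),(0,1,10,3),(0,1,10,4),(0,1,10,5),(0,1,10,6),(0,1,10,7),(0,1,10,8),(0,1,10,9),(0,1,10,10),(1,0,0,1),(0,1,10,1),(0,1,10,2),(0,1,10,3),(0,1,10,4),(0,1,10,5),(0,1,10,6),(0,1,10,7),(0,1,10,8),(0,1,10,9),(0,1,10,10)]
  gis := [(1,0,0,1),(1,10,1,0),(2,10,1,0),(3,10,1,0),(4,10,1,0),(5,10,1,0),(5,1,10,0),(4,1,10,0),(3,1,10,0),(2,1,10,0),(1,1,10,0),(1,0,0,1),(1,10,1,0),(2,10,1,0),(3,10,1,0),(4,10,1,0),(5,10,1,0),(5,1,10,0),(4,1,10,0),(3,1,10,0),(2,1,10,0),(1,1,10,0)]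
  HL := [[(1,0,0,1),(0,1,10,0),(0,2,5,1),(2,0,1,6),(5,1,0,9),(1,9,6,0),(1,6,9,0),(2,1,0,6),(0,4,8,8),(5,0,1,9),(4,0,8,3),(0,5,2,1),(3,3,0,4),(5,5,8,6),(2,7,4,9),(3,8,4,0),(5,6,6,3),(4,2,2,4),(0,3,7,3),(3,5,5,5),(4,9,9,4),(3,4,8,0),(3,0,3,4),(5,8,5,6),(2,4,7,9),(4,8,0,3),(3,6,7,7),(1,1,2,3),(4,3,4,6),(5,3,4,7),(1,10,3,9),(3,7,6,7),(4,4,3,6),(2,3,10,10),(4,6,7,8),(3,10,9,1),(4,7,6,8),(3,9,10,1),(5,4,3,7),(1,3,10,9),(5,10,10,7),(2,2,2,8),(2,10,3,10),(1,5,4,10),(2,9,8,9),(1,2,1,3),(1,4,5,10),(2,8,9,9),(4,5,1,7),(5,2,9,6),(4,10,10,6),(3,2,2,9),(5,7,7,10),(2,6,6,2),(1,7,7,6),(2,5,5,2),(4,1,5,7),(5,9,2,6),(3,1,1,8),(1,8,8,10)],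
    [(1,0,0,1),(1,10,2,10),(5,5,7,5),(4,1,6,10),(2,0,8,6),(5,6,4,5),(2,9,9,8),(5,0,8,9),(5,3,1,3),(1,1,6,7),(0,3,7,7),(3,9,9,9),(4,0,9,3),(3,3,4,8),(2,7,4,9),(4,7,4,10),(2,6,2,1),(5,2,0,9),(1,7,4,7),(1,5,9,2),(2,2,0,6),(3,8,10,5),(4,3,7,0),(0,5,2,0),(5,4,10,6),(3,0,2,4),(3,4,5,7),(5,9,3,10),(1,4,8,0),(0,4,8,10),(1,8,1,9),(2,5,3,8),(2,3,10,10),(2,10,7,8),(4,4,5,8),(1,9,3,6),(3,5,3,9),(0,1,10,4),(1,3,10,9),(3,10,7,9),(5,10,9,5),(1,2,5,0),(2,8,1,10),(3,7,8,8),(5,8,5,6),(4,10,1,0),(4,6,10,7),(4,9,3,7),(3,1,1,8),(4,2,8,7),(5,1,2,5),(0,2,5,10),(5,7,6,2),(3,6,0,4),(2,4,5,5),(4,5,0,3),(1,6,7,10),(3,2,6,8),(2,1,6,9),(4,8,2,7)],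
    [(1,0,0,1),(2,10,5,9),(0,5,2,10),(3,1,10,0),(2,0,4,6),(1,5,2,0),(4,9,5,6),(5,0,4,9),(2,3,0,6),(0,1,10,8),(3,8,3,1),(5,9,5,7),(4,0,10,3),(0,3,7,0),(5,4,10,6),(3,4,9,5),(4,5,3,4),(3,2,5,0),(5,7,2,3),(4,6,8,4),(0,2,5,8),(5,3,0,9),(1,3,8,3),(5,6,3,6),(1,4,5,10),(3,0,1,4),(1,7,3,0),(4,2,0,3),(3,7,6,7),(4,7,6,8),(4,8,7,6),(3,6,8,9),(1,8,1,9),(3,10,2,7),(0,4,8,1),(3,9,0,4),(2,6,8,8),(1,10,6,6),(2,8,1,10),(4,10,2,8),(5,1,1,7),(1,9,7,9),(5,8,7,7),(4,4,4,7),(3,3,4,8),(5,10,6,10),(2,5,10,9),(5,2,9,6),(2,1,6,9),(2,2,3,9),(4,1,1,6),(2,9,7,10),(2,4,9,2),(3,5,7,1),(2,7,2,2),(1,6,4,3),(5,5,8,6),(1,2,10,10),(1,1,9,10),(4,3,9,7)],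
    [(1,0,0,1),(3,10,10,8),(5,6,2,7),(2,1,1,1),(2,0,0,6),(4,6,2,6),(5,2,6,7),(5,0,0,9),(1,8,7,2),(1,10,10,2),(5,3,3,2),(4,2,6,6),(4,0,0,3),(3,8,7,8),(1,4,5,10),(1,7,8,2),(1,6,2,2),(1,2,6,2),(2,4,3,1),(2,5,9,1),(2,9,5,1),(2,3,4,1),(2,8,8,5),(1,5,4,10),(3,7,8,8),(3,0,0,4),(5,7,8,7),(2,2,10,5),(4,4,5,8),(3,4,5,7),(4,3,3,8),(3,5,4,7),(4,8,7,6),(4,10,10,6),(4,7,8,6),(5,9,1,2),(4,5,4,8),(2,10,2,5),(5,8,7,7),(5,10,10,7),(4,1,9,8),(3,9,1,7),(3,3,3,7),(0,4,8,0),(0,3,7,0),(5,1,9,2),(3,6,2,8),(3,2,6,8),(1,1,9,10),(0,2,5,0),(3,1,9,7),(4,9,1,8),(2,7,6,5),(2,6,7,5),(5,4,5,2),(5,5,4,2),(0,5,2,0),(1,9,1,10),(0,1,10,0),(1,3,3,10)],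
    [(1,0,0,1),(4,10,6,7),(1,5,6,9),(1,1,1,2),(2,0,7,6),(2,5,6,10),(3,2,2,9),(5,0,7,9),(4,8,9,10),(2,10,10,1),(2,3,3,5),(2,2,2,8),(4,0,1,3),(5,3,6,6),(3,7,8,8),(5,7,0,9),(5,5,5,3),(1,9,8,7),(2,7,0,6),(3,6,6,5),(4,9,8,10),(1,8,9,7),(5,8,8,2),(4,6,10,7),(4,4,4,7),(3,0,10,4),(2,4,1,8),(0,2,5,7),(0,4,8,1),(1,7,3,0),(1,3,7,0),(2,6,5,10),(4,3,3,8),(5,10,9,5),(3,4,1,9),(4,2,5,0),(1,6,5,9),(3,10,0,4),(3,3,3,7),(5,1,2,5),(3,1,4,9),(5,9,10,5),(0,3,7,10),(4,7,7,7),(3,8,7,8),(4,1,0,3),(3,5,9,8),(1,2,10,10),(0,1,10,0),(2,9,8,9),(2,1,4,8),(5,2,1,5),(5,4,4,10),(4,5,2,0),(1,4,4,6),(0,5,2,7),(5,6,3,6),(3,9,5,8),(1,10,2,10),(2,8,9,9)],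
    [(1,0,0,1),(5,10,4,6),(4,6,7,8),(0,1,10,3),(2,0,3,6),(3,6,7,7),(1,2,5,0),(5,0,3,9),(4,3,5,4),(3,10,1,0),(1,8,3,3),(0,2,5,10),(4,0,2,3),(2,3,2,9),(4,4,4,7),(2,4,0,6),(0,5,2,8),(3,9,4,5),(5,4,0,9),(3,5,2,0),(5,2,7,3),(4,8,6,4),(3,3,8,1),(2,5,10,9),(0,4,8,0),(3,0,9,4),(2,7,9,10),(2,9,4,2),(4,7,8,6),(5,7,8,7),(2,8,6,8),(4,5,9,6),(1,3,7,0),(5,1,1,7),(1,7,9,9),(2,2,7,2),(5,5,9,7),(4,10,0,3),(0,3,7,10),(4,1,1,6),(2,1,8,10),(4,2,10,8),(3,8,6,9),(3,4,3,8),(5,3,6,6),(3,1,0,4),(2,6,1,9),(1,9,1,10),(1,10,2,10),(4,9,3,7),(1,1,8,9),(3,2,10,7),(1,4,6,3),(1,6,10,6),(3,7,5,1),(5,6,10,10),(1,5,4,10),(5,9,2,6),(2,10,5,9),(5,8,5,6)],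
    [(1,0,0,1),(5,1,7,6),(2,5,3,8),(1,10,5,7),(2,0,10,6),(3,5,3,9),(1,9,7,9),(5,0,10,9),(1,3,2,7),(4,10,5,10),(4,8,4,0),(2,9,7,10),(4,0,3,3),(1,8,8,10),(0,4,8,0),(2,7,8,1),(5,6,0,9),(5,9,4,3),(1,4,3,2),(2,6,0,6),(3,2,7,5),(4,3,2,10),(0,3,7,4),(3,6,2,8),(4,7,7,7),(3,0,8,4),(5,4,6,5),(4,9,6,0),(3,4,1,9),(2,4,1,8),(5,8,3,5),(1,6,9,0),(2,8,6,8),(4,1,9,8),(5,7,5,5),(0,2,5,4),(0,5,2,1),(5,10,2,2),(3,8,6,9),(3,1,9,7),(1,1,10,0),(2,2,4,10),(5,3,8,5),(1,7,6,10),(2,3,2,9),(2,1,9,5),(4,5,1,7),(3,9,5,8),(2,10,5,9),(5,2,9,6),(0,1,10,10),(1,2,4,9),(3,7,0,4),(5,5,1,10),(4,4,0,3),(1,5,1,6),(4,6,10,7),(4,2,8,7),(3,10,10,8),(3,3,4,8)],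
    [(1,0,0,1),(4,1,5,7),(3,6,8,9),(2,10,0,6),(2,0,6,6),(2,6,8,8),(3,9,1,7),(5,0,6,9),(2,8,7,1),(5,10,0,9),(4,3,0,3),(4,9,1,8),(4,0,4,3),(4,8,2,7),(4,7,7,7),(5,4,9,3),(1,5,10,7),(4,2,3,10),(3,7,2,5),(4,5,10,10),(1,2,3,7),(1,3,4,2),(3,8,0,4),(3,5,9,8),(3,4,3,8),(3,0,7,4),(1,4,2,9),(5,2,10,2),(1,7,9,9),(2,7,9,10),(3,3,5,9),(5,5,7,5),(5,8,3,5),(3,1,4,9),(2,4,2,10),(2,9,1,5),(5,6,4,5),(5,1,5,10),(5,3,8,5),(2,1,4,8),(0,1,10,1),(0,2,5,1),(2,3,5,8),(5,7,1,6),(1,8,8,10),(1,1,5,6),(1,6,7,10),(5,9,2,6),(3,10,10,8),(3,2,6,8),(1,10,1,0),(1,9,6,0),(4,4,8,0),(0,5,2,4),(0,4,8,7),(4,6,9,0),(2,5,10,9),(2,2,3,9),(4,10,6,7),(0,3,7,0)],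
    [(1,0,0,1),(3,1,1,8),(3,5,4,7),(3,10,8,5),(2,0,2,6),(4,5,4,8),(5,9,10,5),(5,0,2,9),(5,8,0,9),(5,1,3,3),(1,3,9,6),(5,2,1,5),(4,0,5,3),(4,3,9,7),(3,4,3,8),(1,4,7,7),(4,6,1,10),(2,2,6,1),(4,4,7,10),(1,6,1,7),(1,9,5,2),(2,8,0,6),(5,3,9,10),(2,6,1,9),(1,7,6,10),(3,0,6,4),(3,7,10,9),(3,2,0,4),(5,7,5,5),(5,4,6,5),(0,3,7,1),(0,5,2,10),(3,3,5,9),(2,1,8,10),(2,7,10,8),(4,9,0,3),(1,5,2,0),(4,1,10,0),(2,3,5,8),(1,1,8,9),(1,10,3,9),(2,9,9,8),(1,8,4,0),(2,4,7,9),(4,8,2,7),(0,1,10,7),(5,5,8,6),(4,2,8,7),(4,10,6,7),(1,2,10,10),(2,10,3,10),(3,9,9,9),(0,4,8,4),(5,6,7,2),(4,7,3,0),(2,5,4,5),(3,6,2,8),(0,2,5,0),(5,10,4,6),(3,8,7,8)],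
    [(1,0,0,1),(2,1,6,9),(2,6,5,10),(4,10,7,4),(2,0,9,6),(1,6,5,9),(4,2,10,8),(5,0,9,9),(3,3,1,5),(4,1,4,4),(2,8,10,2),(3,2,10,7),(4,0,6,3),(1,3,3,10),(1,7,6,10),(3,7,3,0),(2,5,0,6),(0,2,5,3),(0,4,8,3),(5,5,0,9),(3,9,6,0),(5,8,10,3),(2,3,1,2),(4,5,1,7),(5,7,1,6),(3,0,5,4),(4,4,3,6),(1,2,8,6),(2,4,2,10),(1,4,2,9),(3,8,8,7),(5,6,2,7),(0,3,7,1),(1,1,10,0),(5,4,3,7),(5,2,8,10),(4,6,2,6),(3,1,2,1),(1,8,4,0),(0,1,10,10),(2,10,7,8),(4,9,5,6),(4,8,8,8),(2,7,4,9),(4,3,9,7),(1,10,9,3),(0,5,2,0),(2,2,3,9),(5,10,4,6),(1,9,1,10),(3,10,7,9),(5,9,5,7),(4,7,0,3),(1,5,7,3),(3,4,0,4),(3,6,4,1),(3,5,9,8),(2,9,8,9),(5,1,7,6),(5,3,6,6)],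
    [(1,0,0,1),(1,1,9,10),(4,5,9,6),(5,10,8,3),(2,0,5,6),(5,5,9,7),(2,2,4,10),(5,0,5,9),(0,3,7,8),(3,1,3,5),(5,8,2,10),(1,2,4,9),(4,0,7,3),(2,8,9,9),(5,7,1,6),(4,4,1,4),(3,6,9,0),(2,9,0,6),(4,7,10,4),(0,5,2,3),(5,9,0,9),(3,3,7,0),(1,8,2,6),(1,6,7,10),(2,4,7,9),(3,0,4,4),(0,4,8,10),(1,9,10,3),(2,7,10,8),(3,7,10,9),(5,3,4,7),(1,5,6,9),(3,8,8,7),(0,1,10,1),(1,4,8,0),(3,2,1,1),(2,5,6,10),(2,1,3,2),(4,8,8,8),(1,10,1,0),(3,10,2,7),(5,2,6,7),(4,3,4,6),(5,4,10,6),(1,3,3,10),(2,10,8,2),(5,6,3,6),(0,2,5,0),(5,1,7,6),(3,9,5,8),(4,10,2,8),(4,2,6,6),(3,4,6,1),(4,6,0,3),(1,7,5,3),(3,5,0,4),(2,6,1,9),(4,9,3,7),(4,1,5,7),(2,3,2,9)],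
    [(1,0,0,1),(0,1,10,0),(0,2,5,10),(2,0,10,6),(5,10,0,9),(1,2,5,0),(1,5,2,0),(2,10,0,6),(0,4,8,3),(5,0,10,9),(4,0,3,3),(0,5,2,10),(3,8,0,4),(5,6,3,6),(2,4,7,9),(3,3,7,0),(5,5,5,3),(4,9,9,4),(0,3,7,8),(3,6,6,5),(4,2,2,4),(3,7,3,0),(3,0,8,4),(5,3,6,6),(2,7,4,9),(4,3,0,3),(3,5,4,7),(1,10,9,3),(4,8,7,6),(5,8,7,7),(1,1,8,9),(3,4,5,7),(4,7,8,6),(2,8,1,10),(4,5,4,8),(3,1,2,1),(4,4,5,8),(3,2,1,1),(5,7,8,7),(1,8,1,9),(5,1,1,7),(2,9,9,8),(2,1,8,10),(1,6,7,10),(2,2,3,9),(1,9,10,3),(1,7,6,10),(2,3,2,9),(4,6,10,7),(5,9,2,6),(4,1,1,6),(3,9,9,9),(5,4,4,10),(2,5,5,2),(1,4,4,6),(2,6,6,2),(4,10,6,7),(5,2,9,6),(3,10,10,8),(1,3,3,10)],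
    [(1,0,0,1),(1,10,2,10),(4,6,2,6),(5,1,3,3),(2,0,6,6),(5,6,2,7),(2,9,7,10),(5,0,6,9),(0,3,7,3),(3,10,8,5),(5,3,9,10),(1,9,7,9),(4,0,4,3),(2,3,2,9),(5,4,10,6),(4,7,10,4),(3,5,2,0),(2,2,0,6),(4,4,1,4),(0,5,2,8),(5,2,0,9),(3,8,4,0),(1,3,9,6),(1,5,4,10),(2,7,4,9),(3,0,7,4),(0,4,8,1),(1,2,1,3),(2,4,1,8),(3,4,1,9),(5,8,7,7),(1,6,5,9),(3,3,3,7),(0,1,10,10),(1,7,3,0),(3,9,10,1),(2,6,5,10),(2,10,8,2),(4,3,3,8),(1,1,10,0),(3,1,9,7),(5,9,5,7),(4,8,7,6),(5,7,1,6),(1,8,8,10),(2,1,3,2),(5,5,8,6),(0,2,5,0),(5,10,4,6),(3,2,6,8),(4,1,9,8),(4,9,5,6),(3,7,5,1),(4,5,0,3),(1,4,6,3),(3,6,0,4),(2,5,10,9),(4,2,8,7),(4,10,6,7),(2,8,9,9)],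
    [(1,0,0,1),(2,10,5,9),(2,5,6,10),(4,1,4,4),(2,0,2,6),(1,5,6,9),(4,9,1,8),(5,0,2,9),(3,8,10,5),(4,10,7,4),(2,3,1,2),(3,9,1,7),(4,0,5,3),(1,8,8,10),(1,4,5,10),(3,4,8,0),(2,6,0,6),(0,2,5,8),(0,4,8,8),(5,6,0,9),(3,2,5,0),(5,3,1,3),(2,8,10,2),(4,6,10,7),(5,4,10,6),(3,0,6,4),(4,7,8,6),(1,9,3,6),(2,7,9,10),(1,7,9,9),(3,3,3,7),(5,5,9,7),(0,3,7,10),(1,10,1,0),(5,7,8,7),(5,9,3,10),(4,5,9,6),(3,10,9,1),(1,3,7,0),(0,1,10,1),(2,1,4,8),(4,2,6,6),(4,3,3,8),(2,4,7,9),(4,8,2,7),(1,1,2,3),(0,5,2,0),(2,9,8,9),(5,1,7,6),(1,2,10,10),(3,1,4,9),(5,2,6,7),(4,4,0,3),(1,6,4,3),(3,7,0,4),(3,5,7,1),(3,6,2,8),(2,2,3,9),(5,10,4,6),(5,8,5,6)],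
    [(1,0,0,1),(3,10,10,8),(3,6,7,7),(3,1,3,5),(2,0,9,6),(4,6,7,8),(5,2,1,5),(5,0,9,9),(5,3,0,9),(5,10,8,3),(1,8,2,6),(5,9,10,5),(4,0,6,3),(4,8,2,7),(3,7,8,8),(1,7,4,7),(4,5,10,10),(2,9,5,1),(4,7,4,10),(1,5,10,7),(1,2,6,2),(2,3,0,6),(5,8,2,10),(2,5,10,9),(1,4,5,10),(3,0,5,4),(3,4,1,9),(3,9,0,4),(5,4,6,5),(5,7,5,5),(0,3,7,10),(0,5,2,1),(3,8,6,9),(2,10,3,10),(2,4,1,8),(4,2,0,3),(1,6,9,0),(4,10,1,0),(2,8,6,8),(1,10,3,9),(1,1,8,9),(2,2,2,8),(1,3,7,0),(2,7,4,9),(4,3,9,7),(0,1,10,4),(5,6,3,6),(4,9,3,7),(4,1,5,7),(1,9,1,10),(2,1,8,10),(3,2,2,9),(0,4,8,7),(5,5,4,2),(4,4,8,0),(2,6,7,5),(3,5,9,8),(0,2,5,0),(5,1,7,6),(3,3,4,8)],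
    [(1,0,0,1),(4,10,6,7),(3,5,3,9),(2,1,0,6),(2,0,5,6),(2,5,3,8),(3,2,10,7),(5,0,5,9),(2,3,4,1),(5,1,0,9),(4,8,0,3),(4,2,10,8),(4,0,7,3),(4,3,9,7),(4,4,4,7),(5,7,2,3),(1,6,1,7),(4,9,8,10),(3,4,9,5),(4,6,1,10),(1,9,8,7),(1,8,7,2),(3,3,0,4),(3,6,2,8),(3,7,8,8),(3,0,4,4),(1,7,9,9),(5,9,1,2),(1,4,2,9),(2,4,2,10),(3,8,6,9),(5,6,4,5),(5,3,8,5),(3,10,7,9),(2,7,9,10),(2,2,10,5),(5,5,7,5),(5,10,6,10),(5,8,3,5),(2,10,7,8),(0,1,10,10),(0,2,5,10),(2,8,6,8),(5,4,10,6),(1,3,3,10),(1,10,6,6),(1,5,4,10),(5,2,9,6),(3,1,1,8),(3,9,5,8),(1,1,10,0),(1,2,5,0),(4,7,3,0),(0,5,2,7),(0,4,8,4),(4,5,2,0),(2,6,1,9),(2,9,8,9),(4,1,5,7),(0,3,7,0)],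
    [(1,0,0,1),(5,10,4,6),(2,6,8,8),(1,1,6,7),(2,0,1,6),(3,6,8,9),(1,2,4,9),(5,0,1,9),(1,8,9,7),(4,1,6,10),(4,3,7,0),(2,2,4,10),(4,0,8,3),(1,3,3,10),(0,4,8,0),(2,4,3,1),(5,5,0,9),(5,2,7,3),(1,7,8,2),(2,5,0,6),(3,9,4,5),(4,8,9,10),(0,3,7,7),(3,5,9,8),(4,4,4,7),(3,0,3,4),(5,7,5,5),(4,2,5,0),(3,7,10,9),(2,7,10,8),(5,3,8,5),(1,5,2,0),(2,3,5,8),(4,10,2,8),(5,4,6,5),(0,2,5,7),(0,5,2,10),(5,1,9,2),(3,3,5,9),(3,10,2,7),(1,10,1,0),(2,9,7,10),(5,8,3,5),(1,4,5,10),(2,8,9,9),(2,10,2,5),(4,6,10,7),(3,2,6,8),(2,1,6,9),(5,9,2,6),(0,1,10,1),(1,9,7,9),(3,4,0,4),(5,6,10,10),(4,7,0,3),(1,6,10,6),(4,5,1,7),(4,9,3,7),(3,1,1,8),(3,8,7,8)],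
    [(1,0,0,1),(5,1,7,6),(4,5,4,8),(0,1,10,8),(2,0,8,6),(3,5,4,7),(1,9,6,0),(5,0,8,9),(4,8,6,4),(3,1,10,0),(1,3,8,3),(0,2,5,1),(4,0,9,3),(2,8,9,9),(4,7,7,7),(2,7,0,6),(0,5,2,3),(3,2,7,5),(5,7,0,9),(3,6,9,0),(5,9,4,3),(4,3,5,4),(3,8,3,1),(2,6,1,9),(0,4,8,0),(3,0,2,4),(2,4,2,10),(2,2,7,2),(4,4,3,6),(5,4,3,7),(2,3,5,8),(4,6,2,6),(1,8,4,0),(5,10,10,7),(1,4,2,9),(2,9,4,2),(5,6,2,7),(4,1,0,3),(0,3,7,1),(4,10,10,6),(2,10,3,10),(4,9,1,8),(3,3,5,9),(3,7,8,8),(5,8,5,6),(3,10,0,4),(2,5,10,9),(1,2,10,10),(1,1,9,10),(4,2,8,7),(1,10,3,9),(3,9,1,7),(1,7,5,3),(1,5,1,6),(3,4,6,1),(5,5,1,10),(1,6,7,10),(5,2,9,6),(2,1,6,9),(5,3,6,6)],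
    [(1,0,0,1),(4,1,5,7),(1,6,5,9),(1,10,10,2),(2,0,4,6),(2,6,5,10),(3,9,9,9),(5,0,4,9),(4,3,2,10),(2,1,1,1),(2,8,8,5),(2,9,9,8),(4,0,10,3),(5,8,5,6),(3,4,3,8),(5,4,0,9),(5,6,6,3),(1,2,3,7),(2,4,0,6),(3,5,5,5),(4,2,3,10),(1,3,2,7),(5,3,3,2),(4,5,1,7),(4,7,7,7),(3,0,1,4),(2,7,10,8),(0,2,5,4),(0,4,8,10),(1,4,8,0),(1,8,4,0),(2,5,6,10),(4,8,8,8),(5,1,2,5),(3,7,10,9),(4,9,6,0),(1,5,6,9),(3,1,0,4),(3,8,8,7),(5,10,9,5),(3,10,7,9),(5,2,1,5),(0,3,7,1),(4,4,4,7),(3,3,4,8),(4,10,0,3),(3,6,2,8),(1,9,1,10),(0,1,10,0),(2,2,3,9),(2,10,7,8),(5,9,10,5),(5,7,7,10),(4,6,9,0),(1,7,7,6),(0,5,2,4),(5,5,8,6),(3,2,6,8),(1,1,9,10),(2,3,2,9)],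
    [(1,0,0,1),(3,1,1,8),(5,5,9,7),(2,10,10,1),(2,0,0,6),(4,5,9,6),(5,9,5,7),(5,0,0,9),(1,3,4,2),(1,1,1,2),(5,8,8,2),(4,9,5,6),(4,0,0,3),(3,3,4,8),(1,7,6,10),(1,4,3,2),(1,5,9,2),(1,9,5,2),(2,7,8,1),(2,6,2,1),(2,2,6,1),(2,8,7,1),(2,3,3,5),(1,6,7,10),(3,4,3,8),(3,0,0,4),(5,4,3,7),(2,9,1,5),(4,7,6,8),(3,7,6,7),(4,8,8,8),(3,6,7,7),(4,3,4,6),(4,1,1,6),(4,4,3,6),(5,2,10,2),(4,6,7,8),(2,1,9,5),(5,3,4,7),(5,1,1,7),(4,10,2,8),(3,2,10,7),(3,8,8,7),(0,4,8,0),(0,3,7,0),(5,10,2,2),(3,5,9,8),(3,9,5,8),(1,10,2,10),(0,2,5,0),(3,10,2,7),(4,2,10,8),(2,4,5,5),(2,5,4,5),(5,7,6,2),(5,6,7,2),(0,5,2,0),(1,2,10,10),(0,1,10,0),(1,8,8,10)],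
    [(1,0,0,1),(2,1,6,9),(0,5,2,1),(3,10,1,0),(2,0,7,6),(1,6,9,0),(4,2,6,6),(5,0,7,9),(2,8,0,6),(0,1,10,3),(3,3,8,1),(5,2,6,7),(4,0,1,3),(0,3,7,0),(5,7,1,6),(3,7,2,5),(4,6,8,4),(3,9,6,0),(5,4,9,3),(4,5,3,4),(0,2,5,3),(5,8,0,9),(1,8,3,3),(5,5,8,6),(1,7,6,10),(3,0,10,4),(1,4,8,0),(4,9,0,3),(3,4,5,7),(4,4,5,8),(4,3,4,6),(3,5,3,9),(1,3,10,9),(3,1,9,7),(0,4,8,10),(3,2,0,4),(2,5,3,8),(1,1,5,6),(2,3,10,10),(4,1,9,8),(5,10,10,7),(1,2,4,9),(5,3,4,7),(4,7,7,7),(3,8,7,8),(5,1,5,10),(2,6,1,9),(5,9,2,6),(2,10,5,9),(2,9,8,9),(4,10,10,6),(2,2,4,10),(2,7,2,2),(3,6,4,1),(2,4,9,2),(1,5,7,3),(5,6,3,6),(1,9,1,10),(1,10,2,10),(4,8,2,7)],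
    [(1,0,0,1),(1,1,9,10),(5,6,4,5),(4,10,5,10),(2,0,3,6),(5,5,7,5),(2,2,2,8),(5,0,3,9),(5,8,10,3),(1,10,5,7),(0,3,7,4),(3,2,2,9),(4,0,2,3),(3,8,7,8),(2,4,7,9),(4,4,7,10),(2,5,9,1),(5,9,0,9),(1,4,7,7),(1,6,2,2),(2,9,0,6),(3,3,1,5),(4,8,4,0),(0,5,2,0),(5,7,1,6),(3,0,9,4),(3,7,6,7),(5,2,8,10),(1,7,3,0),(0,4,8,1),(1,3,10,9),(2,6,8,8),(2,8,1,10),(2,1,4,8),(4,7,6,8),(1,2,8,6),(3,6,8,9),(0,1,10,7),(1,8,1,9),(3,1,4,9),(5,1,2,5),(1,9,6,0),(2,3,10,10),(3,4,3,8),(5,3,6,6),(4,1,10,0),(4,5,1,7),(4,2,8,7),(3,10,10,8),(4,9,3,7),(5,10,9,5),(0,2,5,1),(5,4,5,2),(3,5,0,4),(2,7,6,5),(4,6,0,3),(1,5,4,10),(3,9,5,8),(2,10,5,9),(4,3,9,7)]]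
  INV := [(0,1,10,0),(0,2,5,0),(0,3,7,0),(0,4,8,0),(0,5,2,0),(1,1,9,10),(1,2,10,10),(1,3,3,10),(1,4,5,10),(1,5,4,10),(1,6,7,10),(1,7,6,10),(1,8,8,10),(1,9,1,10),(1,10,2,10),(2,1,6,9),(2,2,3,9),(2,3,2,9),(2,4,7,9),(2,5,10,9),(2,6,1,9),(2,7,4,9),(2,8,9,9),(2,9,8,9),(2,10,5,9),(3,1,1,8),(3,2,6,8),(3,3,4,8),(3,4,3,8),(3,5,9,8),(3,6,2,8),(3,7,8,8),(3,8,7,8),(3,9,5,8),(3,10,10,8),(4,1,5,7),(4,2,8,7),(4,3,9,7),(4,4,4,7),(4,5,1,7),(4,6,10,7),(4,7,7,7),(4,8,2,7),(4,9,3,7),(4,10,6,7),(5,1,7,6),(5,2,9,6),(5,3,6,6),(5,4,10,6),(5,5,8,6),(5,6,3,6),(5,7,1,6),(5,8,5,6),(5,9,2,6),(5,10,4,6)]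
  O3 := [(0,1,10,1),(0,1,10,10),(0,2,5,1),(0,2,5,10),(0,3,7,1),(0,3,7,10),(0,4,8,1),(0,4,8,10),(0,5,2,1),(0,5,2,10),(1,1,8,9),(1,1,10,0),(1,2,4,9),(1,2,5,0),(1,3,7,0),(1,3,10,9),(1,4,2,9),(1,4,8,0),(1,5,2,0),(1,5,6,9),(1,6,5,9),(1,6,9,0),(1,7,3,0),(1,7,9,9),(1,8,1,9),(1,8,4,0),(1,9,6,0),(1,9,7,9),(1,10,1,0),(1,10,3,9),(2,1,4,8),(2,1,8,10),(2,2,2,8),(2,2,4,10),(2,3,5,8),(2,3,10,10),(2,4,1,8),(2,4,2,10),(2,5,3,8),(2,5,6,10),(2,6,5,10),(2,6,8,8),(2,7,9,10),(2,7,10,8),(2,8,1,10),(2,8,6,8),(2,9,7,10),(2,9,9,8),(2,10,3,10),(2,10,7,8),(3,1,4,9),(3,1,9,7),(3,2,2,9),(3,2,10,7),(3,3,3,7),(3,3,5,9),(3,4,1,9),(3,4,5,7),(3,5,3,9),(3,5,4,7),(3,6,7,7),(3,6,8,9),(3,7,6,7),(3,7,10,9),(3,8,6,9),(3,8,8,7),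(3,9,1,7),(3,9,9,9),(3,10,2,7),(3,10,7,9),(4,1,1,6),(4,1,9,8),(4,2,6,6),(4,2,10,8),(4,3,3,8),(4,3,4,6),(4,4,3,6),(4,4,5,8),(4,5,4,8),(4,5,9,6),(4,6,2,6),(4,6,7,8),(4,7,6,8),(4,7,8,6),(4,8,7,6),(4,8,8,8),(4,9,1,8),(4,9,5,6),(4,10,2,8),(4,10,10,6),(5,1,1,7),(5,1,2,5),(5,2,1,5),(5,2,6,7),(5,3,4,7),(5,3,8,5),(5,4,3,7),(5,4,6,5),(5,5,7,5),(5,5,9,7),(5,6,2,7),(5,6,4,5),(5,7,5,5),(5,7,8,7),(5,8,3,5),(5,8,7,7),(5,9,5,7),(5,9,10,5),(5,10,9,5),(5,10,10,7)]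

end Cfsg.Agent.Helper26.P11
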