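import Mathlib
import Cfsg.Agent.Lib.Helper26.P11Data

set_option autoImplicit false

namespace Cfsg.Agent.Helper26.P11

set_option maxRecDepth 100000 in
theorem dat0_ok : dat0.Ok where
  h1 := by decide +kernel
  hTree := by decide +kernel
  hInj := by decide +kernel
  hStep := by decide +kernel
  hCent := by decide +kernel

set_option maxRecDepth 100000 in
theorem dat1_ok : dat1.Ok where
  h1 := by decide +kernel
  hTree := by decide +kernel
  hInj := by decide +kernel
  hStep := by decide +kernel
  hCent := by decide +kernel

set_option maxRecDepth 100000 in
theorem big_okG : bigData.okG = true := by decide +kernel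

set_option maxRecDepth 100000 in
theorem big_okHL : bigData.okHL = true := by decide +kernel

set_option maxRecDepth 100000 in
theorem big_okINV : bigData.okINV = true := by decide +kernel

set_option maxRecDepth 100000 in
theorem big_okO3 : bigData.okO3 = true := by decide +kernel

set_option maxRecDepth 100000 in
theorem big_okDistinct : bigData.okDistinct = true := by decide +kernel

set_option maxRecDepth 100000 in
theorem big_okNonconj : bigData.okNonconj = true := by decide +kernel

set_option maxRecDepth 100000 in
theorem big_okBig : bigData.okBig = true := by decide +kernel

theorem big_ok : bigData.Ok where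
  h0 := dat0_ok
  h1 := dat1_ok
  hG := big_okG
  hHL := big_okHL
  hINV := big_okINV
  hO3 := big_okO3
  hBig := big_okBig
  hDistinct := big_okDistinct
  hNonconj := big_okNonconj

end Cfsg.Agent.Helper26.P11
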