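import Mathlib
import Cfsg.Agent.Lib.Helper26.P11Defs
import Cfsg.Agent.Lib.Helper2.PSLMapEquiv

set_option autoImplicit false

namespace Cfsg.Agent.Helper26.P11

open Matrix

/-! ### The projective special linear group of degree two over the field with 11 elements -/

instance fact11 : Fact (Nat.Prime 11) := ⟨by norm_num⟩

/-- the matrix of a name -/
def matM (p : M4) : Matrix (Fin 2) (Fin 2) (ZMod 11) :=
  !![(p.1 : ZMod 11), (p.2.1 : ZMod 11); (p.2.2.1 : ZMod 11), (p.2.2.2 : ZMod 11)]

theorem cast_inj11 (a b : ℕ) (ha : a < 11) (hb : b < 11) (h : (a : ZMod 11) = (b : ZMod 11)) :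
    a = b := by
  have h1 := (ZMod.natCast_eq_natCast_iff' a b 11).1 h
  omega

theorem cast_neg11 (a b : ℕ) (ha : a < 11) (hb : b < 11) (h : (a : ZMod 11) = -(b : ZMod 11)) :
    a = (11 - b) % 11 := by
  apply cast_inj11 a _ ha (Nat.mod_lt _ (by norm_num))
  rw [h, ZMod.natCast_mod, Nat.cast_sub hb.le]
  have : ((11 : ℕ) : ZMod 11) = 0 := by decide
  rw [this, zero_sub]

theorem cast_121 : ((121 : ℕ) : ZMod 11) = 0 := by decide

theorem det_cast (p : M4) (hle : p.2.1 * p.2.2.1 ≤ p.1 * p.2.2.2 + 121) :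
    ((p.1 * p.2.2.2 + 121 - p.2.1 * p.2.2.1 : ℕ) : ZMod 11) = (matM p).det := by
  rw [matM, Matrix.det_fin_two_of, Nat.cast_sub hle]
  push_cast
  have : ((121 : ℕ) : ZMod 11) = 0 := cast_121
  have h2 : (121 : ZMod 11) = 0 := by exact_mod_cast this
  rw [h2, add_zero]

theorem le_of_lt11 (p : M4) (h2 : p.2.1 < 11) (h3 : p.2.2.1 < 11) :
    p.2.1 * p.2.2.1 ≤ p.1 * p.2.2.2 + 121 := by
  have : p.2.1 * p.2.2.1 ≤ 10 * 10 := Nat.mul_le_mul (by omega) (by omega)
  omega

theorem det_matM (p : M4) (hp : validM p = true) : (matM p).det = 1 := by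
  rw [validM_iff] at hp
  obtain ⟨_, h2, h3, _, h⟩ := hp
  rw [← det_cast p (le_of_lt11 p h2 h3), ← ZMod.natCast_mod, h]
  exact Nat.cast_one

theorem valid_of_det (p : M4) (h1 : p.1 < 11) (h2 : p.2.1 < 11) (h3 : p.2.2.1 < 11)
    (h4 : p.2.2.2 < 11) (hd : (matM p).det = 1) : validM p = true := by
  rw [validM_iff]
  refine ⟨h1, h2, h3, h4, ?_⟩
  have h := det_cast p (le_of_lt11 p h2 h3)
  rw [hd] at h
  have h5 := congrArg ZMod.val h
  rw [ZMod.val_natCast, ZMod.val_one] at h5
  exact h5

theorem matM_mul (p q : M4) : matM (mulM p q) = matM p * matM q := by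
  ext i j
  fin_cases i <;> fin_cases j <;>
    simp [matM, mulM, Matrix.mul_apply, Fin.sum_univ_two, ZMod.natCast_mod]

theorem matM_neg (q : M4) (h1 : q.1 < 11) (h2 : q.2.1 < 11) (h3 : q.2.2.1 < 11)
    (h4 : q.2.2.2 < 11) : matM (negM q) = -matM q := by
  have key : ∀ b : ℕ, b < 11 → (((11 - b) % 11 : ℕ) : ZMod 11) = -(b : ZMod 11) := by
    intro b hb
    rw [ZMod.natCast_mod, Nat.cast_sub hb.le]
    have : ((11 : ℕ) : ZMod 11) = 0 := by decide
    rw [this, zero_sub]
  ext i j
  fin_cases i <;> fin_cases j <;> simp [matM, negM, key _ h1, key _ h2, key _ h3, key _ h4]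

/-- the special matrix of a valid name -/
def slM (p : M4) (hp : validM p = true) : SpecialLinearGroup (Fin 2) (ZMod 11) :=
  ⟨matM p, det_matM p hp⟩

/-- the element named by a matrix -/
noncomputable def mk0 (p : M4) : ProjectiveSpecialLinearGroup (Fin 2) (ZMod 11) :=
  if h : validM p = true then QuotientGroup.mk (slM p h) else 1

theorem mk0_eq (p : M4) (hp : validM p = true) : mk0 p = QuotientGroup.mk (slM p hp) := by
  unfold mk0
  rw [dif_pos hp]

theorem sl_mk_eq_iff (A B : SpecialLinearGroup (Fin 2) (ZMod 11)) :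
    (QuotientGroup.mk A : ProjectiveSpecialLinearGroup (Fin 2) (ZMod 11)) = QuotientGroup.mk B ↔
      (A : Matrix (Fin 2) (Fin 2) (ZMod 11)) = B ∨
        (A : Matrix (Fin 2) (Fin 2) (ZMod 11)) = -(B : Matrix (Fin 2) (Fin 2) (ZMod 11)) := by
  rw [QuotientGroup.eq, Matrix.SpecialLinearGroup.mem_center_iff]
  constructor
  · rintro ⟨r, hr, hs⟩
    rw [Fintype.card_fin] at hr
    have hB : (B : Matrix (Fin 2) (Fin 2) (ZMod 11)) =
        (A : Matrix (Fin 2) (Fin 2) (ZMod 11)) * Matrix.scalar (Fin 2) r := by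
      rw [hs, ← Matrix.SpecialLinearGroup.coe_mul, mul_inv_cancel_left]
    have hr2 : r = 1 ∨ r = -1 := by
      rw [pow_two] at hr
      exact mul_self_eq_one_iff.1 hr
    rcases hr2 with rfl | rfl
    · left
      rw [hB, map_one, mul_one]
    · right
      rw [hB, map_neg, map_one, mul_neg, mul_one, neg_neg]
  · rintro (h | h)
    · refine ⟨1, one_pow _, ?_⟩
      have : A = B := Subtype.ext h
      rw [this, inv_mul_cancel, map_one]
      rfl
    · refine ⟨-1, by rw [Fintype.card_fin]; norm_num, ?_⟩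
      have hB2 : (B : Matrix (Fin 2) (Fin 2) (ZMod 11)) =
          -(A : Matrix (Fin 2) (Fin 2) (ZMod 11)) := by rw [h, neg_neg]
      rw [Matrix.SpecialLinearGroup.coe_mul, hB2, mul_neg, ← Matrix.SpecialLinearGroup.coe_mul,
        inv_mul_cancel, Matrix.SpecialLinearGroup.coe_one, map_neg, map_one]

theorem model0 : Model (ProjectiveSpecialLinearGroup (Fin 2) (ZMod 11)) mk0 where
  surj := by
    intro g
    obtain ⟨A, rfl⟩ := QuotientGroup.mk_surjective g
    have hmat : matM ((A.1 0 0).val, (A.1 0 1).val, (A.1 1 0).val, (A.1 1 1).val) = A.1 := by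
      ext i j
      fin_cases i <;> fin_cases j <;> simp [matM]
    have hv : validM ((A.1 0 0).val, (A.1 0 1).val, (A.1 1 0).val, (A.1 1 1).val) = true := by
      apply valid_of_det _ (ZMod.val_lt (A.1 0 0)) (ZMod.val_lt (A.1 0 1)) (ZMod.val_lt (A.1 1 0))
        (ZMod.val_lt (A.1 1 1))
      rw [hmat]
      exact A.2
    refine ⟨_, hv, ?_⟩
    rw [mk0_eq _ hv]
    congr 1
    exact Subtype.ext hmat
  one := by
    rw [mk0_eq idM valid_idM]
    have : slM idM valid_idM = 1 := by
      apply Subtype.ext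
      show matM idM = 1
      ext i j
      fin_cases i <;> fin_cases j <;> simp [matM, idM]
    rw [this]
    rfl
  valid_mul := by
    intro p q hp hq
    apply valid_of_det _ (Nat.mod_lt _ (by norm_num)) (Nat.mod_lt _ (by norm_num))
      (Nat.mod_lt _ (by norm_num)) (Nat.mod_lt _ (by norm_num))
    rw [matM_mul, Matrix.det_mul, det_matM p hp, det_matM q hq, mul_one]
  mul := by
    intro p q hp hq
    have hv : validM (mulM p q) = true := by
      apply valid_of_det _ (Nat.mod_lt _ (by norm_num)) (Nat.mod_lt _ (by norm_num))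
        (Nat.mod_lt _ (by norm_num)) (Nat.mod_lt _ (by norm_num))
      rw [matM_mul, Matrix.det_mul, det_matM p hp, det_matM q hq, mul_one]
    rw [mk0_eq _ hv, mk0_eq p hp, mk0_eq q hq, ← QuotientGroup.mk_mul]
    congr 1
    apply Subtype.ext
    rw [Matrix.SpecialLinearGroup.coe_mul]
    exact matM_mul p q
  eq_iff := by
    intro p q hp hq
    rw [mk0_eq p hp, mk0_eq q hq, sl_mk_eq_iff]
    have hp' := (validM_iff p).1 hp
    have hq' := (validM_iff q).1 hq
    obtain ⟨p1, p2, p3, p4, _⟩ := hp'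
    obtain ⟨q1, q2, q3, q4, _⟩ := hq'
    show matM p = matM q ∨ matM p = -matM q ↔ eqM p q = true
    unfold eqM
    rw [Bool.or_eq_true, beq4_iff, beq4_iff]
    constructor
    · rintro (h | h)
      · left
        have e00 := congrFun (congrFun h 0) 0
        have e01 := congrFun (congrFun h 0) 1
        have e10 := congrFun (congrFun h 1) 0
        have e11 := congrFun (congrFun h 1) 1
        simp only [matM, Matrix.of_apply, Matrix.cons_val_zero, Matrix.cons_val_one,
          Matrix.cons_val', Matrix.cons_val_fin_one] at e00 e01 e10 e11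
        obtain ⟨a, b, c, d⟩ := p
        obtain ⟨a', b', c', d'⟩ := q
        simp only at e00 e01 e10 e11 p1 p2 p3 p4 q1 q2 q3 q4
        rw [cast_inj11 a a' p1 q1 e00, cast_inj11 b b' p2 q2 e01, cast_inj11 c c' p3 q3 e10,
          cast_inj11 d d' p4 q4 e11]
      · right
        have e00 := congrFun (congrFun h 0) 0
        have e01 := congrFun (congrFun h 0) 1
        have e10 := congrFun (congrFun h 1) 0
        have e11 := congrFun (congrFun h 1) 1
        simp only [matM, Matrix.of_apply, Matrix.cons_val_zero, Matrix.cons_val_one,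
          Matrix.cons_val', Matrix.cons_val_fin_one, Matrix.neg_apply] at e00 e01 e10 e11
        obtain ⟨a, b, c, d⟩ := p
        obtain ⟨a', b', c', d'⟩ := q
        simp only at e00 e01 e10 e11 p1 p2 p3 p4 q1 q2 q3 q4
        unfold negM
        simp only
        rw [cast_neg11 a a' p1 q1 e00, cast_neg11 b b' p2 q2 e01, cast_neg11 c c' p3 q3 e10,
          cast_neg11 d d' p4 q4 e11]
    · rintro (h | h)
      · left
        rw [h]
      · right
        rw [h, matM_neg q q1 q2 q3 q4]

/-- names for the elements of an isomorphic group -/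
theorem model_of_equiv {G : Type*} [Group G]
    (e : ProjectiveSpecialLinearGroup (Fin 2) (ZMod 11) ≃* G) : Model G (fun p => e (mk0 p)) where
  surj := by
    intro g
    obtain ⟨p, hp, h⟩ := model0.surj (e.symm g)
    exact ⟨p, hp, by rw [h, MulEquiv.apply_symm_apply]⟩
  one := by
    show e (mk0 idM) = 1
    rw [model0.one, map_one]
  mul := by
    intro p q hp hq
    show e (mk0 (mulM p q)) = e (mk0 p) * e (mk0 q)
    rw [model0.mul p q hp hq, map_mul]
  valid_mul := model0.valid_mul
  eq_iff := by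
    intro p q hp hq
    show e (mk0 p) = e (mk0 q) ↔ _
    rw [e.injective.eq_iff]
    exact model0.eq_iff p q hp hq

end Cfsg.Agent.Helper26.P11
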