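import Mathlib
import Cfsg.Agent.Lib.Helper26.PSL23b

/-!
# The generators of `PSL(2,23)` in `M₂₄` as maps of the projective line

The translation is `gP 0`, the inversion is `gP 1`, and the multiplications by the nonzero
squares modulo 23 are the powers of the doubling map.
-/

set_option autoImplicit false

namespace Cfsg.Agent.Helper26.PSL23

open Cfsg Cfsg.Agent.Helper26 Cfsg.Agent.Helper26.PermCert Cfsg.Agent.Helper26.M24Semi
  Cfsg.Agent.Helper26.M24PD Cfsg.Agent.Helper26.M24A Cfsg.Agent.Helper26.M24O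
  Cfsg.Agent.Helper26.M24ND Cfsg.Agent.Helper26.M24NDD Cfsg.Agent.Helper26.M24Y
open Cfsg.Agent.Helper29.M24
open Cfsg.Agent.S0358 (idx)

theorem prime23 : Nat.Prime 23 := by norm_num

local instance fact23 : Fact (Nat.Prime 23) := ⟨prime23⟩

/-- The multiplications by the nonzero squares. -/
def US : Set (Equiv.Perm GolayPt) :=
  {g | ∃ u : (ZMod 23)ˣ, IsSquare u ∧ g = Equiv.optionCongr (Units.mulLeft u)}

theorem X0_eq : Equiv.optionCongr (Equiv.addRight (1 : ZMod 23)) = xP := gP0.symm

theorem projInv_eq : Cfsg.projInv = y1P := gP1.symm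

theorem n_apply_table : ∀ q : GolayPt,
    idx (Option.map (fun t : ZMod 23 => 2 * t) q) = app nC (idx q) := by decide

theorem n_apply (q : GolayPt) : nP q = Option.map (fun t : ZMod 23 => 2 * t) q := by
  apply idx_injective
  rw [nP_coded, n_apply_table]

theorem npow_apply (k : ℕ) (q : GolayPt) :
    (nP ^ k) q = Option.map (fun t : ZMod 23 => 2 ^ k * t) q := by
  induction k with
  | zero =>
    rw [pow_zero, Equiv.Perm.one_apply]
    cases q <;> simp
  | succ k ih =>
    rw [pow_succ', Equiv.Perm.mul_apply, ih, n_apply, Option.map_map]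
    congr 1
    funext t
    simp only [Function.comp]
    rw [pow_succ']
    ring

theorem mulLeft_apply (u : (ZMod 23)ˣ) (q : GolayPt) :
    Equiv.optionCongr (Units.mulLeft u) q = Option.map (fun t : ZMod 23 => (u : ZMod 23) * t) q := by
  cases q <;> simp

theorem sq_table : ∀ a : ZMod 23, a ≠ 0 → ∃ k < 11, a * a = 2 ^ k := by decide

theorem US_pow (g : Equiv.Perm GolayPt) (hg : g ∈ US) : ∃ k, g = nP ^ k := by
  obtain ⟨u, ⟨r, hr⟩, rfl⟩ := hg
  obtain ⟨k, _, hk⟩ := sq_table (r : ZMod 23) r.ne_zero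
  refine ⟨k, ?_⟩
  apply Equiv.ext
  intro q
  rw [mulLeft_apply, npow_apply, hr, Units.val_mul, hk]

theorem nP_mem_US : nP ∈ US := by
  refine ⟨Units.mk0 (2 : ZMod 23) (by decide), ⟨Units.mk0 (5 : ZMod 23) (by decide), ?_⟩, ?_⟩
  · apply Units.ext
    rw [Units.val_mul]
    decide
  · apply Equiv.ext
    intro q
    rw [mulLeft_apply, n_apply]
    rfl

theorem closure_L_eq :
    Subgroup.closure ({Equiv.optionCongr (Equiv.addRight (1 : ZMod 23)), Cfsg.projInv} ∪
      {g : Equiv.Perm Cfsg.GolayPt | ∃ u : (ZMod 23)ˣ, IsSquare u ∧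
        g = Equiv.optionCongr (Units.mulLeft u)}) = Lgrp := by
  rw [X0_eq, projInv_eq]
  apply le_antisymm
  · rw [Subgroup.closure_le]
    rintro g (hg | hg)
    · rcases hg with rfl | rfl
      · exact xP_mem_L
      · exact y1P_mem_L
    · obtain ⟨k, rfl⟩ := US_pow g hg
      exact Subgroup.pow_mem _ nP_mem_L _
  · unfold Lgrp
    rw [Subgroup.closure_le]
    intro g hg
    rcases hg with rfl | rfl | rfl
    · exact Subgroup.subset_closure (Or.inl (Or.inl rfl))
    · exact Subgroup.subset_closure (Or.inr nP_mem_US)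
    · exact Subgroup.subset_closure (Or.inl (Or.inr rfl))

theorem closure_B_eq :
    Subgroup.closure ({Equiv.optionCongr (Equiv.addRight (1 : ZMod 23))} ∪
      {g : Equiv.Perm Cfsg.GolayPt | ∃ u : (ZMod 23)ˣ, IsSquare u ∧
        g = Equiv.optionCongr (Units.mulLeft u)}) = Bgrp := by
  rw [X0_eq]
  apply le_antisymm
  · rw [Subgroup.closure_le]
    rintro g (hg | hg)
    · rw [Set.mem_singleton_iff] at hg
      rw [hg]; exact xP_mem_B
    · obtain ⟨k, rfl⟩ := US_pow g hg
      exact Subgroup.pow_mem _ nP_mem_B _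
  · unfold Bgrp
    rw [Subgroup.closure_le]
    intro g hg
    rcases hg with rfl | rfl
    · exact Subgroup.subset_closure (Or.inl rfl)
    · exact Subgroup.subset_closure (Or.inr nP_mem_US)

end Cfsg.Agent.Helper26.PSL23
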