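import Mathlib
import Cfsg.Agent.Lib.Helper26.PSL23c
import Cfsg.Agent.Lib.Helper26.PSL23e
import Cfsg.Agent.Lib.Helper26.M23Out

/-!
# `PSL(2,23)` is maximal in `M₂₄`, and `23:11` is maximal in `M₂₃`

Every subgroup between has an order allowed by the Sylow counts for the primes 23 and 11, and
only the two ends survive.
-/

set_option autoImplicit false

namespace Cfsg.Agent.Helper26.PSL23

open Cfsg Cfsg.Agent.Helper26 Cfsg.Agent.Helper26.PermCert Cfsg.Agent.Helper26.M24Semi
  Cfsg.Agent.Helper26.M24PD Cfsg.Agent.Helper26.M24A Cfsg.Agent.Helper26.M24O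
  Cfsg.Agent.Helper26.M24ND Cfsg.Agent.Helper26.M24NDD Cfsg.Agent.Helper26.M24Y
  Cfsg.Agent.Helper26.SylowCount
open Cfsg.Agent.Helper29.M24
open Cfsg.Agent.S0358 (idx)

/-! ### Arithmetic -/

/-- The test of a divisor `m` of `40320` for the first maximality statement. -/
def P1 (m : ℕ) : Prop :=
  40320 % m = 0 → (24 * m) % 23 = 1 →
    ((276 * m) % 11 = 1 ∨ ((6072 * m) % 110 = 0 ∧ (6072 * m / 110) % 11 = 1)) →
      m = 1 ∨ m = 40320

instance : DecidablePred P1 := fun m => by unfold P1; infer_instance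

theorem tab1 : allB 40321 (fun m => decide (P1 m)) = true := by decide +kernel

/-- The test of a divisor `m` of `40320` for the second maximality statement. -/
def P2 (m : ℕ) : Prop :=
  40320 % m = 0 → m % 23 = 1 →
    ((23 * m) % 11 = 1 ∨ ((23 * m) % 5 = 0 ∧ (23 * m / 5) % 11 = 1)) → m = 1 ∨ m = 40320

instance : DecidablePred P2 := fun m => by unfold P2; infer_instance

theorem tab2 : allB 40321 (fun m => decide (P2 m)) = true := by decide +kernel

theorem arith1 (c : ℕ) (h1 : 6072 ∣ c) (h2 : c ∣ 244823040)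
    (h23 : ∃ t, c = 253 * t ∧ t % 23 = 1)
    (h11 : ∃ s t, s ∣ 110 ∧ 22 ∣ s ∧ c = s * t ∧ t % 11 = 1) :
    c = 6072 ∨ c = 244823040 := by
  obtain ⟨m, rfl⟩ := h1
  have hm : m ∣ 40320 := by
    have h3 : 6072 * m ∣ 6072 * 40320 := by
      have : 6072 * 40320 = 244823040 := by norm_num
      rw [this]; exact h2
    exact Nat.dvd_of_mul_dvd_mul_left (by norm_num) h3
  have hmle : m < 40321 := Nat.lt_succ_of_le (Nat.le_of_dvd (by norm_num) hm)
  obtain ⟨t, ht, ht1⟩ := h23
  have ht' : t = 24 * m := by omega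
  obtain ⟨s, t2, hs1, hs2, hc, ht2⟩ := h11
  have hs : s = 22 ∨ s = 110 := by
    obtain ⟨u, rfl⟩ := hs2
    have h5 : u ∣ 5 := by
      have : 22 * u ∣ 22 * 5 := by simpa using hs1
      exact Nat.dvd_of_mul_dvd_mul_left (by norm_num) this
    rcases (Nat.dvd_prime (by norm_num : Nat.Prime 5)).1 h5 with rfl | rfl
    · left; rfl
    · right; rfl
  have key : P1 m := of_decide_eq_true (allB_true tab1 m hmle)
  have hres := key (Nat.mod_eq_zero_of_dvd hm) (by rw [← ht']; exact ht1) (by
    rcases hs with rfl | rfl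
    · left
      have : t2 = 276 * m := by omega
      rw [← this]; exact ht2
    · right
      constructor
      · rw [hc]; exact Nat.mul_mod_right _ _
      · rw [hc, Nat.mul_div_cancel_left _ (by norm_num : 0 < 110)]; exact ht2)
  rcases hres with rfl | rfl
  · left; rfl
  · right; rfl

theorem arith2 (c : ℕ) (h2 : c ∣ 10200960)
    (h23 : ∃ t, c = 253 * t ∧ t % 23 = 1)
    (h11 : ∃ s t, s ∣ 110 ∧ 11 ∣ s ∧ ¬ 2 ∣ s ∧ c = s * t ∧ t % 11 = 1) :
    c = 253 ∨ c = 10200960 := by
  obtain ⟨m, rfl, hm1⟩ := h23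
  have hm : m ∣ 40320 := by
    have h3 : 253 * m ∣ 253 * 40320 := by
      have : 253 * 40320 = 10200960 := by norm_num
      rw [this]; exact h2
    exact Nat.dvd_of_mul_dvd_mul_left (by norm_num) h3
  have hmle : m < 40321 := Nat.lt_succ_of_le (Nat.le_of_dvd (by norm_num) hm)
  obtain ⟨s, t2, hs1, hs2, hodd, hc, ht2⟩ := h11
  have hs : s = 11 ∨ s = 55 := by
    obtain ⟨u, rfl⟩ := hs2
    have h10 : u ∣ 10 := by
      have : 11 * u ∣ 11 * 10 := by simpa using hs1
      exact Nat.dvd_of_mul_dvd_mul_left (by norm_num) this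
    have hu : u ≤ 10 := Nat.le_of_dvd (by norm_num) h10
    interval_cases u
    · simp at h10
    · left; rfl
    · exact absurd (Dvd.intro_left 11 rfl) hodd
    · norm_num at h10
    · norm_num at h10
    · right; rfl
    · norm_num at h10
    · norm_num at h10
    · norm_num at h10
    · norm_num at h10
    · exact absurd ⟨55, rfl⟩ hodd
  have key : P2 m := of_decide_eq_true (allB_true tab2 m hmle)
  have hres := key (Nat.mod_eq_zero_of_dvd hm) hm1 (by
    rcases hs with rfl | rfl
    · left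
      have : t2 = 23 * m := by omega
      rw [← this]; exact ht2
    · right
      have h5 : 23 * m = 5 * t2 := by omega
      constructor
      · rw [h5]; exact Nat.mul_mod_right _ _
      · rw [h5, Nat.mul_div_cancel_left _ (by norm_num : 0 < 5)]; exact ht2)
  rcases hres with rfl | rfl
  · left; rfl
  · right; rfl

/-! ### Maximality -/

theorem max1 (K : Subgroup (Equiv.Perm GolayPt)) (hL : Lgrp ≤ K) (hK : K ≤ Cfsg.M24) :
    K = Lgrp ∨ K = Cfsg.M24 := by
  have h1 : 6072 ∣ Nat.card K := by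
    have := Subgroup.card_dvd_of_le hL
    rwa [card_L] at this
  have h2 : Nat.card K ∣ 244823040 := by
    have := Subgroup.card_dvd_of_le hK
    rwa [card_M24] at this
  have h23 := count23 K hK (B_le_L.trans hL)
  obtain ⟨s, t, hs1, hs11, hy, _, hc, ht⟩ := count11 K hK (hL nP_mem_L)
  have hs22 : 22 ∣ s := by
    have h2s := hy (hL y1P_mem_L)
    exact Nat.Coprime.mul_dvd_of_dvd_of_dvd (by norm_num : Nat.Coprime 2 11) h2s hs11
  rcases arith1 _ h1 h2 h23 ⟨s, t, hs1, hs22, hc, ht⟩ with h | h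
  · left
    exact (Subgroup.eq_of_le_of_card_ge hL (by rw [h, card_L])).symm
  · right
    exact Subgroup.eq_of_le_of_card_ge hK (by rw [h, card_M24])

theorem M23_le : Cfsg.Spor.M23 ≤ Cfsg.M24 := fun σ h => ((M23O.mem_M23_iff σ).1 h).1

theorem B_le_M23 : Bgrp ≤ Cfsg.Spor.M23 := fun σ h =>
  (M23O.mem_M23_iff σ).2 ⟨B_le_M24 h, B_fix_none σ h⟩

theorem max2 (K : Subgroup (Equiv.Perm GolayPt)) (hB : Bgrp ≤ K) (hK : K ≤ Cfsg.Spor.M23) :
    K = Bgrp ∨ K = Cfsg.Spor.M23 := by
  have hK24 : K ≤ Cfsg.M24 := hK.trans M23_le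
  have hc23 : Nat.card Cfsg.Spor.M23 = 10200960 := M23O.card_G23
  have h2 : Nat.card K ∣ 10200960 := by
    have := Subgroup.card_dvd_of_le hK
    rwa [hc23] at this
  have h23 := count23 K hK24 hB
  obtain ⟨s, t, hs1, hs11, _, hodd, hc, ht⟩ := count11 K hK24 (hB nP_mem_B)
  have hfix : ∀ g ∈ K, g (none : GolayPt) = none := fun g hg =>
    ((M23O.mem_M23_iff g).1 (hK hg)).2
  rcases arith2 _ h2 h23 ⟨s, t, hs1, hs11, hodd hfix, hc, ht⟩ with h | h
  · left
    exact (Subgroup.eq_of_le_of_card_ge hB (by rw [h, card_B])).symm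
  · right
    exact Subgroup.eq_of_le_of_card_ge hK (by rw [h, hc23])

theorem coatom1 : IsCoatom (Lgrp.subgroupOf Cfsg.M24) := by
  apply isCoatom_subgroupOf Lgrp Cfsg.M24 L_le_M24
  · intro h
    have := congrArg (fun H : Subgroup (Equiv.Perm GolayPt) => Nat.card H) h
    simp only [card_L, card_M24] at this
    revert this
    norm_num
  · exact fun K h1 h2 => max1 K h1 h2

theorem coatom2 : IsCoatom ((Bgrp.subgroupOf Cfsg.M24).subgroupOf
    (MulAction.stabilizer Cfsg.M24 (none : GolayPt))) := by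
  have hmemM : ∀ m : Cfsg.M24, m ∈ MulAction.stabilizer Cfsg.M24 (none : GolayPt) ↔
      (m : Equiv.Perm GolayPt) (none : GolayPt) = none := fun m => Iff.rfl
  apply isCoatom_subgroupOf
  · intro m hm
    rw [hmemM]
    exact B_fix_none _ hm
  · intro h
    -- cardinalities differ
    have h1 : Nat.card (Bgrp.subgroupOf Cfsg.M24) = 253 := by
      rw [← card_B]
      exact Nat.card_congr (Subgroup.subgroupOfEquivOfLe B_le_M24).toEquiv
    have h2 : Nat.card (MulAction.stabilizer Cfsg.M24 (none : GolayPt)) = 10200960 := by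
      have h3 : Nat.card ↥Cfsg.Spor.M23 = 10200960 := M23O.card_G23
      rw [← h3]
      have e : (MulAction.stabilizer Cfsg.M24 (none : GolayPt)).map (Cfsg.M24).subtype =
          Cfsg.Spor.M23 := by
        ext g
        rw [M23O.mem_M23_iff]
        constructor
        · rintro ⟨m, hm, rfl⟩
          exact ⟨m.2, (hmemM m).1 hm⟩
        · rintro ⟨h24, hfix⟩
          exact ⟨⟨g, h24⟩, (hmemM _).2 hfix, rfl⟩
      rw [← e, Subgroup.card_map_of_injective (Cfsg.M24).subtype_injective]
    rw [h, h2] at h1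
    revert h1
    norm_num
  · intro K' hA hM
    have hB : Bgrp ≤ K'.map (Cfsg.M24).subtype := by
      intro b hb
      exact ⟨⟨b, B_le_M24 hb⟩, hA (show (⟨b, B_le_M24 hb⟩ : Cfsg.M24) ∈ Bgrp.subgroupOf Cfsg.M24
        from hb), rfl⟩
    have hK : K'.map (Cfsg.M24).subtype ≤ Cfsg.Spor.M23 := by
      rintro _ ⟨m, hm, rfl⟩
      exact (M23O.mem_M23_iff _).2 ⟨m.2, (hmemM m).1 (hM hm)⟩
    rcases max2 _ hB hK with h | h
    · left
      ext m
      constructor
      · intro hm
        have : (m : Equiv.Perm GolayPt) ∈ K'.map (Cfsg.M24).subtype := ⟨m, hm, rfl⟩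
        rw [h] at this
        exact this
      · intro hm
        have : (m : Equiv.Perm GolayPt) ∈ K'.map (Cfsg.M24).subtype := by rw [h]; exact hm
        obtain ⟨m', hm', hmm⟩ := this
        have : m' = m := Subtype.ext hmm
        rw [← this]; exact hm'
    · right
      ext m
      constructor
      · intro hm
        exact hM hm
      · intro hm
        have : (m : Equiv.Perm GolayPt) ∈ K'.map (Cfsg.M24).subtype := by
          rw [h, M23O.mem_M23_iff]
          exact ⟨m.2, (hmemM m).1 hm⟩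
        obtain ⟨m', hm', hmm⟩ := this
        have : m' = m := Subtype.ext hmm
        rw [← this]; exact hm'

end Cfsg.Agent.Helper26.PSL23
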