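import Mathlib
import Cfsg.Prelude.Def_Sporadic_a
import Cfsg.Agent.Lib.Helper26.F4
import Cfsg.Agent.Lib.Helper26.PermCert
import Cfsg.Agent.Lib.Helper26.Schreier
import Cfsg.Agent.Lib.Helper26.PSL34Data

/-!
# The action of `SL₃(4)` on the 21 Golay points outside three fixed ones

The 21 points of the projective plane over the field with four elements are labelled by the
Golay points other than `∞, 0, 1`, so that the lines are the octads through these three points.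
This file defines the resulting action of `SL₃(4)` by permutations of the 24 Golay points.
-/

set_option autoImplicit false

namespace Cfsg.Agent.Helper26.PSL34

open Cfsg Cfsg.Agent.Helper26 Cfsg.Agent.Helper26.PermCert Cfsg.Agent.Helper26.PSL34D
open Cfsg.Agent.Helper29.M24
open Cfsg.Agent.S0358 (idx)
open Matrix

/-! ### Codes of field elements -/

/-- The code `a + 2 b` of `a + b ω`. -/
def code (x : F4) : ℕ := x.a.val + 2 * x.b.val

/-- The field element with a given code. -/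
def ofCode (n : ℕ) : F4 := ⟨Fin.ofNat 2 n, Fin.ofNat 2 (n / 2)⟩

/-- The Golay point (index) labelled by a vector. -/
def lab3 (a b c : F4) : ℕ := labTab.getD (16 * code a + 4 * code b + code c) 23

/-- The vector labelling a Golay point (index). -/
def rep3 (i : ℕ) : F4 × F4 × F4 :=
  let r := repTab.getD i (0, 0, 0)
  (ofCode r.1, ofCode r.2.1, ofCode r.2.2)

/-- A component of a matrix-vector product. -/
def mvc (A : Matrix (Fin 3) (Fin 3) F4) (a b c : F4) (r : Fin 3) : F4 :=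
  A r 0 * a + A r 1 * b + A r 2 * c

/-- The action of a matrix on the indices of Golay points. -/
def actIdx (A : Matrix (Fin 3) (Fin 3) F4) (i : ℕ) : ℕ :=
  if 2 ≤ i ∧ i ≤ 22 then
    lab3 (mvc A (rep3 i).1 (rep3 i).2.1 (rep3 i).2.2 0) (mvc A (rep3 i).1 (rep3 i).2.1 (rep3 i).2.2 1)
      (mvc A (rep3 i).1 (rep3 i).2.1 (rep3 i).2.2 2)
  else i

/-! ### The finite checks -/

theorem lab3_range : ∀ a b c : F4, ¬ (a = 0 ∧ b = 0 ∧ c = 0) → 2 ≤ lab3 a b c ∧ lab3 a b c ≤ 22 := by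
  decide +kernel

theorem rep3_lab3 : ∀ a b c : F4, ¬ (a = 0 ∧ b = 0 ∧ c = 0) →
    ∃ k : F4, k ≠ 0 ∧ (rep3 (lab3 a b c)).1 = k * a ∧ (rep3 (lab3 a b c)).2.1 = k * b ∧
      (rep3 (lab3 a b c)).2.2 = k * c := by
  decide +kernel

theorem lab3_smul : ∀ k a b c : F4, k ≠ 0 → lab3 (k * a) (k * b) (k * c) = lab3 a b c := by
  decide +kernel

theorem lab3_rep3 : ∀ i : Fin 24, 2 ≤ i.val → i.val ≤ 22 →
    ¬ ((rep3 i.val).1 = 0 ∧ (rep3 i.val).2.1 = 0 ∧ (rep3 i.val).2.2 = 0) ∧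
      lab3 (rep3 i.val).1 (rep3 i.val).2.1 (rep3 i.val).2.2 = i.val := by
  decide +kernel

/-! ### Vectors -/

/-- The label of a vector. -/
def lab (v : Fin 3 → F4) : ℕ := lab3 (v 0) (v 1) (v 2)

/-- The representative vector of a point. -/
def rep (i : ℕ) : Fin 3 → F4 := ![(rep3 i).1, (rep3 i).2.1, (rep3 i).2.2]

theorem vec_ne_zero {v : Fin 3 → F4} (hv : v ≠ 0) : ¬ (v 0 = 0 ∧ v 1 = 0 ∧ v 2 = 0) := by
  rintro ⟨h0, h1, h2⟩
  apply hv
  funext r
  fin_cases r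
  · exact h0
  · exact h1
  · exact h2

theorem lab_range {v : Fin 3 → F4} (hv : v ≠ 0) : 2 ≤ lab v ∧ lab v ≤ 22 :=
  lab3_range _ _ _ (vec_ne_zero hv)

theorem rep_lab {v : Fin 3 → F4} (hv : v ≠ 0) : ∃ k : F4, k ≠ 0 ∧ rep (lab v) = k • v := by
  obtain ⟨k, hk, h0, h1, h2⟩ := rep3_lab3 _ _ _ (vec_ne_zero hv)
  refine ⟨k, hk, ?_⟩
  funext r
  fin_cases r
  · exact h0
  · exact h1
  · exact h2

theorem lab_smul (k : F4) (hk : k ≠ 0) (v : Fin 3 → F4) : lab (k • v) = lab v :=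
  lab3_smul k _ _ _ hk

theorem rep_ne_zero {i : ℕ} (h2 : 2 ≤ i) (h22 : i ≤ 22) : rep i ≠ 0 := by
  intro h
  have h1 := (lab3_rep3 ⟨i, by omega⟩ h2 h22).1
  apply h1
  refine ⟨?_, ?_, ?_⟩
  · exact congrFun h 0
  · exact congrFun h 1
  · exact congrFun h 2

theorem lab_rep {i : ℕ} (h2 : 2 ≤ i) (h22 : i ≤ 22) : lab (rep i) = i :=
  (lab3_rep3 ⟨i, by omega⟩ h2 h22).2

theorem mulVec_apply' (A : Matrix (Fin 3) (Fin 3) F4) (v : Fin 3 → F4) (r : Fin 3) :
    (A *ᵥ v) r = mvc A (v 0) (v 1) (v 2) r := by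
  simp [Matrix.mulVec, dotProduct, Fin.sum_univ_three, mvc]

theorem actIdx_mid (A : Matrix (Fin 3) (Fin 3) F4) {i : ℕ} (h2 : 2 ≤ i) (h22 : i ≤ 22) :
    actIdx A i = lab (A *ᵥ rep i) := by
  unfold actIdx
  rw [if_pos ⟨h2, h22⟩]
  unfold lab
  rw [mulVec_apply', mulVec_apply', mulVec_apply']
  rfl

theorem actIdx_fixed (A : Matrix (Fin 3) (Fin 3) F4) {i : ℕ} (h : ¬ (2 ≤ i ∧ i ≤ 22)) :
    actIdx A i = i := by
  unfold actIdx
  rw [if_neg h]

theorem actIdx_one (i : ℕ) : actIdx (1 : Matrix (Fin 3) (Fin 3) F4) i = i := by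
  by_cases h : 2 ≤ i ∧ i ≤ 22
  · rw [actIdx_mid _ h.1 h.2, Matrix.one_mulVec, lab_rep h.1 h.2]
  · exact actIdx_fixed _ h

/-- Multiplicativity of the action, for matrices without kernel. -/
theorem actIdx_mul (A B : Matrix (Fin 3) (Fin 3) F4) (hB : ∀ v : Fin 3 → F4, v ≠ 0 → B *ᵥ v ≠ 0)
    (i : ℕ) : actIdx (A * B) i = actIdx A (actIdx B i) := by
  by_cases h : 2 ≤ i ∧ i ≤ 22
  · have hw := hB _ (rep_ne_zero h.1 h.2)
    obtain ⟨hj2, hj22⟩ := lab_range hw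
    obtain ⟨k, hk, hrep⟩ := rep_lab hw
    rw [actIdx_mid (A * B) h.1 h.2, actIdx_mid B h.1 h.2, actIdx_mid A hj2 hj22, hrep,
      Matrix.mulVec_smul, lab_smul k hk, Matrix.mulVec_mulVec]
  · rw [actIdx_fixed (A * B) h, actIdx_fixed B h, actIdx_fixed A h]

theorem actIdx_lt (A : Matrix (Fin 3) (Fin 3) F4) (hA : ∀ v : Fin 3 → F4, v ≠ 0 → A *ᵥ v ≠ 0)
    {i : ℕ} (hi : i < 24) : actIdx A i < 24 := by
  by_cases h : 2 ≤ i ∧ i ≤ 22
  · rw [actIdx_mid A h.1 h.2]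
    have := (lab_range (hA _ (rep_ne_zero h.1 h.2))).2
    omega
  · rw [actIdx_fixed A h]; exact hi

end Cfsg.Agent.Helper26.PSL34
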