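import Mathlib
import Cfsg.Agent.Lib.Helper26.PSL34a
import Cfsg.Agent.Lib.Helper26.M24Aut

/-!
# The homomorphism from `SL₃(4)` onto the three-point stabilizer of `M₂₄`

* `toPermHom`: the action of `SL₃(4)` on the Golay points.
* `range_eq`: its image is the three-point stabilizer `grp 3`.
* `ker_eq_center`: its kernel is the centre.
-/

set_option autoImplicit false

namespace Cfsg.Agent.Helper26.PSL34

open Cfsg Cfsg.Agent.Helper26 Cfsg.Agent.Helper26.PermCert Cfsg.Agent.Helper26.PSL34D
  Cfsg.Agent.Helper26.M24A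
open Cfsg.Agent.Helper29.M24
open Cfsg.Agent.S0358 (idx)
open Matrix

/-- The special linear group of degree three over the field with four elements. -/
abbrev SL34 := Matrix.SpecialLinearGroup (Fin 3) F4

theorem mulVec_ne_zero (A : SL34) (v : Fin 3 → F4) (hv : v ≠ 0) : A.1 *ᵥ v ≠ 0 := by
  intro h
  apply hv
  have h1 : (A⁻¹ * A).1 *ᵥ v = v := by
    rw [inv_mul_cancel, Matrix.SpecialLinearGroup.coe_one, Matrix.one_mulVec]
  rw [Matrix.SpecialLinearGroup.coe_mul, ← Matrix.mulVec_mulVec, h, Matrix.mulVec_zero] at h1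
  exact h1.symm

/-- The action on Golay points. -/
def toFun (A : SL34) (q : GolayPt) : GolayPt := dec (actIdx A.1 (idx q))

theorem idx_toFun (A : SL34) (q : GolayPt) : idx (toFun A q) = actIdx A.1 (idx q) := by
  unfold toFun
  have h := actIdx_lt A.1 (mulVec_ne_zero A) (idx_lt q)
  exact idx_dec ⟨_, h⟩

theorem toFun_mul (A B : SL34) (q : GolayPt) : toFun (A * B) q = toFun A (toFun B q) := by
  have h1 : toFun A (toFun B q) = dec (actIdx A.1 (idx (toFun B q))) := rfl
  rw [h1, idx_toFun]
  unfold toFun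
  rw [Matrix.SpecialLinearGroup.coe_mul, actIdx_mul A.1 B.1 (mulVec_ne_zero B)]

theorem toFun_one (q : GolayPt) : toFun 1 q = q := by
  unfold toFun
  rw [Matrix.SpecialLinearGroup.coe_one, actIdx_one, dec_idx]

/-- The permutation of the Golay points induced by a matrix. -/
def toPerm (A : SL34) : Equiv.Perm GolayPt where
  toFun := toFun A
  invFun := toFun A⁻¹
  left_inv q := by rw [← toFun_mul, inv_mul_cancel, toFun_one]
  right_inv q := by rw [← toFun_mul, mul_inv_cancel, toFun_one]

/-- The action as a homomorphism. -/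
def toPermHom : SL34 →* Equiv.Perm GolayPt where
  toFun := toPerm
  map_one' := Equiv.ext fun q => toFun_one q
  map_mul' A B := Equiv.ext fun q => toFun_mul A B q

theorem toPermHom_apply (A : SL34) (q : GolayPt) : toPermHom A q = toFun A q := rfl

theorem idx_toPermHom (A : SL34) (q : GolayPt) : idx (toPermHom A q) = actIdx A.1 (idx q) :=
  idx_toFun A q

theorem coded_of_check (A : SL34) (c : ℕ)
    (h : allB 24 (fun p => Nat.beq (actIdx A.1 p) (app c p)) = true) : Coded (toPermHom A) c := by
  intro q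
  rw [idx_toPermHom]
  exact Nat.eq_of_beq_eq_true (allB_true h _ (idx_lt q))

/-! ### The image lies in the three-point stabilizer -/

/-- All letters are strong generators of the three-point stabilizer. -/
def wordOK (w : List ℕ) : Bool := w.all (fun l => Nat.blt l ngen && Nat.ble 3 (depthOf l))

/-- The check that a matrix induces the permutation with code `c`, which is the value of `w`. -/
def chk (A : Matrix (Fin 3) (Fin 3) F4) (c : ℕ) (w : List ℕ) : Bool :=
  wordOK w && allB 24 (fun p => Nat.beq (actIdx A p) (app c p)) &&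
    allB 24 (fun p => Nat.beq (appW w p) (app c p))

theorem mem_grp3_of_chk (A : SL34) (c : ℕ) (w : List ℕ) (h : chk A.1 c w = true) :
    toPermHom A ∈ grp 3 := by
  unfold chk at h
  rw [Bool.and_eq_true, Bool.and_eq_true] at h
  obtain ⟨⟨h1, h2⟩, h3⟩ := h
  have hw : ∀ l ∈ w, l < ngen ∧ 3 ≤ depthOf l := by
    intro l hl
    have := List.all_eq_true.1 h1 l hl
    rw [Bool.and_eq_true, Nat.blt_eq] at this
    exact ⟨this.1, Nat.le_of_ble_eq_true this.2⟩
  have hc : Coded (evalW w) c := coded_evalW w (fun l hl => (hw l hl).1) c (fun p hp =>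
    Nat.eq_of_beq_eq_true (allB_true h3 p hp))
  rw [Coded.ext (coded_of_check A c h2) hc]
  exact evalW_mem_grp 3 w hw

theorem tv_ok : ∀ i j : Fin 3, i ≠ j → ∀ a : F4,
    chk (Matrix.transvection i j a) (tvC.getD ((3 * i.val + j.val) * 4 + code a) 0)
      (tvW.getD ((3 * i.val + j.val) * 4 + code a) []) = true := by
  decide +kernel

theorem dg_ok : ∀ i j : Fin 3, i ≠ j → ∀ a : F4, a ≠ 0 →
    chk (Matrix.diagonal (fun k => if k = i then a else if k = j then a⁻¹ else 1))
      (dgC.getD ((3 * i.val + j.val) * 4 + code a) 0)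
      (dgW.getD ((3 * i.val + j.val) * 4 + code a) []) = true := by
  decide +kernel

theorem range_le : ∀ A : SL34, toPermHom A ∈ grp 3 := by
  intro A
  refine Matrix.SpecialLinearGroup.diagonal_transvection_induction'
    (fun A => toPermHom A ∈ grp 3) A ?_ ?_ ?_
  · intro i j hij c hc
    exact mem_grp3_of_chk _ _ _ (dg_ok i j hij c hc)
  · intro i j hij a
    exact mem_grp3_of_chk _ _ _ (tv_ok i j hij a)
  · intro A B hA hB
    show toPermHom (A * B) ∈ grp 3
    rw [map_mul]
    exact Subgroup.mul_mem _ hA hB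

/-! ### The image is the whole three-point stabilizer -/

/-- The matrix with given coded entries. -/
def matOf (l : List ℕ) : Matrix (Fin 3) (Fin 3) F4 := fun r s => ofCode (l.getD (3 * r.val + s.val) 0)

/-- The determinant of a three by three matrix. -/
def det3 (M : Matrix (Fin 3) (Fin 3) F4) : F4 :=
  M 0 0 * M 1 1 * M 2 2 - M 0 0 * M 1 2 * M 2 1 - M 0 1 * M 1 0 * M 2 2 + M 0 1 * M 1 2 * M 2 0 +
    M 0 2 * M 1 0 * M 2 1 - M 0 2 * M 1 1 * M 2 0

theorem gen_ok : ∀ j : Fin 13, 3 ≤ depthOf j.val →
    det3 (matOf (genTab.getD j.val [])) = 1 ∧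
      allB 24 (fun p => Nat.beq (actIdx (matOf (genTab.getD j.val [])) p)
        (app (gcode j.val) p)) = true := by
  decide +kernel

theorem grp3_le_range : grp 3 ≤ toPermHom.range := by
  unfold grp
  rw [Subgroup.closure_le]
  rintro g ⟨j, hj, hd, rfl⟩
  have hj13 : j < 13 := hj
  obtain ⟨h1, h2⟩ := gen_ok ⟨j, hj13⟩ hd
  refine ⟨⟨matOf (genTab.getD j []), ?_⟩, ?_⟩
  · rw [Matrix.det_fin_three]; exact h1
  · exact Coded.ext (coded_of_check _ _ h2) (fun q => idx_gP j hj q)

theorem range_eq : toPermHom.range = grp 3 := by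
  apply le_antisymm
  · rintro _ ⟨A, rfl⟩
    exact range_le A
  · exact grp3_le_range

end Cfsg.Agent.Helper26.PSL34
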