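import Mathlib
import Cfsg.Agent.Lib.Helper26.PSL34b
import Cfsg.Agent.Lib.Helper2.PSLMapEquiv
import Cfsg.Agent.Lib.Helper29.M24Trans

/-!
# The three-point stabilizer of `M₂₄` is isomorphic to `PSL₃(4)`
-/

set_option autoImplicit false

namespace Cfsg.Agent.Helper26.PSL34

open Cfsg Cfsg.Agent.Helper26 Cfsg.Agent.Helper26.PermCert Cfsg.Agent.Helper26.PSL34D
  Cfsg.Agent.Helper26.M24A
open Cfsg.Agent.Helper29.M24
open Cfsg.Agent.S0358 (idx)
open Matrix

/-! ### The kernel -/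

theorem eq_smul_of_lab_eq {u v : Fin 3 → F4} (hu : u ≠ 0) (hv : v ≠ 0) (h : lab u = lab v) :
    ∃ k : F4, k ≠ 0 ∧ u = k • v := by
  obtain ⟨k1, hk1, h1⟩ := rep_lab hu
  obtain ⟨k2, hk2, h2⟩ := rep_lab hv
  rw [h, h2] at h1
  refine ⟨k1⁻¹ * k2, mul_ne_zero (inv_ne_zero hk1) hk2, ?_⟩
  rw [mul_smul, h1, smul_smul, inv_mul_cancel₀ hk1, one_smul]

theorem cube_eq_one : ∀ k : F4, k ≠ 0 → k ^ 3 = 1 := by decide

theorem rep_four : rep 4 = ![1, 0, 0] := by decide
theorem rep_three : rep 3 = ![0, 1, 0] := by decide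
theorem rep_two : rep 2 = ![0, 0, 1] := by decide
theorem rep_seven : rep 7 = ![1, 1, 1] := by decide

theorem actIdx_of_ker (A : SL34) (h : toPermHom A = 1) (i : ℕ) (hi : i < 24) :
    actIdx A.1 i = i := by
  have h1 := idx_toPermHom A (dec i)
  rw [h, Equiv.Perm.one_apply] at h1
  have h2 : idx (dec i) = i := idx_dec ⟨i, hi⟩
  rw [h2] at h1
  exact h1.symm

theorem smul_of_ker (A : SL34) (h : toPermHom A = 1) {i : ℕ} (h2 : 2 ≤ i) (h22 : i ≤ 22) :
    ∃ k : F4, k ≠ 0 ∧ A.1 *ᵥ rep i = k • rep i := by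
  have h1 := actIdx_of_ker A h i (by omega)
  rw [actIdx_mid A.1 h2 h22] at h1
  have h3 : lab (A.1 *ᵥ rep i) = lab (rep i) := by rw [h1, lab_rep h2 h22]
  exact eq_smul_of_lab_eq (mulVec_ne_zero A _ (rep_ne_zero h2 h22)) (rep_ne_zero h2 h22) h3

theorem scalar_of_ker (A : SL34) (h : toPermHom A = 1) :
    ∃ μ : F4, μ ≠ 0 ∧ A.1 = Matrix.scalar (Fin 3) μ := by
  obtain ⟨k0, hk0, e0⟩ := smul_of_ker A h (i := 4) (by norm_num) (by norm_num)
  obtain ⟨k1, hk1, e1⟩ := smul_of_ker A h (i := 3) (by norm_num) (by norm_num)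
  obtain ⟨k2, hk2, e2⟩ := smul_of_ker A h (i := 2) (by norm_num) (by norm_num)
  obtain ⟨μ, hμ, e7⟩ := smul_of_ker A h (i := 7) (by norm_num) (by norm_num)
  rw [rep_four] at e0
  rw [rep_three] at e1
  rw [rep_two] at e2
  rw [rep_seven] at e7
  have c0 : ∀ r : Fin 3, A.1 r 0 = k0 * (![1, 0, 0] : Fin 3 → F4) r := by
    intro r
    have := congrFun e0 r
    rw [mulVec_apply'] at this
    simpa [mvc] using this
  have c1 : ∀ r : Fin 3, A.1 r 1 = k1 * (![0, 1, 0] : Fin 3 → F4) r := by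
    intro r
    have := congrFun e1 r
    rw [mulVec_apply'] at this
    simpa [mvc] using this
  have c2 : ∀ r : Fin 3, A.1 r 2 = k2 * (![0, 0, 1] : Fin 3 → F4) r := by
    intro r
    have := congrFun e2 r
    rw [mulVec_apply'] at this
    simpa [mvc] using this
  have c7 : ∀ r : Fin 3, A.1 r 0 + A.1 r 1 + A.1 r 2 = μ * (![1, 1, 1] : Fin 3 → F4) r := by
    intro r
    have := congrFun e7 r
    rw [mulVec_apply'] at this
    simpa [mvc] using this
  have a00 := c0 0; have a10 := c0 1; have a20 := c0 2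
  have a01 := c1 0; have a11 := c1 1; have a21 := c1 2
  have a02 := c2 0; have a12 := c2 1; have a22 := c2 2
  have s0 := c7 0; have s1 := c7 1; have s2 := c7 2
  simp at a00 a10 a20 a01 a11 a21 a02 a12 a22 s0 s1 s2
  rw [a00, a01, a02] at s0
  rw [a10, a11, a12] at s1
  rw [a20, a21, a22] at s2
  simp at s0 s1 s2
  refine ⟨μ, hμ, ?_⟩
  ext r s
  fin_cases r <;> fin_cases s <;> simp [a00, a10, a20, a01, a11, a21, a02, a12, a22, s0, s1, s2]

theorem ker_eq_center : toPermHom.ker = Subgroup.center SL34 := by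
  ext A
  rw [MonoidHom.mem_ker, Matrix.SpecialLinearGroup.mem_center_iff]
  constructor
  · intro h
    obtain ⟨μ, hμ, hA⟩ := scalar_of_ker A h
    refine ⟨μ, ?_, hA.symm⟩
    rw [Fintype.card_fin]
    exact cube_eq_one μ hμ
  · rintro ⟨r, hr, hA⟩
    have hr0 : r ≠ 0 := by
      intro h0
      rw [h0, Fintype.card_fin] at hr
      revert hr
      decide
    apply Equiv.ext
    intro q
    apply idx_injective
    rw [idx_toPermHom, Equiv.Perm.one_apply]
    by_cases h : 2 ≤ idx q ∧ idx q ≤ 22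
    · rw [actIdx_mid A.1 h.1 h.2, ← hA]
      have : (Matrix.scalar (Fin 3) r) *ᵥ rep (idx q) = r • rep (idx q) := by
        funext s
        simp [Matrix.mulVec, dotProduct, Matrix.diagonal_apply]
      rw [this, lab_smul r hr0, lab_rep h.1 h.2]
    · exact actIdx_fixed A.1 h

/-! ### The isomorphism -/

/-- `PSL₃(4)` is isomorphic to the three-point stabilizer `grp 3`. -/
noncomputable def pslEquiv : Matrix.ProjectiveSpecialLinearGroup (Fin 3) F4 ≃* ↥(grp 3) :=
  ((QuotientGroup.quotientMulEquivOfEq ker_eq_center.symm).trans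
    (QuotientGroup.quotientKerEquivRange toPermHom)).trans (MulEquiv.subgroupCongr range_eq)

end Cfsg.Agent.Helper26.PSL34
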