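import Mathlib
import Cfsg.Agent.Lib.Helper26.PSL34c

/-!
# Three-point stabilizers in `M₂₄` are isomorphic to `PSL₃(4)`
-/

set_option autoImplicit false

namespace Cfsg.Agent.Helper26.PSL34

open Cfsg Cfsg.Agent.Helper26 Cfsg.Agent.Helper26.PermCert
open Cfsg.Agent.Helper29.M24
open Cfsg.Agent.S0358 (idx)

theorem dec_bpt_zero : dec (bpt 0) = (none : GolayPt) := by decide
theorem dec_bpt_one : dec (bpt 1) = (some 0 : GolayPt) := by decide
theorem dec_bpt_two : dec (bpt 2) = (some 1 : GolayPt) := by decide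

theorem mem_grp3_iff (σ : Equiv.Perm GolayPt) :
    σ ∈ grp 3 ↔ σ ∈ Cfsg.M24 ∧ σ (none : GolayPt) = none ∧ σ (some 0 : GolayPt) = some 0 ∧
      σ (some 1 : GolayPt) = some 1 := by
  rw [mem_grp_iff 3 (by norm_num)]
  constructor
  · rintro ⟨h1, h2⟩
    refine ⟨h1, ?_, ?_, ?_⟩
    · have := h2 0 (by norm_num)
      rwa [dec_bpt_zero] at this
    · have := h2 1 (by norm_num)
      rwa [dec_bpt_one] at this
    · have := h2 2 (by norm_num)
      rwa [dec_bpt_two] at this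
  · rintro ⟨h1, h2, h3, h4⟩
    refine ⟨h1, fun i' hi' => ?_⟩
    have : i' = 0 ∨ i' = 1 ∨ i' = 2 := by omega
    rcases this with rfl | rfl | rfl
    · rw [dec_bpt_zero]; exact h2
    · rw [dec_bpt_one]; exact h3
    · rw [dec_bpt_two]; exact h4

theorem three_point_aux (p q r : GolayPt) (hpq : p ≠ q) (hpr : p ≠ r) (hqr : q ≠ r)
    (Gs : Subgroup ↥Cfsg.M24)
    (hGs : Gs = MulAction.stabilizer Cfsg.M24 p ⊓ MulAction.stabilizer Cfsg.M24 q ⊓
      MulAction.stabilizer Cfsg.M24 r) : Nonempty (↥Gs ≃* ↥(grp 3)) := by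
  obtain ⟨g, hg, hgxy⟩ := exists_map_emb₂ (by norm_num : 3 ≤ 5)
    (⟨![p, q, r], by
      intro i j hij
      fin_cases i <;> fin_cases j <;> simp_all [eq_comm]⟩ : Fin 3 ↪ GolayPt)
    (⟨![(none : GolayPt), some 0, some 1], by decide⟩ : Fin 3 ↪ GolayPt)
  have hgp : g p = none := hgxy 0
  have hgq : g q = some 0 := hgxy 1
  have hgr : g r = some 1 := hgxy 2
  have hgp' : g⁻¹ (none : GolayPt) = p := by
    rw [← hgp, Equiv.Perm.inv_def, Equiv.symm_apply_apply]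
  have hgq' : g⁻¹ (some 0 : GolayPt) = q := by
    rw [← hgq, Equiv.Perm.inv_def, Equiv.symm_apply_apply]
  have hgr' : g⁻¹ (some 1 : GolayPt) = r := by
    rw [← hgr, Equiv.Perm.inv_def, Equiv.symm_apply_apply]
  have hmemG : ∀ x : ↥Cfsg.M24, x ∈ Gs ↔
      (x : Equiv.Perm GolayPt) p = p ∧ (x : Equiv.Perm GolayPt) q = q ∧
        (x : Equiv.Perm GolayPt) r = r := by
    intro x
    rw [hGs, Subgroup.mem_inf, Subgroup.mem_inf, MulAction.mem_stabilizer_iff,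
      MulAction.mem_stabilizer_iff, MulAction.mem_stabilizer_iff,
      Subgroup.smul_def, Subgroup.smul_def, Subgroup.smul_def, Equiv.Perm.smul_def,
      Equiv.Perm.smul_def, Equiv.Perm.smul_def, and_assoc]
  let ψ : ↥Gs →* Equiv.Perm GolayPt :=
    (MulAut.conj g).toMonoidHom.comp ((Cfsg.M24).subtype.comp Gs.subtype)
  have hψ : ∀ x : ↥Gs, ψ x = g * ((x : ↥Cfsg.M24) : Equiv.Perm GolayPt) * g⁻¹ := fun x => rfl
  have hinj : Function.Injective ψ := by
    intro x y hxy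
    rw [hψ, hψ] at hxy
    have h1 : ((x : ↥Cfsg.M24) : Equiv.Perm GolayPt) = ((y : ↥Cfsg.M24) : Equiv.Perm GolayPt) :=
      mul_left_cancel (mul_right_cancel hxy)
    exact Subtype.ext (Subtype.ext h1)
  have hrange : ψ.range = grp 3 := by
    ext m
    constructor
    · rintro ⟨x, rfl⟩
      obtain ⟨hxp, hxq, hxr⟩ := (hmemG x).1 x.2
      rw [hψ, mem_grp3_iff]
      refine ⟨Subgroup.mul_mem _ (Subgroup.mul_mem _ hg (x : ↥Cfsg.M24).2)
        (Subgroup.inv_mem _ hg), ?_, ?_, ?_⟩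
      · rw [Equiv.Perm.mul_apply, Equiv.Perm.mul_apply, hgp', hxp, hgp]
      · rw [Equiv.Perm.mul_apply, Equiv.Perm.mul_apply, hgq', hxq, hgq]
      · rw [Equiv.Perm.mul_apply, Equiv.Perm.mul_apply, hgr', hxr, hgr]
    · intro hm
      obtain ⟨hm24, hm1, hm2, hm3⟩ := (mem_grp3_iff m).1 hm
      have hx24 : g⁻¹ * m * g ∈ Cfsg.M24 :=
        Subgroup.mul_mem _ (Subgroup.mul_mem _ (Subgroup.inv_mem _ hg) hm24) hg
      have hxG : (⟨g⁻¹ * m * g, hx24⟩ : ↥Cfsg.M24) ∈ Gs := by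
        rw [hmemG]
        refine ⟨?_, ?_, ?_⟩
        · show (g⁻¹ * m * g) p = p
          rw [Equiv.Perm.mul_apply, Equiv.Perm.mul_apply, hgp, hm1, hgp']
        · show (g⁻¹ * m * g) q = q
          rw [Equiv.Perm.mul_apply, Equiv.Perm.mul_apply, hgq, hm2, hgq']
        · show (g⁻¹ * m * g) r = r
          rw [Equiv.Perm.mul_apply, Equiv.Perm.mul_apply, hgr, hm3, hgr']
      refine ⟨⟨⟨g⁻¹ * m * g, hx24⟩, hxG⟩, ?_⟩
      rw [hψ]
      show g * (g⁻¹ * m * g) * g⁻¹ = m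
      group
  exact ⟨(MonoidHom.ofInjective hinj).trans (MulEquiv.subgroupCongr hrange)⟩

theorem three_point (p q r : GolayPt) (hpq : p ≠ q) (hpr : p ≠ r) (hqr : q ≠ r) (F : Type)
    [Field F] [Fintype F] (hF : Fintype.card F = 4) :
    Nonempty (↥(MulAction.stabilizer Cfsg.M24 p ⊓ MulAction.stabilizer Cfsg.M24 q ⊓
      MulAction.stabilizer Cfsg.M24 r) ≃* Matrix.ProjectiveSpecialLinearGroup (Fin 3) F) := by
  obtain ⟨e1⟩ := three_point_aux p q r hpq hpr hqr _ rfl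
  have e : F4 ≃+* F := FiniteField.ringEquivOfCardEq (by rw [F4.card_F4, hF])
  exact ⟨(e1.trans pslEquiv.symm).trans (Cfsg.Agent.Helper2.pslMapEquiv e)⟩

end Cfsg.Agent.Helper26.PSL34
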