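import Mathlib

set_option autoImplicit false

/-!
Counting zeros of the forms `∑ x_i y_i + R(w)` over a finite field.
-/

namespace Cfsg.Agent.Helper26

open Finset

variable {F : Type*} [Field F] [Fintype F] [DecidableEq F]
variable {ι : Type*} [Fintype ι] [DecidableEq ι]

/-- the linear functional `y ↦ ∑ x_i y_i` as an additive hom -/
def dotHom (x : ι → F) : (ι → F) →+ F where
  toFun y := ∑ i, x i * y i
  map_zero' := by simp
  map_add' y z := by simp [mul_add, Finset.sum_add_distrib]

lemma dotHom_apply (x y : ι → F) : dotHom x y = ∑ i, x i * y i := rfl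

lemma dotHom_surjective {x : ι → F} (hx : x ≠ 0) : Function.Surjective (dotHom x) := by
  obtain ⟨i₀, hi₀⟩ : ∃ i, x i ≠ 0 := by
    by_contra h
    push Not at h
    exact hx (funext h)
  intro c
  refine ⟨Pi.single i₀ (c / x i₀), ?_⟩
  rw [dotHom_apply, Finset.sum_eq_single i₀]
  · rw [Pi.single_eq_same, mul_div_cancel₀ _ hi₀]
  · intro j _ hj
    rw [Pi.single_eq_of_ne hj, mul_zero]
  · intro h; exact absurd (Finset.mem_univ _) h

/-- a hyperplane `∑ x_i y_i = c` (with `x ≠ 0`) has `q^(n-1)` points -/
lemma card_hyperplane {x : ι → F} (hx : x ≠ 0) (c : F) :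
    #{y : ι → F | ∑ i, x i * y i = c} = Fintype.card F ^ (Fintype.card ι - 1) := by
  have hsurj := dotHom_surjective hx
  have hfib : ∀ d : F, #{y : ι → F | dotHom x y = d} = #{y : ι → F | dotHom x y = c} := by
    intro d
    exact AddMonoidHom.card_fiber_eq_of_mem_range (dotHom x) (hsurj d) (hsurj c)
  have htot : #(univ : Finset (ι → F)) = ∑ d : F, #{y : ι → F | dotHom x y = d} :=
    Finset.card_eq_sum_card_fiberwise (f := dotHom x) (s := univ) (t := univ)
      (fun _ _ => Finset.mem_coe.mpr (Finset.mem_univ _))
  simp only [hfib, Finset.sum_const, Finset.card_univ, smul_eq_mul] at htot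
  rw [Fintype.card_fun] at htot
  have hpos : 0 < Fintype.card ι := by
    obtain ⟨i₀, -⟩ : ∃ i, x i ≠ 0 := by
      by_contra h
      push Not at h
      exact hx (funext h)
    exact Fintype.card_pos_iff.mpr ⟨i₀⟩
  have hq : 0 < Fintype.card F := Fintype.card_pos
  have h1 : Fintype.card F ^ Fintype.card ι = Fintype.card F * Fintype.card F ^ (Fintype.card ι - 1) := by
    rw [← pow_succ']
    congr 1
    omega
  rw [h1] at htot
  exact (Nat.eq_of_mul_eq_mul_left hq htot).symm

/-- number of solutions of `∑ x_i y_i = c` -/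
lemma card_bilin (c : F) :
    #{p : (ι → F) × (ι → F) | ∑ i, p.1 i * p.2 i = c} =
      (if c = 0 then Fintype.card F ^ Fintype.card ι else 0) +
        (Fintype.card F ^ Fintype.card ι - 1) * Fintype.card F ^ (Fintype.card ι - 1) := by
  rw [Finset.card_filter, ← Finset.univ_product_univ, Finset.sum_product]
  simp only [← Finset.card_filter]
  rw [← Finset.add_sum_erase univ _ (Finset.mem_univ (0 : ι → F))]
  congr 1
  · simp only [Pi.zero_apply, zero_mul, Finset.sum_const_zero]
    by_cases hc : c = 0
    · subst hc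
      simp [Fintype.card_fun]
    · rw [if_neg hc]
      rw [Finset.card_eq_zero, Finset.filter_eq_empty_iff]
      intro y _ h
      exact hc h.symm
  · rw [Finset.sum_congr rfl (fun x hx => card_hyperplane (Finset.ne_of_mem_erase hx) c)]
    rw [Finset.sum_const, Finset.card_erase_of_mem (Finset.mem_univ _), Finset.card_univ,
      Fintype.card_fun, smul_eq_mul]

/-- zeros of `∑ x_i y_i + R w` -/
lemma card_zeros_add {W : Type*} [Fintype W] [DecidableEq W] (R : W → F) :
    #{p : ((ι → F) × (ι → F)) × W | ∑ i, p.1.1 i * p.1.2 i + R p.2 = 0} =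
      #{w : W | R w = 0} * Fintype.card F ^ Fintype.card ι +
        Fintype.card W *
          ((Fintype.card F ^ Fintype.card ι - 1) * Fintype.card F ^ (Fintype.card ι - 1)) := by
  rw [Finset.card_filter, ← Finset.univ_product_univ, Finset.sum_product_right]
  simp only [← Finset.card_filter]
  have : ∀ w : W, #{p : (ι → F) × (ι → F) | ∑ i, p.1 i * p.2 i + R w = 0} =
      (if R w = 0 then Fintype.card F ^ Fintype.card ι else 0) +
        (Fintype.card F ^ Fintype.card ι - 1) * Fintype.card F ^ (Fintype.card ι - 1) := by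
    intro w
    have h1 : #{p : (ι → F) × (ι → F) | ∑ i, p.1 i * p.2 i + R w = 0} =
        #{p : (ι → F) × (ι → F) | ∑ i, p.1 i * p.2 i = -R w} := by
      congr 1
      ext p
      simp only [Finset.mem_filter, Finset.mem_univ, true_and]
      constructor
      · intro h; exact eq_neg_of_add_eq_zero_left h
      · intro h; rw [h, neg_add_cancel]
    rw [h1, card_bilin (-R w)]
    simp only [neg_eq_zero]
  simp only [this]
  rw [Finset.sum_add_distrib, Finset.sum_const, Finset.card_univ, smul_eq_mul]
  congr 1
  rw [← Finset.sum_filter, Finset.sum_const, smul_eq_mul]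

end Cfsg.Agent.Helper26
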