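import Mathlib

/-!
# Abstract lemmas: simplicity from a core-free maximal subgroup, and a permutation model
-/

set_option autoImplicit false

namespace Cfsg.Agent.Helper26.RuAbs

/-- A finite group with a core-free maximal subgroup `H`, generated by elements whose orders are
prime to the order of `H`, is simple. -/
theorem simple_of_maximal_corefree {G : Type*} [Group G] [Finite G] [Nontrivial G]
    (H : Subgroup G) (hmax : ∀ K : Subgroup G, H ≤ K → K = H ∨ K = ⊤)
    (hcore : ∀ N : Subgroup G, N.Normal → N ≤ H → N = ⊥)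
    (S : Set G) (hS : Subgroup.closure S = ⊤)
    (hord : ∀ s ∈ S, ∃ m : ℕ, s ^ m = 1 ∧ Nat.Coprime m (Nat.card H)) : IsSimpleGroup G := by
  refine ⟨fun N hN => ?_⟩
  by_cases hb : N = ⊥
  · exact Or.inl hb
  right
  have hle : ¬ N ≤ H := fun h => hb (hcore N hN h)
  have hsup : H ⊔ N = ⊤ := by
    rcases hmax (H ⊔ N) le_sup_left with h | h
    · exact absurd (h ▸ le_sup_right) hle
    · exact h
  have hidx : N.index = N.relIndex H := by
    rw [← Subgroup.relIndex_sup_right (H := H) (K := N), hsup, Subgroup.relIndex_top_right]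
  have hdvd : N.index ∣ Nat.card H := by
    rw [hidx]
    exact Subgroup.relIndex_dvd_card N H
  rw [eq_top_iff, ← hS, Subgroup.closure_le]
  intro s hs
  obtain ⟨m, hm, hcop⟩ := hord s hs
  have h1 : orderOf (QuotientGroup.mk (s := N) s) ∣ m := by
    apply orderOf_dvd_of_pow_eq_one
    rw [← QuotientGroup.mk_pow, hm, QuotientGroup.mk_one]
  have h2 : orderOf (QuotientGroup.mk (s := N) s) ∣ Nat.card H := by
    refine dvd_trans ?_ hdvd
    rw [Subgroup.index_eq_card]
    exact orderOf_dvd_natCard _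
  have h3 : orderOf (QuotientGroup.mk (s := N) s) = 1 := Nat.eq_one_of_dvd_coprimes hcop h1 h2
  rw [orderOf_eq_one_iff] at h3
  exact (QuotientGroup.eq_one_iff s).1 h3

/-- A finite group `G` with a core-free subgroup `H` of index `n` is isomorphic to a transitive
subgroup of the symmetric group of degree `n` in which `H` corresponds to the stabilizer of `0`. -/
theorem exists_perm_model {G : Type*} [Group G] [Finite G] (H : Subgroup G) (n : ℕ) [NeZero n]
    (hn : H.index = n) (hcore : H.normalCore = ⊥) :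
    ∃ (P : Subgroup (Equiv.Perm (Fin n))) (θ : G ≃* P),
      MulAction.IsPretransitive P (Fin n) ∧
      ∀ g : G, g ∈ H ↔ (θ g : Equiv.Perm (Fin n)) 0 = 0 := by
  classical
  have hcard : Nat.card (G ⧸ H) = n := by rw [← Subgroup.index_eq_card, hn]
  haveI : Finite (G ⧸ H) := inferInstance
  -- an equivalence sending the base coset to `0`
  obtain ⟨e0⟩ : Nonempty (G ⧸ H ≃ Fin n) := by
    have := Finite.equivFinOfCardEq hcard
    exact ⟨this⟩
  let q0 : G ⧸ H := QuotientGroup.mk 1
  let e : G ⧸ H ≃ Fin n := e0.trans (Equiv.swap (e0 q0) 0)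
  have he0 : e q0 = 0 := by
    show (Equiv.swap (e0 q0) 0) (e0 q0) = 0
    exact Equiv.swap_apply_left _ _
  let φ : G →* Equiv.Perm (G ⧸ H) := MulAction.toPermHom G (G ⧸ H)
  let ψ : Equiv.Perm (G ⧸ H) ≃* Equiv.Perm (Fin n) := e.permCongrHom
  let f : G →* Equiv.Perm (Fin n) := ψ.toMonoidHom.comp φ
  have hfinj : Function.Injective f := by
    rw [injective_iff_map_eq_one]
    intro g hg
    have h1 : φ g = 1 := by
      have : ψ (φ g) = 1 := hg
      exact (MulEquiv.map_eq_one_iff ψ).1 this
    have h2 : g ∈ φ.ker := h1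
    rw [← Subgroup.normalCore_eq_ker, hcore] at h2
    exact (Subgroup.mem_bot).1 h2
  have hfapp : ∀ (g : G) (x : Fin n), f g x = e (g • e.symm x) := by
    intro g x
    rfl
  refine ⟨f.range, MonoidHom.ofInjective hfinj, ?_, ?_⟩
  · refine ⟨fun x y => ?_⟩
    obtain ⟨g, hg⟩ := MulAction.exists_smul_eq G (e.symm x) (e.symm y)
    refine ⟨⟨f g, g, rfl⟩, ?_⟩
    show f g x = y
    rw [hfapp, hg, Equiv.apply_symm_apply]
  · intro g
    have h1 : ((MonoidHom.ofInjective hfinj g : f.range) : Equiv.Perm (Fin n)) = f g := rfl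
    rw [h1, hfapp, ← he0, Equiv.symm_apply_apply, EmbeddingLike.apply_eq_iff_eq]
    show g ∈ H ↔ g • (QuotientGroup.mk 1 : G ⧸ H) = QuotientGroup.mk 1
    rw [← MulAction.mem_stabilizer_iff, MulAction.stabilizer_quotient]

end Cfsg.Agent.Helper26.RuAbs
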