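import Mathlib

/-!
# Maximality of a subgroup from the classes of a transversal
-/

set_option autoImplicit false

namespace Cfsg.Agent.Helper26.RuAbs

open Finset

/-- Let `G = ⨆ᵢ Tᵢ H` be a decomposition into `n` distinct cosets, and let the indices be divided into
classes such that two transversal elements of the same class lie in the same double coset of `H`,
the class `0` consisting of the index `0` alone.  If no union of classes containing the class `0`,
other than that class and everything, has a number of indices dividing `n`, then `H` is a maximal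
subgroup of `G`. -/
theorem maximal_of_classes {A : Type*} [Group A] [Finite A] (G H : Subgroup A)
    (n : ℕ) (T : ℕ → A) (hT0 : T 0 = 1) (hn : 0 < n)
    (hdec : ∀ g ∈ G, ∃ i < n, ∃ h ∈ H, g = T i * h)
    (hinj : ∀ i < n, ∀ j < n, (T j)⁻¹ * T i ∈ H → i = j)
    (hcardG : Nat.card G = n * Nat.card H)
    (cls : ℕ → ℕ) (m : ℕ) (hcls : ∀ i < n, cls i < m) (h00 : cls 0 = 0)
    (hcls0 : ∀ i < n, cls i = 0 → i = 0)
    (hconn : ∀ i < n, ∀ j < n, cls i = cls j → ∃ k ∈ H, ∃ h ∈ H, T j = k * T i * h)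
    (cntc : ℕ → ℕ) (hcnt : ∀ c < m, ((range n).filter (fun i => cls i = c)).card = cntc c)
    (hnum : ∀ J ∈ (range m).powerset, 0 ∈ J → (∑ c ∈ J, cntc c) ∣ n → J = {0} ∨ J = range m) :
    ∀ K : Subgroup A, H ≤ K → K ≤ G → K = H ∨ K = G := by
  classical
  intro K hHK hKG
  let I : Finset ℕ := (range n).filter (fun i => T i ∈ K)
  let J : Finset ℕ := I.image cls
  have hI0 : 0 ∈ I := by
    simp only [I, mem_filter, mem_range]
    exact ⟨hn, by rw [hT0]; exact K.one_mem⟩
  have hJ0 : 0 ∈ J := by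
    simp only [J, mem_image]
    exact ⟨0, hI0, h00⟩
  have hJm : J ∈ (range m).powerset := by
    rw [mem_powerset]
    intro c hc
    simp only [J, mem_image] at hc
    obtain ⟨i, hi, rfl⟩ := hc
    simp only [I, mem_filter, mem_range] at hi
    exact mem_range.2 (hcls i hi.1)
  -- `I` is the union of the classes in `J`
  have hIJ : I = (range n).filter (fun i => cls i ∈ J) := by
    ext i
    simp only [I, J, mem_filter, mem_range, mem_image]
    constructor
    · rintro ⟨hi, hiK⟩
      exact ⟨hi, i, ⟨hi, hiK⟩, rfl⟩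
    · rintro ⟨hi, i', ⟨hi', hi'K⟩, hc⟩
      refine ⟨hi, ?_⟩
      obtain ⟨k, hk, h, hh, e⟩ := hconn i' hi' i hi hc
      rw [e]
      exact K.mul_mem (K.mul_mem (hHK hk) hi'K) (hHK hh)
  have hIcard : I.card = ∑ c ∈ J, cntc c := by
    have hmaps : ((({i ∈ range n | cls i ∈ J} : Finset ℕ)) : Set ℕ).MapsTo cls J := by
      intro i hi
      exact (mem_filter.1 (mem_coe.1 hi)).2
    rw [hIJ, card_eq_sum_card_fiberwise hmaps]
    apply sum_congr rfl
    intro c hc
    have hcm : c < m := mem_range.1 (mem_powerset.1 hJm hc)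
    rw [← hcnt c hcm]
    congr 1
    ext i
    simp only [mem_filter, mem_range]
    constructor
    · rintro ⟨⟨hi, _⟩, hic⟩
      exact ⟨hi, hic⟩
    · rintro ⟨hi, hic⟩
      exact ⟨⟨hi, by rw [hic]; exact hc⟩, hic⟩
  -- the order of `K`
  have hKcard : Nat.card K = I.card * Nat.card H := by
    let f : I × H → K := fun x =>
      ⟨T x.1.1 * x.2.1, K.mul_mem (mem_filter.1 x.1.2).2 (hHK x.2.2)⟩
    have hfinj : Function.Injective f := by
      rintro ⟨⟨i, hi⟩, ⟨h, hh⟩⟩ ⟨⟨i', hi'⟩, ⟨h', hh'⟩⟩ heq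
      have heq' : T i * h = T i' * h' := congrArg Subtype.val heq
      have hii : i = i' := by
        apply hinj i (mem_range.1 (mem_filter.1 hi).1) i' (mem_range.1 (mem_filter.1 hi').1)
        have : (T i')⁻¹ * T i = h' * h⁻¹ := by
          rw [inv_mul_eq_iff_eq_mul, ← mul_assoc, ← heq', mul_assoc, mul_inv_cancel, mul_one]
        rw [this]
        exact H.mul_mem hh' (H.inv_mem hh)
      subst hii
      have hhh : h = h' := mul_left_cancel heq'
      subst hhh
      rfl
    have hfsurj : Function.Surjective f := by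
      rintro ⟨k, hk⟩
      obtain ⟨i, hi, h, hh, rfl⟩ := hdec k (hKG hk)
      have hiK : T i ∈ K := by
        have : T i = T i * h * h⁻¹ := by rw [mul_inv_cancel_right]
        rw [this]
        exact K.mul_mem hk (K.inv_mem (hHK hh))
      exact ⟨⟨⟨i, mem_filter.2 ⟨mem_range.2 hi, hiK⟩⟩, ⟨h, hh⟩⟩, rfl⟩
    have hcard := Nat.card_congr (Equiv.ofBijective f ⟨hfinj, hfsurj⟩)
    rw [← hcard, Nat.card_prod, Nat.card_eq_fintype_card (α := I), Fintype.card_coe]
  have hdvd : I.card ∣ n := by
    have h1 : Nat.card K ∣ Nat.card G := Subgroup.card_dvd_of_le hKG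
    rw [hKcard, hcardG] at h1
    exact Nat.dvd_of_mul_dvd_mul_right Nat.card_pos h1
  rw [hIcard] at hdvd
  rcases hnum J hJm hJ0 hdvd with hJ | hJ
  · left
    apply le_antisymm _ hHK
    intro k hk
    obtain ⟨i, hi, h, hh, rfl⟩ := hdec k (hKG hk)
    have hiK : T i ∈ K := by
      have : T i = T i * h * h⁻¹ := by rw [mul_inv_cancel_right]
      rw [this]
      exact K.mul_mem hk (K.inv_mem (hHK hh))
    have hiI : i ∈ I := mem_filter.2 ⟨mem_range.2 hi, hiK⟩
    have hcJ : cls i ∈ J := mem_image_of_mem cls hiI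
    rw [hJ, mem_singleton] at hcJ
    have hi0 := hcls0 i hi hcJ
    rw [hi0, hT0, one_mul]
    exact hh
  · right
    apply le_antisymm hKG
    intro g hg
    obtain ⟨i, hi, h, hh, rfl⟩ := hdec g hg
    have hiI : i ∈ I := by
      rw [hIJ, mem_filter, hJ]
      exact ⟨mem_range.2 hi, mem_range.2 (hcls i hi)⟩
    exact K.mul_mem (mem_filter.1 hiI).2 (hHK hh)

end Cfsg.Agent.Helper26.RuAbs
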