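import Mathlib
import Cfsg.Agent.Lib.Helper26.RuAbsA

/-!
# Abstract lemma: from a chain `T ≤ H ≤ G` to a permutation realization
-/

set_option autoImplicit false

namespace Cfsg.Agent.Helper26.RuAbs

/-- A simple group `G` with a subgroup `H` of index `n > 1` containing a simple subgroup `T` is
realized as a transitive group of degree `n` whose point stabilizer has the order of `H` and
contains a copy of `T`. -/
theorem exists_realization {A : Type*} [Group A] [Finite A] (G H T : Subgroup A)
    (n cG cH cT : ℕ) [NeZero n] (hn1 : 1 < n) (hHG : H ≤ G) (hTH : T ≤ H)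
    (hsG : IsSimpleGroup G) (hsT : IsSimpleGroup T)
    (hcG : Nat.card G = cG) (hcH : Nat.card H = cH) (hcT : Nat.card T = cT)
    (hn : cG = n * cH) :
    ∃ P : Subgroup (Equiv.Perm (Fin n)), (IsSimpleGroup P ∧ Nat.card P = cG) ∧
      MulAction.IsPretransitive P (Fin n) ∧
      Nat.card (MulAction.stabilizer P (0 : Fin n)) = cH ∧
      ∃ T' : Subgroup (MulAction.stabilizer P (0 : Fin n)),
        IsSimpleGroup T' ∧ Nat.card T' = cT := by
  have hcH' : Nat.card (H.subgroupOf G) = cH := by
    rw [Nat.card_congr (Subgroup.subgroupOfEquivOfLe hHG).toEquiv, hcH]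
  have hcHpos : 0 < cH := by
    rw [← hcH]
    exact Nat.card_pos
  have hidx : (H.subgroupOf G).index = n := by
    have h1 := Subgroup.card_mul_index (H.subgroupOf G)
    rw [hcH', hcG, hn, mul_comm n cH] at h1
    exact Nat.eq_of_mul_eq_mul_left hcHpos h1
  have hcore : (H.subgroupOf G).normalCore = ⊥ := by
    rcases hsG.eq_bot_or_eq_top_of_normal _ (Subgroup.normalCore_normal (H.subgroupOf G)) with
      h | h
    · exact h
    · exfalso
      have h2 : H.subgroupOf G = ⊤ := by
        rw [eq_top_iff, ← h]
        exact Subgroup.normalCore_le _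
      rw [h2, Subgroup.index_top] at hidx
      omega
  obtain ⟨P, θ, htr, hθ⟩ := exists_perm_model (H.subgroupOf G) n hidx hcore
  have hstab : MulAction.stabilizer P (0 : Fin n) = (H.subgroupOf G).map θ.toMonoidHom := by
    ext p
    rw [MulAction.mem_stabilizer_iff, Subgroup.mem_map]
    constructor
    · intro hp
      refine ⟨θ.symm p, ?_, ?_⟩
      · rw [hθ]
        have : θ (θ.symm p) = p := θ.apply_symm_apply p
        rw [this]
        exact hp
      · exact θ.apply_symm_apply p
    · rintro ⟨g, hg, rfl⟩
      exact (hθ g).1 hg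
  refine ⟨P, ⟨?_, ?_⟩, htr, ?_, ?_⟩
  · exact θ.symm.isSimpleGroup
  · rw [← Nat.card_congr θ.toEquiv, hcG]
  · rw [hstab, ← Nat.card_congr
      ((H.subgroupOf G).equivMapOfInjective θ.toMonoidHom θ.injective).toEquiv, hcH']
  · have hTG : T ≤ G := le_trans hTH hHG
    have hle : (T.subgroupOf G).map θ.toMonoidHom ≤ MulAction.stabilizer P (0 : Fin n) := by
      rw [hstab]
      apply Subgroup.map_mono
      intro x hx
      exact Subgroup.mem_subgroupOf.2 (hTH (Subgroup.mem_subgroupOf.1 hx))
    let e : (((T.subgroupOf G).map θ.toMonoidHom).subgroupOf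
        (MulAction.stabilizer P (0 : Fin n))) ≃* T :=
      (Subgroup.subgroupOfEquivOfLe hle).trans
        (((T.subgroupOf G).equivMapOfInjective θ.toMonoidHom θ.injective).symm.trans
          (Subgroup.subgroupOfEquivOfLe hTG))
    refine ⟨((T.subgroupOf G).map θ.toMonoidHom).subgroupOf
        (MulAction.stabilizer P (0 : Fin n)), ?_, ?_⟩
    · exact e.isSimpleGroup
    · rw [Nat.card_congr e.toEquiv, hcT]

end Cfsg.Agent.Helper26.RuAbs
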