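import Mathlib
import Cfsg.Agent.Lib.Helper26.RuChainM

/-!
# Checks for the chain M: trees, sorting
-/

set_option autoImplicit false

namespace Cfsg.Agent.Helper26.RuD

open Cfsg.Agent.Helper26.BM28 Cfsg.Agent.Helper26.RuTab

set_option maxRecDepth 100000 in
theorem treeM_0 : allR (treeM 0) 1 1755 = true := by decide +kernel

set_option maxRecDepth 100000 in
theorem sortM_0 : allR (sortM 0) 0 1754 = true := by decide +kernel

set_option maxRecDepth 100000 in
theorem posM_0 : allR (posOKM 0) 0 1755 = true := by decide +kernel

set_option maxRecDepth 100000 in
theorem treeM_1 : allR (treeM 1) 1 1280 = true := by decide +kernel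

set_option maxRecDepth 100000 in
theorem sortM_1 : allR (sortM 1) 0 1279 = true := by decide +kernel

set_option maxRecDepth 100000 in
theorem posM_1 : allR (posOKM 1) 0 1280 = true := by decide +kernel

set_option maxRecDepth 100000 in
theorem treeM_2 : allR (treeM 2) 1 8 = true := by decide +kernel

set_option maxRecDepth 100000 in
theorem sortM_2 : allR (sortM 2) 0 7 = true := by decide +kernel

set_option maxRecDepth 100000 in
theorem posM_2 : allR (posOKM 2) 0 8 = true := by decide +kernel

set_option maxRecDepth 100000 in
theorem treeM_3 : allR (treeM 3) 1 1 = true := by decide +kernel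

set_option maxRecDepth 100000 in
theorem sortM_3 : allR (sortM 3) 0 0 = true := by decide +kernel

set_option maxRecDepth 100000 in
theorem posM_3 : allR (posOKM 3) 0 1 = true := by decide +kernel

end Cfsg.Agent.Helper26.RuD
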