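import Mathlib
import Cfsg.Agent.Lib.Helper26.RuChainM

/-!
# Schreier checks for the chain M: level 1, generator 1
-/

set_option autoImplicit false

namespace Cfsg.Agent.Helper26.RuD

open Cfsg.Agent.Helper26.BM28 Cfsg.Agent.Helper26.RuTab

set_option maxRecDepth 100000 in
theorem stepM_1_1 : allR (stepM 1 1) 0 1280 = true := by decide +kernel

end Cfsg.Agent.Helper26.RuD
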