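import Mathlib
import Cfsg.Agent.Lib.Helper26.RuChainR

/-!
# Checks for the chain R: trees, sorting
-/

set_option autoImplicit false

namespace Cfsg.Agent.Helper26.RuD

open Cfsg.Agent.Helper26.BM28 Cfsg.Agent.Helper26.RuTab

set_option maxRecDepth 100000 in
theorem treeR_0 : allR (treeR 0) 1 4060 = true := by decide +kernel

set_option maxRecDepth 100000 in
theorem sortR_0 : allR (sortR 0) 0 4059 = true := by decide +kernel

set_option maxRecDepth 100000 in
theorem posR_0 : allR (posOKR 0) 0 4060 = true := by decide +kernel

set_option maxRecDepth 100000 in
theorem treeR_1 : allR (treeR 1) 1 2304 = true := by decide +kernel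

set_option maxRecDepth 100000 in
theorem sortR_1 : allR (sortR 1) 0 2303 = true := by decide +kernel

set_option maxRecDepth 100000 in
theorem posR_1 : allR (posOKR 1) 0 2304 = true := by decide +kernel

set_option maxRecDepth 100000 in
theorem treeR_2 : allR (treeR 2) 1 975 = true := by decide +kernel

set_option maxRecDepth 100000 in
theorem sortR_2 : allR (sortR 2) 0 974 = true := by decide +kernel

set_option maxRecDepth 100000 in
theorem posR_2 : allR (posOKR 2) 0 975 = true := by decide +kernel

set_option maxRecDepth 100000 in
theorem treeR_3 : allR (treeR 3) 1 16 = true := by decide +kernel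

set_option maxRecDepth 100000 in
theorem sortR_3 : allR (sortR 3) 0 15 = true := by decide +kernel

set_option maxRecDepth 100000 in
theorem posR_3 : allR (posOKR 3) 0 16 = true := by decide +kernel

end Cfsg.Agent.Helper26.RuD
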