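import Mathlib
import Cfsg.Agent.Lib.Helper26.RuChainR

/-!
# Schreier checks for the chain R: level 1, generator 0
-/

set_option autoImplicit false

namespace Cfsg.Agent.Helper26.RuD

open Cfsg.Agent.Helper26.BM28 Cfsg.Agent.Helper26.RuTab

set_option maxRecDepth 100000 in
theorem stepR_1_0 : allR (stepR 1 0) 0 2304 = true := by decide +kernel

end Cfsg.Agent.Helper26.RuD
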