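import Mathlib
import Cfsg.Agent.Lib.Helper26.BitMat28

/-!
# Tables of packed matrices defining elements of `GL₂₈(𝔽₂)`

Every entry of the table is the product of two earlier entries, or the quotient
`(entry p)⁻¹ * entry q` of two earlier entries.
-/

set_option autoImplicit false

namespace Cfsg.Agent.Helper26.RuTab

open Cfsg.Agent.Helper26.BM28

/-- The ambient group. -/
abbrev A : Type := (Matrix (Fin 28) (Fin 28) (ZMod 2))ˣ

/-- The test for one entry. -/
def entryOK (E kind p q : ℕ → ℕ) (k : ℕ) : Bool :=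
  Nat.blt (p k) k && (Nat.blt (q k) k &&
    cond (Nat.beq (kind k) 0) (Nat.beq (mul (E (p k)) (E (q k))) (E k))
      (Nat.beq (mul (E (p k)) (E k)) (E (q k))))

/-- A table with its certificate. -/
structure TabCert where
  /-- the number of entries -/
  m : ℕ
  /-- the matrices -/
  E : ℕ → ℕ
  /-- the kind of an entry: `0` for a product -/
  kind : ℕ → ℕ
  /-- first index -/
  p : ℕ → ℕ
  /-- second index -/
  q : ℕ → ℕ
  /-- inverse of entry `1` -/
  aI : ℕ
  /-- inverse of entry `2` -/
  bI : ℕ
  hE0 : E 0 = one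
  ha1 : mul (E 1) aI = one
  ha2 : mul aI (E 1) = one
  hb1 : mul (E 2) bI = one
  hb2 : mul bI (E 2) = one
  hok : ∀ k, 3 ≤ k → k < m → entryOK E kind p q k = true

namespace TabCert

variable (C : TabCert)

/-- The first generator. -/
def aU : A :=
  ⟨toMat (C.E 1), toMat C.aI, by rw [← toMat_mul, C.ha1, toMat_one],
    by rw [← toMat_mul, C.ha2, toMat_one]⟩

/-- The second generator. -/
def bU : A :=
  ⟨toMat (C.E 2), toMat C.bI, by rw [← toMat_mul, C.hb1, toMat_one],
    by rw [← toMat_mul, C.hb2, toMat_one]⟩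

/-- The elements of the table. -/
def el : ℕ → A
  | k =>
    if k = 0 then 1 else if k = 1 then C.aU else if k = 2 then C.bU else
    if _h : C.p k < k ∧ C.q k < k then
      (if C.kind k = 0 then el (C.p k) * el (C.q k) else (el (C.p k))⁻¹ * el (C.q k))
    else 1
termination_by k => k
decreasing_by
  all_goals first | exact _h.1 | exact _h.2

theorem el_zero : C.el 0 = 1 := by
  rw [el]; simp

theorem el_one : C.el 1 = C.aU := by
  rw [el]; simp

theorem el_two : C.el 2 = C.bU := by
  rw [el]; simp

theorem el_step (k : ℕ) (hk : 3 ≤ k) (h1 : C.p k < k) (h2 : C.q k < k) :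
    C.el k = if C.kind k = 0 then C.el (C.p k) * C.el (C.q k)
      else (C.el (C.p k))⁻¹ * C.el (C.q k) := by
  rw [el]
  have h0 : k ≠ 0 := by omega
  have h1' : k ≠ 1 := by omega
  have h2' : k ≠ 2 := by omega
  simp [h0, h1', h2', h1, h2]

theorem blt_lt {a b : ℕ} (h : Nat.blt a b = true) : a < b := by
  unfold Nat.blt at h
  have := Nat.le_of_ble_eq_true h
  omega

theorem ok_spec (k : ℕ) (hk : 3 ≤ k) (hkm : k < C.m) :
    C.p k < k ∧ C.q k < k ∧
      (C.kind k = 0 → mul (C.E (C.p k)) (C.E (C.q k)) = C.E k) ∧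
      (C.kind k ≠ 0 → mul (C.E (C.p k)) (C.E k) = C.E (C.q k)) := by
  have h := C.hok k hk hkm
  unfold entryOK at h
  rw [Bool.and_eq_true, Bool.and_eq_true] at h
  obtain ⟨h1, h2, h3⟩ := h
  refine ⟨blt_lt h1, blt_lt h2, ?_, ?_⟩
  · intro hk0
    have : Nat.beq (C.kind k) 0 = true := by rw [hk0]; rfl
    rw [this] at h3
    exact Nat.eq_of_beq_eq_true h3
  · intro hk0
    have : Nat.beq (C.kind k) 0 = false := by
      cases h : Nat.beq (C.kind k) 0
      · rfl
      · exact absurd (Nat.eq_of_beq_eq_true h) hk0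
    rw [this] at h3
    exact Nat.eq_of_beq_eq_true h3

/-- The matrix of an element of the table. -/
theorem el_val (k : ℕ) (hk : k < C.m) : (C.el k).val = toMat (C.E k) := by
  induction k using Nat.strong_induction_on with
  | _ k ih =>
    by_cases h0 : k = 0
    · subst h0
      rw [el_zero, C.hE0, toMat_one]; rfl
    by_cases h1 : k = 1
    · subst h1
      rw [el_one]; rfl
    by_cases h2 : k = 2
    · subst h2
      rw [el_two]; rfl
    have hk3 : 3 ≤ k := by omega
    obtain ⟨hp, hq, hA, hB⟩ := C.ok_spec k hk3 hk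
    rw [C.el_step k hk3 hp hq]
    by_cases hkind : C.kind k = 0
    · rw [if_pos hkind, Units.val_mul, ih _ hp (lt_trans hp hk), ih _ hq (lt_trans hq hk),
        ← toMat_mul, hA hkind]
    · rw [if_neg hkind, Units.val_mul]
      have e : (C.el (C.p k)).val * toMat (C.E k) = (C.el (C.q k)).val := by
        rw [ih _ hp (lt_trans hp hk), ih _ hq (lt_trans hq hk), ← toMat_mul, hB hkind]
      rw [← e, ← mul_assoc, Units.inv_mul, one_mul]

/-- Two entries with the same matrix are the same element. -/
theorem el_eq_of_E_eq {k l : ℕ} (hk : k < C.m) (hl : l < C.m) (h : C.E k = C.E l) :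
    C.el k = C.el l := by
  apply Units.ext
  rw [C.el_val k hk, C.el_val l hl, h]

/-- An entry with the identity matrix is the identity. -/
theorem el_eq_one {k : ℕ} (hk : k < C.m) (h : C.E k = one) : C.el k = 1 := by
  apply Units.ext
  rw [C.el_val k hk, h, toMat_one]; rfl

/-- The generated group. -/
def G0 : Subgroup A := Subgroup.closure {C.aU, C.bU}

theorem el_mem (k : ℕ) : C.el k ∈ C.G0 := by
  induction k using Nat.strong_induction_on with
  | _ k ih =>
    by_cases h0 : k = 0
    · subst h0; rw [el_zero]; exact Subgroup.one_mem _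
    by_cases h1 : k = 1
    · subst h1; rw [el_one]; exact Subgroup.subset_closure (by simp)
    by_cases h2 : k = 2
    · subst h2; rw [el_two]; exact Subgroup.subset_closure (by simp)
    have hk3 : 3 ≤ k := by omega
    by_cases h : C.p k < k ∧ C.q k < k
    · rw [C.el_step k hk3 h.1 h.2]
      by_cases hkind : C.kind k = 0
      · rw [if_pos hkind]
        exact Subgroup.mul_mem _ (ih _ h.1) (ih _ h.2)
      · rw [if_neg hkind]
        exact Subgroup.mul_mem _ (Subgroup.inv_mem _ (ih _ h.1)) (ih _ h.2)
    · rw [el]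
      simp [h0, h1, h2, h]

/-- A matrix identity between products of entries is an identity of elements. -/
theorem el_mul_eq {k l r : ℕ} (hk : k < C.m) (hl : l < C.m) (hr : r < C.m)
    (h : mul (C.E k) (C.E l) = C.E r) : C.el k * C.el l = C.el r := by
  apply Units.ext
  rw [Units.val_mul, C.el_val k hk, C.el_val l hl, C.el_val r hr, ← toMat_mul, h]

end TabCert

end Cfsg.Agent.Helper26.RuTab
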