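import Mathlib
import Cfsg.Agent.Lib.Helper26.RuTabA
import Cfsg.Agent.Lib.Helper26.Schreier2

/-!
# Chains of stabilizers certified by Schreier's lemma (four levels)
-/

set_option autoImplicit false

namespace Cfsg.Agent.Helper26.RuTab

open Cfsg.Agent.Helper26 Cfsg.Agent.Helper26.BM28

/-- Membership in a list of numbers. -/
def memB : List ℕ → ℕ → Bool
  | [], _ => false
  | a :: l, x => Nat.beq a x || memB l x

theorem memB_spec {l : List ℕ} {x : ℕ} (h : memB l x = true) : x ∈ l := by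
  induction l with
  | nil => simp [memB] at h
  | cons a l ih =>
    unfold memB at h
    rw [Bool.or_eq_true] at h
    rcases h with h | h
    · rw [Nat.eq_of_beq_eq_true h]; exact List.mem_cons_self
    · exact List.mem_cons_of_mem _ (ih h)

/-- The tree test: the entry `lo + i` is a generator times an earlier entry of the level. -/
def treeOK (kind p q : ℕ → ℕ) (gens : List ℕ) (lo i : ℕ) : Bool :=
  Nat.beq (kind (lo + i)) 0 && (memB gens (p (lo + i)) &&
    (Nat.ble lo (q (lo + i)) && Nat.blt (q (lo + i)) (lo + i)))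

/-- The test that an entry is a Schreier generator of a level. -/
def subOK (kind p q : ℕ → ℕ) (gens : List ℕ) (lo n g : ℕ) : Bool :=
  Nat.ble 3 g && (!(Nat.beq (kind g) 0) && (Nat.ble lo (p g) && (Nat.blt (p g) (lo + n) &&
    (Nat.ble 3 (q g) && (Nat.beq (kind (q g)) 0 && (memB gens (p (q g)) &&
      (Nat.ble lo (q (q g)) && Nat.blt (q (q g)) (lo + n))))))))

/-- The product of the transversal elements of the levels `l, l + 1, …` (with `d` levels left). -/
def tailM (E lo js : ℕ → ℕ) : ℕ → ℕ → ℕ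
  | 0, _ => one
  | d + 1, l =>
    cond (Nat.beq (js l) 0) (tailM E lo js d (l + 1))
      (mul (E (lo l + js l)) (tailM E lo js d (l + 1)))

/-- The indices of the tail are in range. -/
def tailOK (n js : ℕ → ℕ) : ℕ → ℕ → Bool
  | 0, _ => true
  | d + 1, l => Nat.blt (js l) (n l) && tailOK n js d (l + 1)

/-- The test for one Schreier generator: either the product is an entry of the tree, or the
Schreier generator is a product of transversal elements of the later levels. -/
def stepOK (E kind p q : ℕ → ℕ) (lo n : ℕ → ℕ) (g : ℕ) (js : ℕ → ℕ) (l i : ℕ) : Bool :=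
  Nat.blt (js l) (n l) &&
    ((Nat.ble 1 (js l) && (Nat.beq (kind (lo l + js l)) 0 &&
        (Nat.beq (p (lo l + js l)) g && Nat.beq (q (lo l + js l)) (lo l + i)))) ||
      (tailOK n js (3 - l) (l + 1) &&
        Nat.beq (mul (E g) (E (lo l + i)))
          (mul (E (lo l + js l)) (tailM E lo js (3 - l) (l + 1)))))

/-- A chain of four levels with its certificate. -/
structure ChainCert (C : TabCert) where
  /-- first entries of the levels -/
  lo : ℕ → ℕ
  /-- lengths of the orbits -/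
  n : ℕ → ℕ
  /-- generators of the levels -/
  gens : ℕ → List ℕ
  /-- base vectors -/
  β : ℕ → ℕ
  /-- the orbit in increasing order -/
  srt : ℕ → ℕ → ℕ
  /-- position in the sorted orbit -/
  pos : ℕ → ℕ → ℕ
  /-- the Schreier certificates -/
  sc : ℕ → ℕ → ℕ → ℕ → ℕ
  hgens4 : gens 4 = []
  hbound : ∀ l < 4, 3 ≤ lo l ∧ lo l + n l ≤ C.m ∧ 0 < n l
  hgensb : ∀ l < 4, ∀ g ∈ gens l, g < C.m
  hlo : ∀ l < 4, C.E (lo l) = one
  htree : ∀ l < 4, ∀ i, 1 ≤ i → i < n l → treeOK C.kind C.p C.q (gens l) (lo l) i = true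
  hsort : ∀ l < 4, ∀ t, t + 1 < n l →
    mv (C.E (lo l + srt l t)) (β l) < mv (C.E (lo l + srt l (t + 1))) (β l)
  hpos : ∀ l < 4, ∀ i < n l, pos l i < n l ∧ srt l (pos l i) = i
  hfix : ∀ l < 4, ∀ g ∈ gens (l + 1), mv (C.E g) (β l) = β l
  hsub : ∀ l < 3, ∀ g ∈ gens (l + 1),
    subOK C.kind C.p C.q (gens l) (lo l) (n l) g = true
  hstep : ∀ l < 4, ∀ s < (gens l).length, ∀ i < n l,
    stepOK C.E C.kind C.p C.q lo n ((gens l).getD s 0) (sc l s i) l i = true

namespace ChainCert

variable {C : TabCert} (K : ChainCert C)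

/-- The groups of the chain. -/
def G (l : ℕ) : Subgroup A := Subgroup.closure {x | ∃ g ∈ K.gens l, x = C.el g}

/-- The transversals. -/
def T (l i : ℕ) : A := C.el (K.lo l + i)

theorem G_four : K.G 4 = ⊥ := by
  unfold G
  rw [K.hgens4]
  simp

theorem gen_mem {l g : ℕ} (hg : g ∈ K.gens l) : C.el g ∈ K.G l :=
  Subgroup.subset_closure ⟨g, hg, rfl⟩

theorem T_zero {l : ℕ} (hl : l < 4) : K.T l 0 = 1 := by
  unfold T
  obtain ⟨h1, h2, h3⟩ := K.hbound l hl
  exact C.el_eq_one (by omega) (by rw [Nat.add_zero]; exact K.hlo l hl)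

theorem ble_le {a b : ℕ} (h : Nat.ble a b = true) : a ≤ b := Nat.le_of_ble_eq_true h

theorem T_mem {l : ℕ} (hl : l < 4) (i : ℕ) (hi : i < K.n l) : K.T l i ∈ K.G l := by
  induction i using Nat.strong_induction_on with
  | _ i ih =>
    rcases Nat.eq_zero_or_pos i with h0 | h0
    · rw [h0, K.T_zero hl]; exact Subgroup.one_mem _
    · obtain ⟨hb1, hb2, hb3⟩ := K.hbound l hl
      have h := K.htree l hl i h0 hi
      unfold treeOK at h
      rw [Bool.and_eq_true, Bool.and_eq_true, Bool.and_eq_true] at h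
      obtain ⟨h1, h2, h3, h4⟩ := h
      have hkind : C.kind (K.lo l + i) = 0 := Nat.eq_of_beq_eq_true h1
      have hpg : C.p (K.lo l + i) ∈ K.gens l := memB_spec h2
      have hq1 : K.lo l ≤ C.q (K.lo l + i) := ble_le h3
      have hq2 : C.q (K.lo l + i) < K.lo l + i := TabCert.blt_lt h4
      obtain ⟨hp, hq, _, _⟩ := C.ok_spec (K.lo l + i) (by omega) (by omega)
      unfold T
      rw [C.el_step (K.lo l + i) (by omega) hp hq, if_pos hkind]
      apply Subgroup.mul_mem _ (K.gen_mem hpg)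
      have e : C.q (K.lo l + i) = K.lo l + (C.q (K.lo l + i) - K.lo l) := by omega
      rw [e]
      exact ih (C.q (K.lo l + i) - K.lo l) (by omega) (by omega)

/-- The next group is contained in the group of the level. -/
theorem G_succ_le {l : ℕ} (hl : l < 4) : K.G (l + 1) ≤ K.G l := by
  by_cases hl3 : l = 3
  · subst hl3
    rw [K.G_four]; exact bot_le
  have hl' : l < 3 := by omega
  unfold G
  rw [Subgroup.closure_le]
  rintro x ⟨g, hg, rfl⟩
  show C.el g ∈ K.G l
  obtain ⟨hb1, hb2, hb3⟩ := K.hbound l hl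
  have hgm : g < C.m := K.hgensb (l + 1) (by omega) g hg
  have h := K.hsub l hl' g hg
  unfold subOK at h
  simp only [Bool.and_eq_true, Bool.not_eq_true'] at h
  obtain ⟨h0, h1, h2, h3, h4, h5, h6, h7, h8⟩ := h
  have hg3 : 3 ≤ g := ble_le h0
  have hkind : C.kind g ≠ 0 := by
    intro h0
    rw [h0] at h1
    exact absurd h1 (by decide)
  have hp1 : K.lo l ≤ C.p g := ble_le h2
  have hp2 : C.p g < K.lo l + K.n l := TabCert.blt_lt h3
  have hq3 : 3 ≤ C.q g := ble_le h4
  have hkq : C.kind (C.q g) = 0 := Nat.eq_of_beq_eq_true h5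
  have hpq : C.p (C.q g) ∈ K.gens l := memB_spec h6
  have hqq1 : K.lo l ≤ C.q (C.q g) := ble_le h7
  have hqq2 : C.q (C.q g) < K.lo l + K.n l := TabCert.blt_lt h8
  obtain ⟨hp, hq, _, _⟩ := C.ok_spec g hg3 hgm
  rw [C.el_step g hg3 hp hq, if_neg hkind]
  obtain ⟨hpX, hqX, _, _⟩ := C.ok_spec (C.q g) hq3 (by omega)
  rw [C.el_step (C.q g) hq3 hpX hqX, if_pos hkq]
  have e1 : C.p g = K.lo l + (C.p g - K.lo l) := by omega
  have e2 : C.q (C.q g) = K.lo l + (C.q (C.q g) - K.lo l) := by omega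
  apply Subgroup.mul_mem
  · apply Subgroup.inv_mem
    rw [e1]
    exact K.T_mem hl _ (by omega)
  · apply Subgroup.mul_mem _ (K.gen_mem hpq)
    rw [e2]
    exact K.T_mem hl _ (by omega)

end ChainCert

end Cfsg.Agent.Helper26.RuTab
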