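import Mathlib
import Cfsg.Agent.Lib.Helper26.RuTabB

/-!
# Chains of stabilizers: the order of the groups
-/

set_option autoImplicit false

namespace Cfsg.Agent.Helper26.RuTab

open Cfsg.Agent.Helper26 Cfsg.Agent.Helper26.BM28

theorem toVec_inj {v w : ℕ} (hv : v < 2 ^ 28) (hw : w < 2 ^ 28) (h : toVec v = toVec w) :
    v = w := by
  apply Nat.eq_of_testBit_eq
  intro i
  by_cases hi : i < 28
  · have h1 := congrFun h ⟨i, hi⟩
    unfold toVec at h1
    exact bit_inj h1
  · have hle : 2 ^ 28 ≤ 2 ^ i := Nat.pow_le_pow_right (by norm_num) (by omega)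
    rw [Nat.testBit_lt_two_pow (lt_of_lt_of_le hv hle),
      Nat.testBit_lt_two_pow (lt_of_lt_of_le hw hle)]

/-- The stabilizer of a vector. -/
def Stab (v : ℕ) : Subgroup A where
  carrier := {g | Matrix.mulVec g.val (toVec v) = toVec v}
  one_mem' := by
    show Matrix.mulVec (1 : A).val (toVec v) = toVec v
    rw [Units.val_one, Matrix.one_mulVec]
  mul_mem' := by
    intro a b ha hb
    show Matrix.mulVec (a * b).val (toVec v) = toVec v
    rw [Units.val_mul, ← Matrix.mulVec_mulVec, hb, ha]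
  inv_mem' := by
    intro a ha
    show Matrix.mulVec (a⁻¹).val (toVec v) = toVec v
    have h : Matrix.mulVec a.val (toVec v) = toVec v := ha
    calc Matrix.mulVec (a⁻¹).val (toVec v)
        = Matrix.mulVec (a⁻¹).val (Matrix.mulVec a.val (toVec v)) := by rw [h]
      _ = toVec v := by
        rw [Matrix.mulVec_mulVec, ← Units.val_mul, inv_mul_cancel, Units.val_one,
          Matrix.one_mulVec]

theorem mem_Stab {v : ℕ} {g : A} : g ∈ Stab v ↔ Matrix.mulVec g.val (toVec v) = toVec v :=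
  Iff.rfl

namespace ChainCert

variable {C : TabCert} (K : ChainCert C)

/-- The points of the orbits. -/
def ω (l i : ℕ) : ℕ := mv (C.E (K.lo l + i)) (K.β l)

theorem T_val {l : ℕ} (hl : l < 4) {i : ℕ} (hi : i < K.n l) :
    (K.T l i).val = toMat (C.E (K.lo l + i)) := by
  obtain ⟨h1, h2, h3⟩ := K.hbound l hl
  exact C.el_val _ (by omega)

theorem T_act {l : ℕ} (hl : l < 4) {i : ℕ} (hi : i < K.n l) :
    Matrix.mulVec (K.T l i).val (toVec (K.β l)) = toVec (K.ω l i) := by
  rw [K.T_val hl hi, ← toVec_mv]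
  rfl

theorem G_succ_le_Stab {l : ℕ} (hl : l < 4) : K.G (l + 1) ≤ Stab (K.β l) := by
  unfold G
  rw [Subgroup.closure_le]
  rintro x ⟨g, hg, rfl⟩
  show Matrix.mulVec (C.el g).val (toVec (K.β l)) = toVec (K.β l)
  by_cases hl3 : l = 3
  · subst hl3
    rw [K.hgens4] at hg
    exact absurd hg (List.not_mem_nil)
  · have hgm : g < C.m := K.hgensb (l + 1) (by omega) g hg
    rw [C.el_val g hgm, ← toVec_mv, K.hfix l hl g hg]

theorem sorted_lt {l : ℕ} (hl : l < 4) {t t' : ℕ} (h : t < t') (ht' : t' < K.n l) :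
    K.ω l (K.srt l t) < K.ω l (K.srt l t') := by
  induction t' with
  | zero => exact absurd h (Nat.not_lt_zero t)
  | succ k ih =>
    rcases Nat.lt_succ_iff_lt_or_eq.1 h with h1 | h1
    · exact lt_trans (ih h1 (by omega)) (K.hsort l hl k ht')
    · rw [h1]; exact K.hsort l hl k ht'

theorem ω_inj {l : ℕ} (hl : l < 4) {i j : ℕ} (hi : i < K.n l) (hj : j < K.n l)
    (h : K.ω l i = K.ω l j) : i = j := by
  obtain ⟨hi1, hi2⟩ := K.hpos l hl i hi
  obtain ⟨hj1, hj2⟩ := K.hpos l hl j hj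
  have hk : K.ω l (K.srt l (K.pos l i)) = K.ω l (K.srt l (K.pos l j)) := by rw [hi2, hj2, h]
  have : K.pos l i = K.pos l j := by
    rcases Nat.lt_trichotomy (K.pos l i) (K.pos l j) with h1 | h1 | h1
    · exact absurd hk (ne_of_lt (K.sorted_lt hl h1 hj1))
    · exact h1
    · exact absurd hk.symm (ne_of_lt (K.sorted_lt hl h1 hi1))
  rw [← hi2, ← hj2, this]

theorem T_inj {l : ℕ} (hl : l < 4) : ∀ i < K.n l, ∀ j < K.n l,
    (K.T l j)⁻¹ * K.T l i ∈ Stab (K.β l) → i = j := by
  intro i hi j hj h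
  rw [mem_Stab, Units.val_mul, ← Matrix.mulVec_mulVec, K.T_act hl hi] at h
  have h2 : toVec (K.ω l i) = toVec (K.ω l j) := by
    rw [← K.T_act hl hj, ← h, Matrix.mulVec_mulVec, ← Units.val_mul, mul_inv_cancel,
      Units.val_one, Matrix.one_mulVec]
  exact K.ω_inj hl hi hj (toVec_inj (mv_lt _ _) (mv_lt _ _) h2)

/-- The tail elements. -/
def tailEl (js : ℕ → ℕ) : ℕ → ℕ → A
  | 0, _ => 1
  | d + 1, l => K.T l (js l) * tailEl js d (l + 1)

theorem tail_spec (js : ℕ → ℕ) (d : ℕ) : ∀ l, l + d ≤ 4 → tailOK K.n js d l = true →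
    (K.tailEl js d l ∈ K.G l ∧ (K.tailEl js d l).val = toMat (tailM C.E K.lo js d l)) := by
  induction d with
  | zero =>
    intro l _ _
    refine ⟨Subgroup.one_mem _, ?_⟩
    show (1 : A).val = toMat one
    rw [toMat_one]; rfl
  | succ d ih =>
    intro l hl h
    have hl4 : l < 4 := by omega
    unfold tailOK at h
    rw [Bool.and_eq_true] at h
    obtain ⟨h1, h2⟩ := h
    have hjs : js l < K.n l := TabCert.blt_lt h1
    obtain ⟨ih1, ih2⟩ := ih (l + 1) (by omega) h2
    refine ⟨?_, ?_⟩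
    · show K.T l (js l) * K.tailEl js d (l + 1) ∈ K.G l
      exact Subgroup.mul_mem _ (K.T_mem hl4 _ hjs) (K.G_succ_le hl4 ih1)
    · show (K.T l (js l) * K.tailEl js d (l + 1)).val = toMat (tailM C.E K.lo js (d + 1) l)
      unfold tailM
      by_cases h0 : js l = 0
      · have hb : Nat.beq (js l) 0 = true := by rw [h0]; rfl
        rw [hb, cond_true, h0, K.T_zero hl4, one_mul, ih2]
      · have hb : Nat.beq (js l) 0 = false := by
          cases hh : Nat.beq (js l) 0
          · rfl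
          · exact absurd (Nat.eq_of_beq_eq_true hh) h0
        rw [hb, cond_false, Units.val_mul, K.T_val hl4 hjs, ih2, toMat_mul]

theorem step_spec {l : ℕ} (hl : l < 4) {s : ℕ} (hs : s < (K.gens l).length) {i : ℕ}
    (hi : i < K.n l) :
    ∃ j < K.n l, (K.T l j)⁻¹ * C.el ((K.gens l).getD s 0) * K.T l i ∈ K.G (l + 1) := by
  have h := K.hstep l hl s hs i hi
  unfold stepOK at h
  rw [Bool.and_eq_true, Bool.or_eq_true] at h
  obtain ⟨h1, h23⟩ := h
  have hj : K.sc l s i l < K.n l := TabCert.blt_lt h1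
  refine ⟨K.sc l s i l, hj, ?_⟩
  obtain ⟨hb1, hb2, hb3⟩ := K.hbound l hl
  rcases h23 with h2 | h2
  · simp only [Bool.and_eq_true] at h2
    obtain ⟨e0, e1, e2, e3⟩ := h2
    have hj1 : 1 ≤ K.sc l s i l := ble_le e0
    have hkind : C.kind (K.lo l + K.sc l s i l) = 0 := Nat.eq_of_beq_eq_true e1
    have hp : C.p (K.lo l + K.sc l s i l) = (K.gens l).getD s 0 := Nat.eq_of_beq_eq_true e2
    have hq : C.q (K.lo l + K.sc l s i l) = K.lo l + i := Nat.eq_of_beq_eq_true e3
    obtain ⟨hpk, hqk, _, _⟩ := C.ok_spec (K.lo l + K.sc l s i l) (by omega) (by omega)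
    have e : K.T l (K.sc l s i l) = C.el ((K.gens l).getD s 0) * K.T l i := by
      unfold T
      rw [C.el_step _ (by omega) hpk hqk, if_pos hkind, hp, hq]
    rw [e, mul_assoc, inv_mul_cancel]
    exact Subgroup.one_mem _
  · rw [Bool.and_eq_true] at h2
    obtain ⟨h2, h3⟩ := h2
    have h3' := Nat.eq_of_beq_eq_true h3
    obtain ⟨t1, t2⟩ := K.tail_spec (K.sc l s i) (3 - l) (l + 1) (by omega) h2
    have hg : (K.gens l).getD s 0 ∈ K.gens l := by
      rw [List.getD_eq_getElem _ _ hs]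
      exact List.getElem_mem hs
    have hgm : (K.gens l).getD s 0 < C.m := K.hgensb l hl _ hg
    have e : C.el ((K.gens l).getD s 0) * K.T l i =
        K.T l (K.sc l s i l) * K.tailEl (K.sc l s i) (3 - l) (l + 1) := by
      apply Units.ext
      rw [Units.val_mul, Units.val_mul, C.el_val _ hgm, K.T_val hl hi, K.T_val hl hj, t2,
        ← toMat_mul, ← toMat_mul, h3']
    rw [mul_assoc, e, ← mul_assoc, inv_mul_cancel, one_mul]
    exact t1

/-- One level of the chain. -/
theorem level {l : ℕ} (hl : l < 4) :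
    (∀ k ∈ K.G l, ∃ i < K.n l, ∃ h ∈ K.G (l + 1), k = K.T l i * h) ∧
      Nat.card (K.G l) = K.n l * Nat.card (K.G (l + 1)) := by
  obtain ⟨hb1, hb2, hb3⟩ := K.hbound l hl
  apply schreier_card {x | ∃ g ∈ K.gens l, x = C.el g} (K.G (l + 1)) (K.n l) (K.T l) hb3
    (K.T_zero hl) (fun i hi => K.T_mem hl i hi)
    (fun i hi j hj h => K.T_inj hl i hi j hj (K.G_succ_le_Stab hl h)) (K.G_succ_le hl)
  rintro x ⟨g, hg, rfl⟩ i hi
  obtain ⟨s, hs, hsg⟩ := List.mem_iff_getElem.1 hg
  have e : (K.gens l).getD s 0 = g := by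
    rw [List.getD_eq_getElem _ _ hs, hsg]
  rw [← e]
  exact K.step_spec hl hs hi

/-- An element of a group of the chain fixing the base vector lies in the next group. -/
theorem mem_succ_of_fix {l : ℕ} (hl : l < 4) {g : A} (hg : g ∈ K.G l)
    (hfix : g ∈ Stab (K.β l)) : g ∈ K.G (l + 1) := by
  obtain ⟨hb1, hb2, hb3⟩ := K.hbound l hl
  obtain ⟨i, hi, h, hh, rfl⟩ := (K.level hl).1 g hg
  have h1 : K.T l i ∈ Stab (K.β l) := by
    have : K.T l i = K.T l i * h * h⁻¹ := by rw [mul_inv_cancel_right]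
    rw [this]
    exact Subgroup.mul_mem _ hfix (Subgroup.inv_mem _ (K.G_succ_le_Stab hl hh))
  have h2 : i = 0 := by
    apply K.T_inj hl i hi 0 hb3
    rw [K.T_zero hl, inv_one, one_mul]
    exact h1
  rw [h2, K.T_zero hl, one_mul]
  exact hh

/-- The order of the group. -/
theorem card_G0 : Nat.card (K.G 0) = K.n 0 * K.n 1 * K.n 2 * K.n 3 := by
  rw [(K.level (by norm_num : 0 < 4)).2, (K.level (by norm_num : 1 < 4)).2,
    (K.level (by norm_num : 2 < 4)).2, (K.level (by norm_num : 3 < 4)).2, K.G_four,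
    Subgroup.card_bot]
  ring

theorem card_G1 : Nat.card (K.G 1) = K.n 1 * K.n 2 * K.n 3 := by
  rw [(K.level (by norm_num : 1 < 4)).2,
    (K.level (by norm_num : 2 < 4)).2, (K.level (by norm_num : 3 < 4)).2, K.G_four,
    Subgroup.card_bot]
  ring

end ChainCert

end Cfsg.Agent.Helper26.RuTab
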