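import Mathlib
import Cfsg.Agent.Lib.Helper26.RuTabC
import Cfsg.Agent.Lib.Helper26.RuChkRA
import Cfsg.Agent.Lib.Helper26.RuChkRS00
import Cfsg.Agent.Lib.Helper26.RuChkRS01
import Cfsg.Agent.Lib.Helper26.RuChkRS10
import Cfsg.Agent.Lib.Helper26.RuChkRS11
import Cfsg.Agent.Lib.Helper26.RuChkRS20
import Cfsg.Agent.Lib.Helper26.RuChkRS21
import Cfsg.Agent.Lib.Helper26.RuChkRS22
import Cfsg.Agent.Lib.Helper26.RuChkRS30
import Cfsg.Agent.Lib.Helper26.RuChkRS31
import Cfsg.Agent.Lib.Helper26.RuChkRS32
import Cfsg.Agent.Lib.Helper26.RuChkRS33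
import Cfsg.Agent.Lib.Helper26.RuChkRS34
import Cfsg.Agent.Lib.Helper26.RuChkMA
import Cfsg.Agent.Lib.Helper26.RuChkMS00
import Cfsg.Agent.Lib.Helper26.RuChkMS01
import Cfsg.Agent.Lib.Helper26.RuChkMS10
import Cfsg.Agent.Lib.Helper26.RuChkMS11
import Cfsg.Agent.Lib.Helper26.RuChkMS12
import Cfsg.Agent.Lib.Helper26.RuChkMS20
import Cfsg.Agent.Lib.Helper26.RuChkMS21
import Cfsg.Agent.Lib.Helper26.RuChkMS22
import Cfsg.Agent.Lib.Helper26.RuChkE00
import Cfsg.Agent.Lib.Helper26.RuChkE01
import Cfsg.Agent.Lib.Helper26.RuChkE02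
import Cfsg.Agent.Lib.Helper26.RuChkE03
import Cfsg.Agent.Lib.Helper26.RuChkE04
import Cfsg.Agent.Lib.Helper26.RuChkE05
import Cfsg.Agent.Lib.Helper26.RuChkE06

/-!
# The certificates of the table and of the two chains
-/

set_option autoImplicit false

namespace Cfsg.Agent.Helper26.RuD

open Cfsg.Agent.Helper26.BM28 Cfsg.Agent.Helper26.RuTab

theorem ent_all : ∀ k, 3 ≤ k → k < mE → entOK k = true := by
  intro k h3 hk
  rcases Nat.lt_or_ge k 1503 with h0 | h0
  · exact allR_spec ent_0 k h3 h0
  rcases Nat.lt_or_ge k 3003 with h1 | h1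
  · exact allR_spec ent_1 k h0 h1
  rcases Nat.lt_or_ge k 4503 with h2 | h2
  · exact allR_spec ent_2 k h1 h2
  rcases Nat.lt_or_ge k 6003 with h3 | h3
  · exact allR_spec ent_3 k h2 h3
  rcases Nat.lt_or_ge k 7503 with h4 | h4
  · exact allR_spec ent_4 k h3 h4
  rcases Nat.lt_or_ge k 9003 with h5 | h5
  · exact allR_spec ent_5 k h4 h5
  exact allR_spec ent_6 k h5 hk

/-- The certified table. -/
def tabC : TabCert where
  m := mE
  E := E
  kind := kind
  p := p
  q := q
  aI := aI
  bI := bI
  hE0 := by decide +kernel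
  ha1 := by decide +kernel
  ha2 := by decide +kernel
  hb1 := by decide +kernel
  hb2 := by decide +kernel
  hok := ent_all

/-- The certified chain `R`. -/
def chainR : ChainCert tabC where
  lo := loR
  n := nR
  gens := gensR
  β := βR
  srt := srtR
  pos := posR
  sc := scR
  hgens4 := rfl
  hbound := by decide +kernel
  hgensb := by decide +kernel
  hlo := by decide +kernel
  htree := by
    intro l hl i h1 hi
    interval_cases l
    · exact allR_spec treeR_0 i h1 hi
    · exact allR_spec treeR_1 i h1 hi
    · exact allR_spec treeR_2 i h1 hi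
    · exact allR_spec treeR_3 i h1 hi
  hsort := by
    intro l hl t ht
    interval_cases l
    · have ht' : t < 4059 := by
        have : t + 1 < 4060 := ht
        omega
      exact TabCert.blt_lt (allR_spec sortR_0 t (Nat.zero_le _) ht')
    · have ht' : t < 2303 := by
        have : t + 1 < 2304 := ht
        omega
      exact TabCert.blt_lt (allR_spec sortR_1 t (Nat.zero_le _) ht')
    · have ht' : t < 974 := by
        have : t + 1 < 975 := ht
        omega
      exact TabCert.blt_lt (allR_spec sortR_2 t (Nat.zero_le _) ht')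
    · have ht' : t < 15 := by
        have : t + 1 < 16 := ht
        omega
      exact TabCert.blt_lt (allR_spec sortR_3 t (Nat.zero_le _) ht')
  hpos := by
    intro l hl i hi
    interval_cases l
    · have h := allR_spec posR_0 i (Nat.zero_le _) hi
      unfold posOKR at h
      rw [Bool.and_eq_true] at h
      exact ⟨TabCert.blt_lt h.1, Nat.eq_of_beq_eq_true h.2⟩
    · have h := allR_spec posR_1 i (Nat.zero_le _) hi
      unfold posOKR at h
      rw [Bool.and_eq_true] at h
      exact ⟨TabCert.blt_lt h.1, Nat.eq_of_beq_eq_true h.2⟩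
    · have h := allR_spec posR_2 i (Nat.zero_le _) hi
      unfold posOKR at h
      rw [Bool.and_eq_true] at h
      exact ⟨TabCert.blt_lt h.1, Nat.eq_of_beq_eq_true h.2⟩
    · have h := allR_spec posR_3 i (Nat.zero_le _) hi
      unfold posOKR at h
      rw [Bool.and_eq_true] at h
      exact ⟨TabCert.blt_lt h.1, Nat.eq_of_beq_eq_true h.2⟩
  hfix := by decide +kernel
  hsub := by decide +kernel
  hstep := by
    intro l hl s hs i hi
    interval_cases l
    · have hs' : s < 2 := hs
      interval_cases s
      · exact allR_spec stepR_0_0 i (Nat.zero_le _) hi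
      · exact allR_spec stepR_0_1 i (Nat.zero_le _) hi
    · have hs' : s < 2 := hs
      interval_cases s
      · exact allR_spec stepR_1_0 i (Nat.zero_le _) hi
      · exact allR_spec stepR_1_1 i (Nat.zero_le _) hi
    · have hs' : s < 3 := hs
      interval_cases s
      · exact allR_spec stepR_2_0 i (Nat.zero_le _) hi
      · exact allR_spec stepR_2_1 i (Nat.zero_le _) hi
      · exact allR_spec stepR_2_2 i (Nat.zero_le _) hi
    · have hs' : s < 5 := hs
      interval_cases s
      · exact allR_spec stepR_3_0 i (Nat.zero_le _) hi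
      · exact allR_spec stepR_3_1 i (Nat.zero_le _) hi
      · exact allR_spec stepR_3_2 i (Nat.zero_le _) hi
      · exact allR_spec stepR_3_3 i (Nat.zero_le _) hi
      · exact allR_spec stepR_3_4 i (Nat.zero_le _) hi

/-- The certified chain `M`. -/
def chainM : ChainCert tabC where
  lo := loM
  n := nM
  gens := gensM
  β := βM
  srt := srtM
  pos := posM
  sc := scM
  hgens4 := rfl
  hbound := by decide +kernel
  hgensb := by decide +kernel
  hlo := by decide +kernel
  htree := by
    intro l hl i h1 hi
    interval_cases l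
    · exact allR_spec treeM_0 i h1 hi
    · exact allR_spec treeM_1 i h1 hi
    · exact allR_spec treeM_2 i h1 hi
    · exact allR_spec treeM_3 i h1 hi
  hsort := by
    intro l hl t ht
    interval_cases l
    · have ht' : t < 1754 := by
        have : t + 1 < 1755 := ht
        omega
      exact TabCert.blt_lt (allR_spec sortM_0 t (Nat.zero_le _) ht')
    · have ht' : t < 1279 := by
        have : t + 1 < 1280 := ht
        omega
      exact TabCert.blt_lt (allR_spec sortM_1 t (Nat.zero_le _) ht')
    · have ht' : t < 7 := by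
        have : t + 1 < 8 := ht
        omega
      exact TabCert.blt_lt (allR_spec sortM_2 t (Nat.zero_le _) ht')
    · have ht' : t < 0 := by
        have : t + 1 < 1 := ht
        omega
      exact TabCert.blt_lt (allR_spec sortM_3 t (Nat.zero_le _) ht')
  hpos := by
    intro l hl i hi
    interval_cases l
    · have h := allR_spec posM_0 i (Nat.zero_le _) hi
      unfold posOKM at h
      rw [Bool.and_eq_true] at h
      exact ⟨TabCert.blt_lt h.1, Nat.eq_of_beq_eq_true h.2⟩
    · have h := allR_spec posM_1 i (Nat.zero_le _) hi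
      unfold posOKM at h
      rw [Bool.and_eq_true] at h
      exact ⟨TabCert.blt_lt h.1, Nat.eq_of_beq_eq_true h.2⟩
    · have h := allR_spec posM_2 i (Nat.zero_le _) hi
      unfold posOKM at h
      rw [Bool.and_eq_true] at h
      exact ⟨TabCert.blt_lt h.1, Nat.eq_of_beq_eq_true h.2⟩
    · have h := allR_spec posM_3 i (Nat.zero_le _) hi
      unfold posOKM at h
      rw [Bool.and_eq_true] at h
      exact ⟨TabCert.blt_lt h.1, Nat.eq_of_beq_eq_true h.2⟩
  hfix := by decide +kernel
  hsub := by decide +kernel
  hstep := by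
    intro l hl s hs i hi
    interval_cases l
    · have hs' : s < 2 := hs
      interval_cases s
      · exact allR_spec stepM_0_0 i (Nat.zero_le _) hi
      · exact allR_spec stepM_0_1 i (Nat.zero_le _) hi
    · have hs' : s < 3 := hs
      interval_cases s
      · exact allR_spec stepM_1_0 i (Nat.zero_le _) hi
      · exact allR_spec stepM_1_1 i (Nat.zero_le _) hi
      · exact allR_spec stepM_1_2 i (Nat.zero_le _) hi
    · have hs' : s < 3 := hs
      interval_cases s
      · exact allR_spec stepM_2_0 i (Nat.zero_le _) hi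
      · exact allR_spec stepM_2_1 i (Nat.zero_le _) hi
      · exact allR_spec stepM_2_2 i (Nat.zero_le _) hi
    · exact absurd hs (Nat.not_lt_zero s)

end Cfsg.Agent.Helper26.RuD
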