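import Mathlib
import Cfsg.Prelude.Def_Spor_Ru

/-!
# The Gaussian lattice of rank 28: residues modulo `1 + i` and the Hermitian form
-/

set_option autoImplicit false

namespace Cfsg.Agent.Helper26.RuLat

open Cfsg Cfsg.Spor

/-- the Gaussian integers -/
abbrev GI := GaussianInt

/-- the prime `1 + i` -/
def piG : GI := ⟨1, 1⟩

/-- the residue modulo `1 + i` -/
def rho : GI →+* ZMod 2 := Zsqrtd.lift ⟨1, by decide⟩

theorem rho_apply (z : GI) : rho z = (z.re : ZMod 2) + (z.im : ZMod 2) := by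
  unfold rho
  simp [Zsqrtd.lift]

theorem sq_zmod2 : ∀ a : ZMod 2, a * a = a := by decide

theorem neg_zmod2 : ∀ a : ZMod 2, -a = a := by decide

theorem zmod2_cases : ∀ a : ZMod 2, a = 0 ∨ a = 1 := by decide

theorem rho_star (z : GI) : rho (star z) = rho z := by
  rw [rho_apply, rho_apply]
  have : (star z).re = z.re := rfl
  have h2 : (star z).im = -z.im := rfl
  rw [this, h2, Int.cast_neg, neg_zmod2]

theorem rho_piG : rho piG = 0 := by
  rw [rho_apply]
  decide

theorem rho_norm (z : GI) : ((Zsqrtd.norm z : ℤ) : ZMod 2) = rho z := by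
  rw [rho_apply, Zsqrtd.norm_def]
  push_cast
  rw [sq_zmod2]
  have : ((-1 : ℤ) : ZMod 2) = -1 := by norm_num
  simp only [neg_mul, one_mul, sub_neg_eq_add, sq_zmod2]

theorem rho_eq_zero_iff (z : GI) : rho z = 0 ↔ piG ∣ z := by
  constructor
  · intro h
    rw [rho_apply, ← Int.cast_add, ZMod.intCast_zmod_eq_zero_iff_dvd] at h
    obtain ⟨k, hk⟩ := h
    refine ⟨⟨k, z.im - k⟩, ?_⟩
    apply Zsqrtd.ext
    · show z.re = 1 * k + -1 * 1 * (z.im - k)
      push_cast at hk
      linarith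
    · show z.im = 1 * (z.im - k) + 1 * k
      ring
  · rintro ⟨w, rfl⟩
    rw [map_mul, rho_piG, zero_mul]

theorem norm_piG : Zsqrtd.norm piG = 2 := by decide

theorem gnorm_nonneg (z : GI) : 0 ≤ Zsqrtd.norm z := GaussianInt.norm_nonneg z

theorem gnorm_eq_zero (z : GI) : Zsqrtd.norm z = 0 ↔ z = 0 :=
  Zsqrtd.norm_eq_zero_iff (by norm_num) z

theorem one_le_norm_of_rho {z : GI} (h : rho z = 1) : 1 ≤ Zsqrtd.norm z := by
  have h0 : z ≠ 0 := by
    rintro rfl
    rw [map_zero] at h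
    exact zero_ne_one h
  have h1 := gnorm_nonneg z
  have h2 : Zsqrtd.norm z ≠ 0 := fun h => h0 ((gnorm_eq_zero z).1 h)
  omega

theorem val_rho_le (z : GI) : ((rho z).val : ℤ) ≤ Zsqrtd.norm z := by
  rcases zmod2_cases (rho z) with h | h
  · rw [h]
    have : ((0 : ZMod 2).val : ℤ) = 0 := by decide
    rw [this]
    exact gnorm_nonneg z
  · rw [h]
    have : ((1 : ZMod 2).val : ℤ) = 1 := by decide
    rw [this]
    exact one_le_norm_of_rho h

/-- divisibility by four, in a decidable form -/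
theorem four_dvd_iff (z : GI) : (4 : GI) ∣ z ↔ z.re % 4 = 0 ∧ z.im % 4 = 0 := by
  have : (4 : GI) = ((4 : ℤ) : GI) := by norm_num
  rw [this, Zsqrtd.intCast_dvd, Int.dvd_iff_emod_eq_zero, Int.dvd_iff_emod_eq_zero]

theorem two_dvd_iff (z : GI) : (2 : GI) ∣ z ↔ z.re % 2 = 0 ∧ z.im % 2 = 0 := by
  have : (2 : GI) = ((2 : ℤ) : GI) := by norm_num
  rw [this, Zsqrtd.intCast_dvd, Int.dvd_iff_emod_eq_zero, Int.dvd_iff_emod_eq_zero]

theorem eight_dvd_iff (z : GI) : (8 : GI) ∣ z ↔ z.re % 8 = 0 ∧ z.im % 8 = 0 := by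
  have : (8 : GI) = ((8 : ℤ) : GI) := by norm_num
  rw [this, Zsqrtd.intCast_dvd, Int.dvd_iff_emod_eq_zero, Int.dvd_iff_emod_eq_zero]

theorem rho_of_four_dvd {z : GI} (h : (4 : GI) ∣ z) : rho z = 0 := by
  obtain ⟨w, rfl⟩ := h
  rw [map_mul]
  have : rho 4 = 0 := by
    rw [rho_apply]; decide
  rw [this, zero_mul]

theorem four_dvd_star {z : GI} (h : (4 : GI) ∣ z) : (4 : GI) ∣ star z := by
  obtain ⟨w, rfl⟩ := h
  refine ⟨star w, ?_⟩
  rw [star_mul']
  congr 1

/-- the key divisibility lemma: if `4 ∣ c h` and the norm of `c` divides `8`, then `h` is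
divisible by `1 + i` -/
theorem rho_eq_zero_of_four_dvd_mul {c h : GI} (hd : (4 : GI) ∣ c * h)
    (hc : Zsqrtd.norm c ∣ 8) : rho h = 0 := by
  obtain ⟨v, hv⟩ := hd
  have h1 : Zsqrtd.norm c * Zsqrtd.norm h = 16 * Zsqrtd.norm v := by
    rw [← Zsqrtd.norm_mul, hv, Zsqrtd.norm_mul]
    congr 1
  obtain ⟨k, hk⟩ := hc
  have h2 : (2 : ℤ) ∣ Zsqrtd.norm h := by
    have h3 : Zsqrtd.norm c * Zsqrtd.norm h * k = 16 * Zsqrtd.norm v * k := by rw [h1]
    have h4 : Zsqrtd.norm c * Zsqrtd.norm h * k = 8 * Zsqrtd.norm h := by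
      rw [hk]; ring
    rw [h4] at h3
    refine ⟨Zsqrtd.norm v * k, ?_⟩
    linarith
  rw [← rho_norm]
  exact (ZMod.intCast_zmod_eq_zero_iff_dvd _ 2).2 h2

/-! ### The Hermitian form -/

/-- the Hermitian form `∑ x_p conj(y_p)` -/
def herm (x y : RuVec) : GI := ∑ p, x p * star (y p)

theorem herm_add_left (x x' y : RuVec) : herm (x + x') y = herm x y + herm x' y := by
  unfold herm
  rw [← Finset.sum_add_distrib]
  apply Finset.sum_congr rfl
  intro p _
  rw [Pi.add_apply, add_mul]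

theorem herm_add_right (x y y' : RuVec) : herm x (y + y') = herm x y + herm x y' := by
  unfold herm
  rw [← Finset.sum_add_distrib]
  apply Finset.sum_congr rfl
  intro p _
  rw [Pi.add_apply, star_add, mul_add]

theorem herm_smul_left (c : GI) (x y : RuVec) : herm (c • x) y = c * herm x y := by
  unfold herm
  rw [Finset.mul_sum]
  apply Finset.sum_congr rfl
  intro p _
  rw [Pi.smul_apply, smul_eq_mul, mul_assoc]

theorem herm_smul_right (c : GI) (x y : RuVec) : herm x (c • y) = star c * herm x y := by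
  unfold herm
  rw [Finset.mul_sum]
  apply Finset.sum_congr rfl
  intro p _
  rw [Pi.smul_apply, smul_eq_mul, star_mul']
  ring

theorem herm_zero_left (y : RuVec) : herm 0 y = 0 := by
  unfold herm
  simp

theorem herm_zero_right (x : RuVec) : herm x 0 = 0 := by
  unfold herm
  simp

theorem herm_star (x y : RuVec) : star (herm x y) = herm y x := by
  unfold herm
  rw [star_sum]
  apply Finset.sum_congr rfl
  intro p _
  rw [star_mul', star_star, mul_comm]

theorem herm_self (x : RuVec) : herm x x = ((ruNorm x : ℤ) : GI) := by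
  unfold herm ruNorm
  rw [Int.cast_sum]
  apply Finset.sum_congr rfl
  intro p _
  rw [Zsqrtd.norm_eq_mul_conj]

theorem add_star_eq (z : GI) : z + star z = ((2 * z.re : ℤ) : GI) := by
  apply Zsqrtd.ext
  · show z.re + z.re = _
    simp
    ring
  · show z.im + -z.im = _
    simp

theorem eight_dvd_add_star {z : GI} (h : (4 : GI) ∣ z) : (8 : GI) ∣ z + star z := by
  obtain ⟨w, rfl⟩ := h
  rw [add_star_eq]
  have : ((4 : GI) * w).re = 4 * w.re := by
    have : (4 : GI) = ((4 : ℤ) : GI) := by norm_num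
    rw [this]
    simp
  rw [this]
  refine ⟨((w.re : ℤ) : GI), ?_⟩
  push_cast
  ring

theorem rho_herm (x y : RuVec) : rho (herm x y) = ∑ p, rho (x p) * rho (y p) := by
  unfold herm
  rw [map_sum]
  apply Finset.sum_congr rfl
  intro p _
  rw [map_mul, rho_star]

/-! ### Norms and residues of vectors -/

/-- the weight of a residue vector -/
def wt (r : RuIdx → ZMod 2) : ℕ := ∑ p, (r p).val

theorem wt_le_norm (v : RuVec) : (wt (fun p => rho (v p)) : ℤ) ≤ ruNorm v := by
  unfold wt ruNorm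
  rw [Nat.cast_sum]
  apply Finset.sum_le_sum
  intro p _
  exact val_rho_le (v p)

theorem exists_div_pi {v : RuVec} (h : ∀ p, rho (v p) = 0) :
    ∃ y : RuVec, v = piG • y ∧ ruNorm v = 2 * ruNorm y := by
  have h1 : ∀ p, ∃ w, v p = piG * w := fun p => (rho_eq_zero_iff (v p)).1 (h p)
  choose y hy using h1
  refine ⟨y, ?_, ?_⟩
  · funext p
    rw [Pi.smul_apply, smul_eq_mul, hy p]
  · unfold ruNorm
    rw [Finset.mul_sum]
    apply Finset.sum_congr rfl
    intro p _
    rw [hy p, Zsqrtd.norm_mul, norm_piG]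

theorem ruNorm_nonneg (v : RuVec) : 0 ≤ ruNorm v := by
  unfold ruNorm
  exact Finset.sum_nonneg fun p _ => gnorm_nonneg (v p)

theorem ruNorm_eq_zero {v : RuVec} (h : ruNorm v = 0) : v = 0 := by
  unfold ruNorm at h
  rw [Finset.sum_eq_zero_iff_of_nonneg (fun p _ => gnorm_nonneg (v p))] at h
  funext p
  exact (gnorm_eq_zero (v p)).1 (h p (Finset.mem_univ p))

end Cfsg.Agent.Helper26.RuLat
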