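import Mathlib
import Cfsg.Agent.Lib.Helper26.RuLatA

/-!
# The Gaussian lattice of rank 28: a spanning family modulo 4, with certificates
-/

set_option autoImplicit false

namespace Cfsg.Agent.Helper26.RuLat

open Cfsg Cfsg.Spor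

/-- the spanning family: nine vectors with independent residues, then ten vectors divisible by `1 + i` -/
def basL : List (List GI) := [
  [⟨-1, 0⟩, ⟨2, 0⟩, ⟨2, 0⟩, ⟨1, 0⟩, ⟨1, 1⟩, ⟨2, 0⟩, ⟨0, -1⟩, ⟨0, -1⟩, ⟨0, 2⟩, ⟨0, 0⟩, ⟨1, 0⟩, ⟨-1, 0⟩, ⟨-1, 1⟩, ⟨-1, 0⟩, ⟨0, 0⟩, ⟨-1, 2⟩, ⟨-1, -1⟩, ⟨-1, 2⟩, ⟨0, 1⟩, ⟨0, 0⟩, ⟨2, 0⟩, ⟨2, -1⟩, ⟨-1, 1⟩, ⟨-1, 2⟩, ⟨2, -1⟩, ⟨0, -1⟩, ⟨0, -1⟩, ⟨0, 1⟩],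
  [⟨0, 0⟩, ⟨1, 0⟩, ⟨0, 0⟩, ⟨1, 0⟩, ⟨0, 0⟩, ⟨0, 0⟩, ⟨1, -1⟩, ⟨0, 2⟩, ⟨0, 0⟩, ⟨2, -1⟩, ⟨1, 0⟩, ⟨2, 0⟩, ⟨2, 0⟩, ⟨-1, 1⟩, ⟨1, 2⟩, ⟨1, 2⟩, ⟨1, 1⟩, ⟨2, 2⟩, ⟨1, 2⟩, ⟨0, 1⟩, ⟨-1, -1⟩, ⟨0, -1⟩, ⟨2, 2⟩, ⟨2, 1⟩, ⟨1, 1⟩, ⟨-1, 2⟩, ⟨1, 2⟩, ⟨1, -1⟩],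
  [⟨0, 0⟩, ⟨0, 0⟩, ⟨1, 0⟩, ⟨0, -1⟩, ⟨0, 0⟩, ⟨0, 0⟩, ⟨1, 0⟩, ⟨-1, 2⟩, ⟨-1, -1⟩, ⟨-1, 2⟩, ⟨2, 0⟩, ⟨1, 0⟩, ⟨2, 0⟩, ⟨0, -1⟩, ⟨0, 1⟩, ⟨0, 2⟩, ⟨1, -1⟩, ⟨-1, 0⟩, ⟨2, 2⟩, ⟨2, -1⟩, ⟨-1, -1⟩, ⟨-1, 1⟩, ⟨1, -1⟩, ⟨2, 0⟩, ⟨-1, -1⟩, ⟨1, 0⟩, ⟨-1, 0⟩, ⟨0, 2⟩],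
  [⟨0, 0⟩, ⟨0, 0⟩, ⟨0, 0⟩, ⟨-1, -1⟩, ⟨0, 1⟩, ⟨0, 0⟩, ⟨2, 0⟩, ⟨0, 1⟩, ⟨1, -1⟩, ⟨2, 0⟩, ⟨-1, 0⟩, ⟨1, 0⟩, ⟨1, 1⟩, ⟨2, 2⟩, ⟨0, -1⟩, ⟨1, 2⟩, ⟨2, 0⟩, ⟨1, 2⟩, ⟨-1, -1⟩, ⟨-1, 2⟩, ⟨-1, -1⟩, ⟨0, 1⟩, ⟨0, 1⟩, ⟨1, 1⟩, ⟨-1, 2⟩, ⟨1, -1⟩, ⟨0, 1⟩, ⟨-1, 1⟩],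
  [⟨0, 0⟩, ⟨0, 0⟩, ⟨0, 0⟩, ⟨1, 1⟩, ⟨1, -1⟩, ⟨-1, 0⟩, ⟨-1, 0⟩, ⟨0, 2⟩, ⟨0, 0⟩, ⟨2, 2⟩, ⟨-1, 0⟩, ⟨0, 1⟩, ⟨0, 0⟩, ⟨0, 0⟩, ⟨1, 2⟩, ⟨-1, 0⟩, ⟨2, 2⟩, ⟨0, 1⟩, ⟨-1, 1⟩, ⟨0, -1⟩, ⟨1, -1⟩, ⟨-1, 0⟩, ⟨1, 0⟩, ⟨1, 1⟩, ⟨2, 2⟩, ⟨0, 1⟩, ⟨1, 1⟩, ⟨-1, 0⟩],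
  [⟨0, 0⟩, ⟨0, 0⟩, ⟨0, 0⟩, ⟨0, 0⟩, ⟨0, 0⟩, ⟨0, 0⟩, ⟨0, 0⟩, ⟨0, 2⟩, ⟨-1, 2⟩, ⟨1, 2⟩, ⟨1, 0⟩, ⟨2, 1⟩, ⟨0, 0⟩, ⟨0, 0⟩, ⟨0, 2⟩, ⟨0, 0⟩, ⟨0, 2⟩, ⟨1, -1⟩, ⟨0, 2⟩, ⟨-1, -1⟩, ⟨1, 1⟩, ⟨0, 2⟩, ⟨2, 0⟩, ⟨1, -1⟩, ⟨-1, 0⟩, ⟨-1, 2⟩, ⟨0, 1⟩, ⟨-1, 0⟩],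
  [⟨0, 0⟩, ⟨0, 0⟩, ⟨0, 0⟩, ⟨0, 0⟩, ⟨0, 0⟩, ⟨0, 0⟩, ⟨-1, 1⟩, ⟨-1, 1⟩, ⟨0, 2⟩, ⟨1, -1⟩, ⟨2, 0⟩, ⟨-1, -1⟩, ⟨0, -1⟩, ⟨2, -1⟩, ⟨0, -1⟩, ⟨-1, 0⟩, ⟨-1, -1⟩, ⟨2, 2⟩, ⟨1, 1⟩, ⟨2, 2⟩, ⟨-1, 1⟩, ⟨2, 2⟩, ⟨0, 2⟩, ⟨-1, -1⟩, ⟨-1, 2⟩, ⟨0, -1⟩, ⟨-1, 2⟩, ⟨-1, 0⟩],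
  [⟨0, 0⟩, ⟨0, 0⟩, ⟨0, 0⟩, ⟨0, 0⟩, ⟨0, 0⟩, ⟨0, 0⟩, ⟨0, 0⟩, ⟨0, 0⟩, ⟨2, 2⟩, ⟨1, -1⟩, ⟨0, 0⟩, ⟨1, 1⟩, ⟨0, 0⟩, ⟨0, 0⟩, ⟨0, 2⟩, ⟨0, 0⟩, ⟨0, 1⟩, ⟨0, -1⟩, ⟨1, 2⟩, ⟨2, -1⟩, ⟨2, 0⟩, ⟨2, 2⟩, ⟨1, 1⟩, ⟨1, -1⟩, ⟨0, -1⟩, ⟨-1, 2⟩, ⟨0, 1⟩, ⟨2, 1⟩],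
  [⟨0, 0⟩, ⟨0, 0⟩, ⟨0, 0⟩, ⟨0, 0⟩, ⟨0, 0⟩, ⟨0, 0⟩, ⟨0, 0⟩, ⟨0, 2⟩, ⟨1, 1⟩, ⟨0, 2⟩, ⟨2, 0⟩, ⟨-1, 1⟩, ⟨2, 0⟩, ⟨0, 0⟩, ⟨0, 0⟩, ⟨0, 2⟩, ⟨0, 0⟩, ⟨0, 0⟩, ⟨-1, 1⟩, ⟨1, 1⟩, ⟨1, 0⟩, ⟨0, -1⟩, ⟨-1, 0⟩, ⟨-1, 0⟩, ⟨0, 1⟩, ⟨0, -1⟩, ⟨0, 1⟩, ⟨1, 2⟩],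
  [⟨0, 0⟩, ⟨0, 0⟩, ⟨0, 0⟩, ⟨0, 2⟩, ⟨2, 0⟩, ⟨2, 0⟩, ⟨0, 0⟩, ⟨2, 0⟩, ⟨0, 2⟩, ⟨2, 0⟩, ⟨0, 2⟩, ⟨2, 2⟩, ⟨2, 2⟩, ⟨2, 2⟩, ⟨0, 2⟩, ⟨0, 0⟩, ⟨0, 2⟩, ⟨2, 0⟩, ⟨0, 2⟩, ⟨2, 2⟩, ⟨0, 0⟩, ⟨2, 0⟩, ⟨0, 0⟩, ⟨0, 0⟩, ⟨1, 1⟩, ⟨-1, 1⟩, ⟨1, -1⟩, ⟨-1, -1⟩],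
  [⟨0, 0⟩, ⟨0, 0⟩, ⟨0, 0⟩, ⟨0, 0⟩, ⟨0, 0⟩, ⟨0, 0⟩, ⟨0, 0⟩, ⟨0, 0⟩, ⟨2, 2⟩, ⟨0, 0⟩, ⟨0, 2⟩, ⟨0, 2⟩, ⟨0, 0⟩, ⟨0, 0⟩, ⟨0, 0⟩, ⟨0, 0⟩, ⟨0, 0⟩, ⟨0, 2⟩, ⟨2, 2⟩, ⟨0, 2⟩, ⟨2, 2⟩, ⟨2, 0⟩, ⟨0, 2⟩, ⟨0, 0⟩, ⟨2, 2⟩, ⟨2, 0⟩, ⟨0, 0⟩, ⟨0, 2⟩],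
  [⟨0, 0⟩, ⟨0, 0⟩, ⟨0, 0⟩, ⟨0, 0⟩, ⟨0, 0⟩, ⟨0, 0⟩, ⟨0, 0⟩, ⟨2, 2⟩, ⟨2, 2⟩, ⟨0, 0⟩, ⟨2, 2⟩, ⟨2, 2⟩, ⟨0, 0⟩, ⟨0, 0⟩, ⟨2, 0⟩, ⟨0, 2⟩, ⟨2, 2⟩, ⟨2, 2⟩, ⟨0, 0⟩, ⟨2, 2⟩, ⟨0, 0⟩, ⟨0, 2⟩, ⟨0, 2⟩, ⟨2, 2⟩, ⟨0, 0⟩, ⟨2, 0⟩, ⟨2, 2⟩, ⟨2, 0⟩],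
  [⟨0, 0⟩, ⟨0, 0⟩, ⟨0, 0⟩, ⟨0, 0⟩, ⟨0, 0⟩, ⟨0, 0⟩, ⟨0, 2⟩, ⟨2, 0⟩, ⟨0, 0⟩, ⟨2, 0⟩, ⟨0, 0⟩, ⟨2, 0⟩, ⟨0, 0⟩, ⟨2, 0⟩, ⟨2, 2⟩, ⟨0, 2⟩, ⟨0, 0⟩, ⟨0, 2⟩, ⟨2, 0⟩, ⟨2, 2⟩, ⟨0, 0⟩, ⟨2, 0⟩, ⟨0, 2⟩, ⟨0, 0⟩, ⟨0, 0⟩, ⟨0, 0⟩, ⟨2, 2⟩, ⟨2, 2⟩],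
  [⟨0, 0⟩, ⟨0, 0⟩, ⟨0, 0⟩, ⟨2, 2⟩, ⟨2, 2⟩, ⟨2, 2⟩, ⟨0, 0⟩, ⟨0, 0⟩, ⟨0, 0⟩, ⟨0, 0⟩, ⟨0, 0⟩, ⟨0, 0⟩, ⟨0, 0⟩, ⟨0, 2⟩, ⟨0, 0⟩, ⟨0, 2⟩, ⟨2, 2⟩, ⟨2, 0⟩, ⟨0, 0⟩, ⟨0, 2⟩, ⟨0, 0⟩, ⟨2, 0⟩, ⟨2, 0⟩, ⟨0, 0⟩, ⟨2, 2⟩, ⟨2, 2⟩, ⟨2, 0⟩, ⟨0, 2⟩],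
  [⟨0, 0⟩, ⟨0, 0⟩, ⟨0, 0⟩, ⟨2, 2⟩, ⟨2, 2⟩, ⟨2, 2⟩, ⟨0, 0⟩, ⟨0, 0⟩, ⟨0, 0⟩, ⟨0, 0⟩, ⟨0, 0⟩, ⟨0, 0⟩, ⟨0, 0⟩, ⟨0, 0⟩, ⟨2, 2⟩, ⟨2, 2⟩, ⟨0, 0⟩, ⟨2, 0⟩, ⟨0, 0⟩, ⟨0, 2⟩, ⟨0, 0⟩, ⟨2, 0⟩, ⟨2, 0⟩, ⟨0, 0⟩, ⟨2, 2⟩, ⟨2, 2⟩, ⟨2, 2⟩, ⟨2, 2⟩],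
  [⟨0, 0⟩, ⟨0, 0⟩, ⟨0, 0⟩, ⟨2, 2⟩, ⟨2, 2⟩, ⟨2, 2⟩, ⟨0, 0⟩, ⟨0, 0⟩, ⟨2, 2⟩, ⟨0, 2⟩, ⟨0, 0⟩, ⟨0, 2⟩, ⟨0, 0⟩, ⟨0, 0⟩, ⟨0, 0⟩, ⟨0, 0⟩, ⟨2, 2⟩, ⟨2, 2⟩, ⟨0, 0⟩, ⟨2, 2⟩, ⟨0, 0⟩, ⟨2, 0⟩, ⟨0, 2⟩, ⟨0, 0⟩, ⟨0, 0⟩, ⟨2, 0⟩, ⟨0, 2⟩, ⟨0, 0⟩],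
  [⟨0, 0⟩, ⟨0, 0⟩, ⟨0, 0⟩, ⟨0, 0⟩, ⟨0, 0⟩, ⟨0, 0⟩, ⟨0, 0⟩, ⟨2, 2⟩, ⟨2, 2⟩, ⟨0, 0⟩, ⟨2, 2⟩, ⟨2, 2⟩, ⟨0, 0⟩, ⟨0, 0⟩, ⟨0, 0⟩, ⟨0, 0⟩, ⟨0, 0⟩, ⟨0, 0⟩, ⟨0, 2⟩, ⟨2, 0⟩, ⟨0, 0⟩, ⟨0, 2⟩, ⟨0, 2⟩, ⟨2, 2⟩, ⟨0, 0⟩, ⟨2, 2⟩, ⟨2, 0⟩, ⟨2, 0⟩],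
  [⟨0, 0⟩, ⟨0, 0⟩, ⟨0, 0⟩, ⟨0, 0⟩, ⟨0, 0⟩, ⟨0, 0⟩, ⟨0, 0⟩, ⟨2, 2⟩, ⟨0, 0⟩, ⟨2, 2⟩, ⟨2, 2⟩, ⟨0, 0⟩, ⟨2, 2⟩, ⟨0, 0⟩, ⟨2, 2⟩, ⟨0, 0⟩, ⟨2, 2⟩, ⟨2, 2⟩, ⟨0, 0⟩, ⟨0, 0⟩, ⟨2, 2⟩, ⟨0, 2⟩, ⟨0, 0⟩, ⟨0, 2⟩, ⟨2, 2⟩, ⟨0, 2⟩, ⟨2, 0⟩, ⟨0, 0⟩],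
  [⟨0, 0⟩, ⟨0, 0⟩, ⟨0, 0⟩, ⟨2, 2⟩, ⟨0, 0⟩, ⟨0, 0⟩, ⟨0, 0⟩, ⟨2, 2⟩, ⟨0, 0⟩, ⟨0, 0⟩, ⟨0, 0⟩, ⟨2, 2⟩, ⟨0, 0⟩, ⟨0, 0⟩, ⟨0, 0⟩, ⟨2, 2⟩, ⟨0, 0⟩, ⟨0, 0⟩, ⟨0, 0⟩, ⟨2, 2⟩, ⟨0, 0⟩, ⟨0, 0⟩, ⟨0, 0⟩, ⟨2, 2⟩, ⟨0, 0⟩, ⟨0, 0⟩, ⟨0, 0⟩, ⟨2, 2⟩]]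

/-- the tenth vector divided by `1 + i` -/
def basQ0L : List GI := [⟨0, 0⟩, ⟨0, 0⟩, ⟨0, 0⟩, ⟨1, 1⟩, ⟨1, -1⟩, ⟨1, -1⟩, ⟨0, 0⟩, ⟨1, -1⟩, ⟨1, 1⟩, ⟨1, -1⟩, ⟨1, 1⟩, ⟨2, 0⟩, ⟨2, 0⟩, ⟨2, 0⟩, ⟨1, 1⟩, ⟨0, 0⟩, ⟨1, 1⟩, ⟨1, -1⟩, ⟨1, 1⟩, ⟨2, 0⟩, ⟨0, 0⟩, ⟨1, -1⟩, ⟨0, 0⟩, ⟨0, 0⟩, ⟨1, 0⟩, ⟨0, 1⟩, ⟨0, -1⟩, ⟨-1, 0⟩]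

/-- coefficients of the twenty generating vectors -/
def CTL : List (List GI) := [
  [⟨0, 0⟩, ⟨0, 0⟩, ⟨0, 0⟩, ⟨0, 0⟩, ⟨0, 0⟩, ⟨0, 0⟩, ⟨0, 0⟩, ⟨0, 0⟩, ⟨0, 0⟩, ⟨0, 0⟩, ⟨0, 0⟩, ⟨0, 0⟩, ⟨0, 0⟩, ⟨0, 0⟩, ⟨0, 0⟩, ⟨0, 0⟩, ⟨0, 0⟩, ⟨0, 0⟩, ⟨0, 0⟩],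
  [⟨0, 1⟩, ⟨1, 2⟩, ⟨1, 2⟩, ⟨-1, 1⟩, ⟨2, 2⟩, ⟨0, 2⟩, ⟨1, 0⟩, ⟨2, 0⟩, ⟨0, 1⟩, ⟨1, 2⟩, ⟨2, 1⟩, ⟨2, 1⟩, ⟨0, 0⟩, ⟨1, 1⟩, ⟨0, 0⟩, ⟨1, 1⟩, ⟨1, 0⟩, ⟨1, 0⟩, ⟨0, 0⟩],
  [⟨0, 1⟩, ⟨1, 2⟩, ⟨-1, 2⟩, ⟨-1, 1⟩, ⟨2, 2⟩, ⟨2, 0⟩, ⟨1, 0⟩, ⟨0, 2⟩, ⟨2, -1⟩, ⟨1, 2⟩, ⟨1, 0⟩, ⟨0, 0⟩, ⟨2, 1⟩, ⟨1, 0⟩, ⟨1, 0⟩, ⟨1, 1⟩, ⟨1, 1⟩, ⟨1, 0⟩, ⟨1, 0⟩],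
  [⟨0, 1⟩, ⟨-1, 2⟩, ⟨1, 2⟩, ⟨-1, 1⟩, ⟨2, 2⟩, ⟨2, 0⟩, ⟨1, 0⟩, ⟨2, 0⟩, ⟨0, 1⟩, ⟨1, 2⟩, ⟨0, 0⟩, ⟨2, 1⟩, ⟨1, 1⟩, ⟨1, 1⟩, ⟨1, 0⟩, ⟨2, 1⟩, ⟨1, 1⟩, ⟨1, 0⟩, ⟨0, 0⟩],
  [⟨0, 1⟩, ⟨-1, 2⟩, ⟨-1, 2⟩, ⟨-1, 1⟩, ⟨2, 2⟩, ⟨0, 2⟩, ⟨1, 0⟩, ⟨0, 2⟩, ⟨2, -1⟩, ⟨1, 2⟩, ⟨1, 1⟩, ⟨0, 0⟩, ⟨1, 0⟩, ⟨1, 0⟩, ⟨0, 0⟩, ⟨2, 1⟩, ⟨1, 0⟩, ⟨1, 0⟩, ⟨1, 0⟩],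
  [⟨-1, 0⟩, ⟨-1, 0⟩, ⟨-1, 0⟩, ⟨-1, 0⟩, ⟨2, 0⟩, ⟨1, 0⟩, ⟨2, 0⟩, ⟨-1, 2⟩, ⟨0, 0⟩, ⟨1, 1⟩, ⟨0, 0⟩, ⟨1, 0⟩, ⟨0, 0⟩, ⟨0, 0⟩, ⟨1, 0⟩, ⟨0, 0⟩, ⟨0, 0⟩, ⟨0, 0⟩, ⟨0, 0⟩],
  [⟨-1, 0⟩, ⟨-1, 0⟩, ⟨-1, 0⟩, ⟨2, 0⟩, ⟨1, 2⟩, ⟨0, 0⟩, ⟨1, 2⟩, ⟨0, 2⟩, ⟨1, 0⟩, ⟨0, 2⟩, ⟨1, 1⟩, ⟨0, 0⟩, ⟨1, 1⟩, ⟨0, 0⟩, ⟨2, 1⟩, ⟨0, 0⟩, ⟨0, 0⟩, ⟨0, 0⟩, ⟨0, 0⟩],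
  [⟨-1, 0⟩, ⟨-1, 0⟩, ⟨-1, 0⟩, ⟨2, 0⟩, ⟨0, -1⟩, ⟨2, 2⟩, ⟨0, -1⟩, ⟨2, 0⟩, ⟨2, 1⟩, ⟨1, 2⟩, ⟨0, 0⟩, ⟨0, 0⟩, ⟨0, 0⟩, ⟨0, 0⟩, ⟨0, 0⟩, ⟨0, 0⟩, ⟨0, 0⟩, ⟨0, 0⟩, ⟨0, 0⟩],
  [⟨-1, 0⟩, ⟨-1, 0⟩, ⟨1, 0⟩, ⟨0, 2⟩, ⟨-1, 2⟩, ⟨1, 1⟩, ⟨-1, 2⟩, ⟨1, 0⟩, ⟨0, 2⟩, ⟨1, 1⟩, ⟨1, 1⟩, ⟨0, 0⟩, ⟨0, 0⟩, ⟨2, 1⟩, ⟨0, 0⟩, ⟨1, 0⟩, ⟨2, 1⟩, ⟨1, 0⟩, ⟨0, 0⟩],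
  [⟨-1, 0⟩, ⟨-1, 0⟩, ⟨1, 0⟩, ⟨0, 2⟩, ⟨0, 1⟩, ⟨-1, 1⟩, ⟨2, -1⟩, ⟨2, 1⟩, ⟨0, 2⟩, ⟨2, -1⟩, ⟨2, 1⟩, ⟨1, 1⟩, ⟨0, 0⟩, ⟨2, 1⟩, ⟨2, 1⟩, ⟨1, 0⟩, ⟨0, 0⟩, ⟨1, 1⟩, ⟨0, 0⟩],
  [⟨-1, 0⟩, ⟨-1, 0⟩, ⟨1, 0⟩, ⟨-1, 0⟩, ⟨2, 0⟩, ⟨-1, 0⟩, ⟨0, 0⟩, ⟨-1, -1⟩, ⟨2, 1⟩, ⟨0, 0⟩, ⟨1, 1⟩, ⟨1, 0⟩, ⟨1, 0⟩, ⟨2, 1⟩, ⟨2, 1⟩, ⟨0, 0⟩, ⟨1, 0⟩, ⟨0, 0⟩, ⟨1, 0⟩],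
  [⟨-1, 0⟩, ⟨-1, 0⟩, ⟨1, 0⟩, ⟨0, 1⟩, ⟨0, 0⟩, ⟨0, -1⟩, ⟨2, 0⟩, ⟨-1, 1⟩, ⟨-1, 0⟩, ⟨2, -1⟩, ⟨1, 0⟩, ⟨1, 1⟩, ⟨1, 1⟩, ⟨1, 0⟩, ⟨0, 0⟩, ⟨1, 1⟩, ⟨1, 1⟩, ⟨1, 1⟩, ⟨0, 0⟩],
  [⟨-1, 0⟩, ⟨1, 0⟩, ⟨-1, 0⟩, ⟨0, 1⟩, ⟨0, 0⟩, ⟨-1, -1⟩, ⟨0, 2⟩, ⟨-1, -1⟩, ⟨1, 2⟩, ⟨2, 1⟩, ⟨2, 1⟩, ⟨1, 1⟩, ⟨2, 1⟩, ⟨2, 1⟩, ⟨0, 0⟩, ⟨1, 1⟩, ⟨1, 1⟩, ⟨1, 0⟩, ⟨1, 0⟩],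
  [⟨-1, 0⟩, ⟨1, 0⟩, ⟨-1, 0⟩, ⟨1, 0⟩, ⟨0, 2⟩, ⟨-1, 1⟩, ⟨0, 0⟩, ⟨-1, 1⟩, ⟨0, 1⟩, ⟨0, 0⟩, ⟨2, 1⟩, ⟨2, 1⟩, ⟨1, 1⟩, ⟨1, 0⟩, ⟨2, 1⟩, ⟨1, 0⟩, ⟨2, 1⟩, ⟨1, 0⟩, ⟨0, 0⟩],
  [⟨-1, 0⟩, ⟨1, 0⟩, ⟨-1, 0⟩, ⟨2, 0⟩, ⟨0, -1⟩, ⟨0, -1⟩, ⟨2, -1⟩, ⟨1, 2⟩, ⟨1, -1⟩, ⟨1, 2⟩, ⟨1, 1⟩, ⟨0, 0⟩, ⟨0, 0⟩, ⟨2, 1⟩, ⟨2, 1⟩, ⟨0, 0⟩, ⟨1, 0⟩, ⟨1, 0⟩, ⟨0, 0⟩],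
  [⟨-1, 0⟩, ⟨1, 0⟩, ⟨-1, 0⟩, ⟨2, 0⟩, ⟨1, 0⟩, ⟨-1, 0⟩, ⟨-1, 0⟩, ⟨0, -1⟩, ⟨-1, -1⟩, ⟨0, 0⟩, ⟨1, 1⟩, ⟨0, 0⟩, ⟨0, 0⟩, ⟨2, 1⟩, ⟨1, 1⟩, ⟨1, 0⟩, ⟨1, 1⟩, ⟨0, 0⟩, ⟨0, 0⟩],
  [⟨-1, 0⟩, ⟨1, 0⟩, ⟨1, 0⟩, ⟨2, 0⟩, ⟨0, -1⟩, ⟨2, 1⟩, ⟨0, 1⟩, ⟨0, 0⟩, ⟨2, -1⟩, ⟨1, 2⟩, ⟨2, 1⟩, ⟨1, 1⟩, ⟨0, 0⟩, ⟨0, 0⟩, ⟨1, 0⟩, ⟨2, 1⟩, ⟨1, 0⟩, ⟨2, 1⟩, ⟨1, 0⟩],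
  [⟨-1, 0⟩, ⟨1, 0⟩, ⟨1, 0⟩, ⟨2, 0⟩, ⟨1, 2⟩, ⟨1, 2⟩, ⟨-1, 0⟩, ⟨0, 0⟩, ⟨1, 0⟩, ⟨1, 1⟩, ⟨0, 0⟩, ⟨1, 0⟩, ⟨1, 1⟩, ⟨0, 0⟩, ⟨0, 0⟩, ⟨0, 0⟩, ⟨1, 0⟩, ⟨2, 1⟩, ⟨1, 0⟩],
  [⟨-1, 0⟩, ⟨1, 0⟩, ⟨1, 0⟩, ⟨2, -1⟩, ⟨2, 2⟩, ⟨2, 0⟩, ⟨0, 0⟩, ⟨1, 0⟩, ⟨-1, 1⟩, ⟨1, 2⟩, ⟨0, 0⟩, ⟨2, 1⟩, ⟨0, 0⟩, ⟨0, 0⟩, ⟨1, 0⟩, ⟨0, 0⟩, ⟨0, 0⟩, ⟨0, 0⟩, ⟨1, 0⟩],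
  [⟨-1, 0⟩, ⟨1, 0⟩, ⟨1, 0⟩, ⟨1, 2⟩, ⟨0, 2⟩, ⟨2, 0⟩, ⟨2, 0⟩, ⟨2, 1⟩, ⟨1, 1⟩, ⟨0, 0⟩, ⟨1, 0⟩, ⟨2, 1⟩, ⟨2, 1⟩, ⟨1, 1⟩, ⟨1, 1⟩, ⟨2, 1⟩, ⟨0, 0⟩, ⟨2, 1⟩, ⟨0, 0⟩]]

/-- coefficients of the images of the spanning family under one of the monomial maps -/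
def CRjL : List (List GI) := [
  [⟨0, 2⟩, ⟨0, -1⟩, ⟨1, 0⟩, ⟨0, 0⟩, ⟨-1, 1⟩, ⟨2, 2⟩, ⟨-1, 0⟩, ⟨0, 1⟩, ⟨2, -1⟩, ⟨1, 1⟩, ⟨0, 0⟩, ⟨1, 1⟩, ⟨1, 0⟩, ⟨2, 1⟩, ⟨1, 1⟩, ⟨1, 0⟩, ⟨2, 1⟩, ⟨0, 0⟩, ⟨1, 0⟩],
  [⟨0, -1⟩, ⟨0, 2⟩, ⟨1, 2⟩, ⟨1, 1⟩, ⟨2, 0⟩, ⟨1, 2⟩, ⟨0, 2⟩, ⟨0, 2⟩, ⟨1, 0⟩, ⟨1, -1⟩, ⟨1, 0⟩, ⟨0, 0⟩, ⟨1, 0⟩, ⟨0, 0⟩, ⟨1, 0⟩, ⟨1, 0⟩, ⟨1, 0⟩, ⟨0, 0⟩, ⟨1, 0⟩],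
  [⟨0, 0⟩, ⟨0, 0⟩, ⟨0, -1⟩, ⟨0, 0⟩, ⟨0, 0⟩, ⟨1, 2⟩, ⟨0, -1⟩, ⟨1, 2⟩, ⟨2, 2⟩, ⟨0, 2⟩, ⟨2, 1⟩, ⟨1, 0⟩, ⟨1, 1⟩, ⟨1, 0⟩, ⟨1, 1⟩, ⟨1, 0⟩, ⟨2, 1⟩, ⟨1, 0⟩, ⟨0, 0⟩],
  [⟨0, 0⟩, ⟨0, 0⟩, ⟨-1, -1⟩, ⟨1, 1⟩, ⟨1, 0⟩, ⟨-1, -1⟩, ⟨0, 0⟩, ⟨1, 0⟩, ⟨0, -1⟩, ⟨0, 0⟩, ⟨1, 1⟩, ⟨2, 1⟩, ⟨0, 0⟩, ⟨0, 0⟩, ⟨1, 1⟩, ⟨1, 1⟩, ⟨1, 0⟩, ⟨1, 1⟩, ⟨0, 0⟩],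
  [⟨0, 0⟩, ⟨0, 0⟩, ⟨1, 1⟩, ⟨1, 0⟩, ⟨1, 1⟩, ⟨2, 2⟩, ⟨-1, -1⟩, ⟨2, 1⟩, ⟨-1, 2⟩, ⟨1, -1⟩, ⟨2, 1⟩, ⟨1, 1⟩, ⟨1, 0⟩, ⟨2, 1⟩, ⟨1, 0⟩, ⟨1, 1⟩, ⟨2, 1⟩, ⟨0, 0⟩, ⟨1, 0⟩],
  [⟨0, 0⟩, ⟨0, 0⟩, ⟨0, 0⟩, ⟨0, 0⟩, ⟨0, 0⟩, ⟨2, -1⟩, ⟨2, 2⟩, ⟨1, 1⟩, ⟨-1, -1⟩, ⟨1, -1⟩, ⟨1, 0⟩, ⟨2, 1⟩, ⟨1, 0⟩, ⟨1, 0⟩, ⟨2, 1⟩, ⟨2, 1⟩, ⟨2, 1⟩, ⟨1, 1⟩, ⟨0, 0⟩],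
  [⟨0, 0⟩, ⟨0, 0⟩, ⟨0, 0⟩, ⟨2, 2⟩, ⟨2, 2⟩, ⟨1, 1⟩, ⟨2, 1⟩, ⟨-1, -1⟩, ⟨-1, 1⟩, ⟨1, 1⟩, ⟨2, 1⟩, ⟨0, 0⟩, ⟨1, 0⟩, ⟨2, 1⟩, ⟨1, 1⟩, ⟨2, 1⟩, ⟨1, 0⟩, ⟨1, 0⟩, ⟨1, 0⟩],
  [⟨0, 0⟩, ⟨0, 0⟩, ⟨0, 0⟩, ⟨2, 2⟩, ⟨2, 2⟩, ⟨1, 1⟩, ⟨2, 2⟩, ⟨2, 1⟩, ⟨0, 0⟩, ⟨0, 2⟩, ⟨0, 0⟩, ⟨1, 0⟩, ⟨1, 1⟩, ⟨0, 0⟩, ⟨1, 0⟩, ⟨0, 0⟩, ⟨1, 1⟩, ⟨2, 1⟩, ⟨1, 0⟩],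
  [⟨0, 0⟩, ⟨0, 0⟩, ⟨0, 0⟩, ⟨2, 2⟩, ⟨2, 2⟩, ⟨1, -1⟩, ⟨2, 0⟩, ⟨0, 0⟩, ⟨1, 2⟩, ⟨0, 2⟩, ⟨2, 1⟩, ⟨1, 1⟩, ⟨1, 0⟩, ⟨2, 1⟩, ⟨0, 0⟩, ⟨1, 1⟩, ⟨0, 0⟩, ⟨2, 1⟩, ⟨1, 0⟩],
  [⟨0, 0⟩, ⟨0, 0⟩, ⟨0, 2⟩, ⟨2, 2⟩, ⟨2, 2⟩, ⟨0, 0⟩, ⟨2, 2⟩, ⟨2, 2⟩, ⟨2, 0⟩, ⟨2, -1⟩, ⟨1, 0⟩, ⟨1, 1⟩, ⟨0, 0⟩, ⟨1, 0⟩, ⟨1, 0⟩, ⟨1, 0⟩, ⟨2, 1⟩, ⟨2, 1⟩, ⟨1, 0⟩],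
  [⟨0, 0⟩, ⟨0, 0⟩, ⟨0, 0⟩, ⟨2, 2⟩, ⟨2, 2⟩, ⟨2, 2⟩, ⟨0, 0⟩, ⟨2, 0⟩, ⟨2, 0⟩, ⟨1, -1⟩, ⟨1, 0⟩, ⟨1, 1⟩, ⟨1, 1⟩, ⟨1, 1⟩, ⟨1, 1⟩, ⟨1, 1⟩, ⟨1, 1⟩, ⟨1, 1⟩, ⟨1, 0⟩],
  [⟨0, 0⟩, ⟨0, 0⟩, ⟨0, 0⟩, ⟨0, 0⟩, ⟨0, 0⟩, ⟨0, 0⟩, ⟨0, 0⟩, ⟨0, 0⟩, ⟨2, 0⟩, ⟨0, 0⟩, ⟨0, 0⟩, ⟨2, 1⟩, ⟨1, 1⟩, ⟨1, 1⟩, ⟨0, 0⟩, ⟨0, 0⟩, ⟨1, 1⟩, ⟨0, 0⟩, ⟨0, 0⟩],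
  [⟨0, 0⟩, ⟨0, 0⟩, ⟨0, 0⟩, ⟨0, 0⟩, ⟨0, 0⟩, ⟨2, 0⟩, ⟨2, 0⟩, ⟨2, 0⟩, ⟨0, 2⟩, ⟨0, 2⟩, ⟨0, 0⟩, ⟨1, 1⟩, ⟨1, 0⟩, ⟨1, 1⟩, ⟨0, 0⟩, ⟨0, 0⟩, ⟨1, 1⟩, ⟨1, 1⟩, ⟨0, 0⟩],
  [⟨0, 0⟩, ⟨0, 0⟩, ⟨2, 2⟩, ⟨2, 2⟩, ⟨2, 2⟩, ⟨0, 0⟩, ⟨0, 2⟩, ⟨0, 2⟩, ⟨2, 0⟩, ⟨1, 1⟩, ⟨1, 1⟩, ⟨1, 1⟩, ⟨1, 1⟩, ⟨2, 1⟩, ⟨0, 0⟩, ⟨1, 1⟩, ⟨0, 0⟩, ⟨1, 1⟩, ⟨1, 0⟩],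
  [⟨0, 0⟩, ⟨0, 0⟩, ⟨2, 2⟩, ⟨0, 0⟩, ⟨0, 0⟩, ⟨2, 2⟩, ⟨0, 0⟩, ⟨2, 0⟩, ⟨0, 2⟩, ⟨0, 0⟩, ⟨1, 1⟩, ⟨1, 1⟩, ⟨1, 1⟩, ⟨0, 0⟩, ⟨1, 0⟩, ⟨0, 0⟩, ⟨1, 1⟩, ⟨0, 0⟩, ⟨0, 0⟩],
  [⟨0, 0⟩, ⟨0, 0⟩, ⟨2, 2⟩, ⟨2, 2⟩, ⟨2, 2⟩, ⟨0, 2⟩, ⟨0, 0⟩, ⟨2, 2⟩, ⟨2, 0⟩, ⟨1, 1⟩, ⟨1, 1⟩, ⟨0, 0⟩, ⟨0, 0⟩, ⟨1, 1⟩, ⟨0, 0⟩, ⟨2, 1⟩, ⟨0, 0⟩, ⟨1, 1⟩, ⟨1, 0⟩],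
  [⟨0, 0⟩, ⟨0, 0⟩, ⟨0, 0⟩, ⟨2, 2⟩, ⟨2, 2⟩, ⟨2, 2⟩, ⟨0, 0⟩, ⟨2, 2⟩, ⟨2, 0⟩, ⟨1, 1⟩, ⟨0, 0⟩, ⟨1, 1⟩, ⟨0, 0⟩, ⟨0, 0⟩, ⟨0, 0⟩, ⟨1, 1⟩, ⟨1, 0⟩, ⟨1, 1⟩, ⟨1, 0⟩],
  [⟨0, 0⟩, ⟨0, 0⟩, ⟨0, 0⟩, ⟨0, 0⟩, ⟨0, 0⟩, ⟨0, 0⟩, ⟨2, 2⟩, ⟨0, 0⟩, ⟨0, 2⟩, ⟨0, 0⟩, ⟨1, 1⟩, ⟨0, 0⟩, ⟨1, 1⟩, ⟨1, 1⟩, ⟨1, 1⟩, ⟨0, 0⟩, ⟨0, 0⟩, ⟨1, 0⟩, ⟨0, 0⟩],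
  [⟨0, 0⟩, ⟨0, 0⟩, ⟨2, 2⟩, ⟨0, 0⟩, ⟨0, 0⟩, ⟨0, 0⟩, ⟨0, 0⟩, ⟨0, 0⟩, ⟨0, 0⟩, ⟨0, 0⟩, ⟨1, 1⟩, ⟨0, 0⟩, ⟨0, 0⟩, ⟨1, 1⟩, ⟨1, 1⟩, ⟨1, 1⟩, ⟨1, 1⟩, ⟨1, 1⟩, ⟨1, 0⟩]]

/-- coefficients of the images of the spanning family under one of the monomial maps -/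
def CRkL : List (List GI) := [
  [⟨0, 2⟩, ⟨-1, 0⟩, ⟨0, -1⟩, ⟨-1, 0⟩, ⟨0, -1⟩, ⟨2, -1⟩, ⟨-1, 1⟩, ⟨0, -1⟩, ⟨0, 0⟩, ⟨0, 2⟩, ⟨0, 0⟩, ⟨0, 0⟩, ⟨1, 0⟩, ⟨2, 1⟩, ⟨1, 0⟩, ⟨0, 0⟩, ⟨1, 0⟩, ⟨1, 1⟩, ⟨1, 0⟩],
  [⟨0, 0⟩, ⟨-1, 0⟩, ⟨0, 0⟩, ⟨-1, 1⟩, ⟨0, 2⟩, ⟨2, 1⟩, ⟨-1, 2⟩, ⟨-1, 2⟩, ⟨-1, -1⟩, ⟨0, 2⟩, ⟨1, 0⟩, ⟨1, 0⟩, ⟨1, 0⟩, ⟨1, 0⟩, ⟨1, 0⟩, ⟨1, 1⟩, ⟨1, 0⟩, ⟨1, 0⟩, ⟨1, 0⟩],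
  [⟨0, -1⟩, ⟨0, -1⟩, ⟨0, 2⟩, ⟨1, 0⟩, ⟨-1, 0⟩, ⟨-1, 1⟩, ⟨2, -1⟩, ⟨1, -1⟩, ⟨-1, -1⟩, ⟨1, 1⟩, ⟨0, 0⟩, ⟨1, 0⟩, ⟨0, 0⟩, ⟨1, 0⟩, ⟨2, 1⟩, ⟨2, 1⟩, ⟨1, 1⟩, ⟨0, 0⟩, ⟨0, 0⟩],
  [⟨0, 0⟩, ⟨1, 1⟩, ⟨0, 0⟩, ⟨-1, -1⟩, ⟨2, -1⟩, ⟨-1, 0⟩, ⟨2, -1⟩, ⟨0, 0⟩, ⟨0, 1⟩, ⟨1, 1⟩, ⟨0, 0⟩, ⟨1, 1⟩, ⟨1, 1⟩, ⟨0, 0⟩, ⟨2, 1⟩, ⟨2, 1⟩, ⟨0, 0⟩, ⟨1, 1⟩, ⟨1, 0⟩],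
  [⟨0, 0⟩, ⟨-1, -1⟩, ⟨0, 0⟩, ⟨1, 2⟩, ⟨0, 2⟩, ⟨2, 1⟩, ⟨2, 1⟩, ⟨2, 2⟩, ⟨1, 2⟩, ⟨0, 2⟩, ⟨1, 1⟩, ⟨2, 1⟩, ⟨1, 0⟩, ⟨1, 1⟩, ⟨2, 1⟩, ⟨2, 1⟩, ⟨1, 1⟩, ⟨2, 1⟩, ⟨1, 0⟩],
  [⟨0, 0⟩, ⟨0, 0⟩, ⟨0, 0⟩, ⟨0, 0⟩, ⟨2, 0⟩, ⟨2, 1⟩, ⟨0, 2⟩, ⟨0, 0⟩, ⟨1, 1⟩, ⟨0, 0⟩, ⟨0, 0⟩, ⟨1, 0⟩, ⟨1, 0⟩, ⟨0, 0⟩, ⟨0, 0⟩, ⟨2, 1⟩, ⟨0, 0⟩, ⟨1, 0⟩, ⟨0, 0⟩],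
  [⟨0, 0⟩, ⟨0, 0⟩, ⟨0, 0⟩, ⟨1, 1⟩, ⟨-1, 1⟩, ⟨2, 2⟩, ⟨0, -1⟩, ⟨2, 2⟩, ⟨-1, 1⟩, ⟨1, -1⟩, ⟨2, 1⟩, ⟨1, 0⟩, ⟨1, 0⟩, ⟨1, 0⟩, ⟨1, 0⟩, ⟨1, 0⟩, ⟨0, 0⟩, ⟨0, 0⟩, ⟨1, 0⟩],
  [⟨0, 0⟩, ⟨0, 0⟩, ⟨0, 0⟩, ⟨2, 2⟩, ⟨2, 2⟩, ⟨2, 0⟩, ⟨0, 2⟩, ⟨1, 2⟩, ⟨1, 1⟩, ⟨1, -1⟩, ⟨2, 1⟩, ⟨0, 0⟩, ⟨0, 0⟩, ⟨2, 1⟩, ⟨2, 1⟩, ⟨1, 1⟩, ⟨1, 1⟩, ⟨2, 1⟩, ⟨1, 0⟩],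
  [⟨0, 0⟩, ⟨0, 0⟩, ⟨0, 0⟩, ⟨0, 0⟩, ⟨2, 0⟩, ⟨-1, -1⟩, ⟨2, 0⟩, ⟨1, -1⟩, ⟨0, 1⟩, ⟨1, 1⟩, ⟨2, 1⟩, ⟨2, 1⟩, ⟨1, 0⟩, ⟨2, 1⟩, ⟨2, 1⟩, ⟨0, 0⟩, ⟨1, 1⟩, ⟨0, 0⟩, ⟨0, 0⟩],
  [⟨0, 0⟩, ⟨0, 2⟩, ⟨0, 0⟩, ⟨0, 2⟩, ⟨0, 0⟩, ⟨2, 2⟩, ⟨0, 2⟩, ⟨0, 0⟩, ⟨2, 2⟩, ⟨1, 0⟩, ⟨0, 0⟩, ⟨1, 1⟩, ⟨1, 0⟩, ⟨0, 0⟩, ⟨1, 0⟩, ⟨1, 0⟩, ⟨0, 0⟩, ⟨0, 0⟩, ⟨1, 0⟩],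
  [⟨0, 0⟩, ⟨0, 0⟩, ⟨0, 0⟩, ⟨0, 0⟩, ⟨0, 0⟩, ⟨2, 0⟩, ⟨0, 0⟩, ⟨2, 2⟩, ⟨2, 0⟩, ⟨0, 2⟩, ⟨1, 0⟩, ⟨0, 0⟩, ⟨0, 0⟩, ⟨0, 0⟩, ⟨0, 0⟩, ⟨1, 1⟩, ⟨1, 1⟩, ⟨1, 1⟩, ⟨0, 0⟩],
  [⟨0, 0⟩, ⟨0, 0⟩, ⟨0, 0⟩, ⟨0, 0⟩, ⟨2, 2⟩, ⟨2, 2⟩, ⟨2, 0⟩, ⟨0, 0⟩, ⟨0, 2⟩, ⟨0, 0⟩, ⟨0, 0⟩, ⟨1, 0⟩, ⟨0, 0⟩, ⟨0, 0⟩, ⟨1, 1⟩, ⟨1, 1⟩, ⟨1, 1⟩, ⟨0, 0⟩, ⟨0, 0⟩],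
  [⟨0, 0⟩, ⟨0, 0⟩, ⟨0, 0⟩, ⟨0, 2⟩, ⟨0, 2⟩, ⟨2, 2⟩, ⟨0, 0⟩, ⟨0, 2⟩, ⟨2, 0⟩, ⟨1, -1⟩, ⟨0, 0⟩, ⟨1, 1⟩, ⟨1, 0⟩, ⟨1, 1⟩, ⟨1, 1⟩, ⟨1, 1⟩, ⟨1, 1⟩, ⟨0, 0⟩, ⟨1, 0⟩],
  [⟨0, 0⟩, ⟨2, 2⟩, ⟨0, 0⟩, ⟨2, 2⟩, ⟨2, 2⟩, ⟨2, 2⟩, ⟨0, 0⟩, ⟨2, 2⟩, ⟨0, 2⟩, ⟨0, 2⟩, ⟨0, 0⟩, ⟨1, 1⟩, ⟨0, 0⟩, ⟨1, 0⟩, ⟨0, 0⟩, ⟨0, 0⟩, ⟨0, 0⟩, ⟨0, 0⟩, ⟨0, 0⟩],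
  [⟨0, 0⟩, ⟨2, 2⟩, ⟨0, 0⟩, ⟨0, 0⟩, ⟨0, 0⟩, ⟨0, 0⟩, ⟨2, 2⟩, ⟨2, 2⟩, ⟨0, 2⟩, ⟨1, -1⟩, ⟨0, 0⟩, ⟨0, 0⟩, ⟨1, 1⟩, ⟨1, 1⟩, ⟨2, 1⟩, ⟨1, 1⟩, ⟨1, 1⟩, ⟨1, 1⟩, ⟨1, 0⟩],
  [⟨0, 0⟩, ⟨2, 2⟩, ⟨0, 0⟩, ⟨2, 2⟩, ⟨2, 2⟩, ⟨0, 0⟩, ⟨0, 0⟩, ⟨2, 2⟩, ⟨2, 0⟩, ⟨0, 2⟩, ⟨0, 0⟩, ⟨1, 1⟩, ⟨0, 0⟩, ⟨0, 0⟩, ⟨1, 1⟩, ⟨2, 1⟩, ⟨0, 0⟩, ⟨1, 1⟩, ⟨0, 0⟩],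
  [⟨0, 0⟩, ⟨0, 0⟩, ⟨0, 0⟩, ⟨2, 2⟩, ⟨0, 0⟩, ⟨0, 0⟩, ⟨0, 0⟩, ⟨2, 0⟩, ⟨2, 0⟩, ⟨1, -1⟩, ⟨0, 0⟩, ⟨0, 0⟩, ⟨0, 0⟩, ⟨0, 0⟩, ⟨1, 1⟩, ⟨1, 1⟩, ⟨2, 1⟩, ⟨0, 0⟩, ⟨1, 0⟩],
  [⟨0, 0⟩, ⟨0, 0⟩, ⟨0, 0⟩, ⟨2, 2⟩, ⟨0, 0⟩, ⟨0, 0⟩, ⟨0, 0⟩, ⟨0, 0⟩, ⟨2, 2⟩, ⟨1, -1⟩, ⟨1, 1⟩, ⟨0, 0⟩, ⟨0, 0⟩, ⟨0, 0⟩, ⟨0, 0⟩, ⟨0, 0⟩, ⟨0, 0⟩, ⟨1, 0⟩, ⟨1, 0⟩],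
  [⟨0, 0⟩, ⟨2, 2⟩, ⟨0, 0⟩, ⟨0, 0⟩, ⟨2, 2⟩, ⟨0, 0⟩, ⟨0, 0⟩, ⟨0, 0⟩, ⟨0, 0⟩, ⟨0, 0⟩, ⟨0, 0⟩, ⟨0, 0⟩, ⟨1, 1⟩, ⟨0, 0⟩, ⟨1, 1⟩, ⟨1, 1⟩, ⟨0, 0⟩, ⟨0, 0⟩, ⟨1, 0⟩]]

/-- coefficients of the images of the spanning family under one of the monomial maps -/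
def CSignL : List (List GI) := [
  [⟨-1, 0⟩, ⟨0, 0⟩, ⟨0, 0⟩, ⟨2, 2⟩, ⟨0, 0⟩, ⟨0, 0⟩, ⟨0, 0⟩, ⟨2, 2⟩, ⟨2, 2⟩, ⟨0, 2⟩, ⟨1, 0⟩, ⟨0, 0⟩, ⟨1, 0⟩, ⟨2, 1⟩, ⟨0, 0⟩, ⟨2, 1⟩, ⟨1, 1⟩, ⟨1, 1⟩, ⟨0, 0⟩],
  [⟨0, 0⟩, ⟨-1, 0⟩, ⟨0, 0⟩, ⟨0, 0⟩, ⟨0, 0⟩, ⟨2, 2⟩, ⟨0, 0⟩, ⟨0, 0⟩, ⟨2, 2⟩, ⟨0, 0⟩, ⟨2, 1⟩, ⟨1, 1⟩, ⟨1, 1⟩, ⟨1, 1⟩, ⟨2, 1⟩, ⟨1, 0⟩, ⟨2, 1⟩, ⟨0, 0⟩, ⟨0, 0⟩],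
  [⟨0, 0⟩, ⟨0, 0⟩, ⟨-1, 0⟩, ⟨0, 0⟩, ⟨0, 0⟩, ⟨0, 0⟩, ⟨0, 0⟩, ⟨0, 0⟩, ⟨0, 0⟩, ⟨0, 0⟩, ⟨1, 1⟩, ⟨0, 0⟩, ⟨2, 1⟩, ⟨1, 0⟩, ⟨2, 1⟩, ⟨1, 1⟩, ⟨1, 0⟩, ⟨1, 1⟩, ⟨0, 0⟩],
  [⟨0, 0⟩, ⟨0, 0⟩, ⟨0, 0⟩, ⟨-1, 2⟩, ⟨2, 2⟩, ⟨0, 0⟩, ⟨2, 2⟩, ⟨0, 0⟩, ⟨2, 2⟩, ⟨1, 1⟩, ⟨0, 0⟩, ⟨2, 1⟩, ⟨1, 1⟩, ⟨0, 0⟩, ⟨1, 1⟩, ⟨0, 0⟩, ⟨0, 0⟩, ⟨1, 1⟩, ⟨0, 0⟩],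
  [⟨0, 0⟩, ⟨0, 0⟩, ⟨0, 0⟩, ⟨0, 0⟩, ⟨1, 0⟩, ⟨2, 2⟩, ⟨0, 0⟩, ⟨2, 2⟩, ⟨2, 2⟩, ⟨0, 2⟩, ⟨0, 0⟩, ⟨1, 0⟩, ⟨0, 0⟩, ⟨0, 0⟩, ⟨0, 0⟩, ⟨1, 1⟩, ⟨1, 1⟩, ⟨0, 0⟩, ⟨1, 0⟩],
  [⟨0, 0⟩, ⟨0, 0⟩, ⟨0, 0⟩, ⟨2, 2⟩, ⟨2, 2⟩, ⟨-1, 2⟩, ⟨0, 0⟩, ⟨2, 2⟩, ⟨2, 2⟩, ⟨1, -1⟩, ⟨0, 0⟩, ⟨1, 1⟩, ⟨1, 1⟩, ⟨1, 1⟩, ⟨0, 0⟩, ⟨1, 1⟩, ⟨1, 1⟩, ⟨1, 1⟩, ⟨1, 0⟩],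
  [⟨0, 0⟩, ⟨0, 0⟩, ⟨0, 0⟩, ⟨0, 0⟩, ⟨0, 0⟩, ⟨0, 0⟩, ⟨-1, 0⟩, ⟨2, 2⟩, ⟨0, 0⟩, ⟨0, 2⟩, ⟨0, 0⟩, ⟨0, 0⟩, ⟨1, 1⟩, ⟨1, 1⟩, ⟨1, 1⟩, ⟨0, 0⟩, ⟨1, 1⟩, ⟨0, 0⟩, ⟨0, 0⟩],
  [⟨0, 0⟩, ⟨0, 0⟩, ⟨0, 0⟩, ⟨2, 2⟩, ⟨2, 2⟩, ⟨2, 2⟩, ⟨0, 0⟩, ⟨-1, 2⟩, ⟨0, 0⟩, ⟨1, -1⟩, ⟨0, 0⟩, ⟨1, 1⟩, ⟨1, 1⟩, ⟨1, 1⟩, ⟨0, 0⟩, ⟨1, 1⟩, ⟨1, 1⟩, ⟨0, 0⟩, ⟨1, 0⟩],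
  [⟨0, 0⟩, ⟨0, 0⟩, ⟨0, 0⟩, ⟨0, 0⟩, ⟨0, 0⟩, ⟨2, 2⟩, ⟨0, 0⟩, ⟨0, 0⟩, ⟨-1, 0⟩, ⟨0, 2⟩, ⟨1, 1⟩, ⟨0, 0⟩, ⟨0, 0⟩, ⟨0, 0⟩, ⟨1, 1⟩, ⟨1, 1⟩, ⟨1, 1⟩, ⟨0, 0⟩, ⟨0, 0⟩],
  [⟨0, 0⟩, ⟨0, 0⟩, ⟨0, 0⟩, ⟨0, 0⟩, ⟨0, 0⟩, ⟨0, 0⟩, ⟨0, 0⟩, ⟨0, 0⟩, ⟨0, 0⟩, ⟨1, 2⟩, ⟨0, 0⟩, ⟨0, 0⟩, ⟨0, 0⟩, ⟨0, 0⟩, ⟨0, 0⟩, ⟨0, 0⟩, ⟨0, 0⟩, ⟨0, 0⟩, ⟨0, 0⟩],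
  [⟨0, 0⟩, ⟨0, 0⟩, ⟨0, 0⟩, ⟨0, 0⟩, ⟨0, 0⟩, ⟨0, 0⟩, ⟨0, 0⟩, ⟨0, 0⟩, ⟨0, 0⟩, ⟨0, 0⟩, ⟨1, 0⟩, ⟨0, 0⟩, ⟨0, 0⟩, ⟨0, 0⟩, ⟨0, 0⟩, ⟨0, 0⟩, ⟨0, 0⟩, ⟨0, 0⟩, ⟨0, 0⟩],
  [⟨0, 0⟩, ⟨0, 0⟩, ⟨0, 0⟩, ⟨0, 0⟩, ⟨0, 0⟩, ⟨0, 0⟩, ⟨0, 0⟩, ⟨0, 0⟩, ⟨0, 0⟩, ⟨0, 0⟩, ⟨0, 0⟩, ⟨1, 0⟩, ⟨0, 0⟩, ⟨0, 0⟩, ⟨0, 0⟩, ⟨0, 0⟩, ⟨0, 0⟩, ⟨0, 0⟩, ⟨0, 0⟩],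
  [⟨0, 0⟩, ⟨0, 0⟩, ⟨0, 0⟩, ⟨0, 0⟩, ⟨0, 0⟩, ⟨0, 0⟩, ⟨0, 0⟩, ⟨0, 0⟩, ⟨0, 0⟩, ⟨0, 0⟩, ⟨0, 0⟩, ⟨0, 0⟩, ⟨1, 0⟩, ⟨0, 0⟩, ⟨0, 0⟩, ⟨0, 0⟩, ⟨0, 0⟩, ⟨0, 0⟩, ⟨0, 0⟩],
  [⟨0, 0⟩, ⟨0, 0⟩, ⟨0, 0⟩, ⟨0, 0⟩, ⟨0, 0⟩, ⟨0, 0⟩, ⟨0, 0⟩, ⟨0, 0⟩, ⟨0, 0⟩, ⟨0, 0⟩, ⟨0, 0⟩, ⟨0, 0⟩, ⟨0, 0⟩, ⟨1, 0⟩, ⟨0, 0⟩, ⟨0, 0⟩, ⟨0, 0⟩, ⟨0, 0⟩, ⟨0, 0⟩],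
  [⟨0, 0⟩, ⟨0, 0⟩, ⟨0, 0⟩, ⟨0, 0⟩, ⟨0, 0⟩, ⟨0, 0⟩, ⟨0, 0⟩, ⟨0, 0⟩, ⟨0, 0⟩, ⟨0, 0⟩, ⟨0, 0⟩, ⟨0, 0⟩, ⟨0, 0⟩, ⟨0, 0⟩, ⟨1, 0⟩, ⟨0, 0⟩, ⟨0, 0⟩, ⟨0, 0⟩, ⟨0, 0⟩],
  [⟨0, 0⟩, ⟨0, 0⟩, ⟨0, 0⟩, ⟨0, 0⟩, ⟨0, 0⟩, ⟨0, 0⟩, ⟨0, 0⟩, ⟨0, 0⟩, ⟨0, 0⟩, ⟨0, 0⟩, ⟨0, 0⟩, ⟨0, 0⟩, ⟨0, 0⟩, ⟨0, 0⟩, ⟨0, 0⟩, ⟨1, 0⟩, ⟨0, 0⟩, ⟨0, 0⟩, ⟨0, 0⟩],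
  [⟨0, 0⟩, ⟨0, 0⟩, ⟨0, 0⟩, ⟨0, 0⟩, ⟨0, 0⟩, ⟨0, 0⟩, ⟨0, 0⟩, ⟨0, 0⟩, ⟨0, 0⟩, ⟨0, 0⟩, ⟨0, 0⟩, ⟨0, 0⟩, ⟨0, 0⟩, ⟨0, 0⟩, ⟨0, 0⟩, ⟨0, 0⟩, ⟨1, 0⟩, ⟨0, 0⟩, ⟨0, 0⟩],
  [⟨0, 0⟩, ⟨0, 0⟩, ⟨0, 0⟩, ⟨0, 0⟩, ⟨0, 0⟩, ⟨0, 0⟩, ⟨0, 0⟩, ⟨0, 0⟩, ⟨0, 0⟩, ⟨0, 0⟩, ⟨0, 0⟩, ⟨0, 0⟩, ⟨0, 0⟩, ⟨0, 0⟩, ⟨0, 0⟩, ⟨0, 0⟩, ⟨0, 0⟩, ⟨1, 0⟩, ⟨0, 0⟩],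
  [⟨0, 0⟩, ⟨0, 0⟩, ⟨0, 0⟩, ⟨0, 0⟩, ⟨0, 0⟩, ⟨0, 0⟩, ⟨0, 0⟩, ⟨0, 0⟩, ⟨0, 0⟩, ⟨0, 0⟩, ⟨0, 0⟩, ⟨0, 0⟩, ⟨0, 0⟩, ⟨0, 0⟩, ⟨0, 0⟩, ⟨0, 0⟩, ⟨0, 0⟩, ⟨0, 0⟩, ⟨1, 0⟩]]

/-- coefficients of the images of the spanning family under one of the monomial maps -/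
def CShiftL : List (List GI) := [
  [⟨-1, -1⟩, ⟨0, 2⟩, ⟨2, 1⟩, ⟨2, 2⟩, ⟨0, 0⟩, ⟨1, 1⟩, ⟨1, 1⟩, ⟨1, 1⟩, ⟨-1, 2⟩, ⟨1, -1⟩, ⟨2, 1⟩, ⟨2, 1⟩, ⟨0, 0⟩, ⟨0, 0⟩, ⟨1, 0⟩, ⟨2, 1⟩, ⟨1, 0⟩, ⟨1, 0⟩, ⟨1, 0⟩],
  [⟨0, 0⟩, ⟨0, 0⟩, ⟨1, -1⟩, ⟨-1, -1⟩, ⟨0, 1⟩, ⟨0, 0⟩, ⟨1, 1⟩, ⟨-1, -1⟩, ⟨2, 0⟩, ⟨2, 1⟩, ⟨0, 0⟩, ⟨0, 0⟩, ⟨0, 0⟩, ⟨2, 1⟩, ⟨2, 1⟩, ⟨2, 1⟩, ⟨2, 1⟩, ⟨0, 0⟩, ⟨1, 0⟩],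
  [⟨0, 0⟩, ⟨0, 0⟩, ⟨1, 0⟩, ⟨0, 2⟩, ⟨-1, 0⟩, ⟨-1, -1⟩, ⟨-1, 1⟩, ⟨0, 0⟩, ⟨-1, 1⟩, ⟨0, 2⟩, ⟨1, 0⟩, ⟨2, 1⟩, ⟨1, 0⟩, ⟨1, 1⟩, ⟨2, 1⟩, ⟨0, 0⟩, ⟨1, 0⟩, ⟨1, 0⟩, ⟨0, 0⟩],
  [⟨0, -1⟩, ⟨0, 2⟩, ⟨2, 2⟩, ⟨0, 0⟩, ⟨2, 2⟩, ⟨0, 2⟩, ⟨-1, 1⟩, ⟨0, 0⟩, ⟨-1, 2⟩, ⟨0, 0⟩, ⟨1, 0⟩, ⟨1, 0⟩, ⟨2, 1⟩, ⟨2, 1⟩, ⟨0, 0⟩, ⟨1, 0⟩, ⟨1, 0⟩, ⟨1, 0⟩, ⟨1, 0⟩],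
  [⟨-1, 1⟩, ⟨1, 2⟩, ⟨1, 2⟩, ⟨2, 2⟩, ⟨2, 0⟩, ⟨-1, 1⟩, ⟨0, 2⟩, ⟨-1, 1⟩, ⟨2, 0⟩, ⟨2, 1⟩, ⟨2, 1⟩, ⟨2, 1⟩, ⟨1, 1⟩, ⟨2, 1⟩, ⟨1, 0⟩, ⟨2, 1⟩, ⟨0, 0⟩, ⟨2, 1⟩, ⟨0, 0⟩],
  [⟨0, 0⟩, ⟨0, 0⟩, ⟨0, 0⟩, ⟨-1, 0⟩, ⟨-1, 0⟩, ⟨0, 0⟩, ⟨1, -1⟩, ⟨-1, -1⟩, ⟨-1, 0⟩, ⟨1, 2⟩, ⟨1, 1⟩, ⟨0, 0⟩, ⟨1, 1⟩, ⟨2, 1⟩, ⟨2, 1⟩, ⟨1, 0⟩, ⟨2, 1⟩, ⟨1, 0⟩, ⟨1, 0⟩],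
  [⟨0, 0⟩, ⟨0, 0⟩, ⟨-1, 1⟩, ⟨0, 0⟩, ⟨-1, 1⟩, ⟨-1, 2⟩, ⟨-1, -1⟩, ⟨1, -1⟩, ⟨2, -1⟩, ⟨0, 0⟩, ⟨1, 1⟩, ⟨2, 1⟩, ⟨0, 0⟩, ⟨1, 0⟩, ⟨1, 0⟩, ⟨1, 1⟩, ⟨2, 1⟩, ⟨1, 0⟩, ⟨0, 0⟩],
  [⟨0, 0⟩, ⟨0, 0⟩, ⟨0, 0⟩, ⟨2, 2⟩, ⟨1, 1⟩, ⟨-1, -1⟩, ⟨-1, 2⟩, ⟨-1, 1⟩, ⟨-1, 0⟩, ⟨2, 1⟩, ⟨1, 1⟩, ⟨0, 0⟩, ⟨2, 1⟩, ⟨1, 1⟩, ⟨1, 1⟩, ⟨1, 0⟩, ⟨1, 0⟩, ⟨2, 1⟩, ⟨0, 0⟩],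
  [⟨0, 0⟩, ⟨0, 0⟩, ⟨0, 0⟩, ⟨-1, 1⟩, ⟨0, 2⟩, ⟨-1, 1⟩, ⟨2, 2⟩, ⟨2, 1⟩, ⟨2, 1⟩, ⟨0, 2⟩, ⟨0, 0⟩, ⟨2, 1⟩, ⟨0, 0⟩, ⟨1, 1⟩, ⟨0, 0⟩, ⟨0, 0⟩, ⟨1, 0⟩, ⟨0, 0⟩, ⟨0, 0⟩],
  [⟨2, 0⟩, ⟨2, 0⟩, ⟨0, 0⟩, ⟨0, 0⟩, ⟨0, 0⟩, ⟨0, 0⟩, ⟨0, 2⟩, ⟨2, 0⟩, ⟨1, 1⟩, ⟨1, 2⟩, ⟨0, 0⟩, ⟨1, 1⟩, ⟨0, 0⟩, ⟨2, 1⟩, ⟨1, 0⟩, ⟨1, 1⟩, ⟨1, 0⟩, ⟨1, 1⟩, ⟨1, 0⟩],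
  [⟨0, 0⟩, ⟨0, 0⟩, ⟨0, 0⟩, ⟨0, 0⟩, ⟨2, 2⟩, ⟨2, 2⟩, ⟨2, 2⟩, ⟨2, 2⟩, ⟨0, 0⟩, ⟨0, 0⟩, ⟨1, 1⟩, ⟨1, 1⟩, ⟨2, 1⟩, ⟨1, 1⟩, ⟨0, 0⟩, ⟨1, 0⟩, ⟨1, 1⟩, ⟨2, 1⟩, ⟨1, 0⟩],
  [⟨0, 0⟩, ⟨0, 0⟩, ⟨0, 0⟩, ⟨2, 2⟩, ⟨0, 0⟩, ⟨0, 0⟩, ⟨0, 0⟩, ⟨2, 2⟩, ⟨0, 0⟩, ⟨0, 0⟩, ⟨1, 0⟩, ⟨0, 0⟩, ⟨1, 1⟩, ⟨0, 0⟩, ⟨0, 0⟩, ⟨0, 0⟩, ⟨2, 1⟩, ⟨2, 1⟩, ⟨1, 0⟩],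
  [⟨0, 0⟩, ⟨0, 0⟩, ⟨0, 2⟩, ⟨2, 2⟩, ⟨2, 0⟩, ⟨0, 0⟩, ⟨0, 0⟩, ⟨0, 0⟩, ⟨2, 2⟩, ⟨0, 0⟩, ⟨2, 1⟩, ⟨2, 1⟩, ⟨1, 1⟩, ⟨0, 0⟩, ⟨1, 1⟩, ⟨0, 0⟩, ⟨2, 1⟩, ⟨0, 0⟩, ⟨1, 0⟩],
  [⟨2, 2⟩, ⟨2, 2⟩, ⟨0, 0⟩, ⟨0, 0⟩, ⟨0, 0⟩, ⟨0, 0⟩, ⟨0, 0⟩, ⟨2, 2⟩, ⟨0, 0⟩, ⟨0, 0⟩, ⟨0, 0⟩, ⟨0, 0⟩, ⟨1, 1⟩, ⟨2, 1⟩, ⟨0, 0⟩, ⟨2, 1⟩, ⟨2, 1⟩, ⟨2, 1⟩, ⟨0, 0⟩],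
  [⟨2, 2⟩, ⟨2, 2⟩, ⟨0, 0⟩, ⟨2, 2⟩, ⟨2, 2⟩, ⟨2, 2⟩, ⟨0, 0⟩, ⟨2, 2⟩, ⟨2, 2⟩, ⟨0, 0⟩, ⟨1, 1⟩, ⟨1, 1⟩, ⟨0, 0⟩, ⟨1, 0⟩, ⟨1, 1⟩, ⟨0, 0⟩, ⟨1, 0⟩, ⟨0, 0⟩, ⟨1, 0⟩],
  [⟨2, 2⟩, ⟨2, 2⟩, ⟨0, 0⟩, ⟨2, 2⟩, ⟨2, 0⟩, ⟨2, 2⟩, ⟨2, 2⟩, ⟨2, 2⟩, ⟨0, 0⟩, ⟨0, 0⟩, ⟨1, 0⟩, ⟨2, 1⟩, ⟨1, 0⟩, ⟨1, 0⟩, ⟨1, 0⟩, ⟨2, 1⟩, ⟨0, 0⟩, ⟨0, 0⟩, ⟨0, 0⟩],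
  [⟨0, 0⟩, ⟨0, 0⟩, ⟨0, 0⟩, ⟨0, 0⟩, ⟨2, 2⟩, ⟨0, 0⟩, ⟨2, 2⟩, ⟨0, 0⟩, ⟨2, 2⟩, ⟨0, 0⟩, ⟨0, 0⟩, ⟨2, 1⟩, ⟨0, 0⟩, ⟨1, 1⟩, ⟨2, 1⟩, ⟨1, 1⟩, ⟨1, 0⟩, ⟨1, 0⟩, ⟨0, 0⟩],
  [⟨0, 0⟩, ⟨0, 0⟩, ⟨0, 0⟩, ⟨2, 2⟩, ⟨0, 0⟩, ⟨2, 2⟩, ⟨2, 2⟩, ⟨2, 2⟩, ⟨2, 2⟩, ⟨0, 0⟩, ⟨1, 1⟩, ⟨1, 1⟩, ⟨1, 1⟩, ⟨1, 1⟩, ⟨1, 0⟩, ⟨0, 0⟩, ⟨0, 0⟩, ⟨1, 1⟩, ⟨0, 0⟩],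
  [⟨0, 0⟩, ⟨0, 0⟩, ⟨0, 0⟩, ⟨0, 0⟩, ⟨0, 0⟩, ⟨0, 0⟩, ⟨0, 0⟩, ⟨0, 0⟩, ⟨0, 0⟩, ⟨0, 0⟩, ⟨0, 0⟩, ⟨0, 0⟩, ⟨0, 0⟩, ⟨0, 0⟩, ⟨0, 0⟩, ⟨0, 0⟩, ⟨0, 0⟩, ⟨0, 0⟩, ⟨1, 0⟩]]

/-- test vectors for one quaternion component -/
def T1L : List (List GI) := [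
  [⟨1, 1⟩, ⟨0, 0⟩, ⟨0, 0⟩, ⟨0, 0⟩, ⟨0, 1⟩, ⟨2, 2⟩, ⟨-1, -1⟩, ⟨1, 2⟩, ⟨1, -1⟩, ⟨2, 0⟩, ⟨2, 1⟩, ⟨2, -1⟩, ⟨1, -1⟩, ⟨1, 1⟩, ⟨0, 1⟩, ⟨0, -1⟩, ⟨2, 2⟩, ⟨0, -1⟩, ⟨0, 2⟩, ⟨1, 2⟩, ⟨-1, -1⟩, ⟨-1, 0⟩, ⟨2, -1⟩, ⟨0, 0⟩, ⟨2, 1⟩, ⟨2, 2⟩, ⟨-1, 0⟩, ⟨2, 2⟩],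
  [⟨0, -1⟩, ⟨2, 2⟩, ⟨1, 2⟩, ⟨2, 0⟩, ⟨1, 1⟩, ⟨0, 0⟩, ⟨0, 0⟩, ⟨0, 0⟩, ⟨-1, 1⟩, ⟨-1, 0⟩, ⟨2, -1⟩, ⟨1, -1⟩, ⟨-1, 1⟩, ⟨2, 0⟩, ⟨2, 1⟩, ⟨2, -1⟩, ⟨0, 0⟩, ⟨1, -1⟩, ⟨-1, 2⟩, ⟨2, 1⟩, ⟨1, -1⟩, ⟨0, 1⟩, ⟨0, 2⟩, ⟨0, 1⟩, ⟨0, -1⟩, ⟨0, 2⟩, ⟨0, 0⟩, ⟨-1, 0⟩],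
  [⟨0, 1⟩, ⟨2, 0⟩, ⟨0, 2⟩, ⟨-1, 0⟩, ⟨0, -1⟩, ⟨0, 2⟩, ⟨-1, 2⟩, ⟨2, 0⟩, ⟨1, 1⟩, ⟨0, 0⟩, ⟨0, 0⟩, ⟨0, 0⟩, ⟨0, 2⟩, ⟨2, -1⟩, ⟨-1, 2⟩, ⟨2, 0⟩, ⟨-1, -1⟩, ⟨2, 0⟩, ⟨0, 1⟩, ⟨2, -1⟩, ⟨-1, -1⟩, ⟨0, 0⟩, ⟨0, 1⟩, ⟨1, 2⟩, ⟨-1, 1⟩, ⟨0, -1⟩, ⟨0, 0⟩, ⟨2, -1⟩],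
  [⟨-1, 1⟩, ⟨1, 0⟩, ⟨0, 2⟩, ⟨1, 2⟩, ⟨1, 0⟩, ⟨2, 2⟩, ⟨0, 2⟩, ⟨2, -1⟩, ⟨1, 1⟩, ⟨0, 1⟩, ⟨0, 0⟩, ⟨1, 0⟩, ⟨1, 1⟩, ⟨0, 0⟩, ⟨0, 0⟩, ⟨0, 0⟩, ⟨-1, -1⟩, ⟨-1, 2⟩, ⟨-1, 2⟩, ⟨0, 0⟩, ⟨2, 0⟩, ⟨0, 0⟩, ⟨-1, 2⟩, ⟨2, 1⟩, ⟨0, -1⟩, ⟨-1, 2⟩, ⟨1, -1⟩, ⟨-1, -1⟩],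
  [⟨1, -1⟩, ⟨0, 0⟩, ⟨1, 2⟩, ⟨0, 1⟩, ⟨1, 2⟩, ⟨2, 2⟩, ⟨0, -1⟩, ⟨1, 1⟩, ⟨2, 2⟩, ⟨1, 0⟩, ⟨1, 2⟩, ⟨0, 2⟩, ⟨-1, 1⟩, ⟨-1, 2⟩, ⟨-1, -1⟩, ⟨1, 2⟩, ⟨1, 1⟩, ⟨0, 0⟩, ⟨0, 0⟩, ⟨0, 0⟩, ⟨2, 0⟩, ⟨1, 2⟩, ⟨0, -1⟩, ⟨2, 0⟩, ⟨0, 1⟩, ⟨-1, 2⟩, ⟨-1, -1⟩, ⟨0, 0⟩],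
  [⟨-1, 2⟩, ⟨2, 1⟩, ⟨2, 0⟩, ⟨-1, -1⟩, ⟨2, 2⟩, ⟨2, 0⟩, ⟨1, 2⟩, ⟨-1, 2⟩, ⟨0, 2⟩, ⟨1, 0⟩, ⟨0, 2⟩, ⟨0, 1⟩, ⟨-1, 1⟩, ⟨2, 1⟩, ⟨-1, 2⟩, ⟨2, 0⟩, ⟨2, 0⟩, ⟨0, -1⟩, ⟨0, 0⟩, ⟨2, 1⟩, ⟨1, 1⟩, ⟨0, 0⟩, ⟨0, 0⟩, ⟨0, 0⟩, ⟨0, -1⟩, ⟨2, 2⟩, ⟨-1, -1⟩, ⟨-1, 0⟩],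
  [⟨-1, -1⟩, ⟨0, 1⟩, ⟨1, 2⟩, ⟨-1, 1⟩, ⟨2, 0⟩, ⟨2, 2⟩, ⟨1, 0⟩, ⟨2, -1⟩, ⟨-1, -1⟩, ⟨0, 2⟩, ⟨-1, 2⟩, ⟨0, -1⟩, ⟨0, 2⟩, ⟨2, -1⟩, ⟨2, 0⟩, ⟨-1, 0⟩, ⟨2, 0⟩, ⟨2, 1⟩, ⟨1, 2⟩, ⟨1, 1⟩, ⟨0, 2⟩, ⟨1, 0⟩, ⟨1, 1⟩, ⟨0, 1⟩, ⟨1, 1⟩, ⟨0, 0⟩, ⟨0, 0⟩, ⟨0, 0⟩]]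

/-- their coefficients -/
def T1CL : List (List GI) := [
  [⟨-1, -1⟩, ⟨2, 2⟩, ⟨2, 2⟩, ⟨-1, 0⟩, ⟨0, 0⟩, ⟨0, 0⟩, ⟨0, 0⟩, ⟨0, 0⟩, ⟨0, 0⟩, ⟨0, 0⟩, ⟨0, 0⟩, ⟨0, 0⟩, ⟨0, 0⟩, ⟨0, 0⟩, ⟨0, 0⟩, ⟨0, 0⟩, ⟨0, 0⟩, ⟨0, 0⟩, ⟨0, 0⟩],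
  [⟨0, 1⟩, ⟨2, 0⟩, ⟨1, 0⟩, ⟨2, 0⟩, ⟨0, 2⟩, ⟨0, 0⟩, ⟨0, 0⟩, ⟨0, 0⟩, ⟨0, 0⟩, ⟨0, 0⟩, ⟨0, 0⟩, ⟨0, 0⟩, ⟨0, 0⟩, ⟨0, 0⟩, ⟨0, 0⟩, ⟨0, 0⟩, ⟨0, 0⟩, ⟨0, 0⟩, ⟨0, 0⟩],
  [⟨0, -1⟩, ⟨2, 2⟩, ⟨0, 0⟩, ⟨0, 1⟩, ⟨0, 0⟩, ⟨2, 0⟩, ⟨0, 0⟩, ⟨0, 0⟩, ⟨0, 0⟩, ⟨0, 0⟩, ⟨0, 0⟩, ⟨0, 0⟩, ⟨0, 0⟩, ⟨0, 0⟩, ⟨0, 0⟩, ⟨0, 0⟩, ⟨0, 0⟩, ⟨0, 0⟩, ⟨0, 0⟩],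
  [⟨1, -1⟩, ⟨-1, 2⟩, ⟨2, 0⟩, ⟨0, 1⟩, ⟨0, 0⟩, ⟨0, 0⟩, ⟨2, 0⟩, ⟨0, 0⟩, ⟨0, 0⟩, ⟨0, 0⟩, ⟨0, 0⟩, ⟨0, 0⟩, ⟨0, 0⟩, ⟨0, 0⟩, ⟨0, 0⟩, ⟨0, 0⟩, ⟨0, 0⟩, ⟨0, 0⟩, ⟨0, 0⟩],
  [⟨-1, 1⟩, ⟨2, 2⟩, ⟨-1, 0⟩, ⟨2, 1⟩, ⟨0, 0⟩, ⟨0, 0⟩, ⟨0, 0⟩, ⟨2, 0⟩, ⟨0, 0⟩, ⟨0, 0⟩, ⟨0, 0⟩, ⟨0, 0⟩, ⟨0, 0⟩, ⟨0, 0⟩, ⟨0, 0⟩, ⟨0, 0⟩, ⟨0, 0⟩, ⟨0, 0⟩, ⟨0, 0⟩],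
  [⟨1, 2⟩, ⟨0, 1⟩, ⟨0, 0⟩, ⟨-1, 1⟩, ⟨0, 0⟩, ⟨2, 0⟩, ⟨0, 0⟩, ⟨0, 0⟩, ⟨2, 0⟩, ⟨0, 0⟩, ⟨0, 0⟩, ⟨0, 0⟩, ⟨0, 0⟩, ⟨0, 0⟩, ⟨0, 0⟩, ⟨0, 0⟩, ⟨0, 0⟩, ⟨0, 0⟩, ⟨0, 0⟩],
  [⟨1, 1⟩, ⟨2, -1⟩, ⟨-1, 0⟩, ⟨2, 2⟩, ⟨0, 0⟩, ⟨0, 0⟩, ⟨0, 0⟩, ⟨0, 0⟩, ⟨0, 0⟩, ⟨0, 0⟩, ⟨0, 0⟩, ⟨0, 0⟩, ⟨0, 0⟩, ⟨0, 0⟩, ⟨0, 0⟩, ⟨0, 0⟩, ⟨0, 0⟩, ⟨0, 0⟩, ⟨0, 0⟩]]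

/-- test vectors for pairs of quaternion components -/
def T0L : List (List GI) := [
  [⟨2, 2⟩, ⟨0, 0⟩, ⟨0, 0⟩, ⟨0, 0⟩, ⟨0, 0⟩, ⟨0, 0⟩, ⟨0, 0⟩, ⟨0, 0⟩, ⟨-1, -1⟩, ⟨1, 1⟩, ⟨1, 1⟩, ⟨-1, 1⟩, ⟨0, 0⟩, ⟨2, 2⟩, ⟨0, 0⟩, ⟨2, 2⟩, ⟨0, 0⟩, ⟨2, 0⟩, ⟨2, 2⟩, ⟨0, 2⟩, ⟨0, 2⟩, ⟨2, 2⟩, ⟨2, 2⟩, ⟨0, 2⟩, ⟨-1, 1⟩, ⟨-1, 1⟩, ⟨1, 1⟩, ⟨-1, 1⟩],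
  [⟨2, 2⟩, ⟨0, 0⟩, ⟨0, 0⟩, ⟨0, 0⟩, ⟨-1, -1⟩, ⟨1, -1⟩, ⟨-1, -1⟩, ⟨1, 1⟩, ⟨0, 0⟩, ⟨0, 0⟩, ⟨0, 0⟩, ⟨0, 0⟩, ⟨1, 1⟩, ⟨1, -1⟩, ⟨-1, 1⟩, ⟨1, -1⟩, ⟨2, 0⟩, ⟨2, 2⟩, ⟨2, 0⟩, ⟨0, 0⟩, ⟨0, 2⟩, ⟨2, 2⟩, ⟨0, 0⟩, ⟨2, 0⟩, ⟨0, 2⟩, ⟨0, 2⟩, ⟨2, 0⟩, ⟨0, 2⟩],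
  [⟨2, 2⟩, ⟨0, 0⟩, ⟨0, 0⟩, ⟨0, 0⟩, ⟨-1, -1⟩, ⟨1, -1⟩, ⟨1, -1⟩, ⟨-1, -1⟩, ⟨-1, 1⟩, ⟨2, 0⟩, ⟨0, 0⟩, ⟨1, -1⟩, ⟨0, 0⟩, ⟨0, 0⟩, ⟨0, 0⟩, ⟨0, 0⟩, ⟨2, 2⟩, ⟨0, 0⟩, ⟨1, -1⟩, ⟨-1, -1⟩, ⟨1, 0⟩, ⟨2, 1⟩, ⟨1, 2⟩, ⟨-1, 0⟩, ⟨1, 2⟩, ⟨1, 2⟩, ⟨1, 2⟩, ⟨0, 1⟩],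
  [⟨2, 2⟩, ⟨0, 0⟩, ⟨0, 0⟩, ⟨0, 0⟩, ⟨2, 0⟩, ⟨0, 0⟩, ⟨0, 0⟩, ⟨0, 2⟩, ⟨-1, -1⟩, ⟨1, 1⟩, ⟨-1, 1⟩, ⟨1, 1⟩, ⟨2, 0⟩, ⟨2, 0⟩, ⟨0, 0⟩, ⟨0, 0⟩, ⟨0, 0⟩, ⟨0, 0⟩, ⟨0, 0⟩, ⟨0, 0⟩, ⟨0, 2⟩, ⟨2, 0⟩, ⟨0, 2⟩, ⟨0, 2⟩, ⟨-1, -1⟩, ⟨1, -1⟩, ⟨1, -1⟩, ⟨1, -1⟩],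
  [⟨2, 2⟩, ⟨0, 0⟩, ⟨0, 0⟩, ⟨0, 0⟩, ⟨1, -1⟩, ⟨-1, -1⟩, ⟨-1, -1⟩, ⟨-1, -1⟩, ⟨0, 2⟩, ⟨2, 2⟩, ⟨2, 0⟩, ⟨0, 0⟩, ⟨2, 0⟩, ⟨2, 2⟩, ⟨0, 0⟩, ⟨2, 0⟩, ⟨2, 2⟩, ⟨2, 2⟩, ⟨2, 2⟩, ⟨0, 0⟩, ⟨0, 0⟩, ⟨0, 0⟩, ⟨0, 0⟩, ⟨0, 0⟩, ⟨1, -1⟩, ⟨1, 1⟩, ⟨1, -1⟩, ⟨1, -1⟩],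
  [⟨2, 2⟩, ⟨0, 0⟩, ⟨0, 0⟩, ⟨0, 0⟩, ⟨-1, -1⟩, ⟨1, -1⟩, ⟨-1, -1⟩, ⟨1, 1⟩, ⟨0, 2⟩, ⟨0, 2⟩, ⟨0, 2⟩, ⟨2, 0⟩, ⟨1, 1⟩, ⟨1, -1⟩, ⟨-1, 1⟩, ⟨1, -1⟩, ⟨2, 0⟩, ⟨0, 0⟩, ⟨2, 0⟩, ⟨2, 2⟩, ⟨2, 0⟩, ⟨2, 2⟩, ⟨0, 0⟩, ⟨0, 2⟩, ⟨0, 0⟩, ⟨0, 0⟩, ⟨0, 0⟩, ⟨0, 0⟩],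
  [⟨-1, 1⟩, ⟨1, -1⟩, ⟨1, -1⟩, ⟨-1, -1⟩, ⟨2, 2⟩, ⟨0, 0⟩, ⟨0, 0⟩, ⟨0, 0⟩, ⟨0, 0⟩, ⟨0, 0⟩, ⟨0, 0⟩, ⟨0, 0⟩, ⟨2, 0⟩, ⟨0, 0⟩, ⟨2, 2⟩, ⟨0, 2⟩, ⟨0, 2⟩, ⟨0, 2⟩, ⟨0, 2⟩, ⟨0, 2⟩, ⟨2, 2⟩, ⟨0, 0⟩, ⟨2, 0⟩, ⟨0, 2⟩, ⟨1, 1⟩, ⟨-1, 1⟩, ⟨1, 1⟩, ⟨1, 1⟩],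
  [⟨0, 0⟩, ⟨2, 2⟩, ⟨0, 0⟩, ⟨2, 2⟩, ⟨2, 2⟩, ⟨0, 0⟩, ⟨0, 0⟩, ⟨0, 0⟩, ⟨1, 1⟩, ⟨-1, 1⟩, ⟨1, 1⟩, ⟨-1, -1⟩, ⟨0, 0⟩, ⟨0, 0⟩, ⟨0, 0⟩, ⟨0, 0⟩, ⟨1, -1⟩, ⟨1, 1⟩, ⟨-1, -1⟩, ⟨-1, -1⟩, ⟨2, 0⟩, ⟨2, 2⟩, ⟨0, 2⟩, ⟨2, 2⟩, ⟨2, 0⟩, ⟨0, 0⟩, ⟨2, 2⟩, ⟨0, 2⟩],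
  [⟨1, 1⟩, ⟨1, 1⟩, ⟨1, -1⟩, ⟨1, 1⟩, ⟨2, 2⟩, ⟨0, 0⟩, ⟨0, 0⟩, ⟨0, 0⟩, ⟨2, 2⟩, ⟨0, 0⟩, ⟨2, 2⟩, ⟨0, 0⟩, ⟨1, 1⟩, ⟨-1, -1⟩, ⟨1, 1⟩, ⟨-1, 1⟩, ⟨0, 0⟩, ⟨0, 0⟩, ⟨0, 0⟩, ⟨0, 0⟩, ⟨2, 0⟩, ⟨0, 0⟩, ⟨0, 2⟩, ⟨0, 0⟩, ⟨2, 0⟩, ⟨0, 0⟩, ⟨0, 0⟩, ⟨2, 0⟩],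
  [⟨0, 0⟩, ⟨2, 2⟩, ⟨2, 0⟩, ⟨2, 0⟩, ⟨2, 2⟩, ⟨0, 0⟩, ⟨0, 0⟩, ⟨0, 0⟩, ⟨1, 1⟩, ⟨1, 1⟩, ⟨-1, -1⟩, ⟨1, -1⟩, ⟨1, -1⟩, ⟨-1, -1⟩, ⟨-1, -1⟩, ⟨-1, -1⟩, ⟨0, 2⟩, ⟨2, 2⟩, ⟨0, 2⟩, ⟨0, 0⟩, ⟨0, 0⟩, ⟨0, 0⟩, ⟨0, 0⟩, ⟨0, 0⟩, ⟨0, 0⟩, ⟨2, 2⟩, ⟨2, 2⟩, ⟨2, 2⟩],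
  [⟨-1, -1⟩, ⟨-1, 1⟩, ⟨-1, -1⟩, ⟨1, 1⟩, ⟨2, 2⟩, ⟨0, 0⟩, ⟨0, 0⟩, ⟨0, 0⟩, ⟨1, -1⟩, ⟨1, 1⟩, ⟨-1, -1⟩, ⟨1, 1⟩, ⟨0, 2⟩, ⟨0, 0⟩, ⟨0, 2⟩, ⟨0, 0⟩, ⟨2, 0⟩, ⟨0, 0⟩, ⟨2, 2⟩, ⟨2, 0⟩, ⟨2, 0⟩, ⟨2, 0⟩, ⟨2, 0⟩, ⟨2, 0⟩, ⟨0, 0⟩, ⟨0, 0⟩, ⟨0, 0⟩, ⟨0, 0⟩],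
  [⟨1, -1⟩, ⟨1, 1⟩, ⟨-1, -1⟩, ⟨-1, -1⟩, ⟨2, 0⟩, ⟨2, 2⟩, ⟨2, 0⟩, ⟨2, 2⟩, ⟨2, 2⟩, ⟨0, 0⟩, ⟨0, 0⟩, ⟨0, 0⟩, ⟨0, 0⟩, ⟨0, 0⟩, ⟨0, 0⟩, ⟨0, 0⟩, ⟨2, 0⟩, ⟨0, 2⟩, ⟨2, 2⟩, ⟨2, 2⟩, ⟨2, 2⟩, ⟨0, 0⟩, ⟨2, 2⟩, ⟨0, 0⟩, ⟨1, 1⟩, ⟨1, 1⟩, ⟨1, 1⟩, ⟨1, -1⟩],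
  [⟨0, -1⟩, ⟨0, -1⟩, ⟨-1, 2⟩, ⟨2, -1⟩, ⟨-1, 1⟩, ⟨-1, 1⟩, ⟨-1, 1⟩, ⟨1, -1⟩, ⟨2, 2⟩, ⟨0, 0⟩, ⟨0, 0⟩, ⟨0, 0⟩, ⟨-1, 2⟩, ⟨1, 2⟩, ⟨1, 0⟩, ⟨2, -1⟩, ⟨0, 0⟩, ⟨0, 0⟩, ⟨0, 0⟩, ⟨0, 0⟩, ⟨1, -1⟩, ⟨0, 0⟩, ⟨-1, 1⟩, ⟨0, 2⟩, ⟨-1, 1⟩, ⟨2, 2⟩, ⟨0, 0⟩, ⟨-1, 1⟩],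
  [⟨1, 1⟩, ⟨1, -1⟩, ⟨1, -1⟩, ⟨-1, 1⟩, ⟨2, 0⟩, ⟨2, 2⟩, ⟨2, 0⟩, ⟨2, 2⟩, ⟨2, 2⟩, ⟨0, 0⟩, ⟨0, 0⟩, ⟨0, 0⟩, ⟨2, 0⟩, ⟨2, 0⟩, ⟨2, 0⟩, ⟨0, 2⟩, ⟨2, 0⟩, ⟨0, 2⟩, ⟨2, 2⟩, ⟨2, 2⟩, ⟨0, 0⟩, ⟨0, 0⟩, ⟨0, 0⟩, ⟨0, 0⟩, ⟨1, 1⟩, ⟨-1, -1⟩, ⟨-1, -1⟩, ⟨1, -1⟩],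
  [⟨2, 0⟩, ⟨0, 0⟩, ⟨0, 2⟩, ⟨2, 0⟩, ⟨-1, 1⟩, ⟨2, 0⟩, ⟨0, 2⟩, ⟨1, 1⟩, ⟨2, 2⟩, ⟨0, 0⟩, ⟨0, 0⟩, ⟨0, 0⟩, ⟨0, 0⟩, ⟨0, 0⟩, ⟨-1, -1⟩, ⟨-1, 1⟩, ⟨0, 1⟩, ⟨1, 0⟩, ⟨0, -1⟩, ⟨0, -1⟩, ⟨1, 2⟩, ⟨-1, 0⟩, ⟨-1, 0⟩, ⟨0, 1⟩, ⟨0, 0⟩, ⟨0, 0⟩, ⟨0, 0⟩, ⟨0, 0⟩],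
  [⟨1, 1⟩, ⟨-1, -1⟩, ⟨-1, -1⟩, ⟨1, -1⟩, ⟨-1, 1⟩, ⟨1, 1⟩, ⟨-1, -1⟩, ⟨1, 1⟩, ⟨2, 0⟩, ⟨2, 2⟩, ⟨0, 2⟩, ⟨0, 0⟩, ⟨2, 2⟩, ⟨0, 0⟩, ⟨0, 0⟩, ⟨0, 0⟩, ⟨0, 0⟩, ⟨0, 0⟩, ⟨0, 0⟩, ⟨0, 0⟩, ⟨2, 2⟩, ⟨0, 0⟩, ⟨0, 2⟩, ⟨2, 0⟩, ⟨2, 0⟩, ⟨2, 0⟩, ⟨2, 0⟩, ⟨0, 2⟩],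
  [⟨0, 0⟩, ⟨0, 0⟩, ⟨2, 0⟩, ⟨0, 2⟩, ⟨1, -1⟩, ⟨1, 1⟩, ⟨1, -1⟩, ⟨1, -1⟩, ⟨0, 2⟩, ⟨0, 2⟩, ⟨0, 2⟩, ⟨0, 2⟩, ⟨2, 2⟩, ⟨0, 0⟩, ⟨0, 0⟩, ⟨0, 0⟩, ⟨0, 0⟩, ⟨2, 0⟩, ⟨0, 0⟩, ⟨2, 0⟩, ⟨0, 0⟩, ⟨0, 0⟩, ⟨0, 0⟩, ⟨0, 0⟩, ⟨1, -1⟩, ⟨-1, 1⟩, ⟨-1, -1⟩, ⟨1, -1⟩],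
  [⟨-1, -1⟩, ⟨-1, -1⟩, ⟨1, 1⟩, ⟨1, -1⟩, ⟨1, -1⟩, ⟨1, 1⟩, ⟨-1, -1⟩, ⟨-1, -1⟩, ⟨0, 0⟩, ⟨2, 0⟩, ⟨2, 2⟩, ⟨2, 0⟩, ⟨2, 2⟩, ⟨0, 0⟩, ⟨0, 0⟩, ⟨0, 0⟩, ⟨0, 0⟩, ⟨0, 0⟩, ⟨2, 2⟩, ⟨2, 2⟩, ⟨0, 0⟩, ⟨0, 0⟩, ⟨2, 0⟩, ⟨2, 0⟩, ⟨0, 0⟩, ⟨0, 0⟩, ⟨0, 0⟩, ⟨0, 0⟩],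
  [⟨0, 2⟩, ⟨0, 2⟩, ⟨2, 0⟩, ⟨2, 0⟩, ⟨-1, 1⟩, ⟨-1, -1⟩, ⟨1, 1⟩, ⟨-1, -1⟩, ⟨0, 0⟩, ⟨2, 0⟩, ⟨2, 2⟩, ⟨2, 0⟩, ⟨0, 0⟩, ⟨2, 0⟩, ⟨0, 2⟩, ⟨2, 2⟩, ⟨2, 2⟩, ⟨0, 0⟩, ⟨0, 0⟩, ⟨0, 0⟩, ⟨0, 0⟩, ⟨0, 0⟩, ⟨0, 0⟩, ⟨0, 0⟩, ⟨1, 1⟩, ⟨1, -1⟩, ⟨1, 1⟩, ⟨-1, -1⟩],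
  [⟨-1, -1⟩, ⟨1, -1⟩, ⟨1, -1⟩, ⟨1, -1⟩, ⟨2, 2⟩, ⟨0, 2⟩, ⟨2, 2⟩, ⟨0, 2⟩, ⟨2, 2⟩, ⟨2, 0⟩, ⟨0, 2⟩, ⟨2, 2⟩, ⟨2, 0⟩, ⟨0, 2⟩, ⟨2, 0⟩, ⟨2, 0⟩, ⟨2, 2⟩, ⟨0, 0⟩, ⟨0, 0⟩, ⟨0, 0⟩, ⟨-1, -1⟩, ⟨-1, 1⟩, ⟨1, 1⟩, ⟨1, 1⟩, ⟨0, 0⟩, ⟨0, 0⟩, ⟨0, 0⟩, ⟨0, 0⟩],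
  [⟨1, -1⟩, ⟨1, 1⟩, ⟨-1, 1⟩, ⟨-1, 1⟩, ⟨2, 0⟩, ⟨0, 2⟩, ⟨2, 0⟩, ⟨0, 2⟩, ⟨1, 1⟩, ⟨-1, 1⟩, ⟨-1, 1⟩, ⟨1, -1⟩, ⟨0, 2⟩, ⟨2, 2⟩, ⟨0, 2⟩, ⟨2, 2⟩, ⟨0, 2⟩, ⟨0, 0⟩, ⟨2, 2⟩, ⟨0, 2⟩, ⟨2, 2⟩, ⟨0, 0⟩, ⟨0, 0⟩, ⟨0, 0⟩, ⟨0, 0⟩, ⟨0, 0⟩, ⟨0, 0⟩, ⟨0, 0⟩]]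

/-- their coefficients -/
def T0CL : List (List GI) := [
  [⟨2, 2⟩, ⟨0, 0⟩, ⟨0, 0⟩, ⟨2, 2⟩, ⟨2, 2⟩, ⟨1, 1⟩, ⟨0, 0⟩, ⟨0, 0⟩, ⟨0, 0⟩, ⟨1, 1⟩, ⟨0, 0⟩, ⟨0, 0⟩, ⟨0, 0⟩, ⟨0, 0⟩, ⟨0, 0⟩, ⟨0, 0⟩, ⟨0, 0⟩, ⟨0, 0⟩, ⟨0, 0⟩],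
  [⟨2, 2⟩, ⟨0, 0⟩, ⟨0, 0⟩, ⟨1, 1⟩, ⟨-1, 1⟩, ⟨0, 2⟩, ⟨1, 1⟩, ⟨0, 0⟩, ⟨0, 0⟩, ⟨0, 0⟩, ⟨0, 0⟩, ⟨0, 0⟩, ⟨0, 0⟩, ⟨0, 0⟩, ⟨0, 0⟩, ⟨0, 0⟩, ⟨0, 0⟩, ⟨0, 0⟩, ⟨0, 0⟩],
  [⟨2, 2⟩, ⟨0, 0⟩, ⟨0, 0⟩, ⟨1, 1⟩, ⟨-1, 1⟩, ⟨0, 0⟩, ⟨2, 2⟩, ⟨0, 0⟩, ⟨1, 0⟩, ⟨0, 0⟩, ⟨0, 0⟩, ⟨0, 0⟩, ⟨0, 0⟩, ⟨0, 0⟩, ⟨0, 0⟩, ⟨0, 0⟩, ⟨0, 0⟩, ⟨0, 0⟩, ⟨0, 0⟩],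
  [⟨2, 2⟩, ⟨0, 0⟩, ⟨0, 0⟩, ⟨0, 2⟩, ⟨0, 0⟩, ⟨1, 1⟩, ⟨2, 0⟩, ⟨0, 0⟩, ⟨0, 0⟩, ⟨0, 0⟩, ⟨0, 0⟩, ⟨0, 0⟩, ⟨0, 0⟩, ⟨0, 0⟩, ⟨0, 0⟩, ⟨0, 0⟩, ⟨0, 0⟩, ⟨0, 0⟩, ⟨0, 0⟩],
  [⟨2, 2⟩, ⟨0, 0⟩, ⟨0, 0⟩, ⟨-1, 1⟩, ⟨1, 1⟩, ⟨0, 0⟩, ⟨0, 0⟩, ⟨0, 0⟩, ⟨0, 0⟩, ⟨0, 0⟩, ⟨0, 0⟩, ⟨0, 0⟩, ⟨0, 0⟩, ⟨0, 0⟩, ⟨0, 0⟩, ⟨0, 0⟩, ⟨0, 0⟩, ⟨0, 0⟩, ⟨0, 0⟩],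
  [⟨2, 2⟩, ⟨0, 0⟩, ⟨0, 0⟩, ⟨1, 1⟩, ⟨-1, 1⟩, ⟨0, 0⟩, ⟨1, 1⟩, ⟨0, 0⟩, ⟨0, 0⟩, ⟨0, 0⟩, ⟨0, 0⟩, ⟨0, 0⟩, ⟨0, 0⟩, ⟨0, 0⟩, ⟨0, 0⟩, ⟨0, 0⟩, ⟨0, 0⟩, ⟨0, 0⟩, ⟨0, 0⟩],
  [⟨1, -1⟩, ⟨-1, 1⟩, ⟨-1, 1⟩, ⟨2, 0⟩, ⟨2, 2⟩, ⟨2, 0⟩, ⟨0, 0⟩, ⟨0, 0⟩, ⟨0, 0⟩, ⟨0, 0⟩, ⟨0, 0⟩, ⟨0, 0⟩, ⟨0, 0⟩, ⟨0, 0⟩, ⟨0, 0⟩, ⟨0, 0⟩, ⟨0, 0⟩, ⟨0, 0⟩, ⟨0, 0⟩],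
  [⟨0, 0⟩, ⟨2, 2⟩, ⟨0, 0⟩, ⟨2, 2⟩, ⟨0, 0⟩, ⟨1, 1⟩, ⟨0, 0⟩, ⟨1, 1⟩, ⟨0, 0⟩, ⟨0, 0⟩, ⟨0, 0⟩, ⟨0, 0⟩, ⟨0, 0⟩, ⟨0, 0⟩, ⟨0, 0⟩, ⟨0, 0⟩, ⟨0, 0⟩, ⟨0, 0⟩, ⟨0, 0⟩],
  [⟨-1, -1⟩, ⟨-1, -1⟩, ⟨-1, 1⟩, ⟨0, 2⟩, ⟨2, 2⟩, ⟨2, 0⟩, ⟨1, 1⟩, ⟨0, 0⟩, ⟨0, 0⟩, ⟨0, 0⟩, ⟨0, 0⟩, ⟨0, 0⟩, ⟨0, 0⟩, ⟨0, 0⟩, ⟨0, 0⟩, ⟨0, 0⟩, ⟨0, 0⟩, ⟨0, 0⟩, ⟨0, 0⟩],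
  [⟨0, 0⟩, ⟨2, 2⟩, ⟨2, 0⟩, ⟨2, 2⟩, ⟨0, 0⟩, ⟨1, 1⟩, ⟨1, 1⟩, ⟨0, 0⟩, ⟨0, 0⟩, ⟨0, 0⟩, ⟨0, 0⟩, ⟨0, 0⟩, ⟨0, 0⟩, ⟨0, 0⟩, ⟨0, 0⟩, ⟨0, 0⟩, ⟨0, 0⟩, ⟨0, 0⟩, ⟨0, 0⟩],
  [⟨1, 1⟩, ⟨1, -1⟩, ⟨1, 1⟩, ⟨0, 2⟩, ⟨2, 2⟩, ⟨1, 1⟩, ⟨0, 0⟩, ⟨0, 0⟩, ⟨0, 0⟩, ⟨0, 0⟩, ⟨0, 0⟩, ⟨0, 0⟩, ⟨0, 0⟩, ⟨0, 0⟩, ⟨0, 0⟩, ⟨0, 0⟩, ⟨0, 0⟩, ⟨0, 0⟩, ⟨0, 0⟩],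
  [⟨-1, 1⟩, ⟨-1, -1⟩, ⟨1, 1⟩, ⟨0, 0⟩, ⟨0, 0⟩, ⟨0, 2⟩, ⟨2, 0⟩, ⟨0, 0⟩, ⟨0, 0⟩, ⟨0, 0⟩, ⟨0, 0⟩, ⟨0, 0⟩, ⟨0, 0⟩, ⟨0, 0⟩, ⟨0, 0⟩, ⟨0, 0⟩, ⟨0, 0⟩, ⟨0, 0⟩, ⟨0, 0⟩],
  [⟨0, 1⟩, ⟨0, 1⟩, ⟨-1, 0⟩, ⟨0, 2⟩, ⟨1, 1⟩, ⟨1, 1⟩, ⟨1, 0⟩, ⟨2, 0⟩, ⟨0, 0⟩, ⟨0, 0⟩, ⟨0, 0⟩, ⟨0, 0⟩, ⟨0, 0⟩, ⟨0, 0⟩, ⟨0, 0⟩, ⟨0, 0⟩, ⟨0, 0⟩, ⟨0, 0⟩, ⟨0, 0⟩],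
  [⟨-1, -1⟩, ⟨-1, 1⟩, ⟨-1, 1⟩, ⟨2, 2⟩, ⟨0, 0⟩, ⟨2, 0⟩, ⟨0, 0⟩, ⟨0, 0⟩, ⟨0, 0⟩, ⟨0, 0⟩, ⟨0, 0⟩, ⟨0, 0⟩, ⟨0, 0⟩, ⟨0, 0⟩, ⟨0, 0⟩, ⟨0, 0⟩, ⟨0, 0⟩, ⟨0, 0⟩, ⟨0, 0⟩],
  [⟨2, 0⟩, ⟨0, 0⟩, ⟨0, 2⟩, ⟨1, 1⟩, ⟨2, 0⟩, ⟨-1, 1⟩, ⟨0, 0⟩, ⟨1, 0⟩, ⟨1, 0⟩, ⟨0, 0⟩, ⟨0, 0⟩, ⟨0, 0⟩, ⟨0, 0⟩, ⟨0, 0⟩, ⟨0, 0⟩, ⟨0, 0⟩, ⟨0, 0⟩, ⟨0, 0⟩, ⟨0, 0⟩],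
  [⟨-1, -1⟩, ⟨1, 1⟩, ⟨1, 1⟩, ⟨-1, -1⟩, ⟨1, 1⟩, ⟨2, 0⟩, ⟨0, 0⟩, ⟨2, 0⟩, ⟨0, 0⟩, ⟨0, 0⟩, ⟨0, 0⟩, ⟨0, 0⟩, ⟨0, 0⟩, ⟨0, 0⟩, ⟨0, 0⟩, ⟨0, 0⟩, ⟨0, 0⟩, ⟨0, 0⟩, ⟨0, 0⟩],
  [⟨0, 0⟩, ⟨0, 0⟩, ⟨2, 0⟩, ⟨1, -1⟩, ⟨1, 1⟩, ⟨0, 0⟩, ⟨2, 0⟩, ⟨0, 0⟩, ⟨0, 0⟩, ⟨1, 1⟩, ⟨0, 0⟩, ⟨0, 0⟩, ⟨0, 0⟩, ⟨0, 0⟩, ⟨0, 0⟩, ⟨0, 0⟩, ⟨0, 0⟩, ⟨0, 0⟩, ⟨0, 0⟩],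
  [⟨1, 1⟩, ⟨1, 1⟩, ⟨-1, -1⟩, ⟨1, 1⟩, ⟨1, 1⟩, ⟨0, 0⟩, ⟨0, 0⟩, ⟨2, 0⟩, ⟨0, 0⟩, ⟨0, 0⟩, ⟨0, 0⟩, ⟨0, 0⟩, ⟨0, 0⟩, ⟨0, 0⟩, ⟨0, 0⟩, ⟨0, 0⟩, ⟨0, 0⟩, ⟨0, 0⟩, ⟨0, 0⟩],
  [⟨0, 2⟩, ⟨0, 2⟩, ⟨2, 0⟩, ⟨-1, 1⟩, ⟨1, 1⟩, ⟨2, 0⟩, ⟨2, 0⟩, ⟨0, 0⟩, ⟨0, 0⟩, ⟨0, 0⟩, ⟨0, 0⟩, ⟨0, 0⟩, ⟨0, 0⟩, ⟨0, 0⟩, ⟨0, 0⟩, ⟨0, 0⟩, ⟨0, 0⟩, ⟨0, 0⟩, ⟨0, 0⟩],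
  [⟨1, 1⟩, ⟨-1, 1⟩, ⟨-1, 1⟩, ⟨2, 0⟩, ⟨2, 0⟩, ⟨0, 0⟩, ⟨0, 0⟩, ⟨2, 0⟩, ⟨1, 1⟩, ⟨0, 0⟩, ⟨0, 0⟩, ⟨0, 0⟩, ⟨0, 0⟩, ⟨0, 0⟩, ⟨0, 0⟩, ⟨0, 0⟩, ⟨0, 0⟩, ⟨0, 0⟩, ⟨0, 0⟩],
  [⟨-1, 1⟩, ⟨-1, -1⟩, ⟨1, -1⟩, ⟨2, 2⟩, ⟨2, 0⟩, ⟨-1, 1⟩, ⟨0, 0⟩, ⟨0, 0⟩, ⟨2, 0⟩, ⟨0, 0⟩, ⟨0, 0⟩, ⟨0, 0⟩, ⟨0, 0⟩, ⟨0, 0⟩, ⟨0, 0⟩, ⟨0, 0⟩, ⟨0, 0⟩, ⟨0, 0⟩, ⟨0, 0⟩]]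

/-- the pivot coordinates of the first nine vectors -/
def pivL : List ℕ := [0, 1, 2, 4, 5, 8, 12, 16, 20]

end Cfsg.Agent.Helper26.RuLat
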