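import Mathlib
import Cfsg.Agent.Lib.Helper26.RuLatData

/-!
# The Gaussian lattice of rank 28: the finite checks
-/

set_option autoImplicit false

namespace Cfsg.Agent.Helper26.RuLat

open Cfsg Cfsg.Spor

/-- the index type of the spanning family -/
abbrev J := Fin 9 ⊕ Fin 10

/-- position in the data lists -/
def idxJ : J → ℕ := Sum.elim (fun a => a.1) (fun b => 9 + b.1)

/-- a vector from the list of its 28 coordinates -/
def vecOf (L : List GI) : RuVec := fun p => L.getD (4 * p.1.1 + p.2.1) 0

/-- the spanning family -/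
def bas (j : J) : RuVec := vecOf (basL.getD (idxJ j) [])

/-- a coefficient vector from a list -/
def coefOf (L : List GI) (j : J) : GI := L.getD (idxJ j) 0

/-- divisibility by four, decidably -/
def chk4 (z : GI) : Prop := z.re % 4 = 0 ∧ z.im % 4 = 0

instance (z : GI) : Decidable (chk4 z) := by unfold chk4; infer_instance

/-- divisibility by eight, decidably -/
def chk8 (z : GI) : Prop := z.re % 8 = 0 ∧ z.im % 8 = 0

instance (z : GI) : Decidable (chk8 z) := by unfold chk8; infer_instance

/-- divisibility by two, decidably -/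
def chk2 (z : GI) : Prop := z.re % 2 = 0 ∧ z.im % 2 = 0

instance (z : GI) : Decidable (chk2 z) := by unfold chk2; infer_instance

/-- a linear combination of the spanning family -/
def comb (c : J → GI) : RuVec := fun p => ∑ j, c j * bas j p

/-- the residue, computably -/
def rhoB (z : GI) : ZMod 2 := if (z.re + z.im) % 2 = 0 then 0 else 1

theorem rho_eq_rhoB (z : GI) : rho z = rhoB z := by
  unfold rhoB
  split_ifs with h
  · rw [rho_apply, ← Int.cast_add, ZMod.intCast_zmod_eq_zero_iff_dvd]
    exact Int.dvd_of_emod_eq_zero h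
  · rcases zmod2_cases (rho z) with h1 | h1
    · exfalso
      apply h
      rw [rho_apply, ← Int.cast_add, ZMod.intCast_zmod_eq_zero_iff_dvd] at h1
      exact Int.emod_eq_zero_of_dvd h1
    · exact h1

/-! ### The generating vectors and the monomial maps -/

set_option maxRecDepth 100000 in
theorem table_chk : ∀ i : Fin 20, ∀ p : RuIdx,
    chk4 (ruTable.getD i.1 0 p - comb (coefOf (CTL.getD i.1 [])) p) := by decide +kernel

set_option maxRecDepth 100000 in
theorem rj_chk : ∀ j : J, ∀ p : RuIdx,
    chk4 (ruRj (bas j) p - comb (coefOf (CRjL.getD (idxJ j) [])) p) := by decide +kernel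

set_option maxRecDepth 100000 in
theorem rk_chk : ∀ j : J, ∀ p : RuIdx,
    chk4 (ruRk (bas j) p - comb (coefOf (CRkL.getD (idxJ j) [])) p) := by decide +kernel

set_option maxRecDepth 100000 in
theorem sign_chk : ∀ j : J, ∀ p : RuIdx,
    chk4 (ruSign (bas j) p - comb (coefOf (CSignL.getD (idxJ j) [])) p) := by decide +kernel

set_option maxRecDepth 100000 in
theorem shift_chk : ∀ j : J, ∀ p : RuIdx,
    chk4 (ruShift (bas j) p - comb (coefOf (CShiftL.getD (idxJ j) [])) p) := by decide +kernel

/-! ### The Gram matrix -/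

set_option maxRecDepth 100000 in
theorem gram4 : ∀ j k : J, chk4 (herm (bas j) (bas k)) := by decide +kernel

set_option maxRecDepth 100000 in
theorem gram8 : ∀ j : J, chk8 (herm (bas j) (bas j)) := by decide +kernel

/-! ### Residues -/

/-- the pivot coordinates -/
def pivP (a : Fin 9) : RuIdx :=
  (Fin.ofNat 7 (pivL.getD a.1 0 / 4), Fin.ofNat 4 (pivL.getD a.1 0 % 4))

set_option maxRecDepth 100000 in
theorem piv_chk : ∀ a a' : Fin 9,
    rhoB (bas (Sum.inl a') (pivP a)) = if a' = a then 1 else 0 := by decide +kernel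

set_option maxRecDepth 100000 in
theorem resR_chk : ∀ b : Fin 10, ∀ p : RuIdx, rhoB (bas (Sum.inr b) p) = 0 := by decide +kernel

set_option maxRecDepth 100000 in
theorem q0_chk : ∀ p : RuIdx, bas (Sum.inr 0) p = piG * vecOf basQ0L p := by decide +kernel

set_option maxRecDepth 100000 in
theorem even_chk : ∀ b : Fin 9, ∀ p : RuIdx, chk2 (bas (Sum.inr b.succ) p) := by decide +kernel

/-- the residues of the first nine vectors -/
def W0 (a : Fin 9) (p : RuIdx) : ZMod 2 := rhoB (bas (Sum.inl a) p)

/-- the residue of the tenth vector divided by `1 + i` -/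
def w1 (p : RuIdx) : ZMod 2 := rhoB (vecOf basQ0L p)

/-- a word of the first code -/
def word0 (a : Fin 9 → ZMod 2) (p : RuIdx) : ZMod 2 := ∑ j, a j * W0 j p

/-- a word of the second code -/
def word1 (a : Fin 9 → ZMod 2) (b : ZMod 2) (p : RuIdx) : ZMod 2 := word0 a p + b * w1 p

/-- zero, or heavy, or the indicator of two quaternion components -/
def P0 (r : RuIdx → ZMod 2) : Prop :=
  (∀ p, r p = 0) ∨ 9 ≤ wt r ∨
    ∃ m n : Fin 7, m < n ∧ ∀ p : RuIdx, r p = if p.1 = m ∨ p.1 = n then 1 else 0

instance (r : RuIdx → ZMod 2) : Decidable (P0 r) := by unfold P0; infer_instance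

/-- zero, or heavy, or the indicator of one quaternion component -/
def P1 (r : RuIdx → ZMod 2) : Prop :=
  (∀ p, r p = 0) ∨ 5 ≤ wt r ∨
    ∃ n : Fin 7, ∀ p : RuIdx, r p = if p.1 = n then 1 else 0

instance (r : RuIdx → ZMod 2) : Decidable (P1 r) := by unfold P1; infer_instance

set_option maxRecDepth 100000 in
theorem enum0 : ∀ a0 a1 a2 a3 a4 a5 a6 a7 a8 : ZMod 2,
    P0 (word0 ![a0, a1, a2, a3, a4, a5, a6, a7, a8]) := by decide +kernel

set_option maxRecDepth 100000 in
theorem enum1 : ∀ a0 a1 a2 a3 a4 a5 a6 a7 a8 b : ZMod 2,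
    P1 (word1 ![a0, a1, a2, a3, a4, a5, a6, a7, a8] b) := by decide +kernel

set_option maxRecDepth 100000 in
theorem dual3 : ∀ p : RuIdx, ∃ a : Fin 9, W0 a p = 1 := by decide +kernel

set_option maxRecDepth 100000 in
theorem dual2 : ∀ p q : RuIdx, p ≠ q → (∃ a : Fin 9, W0 a p ≠ W0 a q) ∨ w1 p ≠ w1 q := by
  decide +kernel

/-! ### The test vectors -/

/-- the test vector of a quaternion component -/
def T1 (n : Fin 7) : RuVec := vecOf (T1L.getD n.1 [])

/-- the position of a pair of components in the list of pairs -/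
def pairIdx (m n : Fin 7) : ℕ := m.1 * 6 - m.1 * (m.1 - 1) / 2 + (n.1 - m.1 - 1)

/-- the test vector of a pair of quaternion components -/
def T0 (m n : Fin 7) : RuVec := vecOf (T0L.getD (pairIdx m n) [])

set_option maxRecDepth 100000 in
theorem t1_chk : ∀ n : Fin 7, ∀ p : RuIdx,
    chk4 (T1 n p - comb (coefOf (T1CL.getD n.1 [])) p) := by decide +kernel

set_option maxRecDepth 100000 in
theorem t0_chk : ∀ m n : Fin 7, m < n → ∀ p : RuIdx,
    chk4 (T0 m n p - comb (coefOf (T0CL.getD (pairIdx m n) [])) p) := by decide +kernel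

set_option maxRecDepth 100000 in
theorem t1_shape : ∀ n : Fin 7, T1 n (n, 0) = ⟨1, 1⟩ ∧
    ∀ p : RuIdx, p.1 = n → p ≠ (n, 0) → chk4 (T1 n p) := by decide +kernel

set_option maxRecDepth 100000 in
theorem t0_shape : ∀ m n : Fin 7, m < n → T0 m n (m, 0) = ⟨2, 2⟩ ∧
    ∀ p : RuIdx, (p.1 = m ∨ p.1 = n) → p ≠ (m, 0) → chk4 (T0 m n p) := by decide +kernel

theorem card_pair : ∀ m n : Fin 7, m < n →
    (Finset.univ.filter (fun p : RuIdx => p.1 = m ∨ p.1 = n)).card = 8 := by decide

theorem card_comp : ∀ n : Fin 7,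
    (Finset.univ.filter (fun p : RuIdx => p.1 = n)).card = 4 := by decide

end Cfsg.Agent.Helper26.RuLat
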