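import Mathlib
import Cfsg.Agent.Lib.Helper26.RuLatB

/-!
# The Gaussian lattice of rank 28: a closed subgroup with even norms
-/

set_option autoImplicit false

namespace Cfsg.Agent.Helper26.RuLat

open Cfsg Cfsg.Spor

/-- the span of the spanning family -/
def S : Submodule GI RuVec := Submodule.span GI (Set.range bas)

/-- congruent modulo 4 to an element of the span -/
def InL (v : RuVec) : Prop := ∃ u ∈ S, ∀ p, (4 : GI) ∣ v p - u p

theorem comb_eq (c : J → GI) : comb c = ∑ j, c j • bas j := by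
  funext p
  unfold comb
  rw [Finset.sum_apply]
  rfl

theorem comb_mem (c : J → GI) : comb c ∈ S := by
  rw [comb_eq]
  exact Submodule.sum_mem _
    (fun j _ => Submodule.smul_mem _ _ (Submodule.subset_span ⟨j, rfl⟩))

theorem inL_of_chk (v : RuVec) (c : J → GI) (h : ∀ p, chk4 (v p - comb c p)) : InL v :=
  ⟨comb c, comb_mem c, fun p => (four_dvd_iff _).2 (h p)⟩

theorem inL_of_mem {u : RuVec} (hu : u ∈ S) : InL u :=
  ⟨u, hu, fun p => by rw [sub_self]; exact dvd_zero _⟩

theorem inL_zero : InL 0 := inL_of_mem (Submodule.zero_mem _)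

theorem inL_add {v w : RuVec} (hv : InL v) (hw : InL w) : InL (v + w) := by
  obtain ⟨u, hu, h⟩ := hv
  obtain ⟨u', hu', h'⟩ := hw
  refine ⟨u + u', Submodule.add_mem _ hu hu', fun p => ?_⟩
  have e : (v + w) p - (u + u') p = (v p - u p) + (w p - u' p) := by
    rw [Pi.add_apply, Pi.add_apply]; ring
  rw [e]
  exact dvd_add (h p) (h' p)

theorem inL_neg {v : RuVec} (hv : InL v) : InL (-v) := by
  obtain ⟨u, hu, h⟩ := hv
  refine ⟨-u, Submodule.neg_mem _ hu, fun p => ?_⟩
  have e : (-v) p - (-u) p = -(v p - u p) := by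
    rw [Pi.neg_apply, Pi.neg_apply]; ring
  rw [e]
  exact (dvd_neg).2 (h p)

theorem inL_smul (c : GI) {v : RuVec} (hv : InL v) : InL (c • v) := by
  obtain ⟨u, hu, h⟩ := hv
  refine ⟨c • u, Submodule.smul_mem _ _ hu, fun p => ?_⟩
  have e : (c • v) p - (c • u) p = c * (v p - u p) := by
    rw [Pi.smul_apply, Pi.smul_apply, smul_eq_mul, smul_eq_mul]; ring
  rw [e]
  exact Dvd.dvd.mul_left (h p) _

/-- the lattice, as an additive subgroup -/
def L1 : AddSubgroup RuVec where
  carrier := {v | InL v}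
  add_mem' := fun hv hw => inL_add hv hw
  zero_mem' := inL_zero
  neg_mem' := fun hv => inL_neg hv

theorem mem_L1 {v : RuVec} : v ∈ L1 ↔ InL v := Iff.rfl

/-! ### Monomial maps -/

/-- a map which permutes the coordinates and multiplies them by constants -/
def Mono (g : RuVec → RuVec) : Prop :=
  ∃ (σ : RuIdx → RuIdx) (ε : RuIdx → GI), ∀ (v : RuVec) (p : RuIdx), g v p = ε p * v (σ p)

theorem Mono.map_add {g : RuVec → RuVec} (hg : Mono g) (v w : RuVec) :
    g (v + w) = g v + g w := by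
  obtain ⟨σ, ε, h⟩ := hg
  funext p
  rw [Pi.add_apply, h, h, h, Pi.add_apply, mul_add]

theorem Mono.map_smul {g : RuVec → RuVec} (hg : Mono g) (c : GI) (v : RuVec) :
    g (c • v) = c • g v := by
  obtain ⟨σ, ε, h⟩ := hg
  funext p
  rw [Pi.smul_apply, h, h, Pi.smul_apply, smul_eq_mul, smul_eq_mul]
  ring

theorem Mono.map_zero {g : RuVec → RuVec} (hg : Mono g) : g 0 = 0 := by
  obtain ⟨σ, ε, h⟩ := hg
  funext p
  rw [h, Pi.zero_apply, Pi.zero_apply, mul_zero]

theorem Mono.dvd {g : RuVec → RuVec} (hg : Mono g) {v u : RuVec}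
    (h : ∀ p, (4 : GI) ∣ v p - u p) (p : RuIdx) : (4 : GI) ∣ g v p - g u p := by
  obtain ⟨σ, ε, hh⟩ := hg
  rw [hh, hh, ← mul_sub]
  exact Dvd.dvd.mul_left (h (σ p)) _

theorem inL_map {g : RuVec → RuVec} (hg : Mono g) (hb : ∀ j, InL (g (bas j))) {v : RuVec}
    (hv : InL v) : InL (g v) := by
  have key : ∀ u : RuVec, u ∈ Submodule.span GI (Set.range bas) → InL (g u) := by
    intro u hu
    induction hu using Submodule.span_induction with
    | mem x hx =>
      obtain ⟨j, rfl⟩ := hx
      exact hb j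
    | zero => rw [hg.map_zero]; exact inL_zero
    | add x y _ _ hx hy => rw [hg.map_add]; exact inL_add hx hy
    | smul c x _ hx => rw [hg.map_smul]; exact inL_smul c hx
  obtain ⟨u, hu, h⟩ := hv
  have h1 : InL (g u) := key u hu
  obtain ⟨u', hu', h'⟩ := h1
  refine ⟨u', hu', fun p => ?_⟩
  have e : g v p - u' p = (g v p - g u p) + (g u p - u' p) := by ring
  rw [e]
  exact dvd_add (hg.dvd h p) (h' p)

theorem mono_rj : Mono ruRj := by
  refine ⟨fun p => (p.1, match p.2 with | 0 => 1 | 1 => 0 | 2 => 3 | 3 => 2),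
    fun p => match p.2 with | 0 => gI | 1 => gI | 2 => 1 | 3 => -1, ?_⟩
  rintro v ⟨n, t⟩
  fin_cases t <;> simp [ruRj]

theorem mono_rk : Mono ruRk := by
  refine ⟨fun p => (p.1, match p.2 with | 0 => 2 | 1 => 3 | 2 => 0 | 3 => 1),
    fun p => match p.2 with | 0 => gI | 1 => -1 | 2 => gI | 3 => 1, ?_⟩
  rintro v ⟨n, t⟩
  fin_cases t <;> simp [ruRk]

theorem mono_sign : Mono ruSign := by
  refine ⟨fun p => p,
    fun p => if p.1 = 0 ∨ p.1 = 3 ∨ p.1 = 5 ∨ p.1 = 6 then -1 else 1, ?_⟩
  intro v p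
  unfold ruSign
  show (if p.1 = 0 ∨ p.1 = 3 ∨ p.1 = 5 ∨ p.1 = 6 then -v p else v p) =
    (if p.1 = 0 ∨ p.1 = 3 ∨ p.1 = 5 ∨ p.1 = 6 then -1 else 1) * v p
  by_cases h : (p.1 = 0 ∨ p.1 = 3 ∨ p.1 = 5 ∨ p.1 = 6)
  · rw [if_pos h, if_pos h]; ring
  · rw [if_neg h, if_neg h, one_mul]

theorem mono_shift : Mono ruShift := by
  refine ⟨fun p => (p.1 + 1, p.2), fun _ => 1, ?_⟩
  intro v p
  unfold ruShift
  rw [one_mul]

/-- the subgroup is closed in the sense of the definition of the lattice -/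
theorem L1_closed : L1 ∈ ruClosed := by
  constructor
  · intro v hv
    obtain ⟨i, hi, rfl⟩ := List.getElem_of_mem hv
    have hlen : ruTable.length = 20 := rfl
    rw [hlen] at hi
    have h := table_chk ⟨i, hi⟩
    rw [List.getD_eq_getElem _ _ (by rw [hlen]; exact hi)] at h
    exact inL_of_chk _ _ h
  · intro v hv
    refine ⟨inL_smul gI hv, ?_, ?_, ?_, ?_⟩
    · exact inL_map mono_rj (fun j => inL_of_chk _ _ (rj_chk j)) hv
    · exact inL_map mono_rk (fun j => inL_of_chk _ _ (rk_chk j)) hv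
    · exact inL_map mono_sign (fun j => inL_of_chk _ _ (sign_chk j)) hv
    · exact inL_map mono_shift (fun j => inL_of_chk _ _ (shift_chk j)) hv

theorem ruLattice_le : ruLattice ≤ L1 := sInf_le L1_closed

/-! ### The Gram matrix -/

theorem four_dvd_herm_S {u u' : RuVec} (hu : u ∈ S) (hu' : u' ∈ S) :
    (4 : GI) ∣ herm u u' := by
  unfold S at hu hu'
  induction hu using Submodule.span_induction with
  | mem x hx =>
    obtain ⟨j, rfl⟩ := hx
    induction hu' using Submodule.span_induction with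
    | mem y hy =>
      obtain ⟨k, rfl⟩ := hy
      exact (four_dvd_iff _).2 (gram4 j k)
    | zero => rw [herm_zero_right]; exact dvd_zero _
    | add y z _ _ hy hz => rw [herm_add_right]; exact dvd_add hy hz
    | smul c y _ hy => rw [herm_smul_right]; exact Dvd.dvd.mul_left hy _
  | zero => rw [herm_zero_left]; exact dvd_zero _
  | add x y _ _ hx hy => rw [herm_add_left]; exact dvd_add hx hy
  | smul c x _ hx => rw [herm_smul_left]; exact Dvd.dvd.mul_left hx _

theorem eight_dvd_herm_S {u : RuVec} (hu : u ∈ S) : (8 : GI) ∣ herm u u := by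
  have hu0 := hu
  unfold S at hu
  induction hu using Submodule.span_induction with
  | mem x hx =>
    obtain ⟨j, rfl⟩ := hx
    exact (eight_dvd_iff _).2 (gram8 j)
  | zero => rw [herm_zero_left]; exact dvd_zero _
  | add x y hx hy ihx ihy =>
    have h1 := four_dvd_herm_S (u := x) (u' := y) hx hy
    have h2 := eight_dvd_add_star h1
    rw [herm_star] at h2
    have e : herm (x + y) (x + y) = herm x x + herm y y + (herm x y + herm y x) := by
      rw [herm_add_left, herm_add_right, herm_add_right]; ring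
    rw [e]
    exact dvd_add (dvd_add (ihx hx) (ihy hy)) h2
  | smul c x hx ih =>
    rw [herm_smul_left, herm_smul_right]
    exact Dvd.dvd.mul_left (Dvd.dvd.mul_left (ih hx) _) _

theorem exists_decomp {v : RuVec} (hv : InL v) :
    ∃ u ∈ S, ∃ w : RuVec, v = u + (4 : GI) • w := by
  obtain ⟨u, hu, h⟩ := hv
  choose w hw using h
  refine ⟨u, hu, w, ?_⟩
  funext p
  rw [Pi.add_apply, Pi.smul_apply, smul_eq_mul, ← hw p]
  ring

theorem star_four : star (4 : GI) = 4 := by decide

theorem four_dvd_herm {v v' : RuVec} (hv : InL v) (hv' : InL v') : (4 : GI) ∣ herm v v' := by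
  obtain ⟨u, hu, w, rfl⟩ := exists_decomp hv
  obtain ⟨u', hu', w', rfl⟩ := exists_decomp hv'
  rw [herm_add_left, herm_add_right, herm_add_right, herm_smul_left, herm_smul_left,
    herm_smul_right, herm_smul_right, star_four]
  refine dvd_add (dvd_add (four_dvd_herm_S hu hu') (dvd_mul_right _ _))
    (dvd_add (dvd_mul_right _ _) (dvd_mul_right _ _))

theorem eight_dvd_norm {v : RuVec} (hv : InL v) : (8 : ℤ) ∣ ruNorm v := by
  obtain ⟨u, hu, w, rfl⟩ := exists_decomp hv
  have e : herm (u + (4 : GI) • w) (u + (4 : GI) • w) =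
      herm u u + 4 * (herm u w + star (herm u w)) + 16 * herm w w := by
    rw [herm_add_left, herm_add_right, herm_add_right, herm_smul_left, herm_smul_left,
      herm_smul_right, herm_smul_right, star_four, herm_star]
    ring
  have h1 : (8 : GI) ∣ herm (u + (4 : GI) • w) (u + (4 : GI) • w) := by
    rw [e, add_star_eq]
    refine dvd_add (dvd_add (eight_dvd_herm_S hu) ?_) ?_
    · refine ⟨(((herm u w).re : ℤ) : GI), ?_⟩
      push_cast
      ring
    · exact ⟨2 * herm w w, by ring⟩
  rw [herm_self] at h1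
  have h8 : (8 : GI) = ((8 : ℤ) : GI) := by norm_num
  rw [h8, Zsqrtd.intCast_dvd_intCast] at h1
  exact h1

end Cfsg.Agent.Helper26.RuLat
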