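import Mathlib
import Cfsg.Agent.Lib.Helper26.RuLatC

/-!
# The Gaussian lattice of rank 28: there are no vectors of norm 8
-/

set_option autoImplicit false

namespace Cfsg.Agent.Helper26.RuLat

open Cfsg Cfsg.Spor

/-! ### Supports -/

theorem zero_off {f : RuIdx → ℤ} (hf : ∀ p, 0 ≤ f p) (T : Finset RuIdx)
    (hT : ∀ p ∈ T, 1 ≤ f p) (hsum : ∑ p, f p = T.card) : ∀ p, p ∉ T → f p = 0 := by
  have h1 := Finset.sum_add_sum_compl T f
  have h2 : (T.card : ℤ) ≤ ∑ p ∈ T, f p := by
    have := Finset.card_nsmul_le_sum T f 1 hT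
    simpa using this
  have h3 : ∑ p ∈ Tᶜ, f p ≤ 0 := by linarith
  have h4 : ∑ p ∈ Tᶜ, f p = 0 := le_antisymm h3 (Finset.sum_nonneg fun p _ => hf p)
  rw [Finset.sum_eq_zero_iff_of_nonneg (fun p _ => hf p)] at h4
  intro p hp
  exact h4 p (Finset.mem_compl.2 hp)

theorem wt_eq_card (r : RuIdx → ZMod 2) :
    wt r = (Finset.univ.filter (fun p => r p = 1)).card := by
  unfold wt
  rw [Finset.card_filter]
  apply Finset.sum_congr rfl
  intro p _
  rcases zmod2_cases (r p) with h | h <;> rw [h] <;> decide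

theorem sum_mul_eq (r s : RuIdx → ZMod 2) :
    ∑ p, r p * s p = ∑ p ∈ Finset.univ.filter (fun p => r p = 1), s p := by
  rw [Finset.sum_filter]
  apply Finset.sum_congr rfl
  intro p _
  rcases zmod2_cases (r p) with h | h <;> rw [h] <;> simp

theorem eq_of_add_eq_zero {a b : ZMod 2} (h : a + b = 0) : a = b := by
  have := eq_neg_of_add_eq_zero_left h
  rwa [neg_zmod2] at this

theorem vec9 (a : Fin 9 → ZMod 2) :
    a = ![a 0, a 1, a 2, a 3, a 4, a 5, a 6, a 7, a 8] := by
  funext j
  fin_cases j <;> rfl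

theorem herm_split (x T : RuVec) (p0 : RuIdx) :
    herm x T = x p0 * star (T p0) + ∑ p ∈ Finset.univ.erase p0, x p * star (T p) := by
  unfold herm
  exact (Finset.add_sum_erase _ _ (Finset.mem_univ p0)).symm

/-! ### Residues of lattice vectors -/

theorem rho_word0 {x : RuVec} (hx : InL x) :
    ∃ a : Fin 9 → ZMod 2, ∀ p, rho (x p) = word0 a p := by
  obtain ⟨u, hu, h⟩ := hx
  obtain ⟨c, rfl⟩ := (Submodule.mem_span_range_iff_exists_fun GI).1 hu
  refine ⟨fun a => rho (c (Sum.inl a)), fun p => ?_⟩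
  have h1 : rho (x p) = rho ((∑ j, c j • bas j) p) := by
    have := rho_of_four_dvd (h p)
    rw [map_sub, sub_eq_zero] at this
    exact this
  rw [h1, Finset.sum_apply, map_sum, Fintype.sum_sum_type]
  have h2 : ∑ b : Fin 10, rho ((c (Sum.inr b) • bas (Sum.inr b)) p) = 0 := by
    apply Finset.sum_eq_zero
    intro b _
    rw [Pi.smul_apply, smul_eq_mul, map_mul, rho_eq_rhoB (bas _ p), resR_chk b p, mul_zero]
  rw [h2, add_zero]
  unfold word0
  apply Finset.sum_congr rfl
  intro a _
  rw [Pi.smul_apply, smul_eq_mul, map_mul, rho_eq_rhoB (bas _ p)]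
  rfl

theorem two_eq : (2 : GI) = piG * star piG := by decide

theorem four_eq : (4 : GI) = piG * ⟨2, -2⟩ := by decide

theorem piG_ne_zero : piG ≠ 0 := by decide

theorem rho_word1 {y : RuVec} (hy : InL (piG • y)) :
    ∃ (a : Fin 9 → ZMod 2) (b : ZMod 2), ∀ p, rho (y p) = word1 a b p := by
  obtain ⟨u, hu, h⟩ := hy
  obtain ⟨c, rfl⟩ := (Submodule.mem_span_range_iff_exists_fun GI).1 hu
  have hpt : ∀ p, (4 : GI) ∣ piG * y p - ∑ j, c j * bas j p := by
    intro p
    have := h p
    rwa [Pi.smul_apply, smul_eq_mul, Finset.sum_apply] at this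
  have hc0 : ∀ a : Fin 9, rho (c (Sum.inl a)) = 0 := by
    intro a
    have h1 := rho_of_four_dvd (hpt (pivP a))
    rw [map_sub, map_mul, rho_piG, zero_mul, zero_sub, neg_eq_zero, map_sum,
      Fintype.sum_sum_type] at h1
    have h2 : ∑ b : Fin 10, rho (c (Sum.inr b) * bas (Sum.inr b) (pivP a)) = 0 := by
      apply Finset.sum_eq_zero
      intro b _
      rw [map_mul, rho_eq_rhoB (bas _ _), resR_chk b, mul_zero]
    have h3 : ∑ a' : Fin 9, rho (c (Sum.inl a') * bas (Sum.inl a') (pivP a)) =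
        rho (c (Sum.inl a)) := by
      rw [Finset.sum_eq_single a]
      · rw [map_mul, rho_eq_rhoB (bas _ _), piv_chk a a, if_pos rfl, mul_one]
      · intro a' _ hne
        rw [map_mul, rho_eq_rhoB (bas _ _), piv_chk a a', if_neg hne, mul_zero]
      · intro h
        exact absurd (Finset.mem_univ a) h
    rw [h2, h3, add_zero] at h1
    exact h1
  have hc0' : ∀ a : Fin 9, ∃ c', c (Sum.inl a) = piG * c' :=
    fun a => (rho_eq_zero_iff _).1 (hc0 a)
  choose c' hc' using hc0'
  have hR : ∀ (b : Fin 10) (p : RuIdx), ∃ q : GI, bas (Sum.inr b) p = piG * q ∧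
      rho q = if b = 0 then w1 p else 0 := by
    intro b p
    refine Fin.cases ?_ (fun b' => ?_) b
    · refine ⟨vecOf basQ0L p, q0_chk p, ?_⟩
      rw [if_pos rfl, rho_eq_rhoB]
      rfl
    · obtain ⟨q, hq⟩ := (two_dvd_iff _).2 (even_chk b' p)
      refine ⟨star piG * q, ?_, ?_⟩
      · rw [hq, two_eq, mul_assoc]
      · rw [map_mul, rho_star, rho_piG, zero_mul, if_neg (Fin.succ_ne_zero b')]
  choose q hq1 hq2 using hR
  refine ⟨fun a => rho (c' a), rho (c (Sum.inr 0)), fun p => ?_⟩
  obtain ⟨w, hw⟩ := hpt p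
  have e1 : ∑ j, c j * bas j p = piG * (∑ a : Fin 9, c' a * bas (Sum.inl a) p +
      ∑ b : Fin 10, c (Sum.inr b) * q b p) := by
    rw [Fintype.sum_sum_type, mul_add, Finset.mul_sum, Finset.mul_sum]
    congr 1
    · apply Finset.sum_congr rfl
      intro a _
      rw [hc' a]
      ring
    · apply Finset.sum_congr rfl
      intro b _
      rw [hq1 b p]
      ring
  have e3 : piG * y p = piG * (∑ a : Fin 9, c' a * bas (Sum.inl a) p +
      ∑ b : Fin 10, c (Sum.inr b) * q b p + ⟨2, -2⟩ * w) := by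
    have : piG * y p = ∑ j, c j * bas j p + 4 * w := by
      rw [← hw]; ring
    rw [this, e1, four_eq]
    ring
  have e4 := mul_left_cancel₀ piG_ne_zero e3
  rw [e4, map_add, map_add, map_sum, map_sum, map_mul]
  have h22 : rho (⟨2, -2⟩ : GI) = 0 := by
    rw [rho_eq_rhoB]; decide
  rw [h22, zero_mul, add_zero]
  unfold word1 word0
  congr 1
  · apply Finset.sum_congr rfl
    intro a _
    rw [map_mul, rho_eq_rhoB (bas _ p)]
    rfl
  · rw [Fin.sum_univ_succ]
    have h9 : ∑ i : Fin 9, rho (c (Sum.inr i.succ) * q i.succ p) = 0 := by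
      apply Finset.sum_eq_zero
      intro i _
      rw [map_mul, hq2, if_neg (Fin.succ_ne_zero i), mul_zero]
    rw [h9, add_zero, map_mul, hq2, if_pos rfl]

/-! ### The four levels -/

theorem step0 {x : RuVec} (hx : InL x) (hn : ruNorm x = 8) (hr : ¬ ∀ p, rho (x p) = 0) :
    False := by
  obtain ⟨a, ha⟩ := rho_word0 hx
  have h0 := enum0 (a 0) (a 1) (a 2) (a 3) (a 4) (a 5) (a 6) (a 7) (a 8)
  rw [← vec9 a] at h0
  have hrw : (fun p => rho (x p)) = word0 a := funext ha
  rcases h0 with h0 | h0 | ⟨m, n, hmn, h0⟩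
  · exact hr (fun p => by rw [ha p]; exact h0 p)
  · have h1 := wt_le_norm x
    rw [hrw, hn] at h1
    have h2 : ((9 : ℕ) : ℤ) ≤ (wt (word0 a) : ℤ) := by exact_mod_cast h0
    have : ((9 : ℕ) : ℤ) ≤ 8 := le_trans h2 h1
    norm_num at this
  · set T := Finset.univ.filter (fun p : RuIdx => p.1 = m ∨ p.1 = n) with hT
    have hcard : T.card = 8 := card_pair m n hmn
    have hone : ∀ p ∈ T, rho (x p) = 1 := by
      intro p hp
      rw [hT, Finset.mem_filter] at hp
      rw [ha p, h0 p, if_pos hp.2]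
    have hzero : ∀ p, p ∉ T → x p = 0 := by
      have hs : ∑ p, Zsqrtd.norm (x p) = T.card := by
        rw [hcard]; exact hn
      have := zero_off (f := fun p => Zsqrtd.norm (x p)) (fun p => gnorm_nonneg _) T
        (fun p hp => one_le_norm_of_rho (hone p hp)) hs
      intro p hp
      exact (gnorm_eq_zero _).1 (this p hp)
    obtain ⟨hs1, hs2⟩ := t0_shape m n hmn
    have hTm : InL (T0 m n) := inL_of_chk _ _ (t0_chk m n hmn)
    have hd := four_dvd_herm hx hTm
    rw [herm_split x (T0 m n) (m, 0)] at hd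
    have hrest : (4 : GI) ∣ ∑ p ∈ Finset.univ.erase (m, 0), x p * star (T0 m n p) := by
      apply Finset.dvd_sum
      intro p hp
      rw [Finset.mem_erase] at hp
      by_cases hpT : p ∈ T
      · rw [hT, Finset.mem_filter] at hpT
        exact Dvd.dvd.mul_left (four_dvd_star ((four_dvd_iff _).2 (hs2 p hpT.2 hp.1))) _
      · rw [hzero p hpT, zero_mul]
        exact dvd_zero _
    have hd2 : (4 : GI) ∣ x (m, 0) * star (T0 m n (m, 0)) := (dvd_add_left hrest).1 hd
    rw [hs1, mul_comm] at hd2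
    have h8 : Zsqrtd.norm (star (⟨2, 2⟩ : GI)) ∣ 8 := by decide
    have h1 := rho_eq_zero_of_four_dvd_mul hd2 h8
    have h2 : rho (x (m, 0)) = 1 :=
      hone _ (by rw [hT, Finset.mem_filter]; exact ⟨Finset.mem_univ _, Or.inl rfl⟩)
    rw [h1] at h2
    exact zero_ne_one h2

theorem step1 {y : RuVec} (hy : InL (piG • y)) (hn : ruNorm y = 4)
    (hr : ¬ ∀ p, rho (y p) = 0) : False := by
  obtain ⟨a, b, ha⟩ := rho_word1 hy
  have h0 := enum1 (a 0) (a 1) (a 2) (a 3) (a 4) (a 5) (a 6) (a 7) (a 8) b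
  rw [← vec9 a] at h0
  have hrw : (fun p => rho (y p)) = word1 a b := funext ha
  rcases h0 with h0 | h0 | ⟨n, h0⟩
  · exact hr (fun p => by rw [ha p]; exact h0 p)
  · have h1 := wt_le_norm y
    rw [hrw, hn] at h1
    have h2 : ((5 : ℕ) : ℤ) ≤ (wt (word1 a b) : ℤ) := by exact_mod_cast h0
    have : ((5 : ℕ) : ℤ) ≤ 4 := le_trans h2 h1
    norm_num at this
  · set T := Finset.univ.filter (fun p : RuIdx => p.1 = n) with hT
    have hcard : T.card = 4 := card_comp n
    have hone : ∀ p ∈ T, rho (y p) = 1 := by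
      intro p hp
      rw [hT, Finset.mem_filter] at hp
      rw [ha p, h0 p, if_pos hp.2]
    have hzero : ∀ p, p ∉ T → y p = 0 := by
      have hs : ∑ p, Zsqrtd.norm (y p) = T.card := by
        rw [hcard]; exact hn
      have := zero_off (f := fun p => Zsqrtd.norm (y p)) (fun p => gnorm_nonneg _) T
        (fun p hp => one_le_norm_of_rho (hone p hp)) hs
      intro p hp
      exact (gnorm_eq_zero _).1 (this p hp)
    obtain ⟨hs1, hs2⟩ := t1_shape n
    have hTm : InL (T1 n) := inL_of_chk _ _ (t1_chk n)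
    have hd := four_dvd_herm hy hTm
    rw [herm_smul_left, herm_split y (T1 n) (n, 0), mul_add] at hd
    have hrest : (4 : GI) ∣ piG * ∑ p ∈ Finset.univ.erase (n, 0), y p * star (T1 n p) := by
      apply Dvd.dvd.mul_left
      apply Finset.dvd_sum
      intro p hp
      rw [Finset.mem_erase] at hp
      by_cases hpT : p ∈ T
      · rw [hT, Finset.mem_filter] at hpT
        exact Dvd.dvd.mul_left (four_dvd_star ((four_dvd_iff _).2 (hs2 p hpT.2 hp.1))) _
      · rw [hzero p hpT, zero_mul]
        exact dvd_zero _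
    have hd2 : (4 : GI) ∣ piG * (y (n, 0) * star (T1 n (n, 0))) := (dvd_add_left hrest).1 hd
    rw [hs1] at hd2
    have e : piG * (y (n, 0) * star (⟨1, 1⟩ : GI)) = 2 * y (n, 0) := by
      have : star (⟨1, 1⟩ : GI) = star piG := rfl
      rw [this, two_eq]; ring
    rw [e] at hd2
    have h4 : Zsqrtd.norm (2 : GI) ∣ 8 := by decide
    have h1 := rho_eq_zero_of_four_dvd_mul hd2 h4
    have h2 : rho (y (n, 0)) = 1 :=
      hone _ (by rw [hT, Finset.mem_filter]; exact ⟨Finset.mem_univ _, rfl⟩)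
    rw [h1] at h2
    exact zero_ne_one h2

theorem orth {y s : RuVec} {c d : GI} (hy : InL (c • y)) (hs : InL (d • s))
    (hn : Zsqrtd.norm (c * star d) ∣ 8) : ∑ p, rho (y p) * rho (s p) = 0 := by
  have h := four_dvd_herm hy hs
  rw [herm_smul_left, herm_smul_right, ← mul_assoc] at h
  have := rho_eq_zero_of_four_dvd_mul h hn
  rwa [rho_herm] at this

theorem inL_bas (j : J) : InL (bas j) := inL_of_mem (Submodule.subset_span ⟨j, rfl⟩)

theorem q0_eq : piG • vecOf basQ0L = bas (Sum.inr 0) := by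
  funext p
  rw [Pi.smul_apply, smul_eq_mul, q0_chk p]

theorem step2 {z : RuVec} (hz : InL (piG • piG • z)) (hn : ruNorm z = 2)
    (hr : ¬ ∀ p, rho (z p) = 0) : False := by
  rw [smul_smul] at hz
  have h8 : Zsqrtd.norm (piG * piG * star piG) ∣ 8 := by decide
  have hA : ∀ a : Fin 9, ∑ p, rho (z p) * W0 a p = 0 := by
    intro a
    have := orth hz (inL_smul piG (inL_bas (Sum.inl a))) h8
    rw [← this]
    apply Finset.sum_congr rfl
    intro p _
    rw [rho_eq_rhoB (bas _ p)]
    rfl
  have hB : ∑ p, rho (z p) * w1 p = 0 := by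
    have hq : InL (piG • vecOf basQ0L) := by rw [q0_eq]; exact inL_bas _
    have := orth hz hq h8
    rw [← this]
    apply Finset.sum_congr rfl
    intro p _
    rw [rho_eq_rhoB (vecOf basQ0L p)]
    rfl
  set F := Finset.univ.filter (fun p => rho (z p) = 1) with hF
  have hc : F.card ≤ 2 := by
    have h1 := wt_le_norm z
    rw [hn, wt_eq_card] at h1
    exact_mod_cast h1
  have hne : F.Nonempty := by
    by_contra hcon
    rw [Finset.not_nonempty_iff_eq_empty] at hcon
    apply hr
    intro p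
    rcases zmod2_cases (rho (z p)) with h | h
    · exact h
    · have : p ∈ F := by rw [hF, Finset.mem_filter]; exact ⟨Finset.mem_univ _, h⟩
      rw [hcon] at this
      exact absurd this (Finset.notMem_empty p)
  have hpos : 0 < F.card := Finset.card_pos.2 hne
  have hcase : F.card = 1 ∨ F.card = 2 := by omega
  rcases hcase with h1 | h2
  · obtain ⟨p, hp⟩ := Finset.card_eq_one.1 h1
    obtain ⟨a, ha⟩ := dual3 p
    have := hA a
    rw [sum_mul_eq, ← hF, hp, Finset.sum_singleton, ha] at this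
    exact one_ne_zero this
  · obtain ⟨p, q, hpq, hp⟩ := Finset.card_eq_two.1 h2
    rcases dual2 p q hpq with ⟨a, ha⟩ | hw
    · have := hA a
      rw [sum_mul_eq, ← hF, hp, Finset.sum_pair hpq] at this
      exact ha (eq_of_add_eq_zero this)
    · have := hB
      rw [sum_mul_eq, ← hF, hp, Finset.sum_pair hpq] at this
      exact hw (eq_of_add_eq_zero this)

theorem step3 {u : RuVec} (hu : InL (piG • piG • piG • u)) (hn : ruNorm u = 1) : False := by
  rw [smul_smul, smul_smul] at hu
  have h8 : Zsqrtd.norm (piG * piG * piG * star (1 : GI)) ∣ 8 := by decide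
  have hA : ∀ a : Fin 9, ∑ p, rho (u p) * W0 a p = 0 := by
    intro a
    have hb : InL ((1 : GI) • bas (Sum.inl a)) := by rw [one_smul]; exact inL_bas _
    have := orth hu hb h8
    rw [← this]
    apply Finset.sum_congr rfl
    intro p _
    rw [rho_eq_rhoB (bas _ p)]
    rfl
  by_cases hr : ∀ p, rho (u p) = 0
  · obtain ⟨y, -, hy⟩ := exists_div_pi hr
    omega
  · set F := Finset.univ.filter (fun p => rho (u p) = 1) with hF
    have hc : F.card ≤ 1 := by
      have h1 := wt_le_norm u
      rw [hn, wt_eq_card] at h1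
      exact_mod_cast h1
    have hne : F.Nonempty := by
      by_contra hcon
      rw [Finset.not_nonempty_iff_eq_empty] at hcon
      apply hr
      intro p
      rcases zmod2_cases (rho (u p)) with h | h
      · exact h
      · have : p ∈ F := by rw [hF, Finset.mem_filter]; exact ⟨Finset.mem_univ _, h⟩
        rw [hcon] at this
        exact absurd this (Finset.notMem_empty p)
    have hpos : 0 < F.card := Finset.card_pos.2 hne
    have h1 : F.card = 1 := by omega
    obtain ⟨p, hp⟩ := Finset.card_eq_one.1 h1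
    obtain ⟨a, ha⟩ := dual3 p
    have := hA a
    rw [sum_mul_eq, ← hF, hp, Finset.sum_singleton, ha] at this
    exact one_ne_zero this

/-- there are no lattice vectors of norm 8 -/
theorem no_norm_eight {x : RuVec} (hx : InL x) (hn : ruNorm x = 8) : False := by
  by_cases h0 : ∀ p, rho (x p) = 0
  · obtain ⟨y, rfl, hy⟩ := exists_div_pi h0
    have hny : ruNorm y = 4 := by omega
    by_cases h1 : ∀ p, rho (y p) = 0
    · obtain ⟨z, rfl, hz⟩ := exists_div_pi h1
      have hnz : ruNorm z = 2 := by omega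
      by_cases h2 : ∀ p, rho (z p) = 0
      · obtain ⟨u, rfl, hu⟩ := exists_div_pi h2
        have hnu : ruNorm u = 1 := by omega
        exact step3 hx hnu
      · exact step2 hx hnz h2
    · exact step1 hx hny h1
  · exact step0 hx hn h0

end Cfsg.Agent.Helper26.RuLat
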