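import Mathlib
import Cfsg.Agent.Lib.Helper26.RuCert
import Cfsg.Agent.Lib.Helper26.RuClsR
import Cfsg.Agent.Lib.Helper26.RuClsM
import Cfsg.Agent.Lib.Helper26.RuCore
import Cfsg.Agent.Lib.Helper26.RuAbsC

/-!
# The Rudvalis group as a permutation group of degree 4060
-/

set_option autoImplicit false

namespace Cfsg.Agent.Helper26.RuD

open Cfsg.Agent.Helper26 Cfsg.Agent.Helper26.BM28 Cfsg.Agent.Helper26.RuTab Finset

/-- The classes of the chain `R`. -/
def classR : ClassCert chainR where
  cls := clsR
  par := parR
  lab := labR
  dep := depR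
  root := rootR
  m := 3
  cnt := cntR
  hcls := by
    intro i hi
    have h := allR_spec clsBR_all i (Nat.zero_le _) hi
    unfold clsBR at h
    rw [Bool.and_eq_true] at h
    exact TabCert.blt_lt h.1
  h00 := by decide +kernel
  hcls0 := by
    intro i hi h0
    have h := allR_spec clsBR_all i (Nat.zero_le _) hi
    unfold clsBR at h
    rw [Bool.and_eq_true, Bool.or_eq_true] at h
    rcases h.2 with h1 | h1
    · exact Nat.eq_of_beq_eq_true h1
    · rw [h0] at h1
      exact absurd h1 (by decide)
  hroot := by decide +kernel
  htree := by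
    intro i hi
    exact allR_spec clsTR_all i (Nat.zero_le _) hi
  hcnt := cntR_all
  hnum := by decide +kernel

/-- The classes of the chain `M`. -/
def classM : ClassCert chainM where
  cls := clsM
  par := parM
  lab := labM
  dep := depM
  root := rootM
  m := 5
  cnt := cntM
  hcls := by
    intro i hi
    have h := allR_spec clsBM_all i (Nat.zero_le _) hi
    unfold clsBM at h
    rw [Bool.and_eq_true] at h
    exact TabCert.blt_lt h.1
  h00 := by decide +kernel
  hcls0 := by
    intro i hi h0
    have h := allR_spec clsBM_all i (Nat.zero_le _) hi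
    unfold clsBM at h
    rw [Bool.and_eq_true, Bool.or_eq_true] at h
    rcases h.2 with h1 | h1
    · exact Nat.eq_of_beq_eq_true h1
    · rw [h0] at h1
      exact absurd h1 (by decide)
  hroot := by decide +kernel
  htree := by
    intro i hi
    exact allR_spec clsTM_all i (Nat.zero_le _) hi
  hcnt := cntM_all
  hnum := by decide +kernel

/-- Independent vectors in the first orbit of the chain `R`. -/
def coreR : CoreCert chainR where
  W := coreW
  Winv := coreWi
  idx := coreIdx
  hidx := coreIdx_lt
  hcol := coreW_col
  hinv := coreW_inv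

/-- The nontrivial elements of the second group of the chain `M` move the first orbit. -/
def coreM : CoreCert2 chainM where
  wit := witM
  hwit := by
    intro j hj k hk r hr
    have hr0 : r = 0 := by
      have : r < 1 := hr
      omega
    subst hr0
    have h : allR (fun k => coreOK E loM (βM 0) witM (nM 0) j k 0) 0 8 = true :=
      allR_spec witT_all j (Nat.zero_le _) hj
    exact allR_spec h k (Nat.zero_le _) hk

theorem simpleR : IsSimpleGroup (chainR.G 0) := by
  apply chainR.simple classR (fun x _ hx => coreR.eq_one_of_fix x hx)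
  · decide +kernel
  · intro g hg
    have hg' : g = 1 ∨ g = 2 := by
      have : g ∈ [1, 2] := hg
      simpa using this
    rcases hg' with rfl | rfl
    · exact ⟨29, pow_a, by decide +kernel⟩
    · exact ⟨7, pow_b, by decide +kernel⟩

theorem simpleM : IsSimpleGroup (chainM.G 0) := by
  apply chainM.simple classM (fun x hx1 hx => coreM.eq_one_of_fix x hx1 hx)
  · decide +kernel
  · intro g hg
    have hg' : g = 6383 ∨ g = 7390 := by
      have : g ∈ [6383, 7390] := hg
      simpa using this
    rcases hg' with rfl | rfl
    · exact ⟨13, pow_t1, by decide +kernel⟩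
    · exact ⟨3, pow_t2, by decide +kernel⟩

theorem G0_le : tabC.G0 ≤ chainR.G 0 := by
  unfold TabCert.G0
  rw [Subgroup.closure_le]
  intro x hx
  rcases hx with rfl | rfl
  · rw [← tabC.el_one]
    exact chainR.gen_mem (by decide)
  · rw [← tabC.el_two]
    exact chainR.gen_mem (by decide)

theorem GM_le : chainM.G 0 ≤ chainR.G 1 := by
  show Subgroup.closure {x | ∃ g ∈ chainM.gens 0, x = tabC.el g} ≤ chainR.G 1
  rw [Subgroup.closure_le]
  rintro x ⟨g, hg, rfl⟩
  have hgm : g < tabC.m := chainM.hgensb 0 (by norm_num) g hg
  apply chainR.mem_succ_of_fix (by norm_num) (G0_le (tabC.el_mem g))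
  rw [mem_Stab, ClassCert.el_act hgm]
  exact congrArg toVec (fix_t g hg)

/-- The Rudvalis group as a transitive group of degree 4060, with the Tits group inside the
stabilizer of a point. -/
theorem main : ∃ H : Subgroup (Equiv.Perm (Fin 4060)),
    (IsSimpleGroup H ∧ Nat.card H = 145926144000) ∧
      MulAction.IsPretransitive H (Fin 4060) ∧
      Nat.card (MulAction.stabilizer H (0 : Fin 4060)) = 35942400 ∧
      ∃ T : Subgroup (MulAction.stabilizer H (0 : Fin 4060)),
        IsSimpleGroup T ∧ Nat.card T = 17971200 :=
  RuAbs.exists_realization (chainR.G 0) (chainR.G 1) (chainM.G 0) 4060 145926144000 35942400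
    17971200 (by norm_num) (chainR.G_succ_le (by norm_num)) GM_le simpleR simpleM
    (by rw [chainR.card_G0]; decide +kernel) (by rw [chainR.card_G1]; decide +kernel)
    (by rw [chainM.card_G0]; decide +kernel) (by norm_num)

end Cfsg.Agent.Helper26.RuD
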