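import Mathlib
import Cfsg.Agent.Lib.Helper26.RuTabC
import Cfsg.Agent.Lib.Helper26.RuAbsA
import Cfsg.Agent.Lib.Helper26.RuAbsB

/-!
# Chains of stabilizers: maximality of the stabilizer, trivial core, simplicity
-/

set_option autoImplicit false

namespace Cfsg.Agent.Helper26.RuTab

open Cfsg.Agent.Helper26 Cfsg.Agent.Helper26.BM28 Finset

/-- Counting with a fold. -/
def cntB (f : ℕ → Bool) (n : ℕ) : ℕ := Nat.rec 0 (fun i acc => acc + cond (f i) 1 0) n

theorem cntB_succ (f : ℕ → Bool) (n : ℕ) : cntB f (n + 1) = cntB f n + cond (f n) 1 0 := rfl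

theorem card_filter_eq_cntB (f : ℕ → Bool) (n : ℕ) :
    ((range n).filter (fun i => f i = true)).card = cntB f n := by
  induction n with
  | zero => simp [cntB]
  | succ n ih =>
    rw [range_add_one, filter_insert, cntB_succ]
    cases h : f n
    · simp only [Bool.false_eq_true, if_false, cond_false, Nat.add_zero]
      exact ih
    · simp only [if_true, cond_true]
      rw [card_insert_of_notMem (by simp), ih]

/-- The test of the class tree at an index. -/
def clsOK (E : ℕ → ℕ) (gens1 : List ℕ) (lo0 n0 β0 : ℕ) (cls par lab dep root : ℕ → ℕ)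
    (i : ℕ) : Bool :=
  cond (Nat.beq (dep i) 0) (Nat.beq i (root (cls i)))
    (Nat.blt (par i) n0 && (Nat.beq (cls (par i)) (cls i) && (Nat.blt (dep (par i)) (dep i) &&
      (Nat.blt (lab i) gens1.length &&
        Nat.beq (mv (E (lo0 + i)) β0) (mv (E (gens1.getD (lab i) 0)) (mv (E (lo0 + par i)) β0))))))

/-- The classes of the transversal of the first level under the second group. -/
structure ClassCert {C : TabCert} (K : ChainCert C) where
  /-- the class of an index -/
  cls : ℕ → ℕ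
  /-- the parent in the tree of the class -/
  par : ℕ → ℕ
  /-- the generator leading from the parent -/
  lab : ℕ → ℕ
  /-- the depth in the tree -/
  dep : ℕ → ℕ
  /-- the root of the tree of a class -/
  root : ℕ → ℕ
  /-- the number of classes -/
  m : ℕ
  /-- the sizes of the classes -/
  cnt : ℕ → ℕ
  hcls : ∀ i < K.n 0, cls i < m
  h00 : cls 0 = 0
  hcls0 : ∀ i < K.n 0, cls i = 0 → i = 0
  hroot : ∀ c < m, root c < K.n 0
  htree : ∀ i < K.n 0,
    clsOK C.E (K.gens 1) (K.lo 0) (K.n 0) (K.β 0) cls par lab dep root i = true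
  hcnt : ∀ c < m, cntB (fun i => Nat.beq (cls i) c) (K.n 0) = cnt c
  hnum : ∀ J ∈ (range m).powerset, 0 ∈ J → (∑ c ∈ J, cnt c) ∣ K.n 0 → J = {0} ∨ J = range m

namespace ClassCert

variable {C : TabCert} {K : ChainCert C} (Q : ClassCert K)

/-- The action on the encoded vectors. -/
theorem el_act {g : ℕ} (hg : g < C.m) (v : ℕ) :
    Matrix.mulVec (C.el g).val (toVec v) = toVec (mv (C.E g) v) := by
  rw [C.el_val g hg, ← toVec_mv]

/-- Every point of a class is the image of the root of the class under the second group. -/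
theorem reach (d : ℕ) : ∀ i < K.n 0, Q.dep i = d →
    ∃ k ∈ K.G 1, Matrix.mulVec k.val (toVec (K.ω 0 (Q.root (Q.cls i)))) = toVec (K.ω 0 i) := by
  induction d using Nat.strong_induction_on with
  | _ d ih =>
    intro i hi hd
    have h := Q.htree i hi
    unfold clsOK at h
    by_cases hd0 : Q.dep i = 0
    · have hb : Nat.beq (Q.dep i) 0 = true := by rw [hd0]; rfl
      rw [hb, cond_true] at h
      have e : i = Q.root (Q.cls i) := Nat.eq_of_beq_eq_true h
      refine ⟨1, Subgroup.one_mem _, ?_⟩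
      rw [Units.val_one, Matrix.one_mulVec, ← e]
    · have hb : Nat.beq (Q.dep i) 0 = false := by
        cases hh : Nat.beq (Q.dep i) 0
        · rfl
        · exact absurd (Nat.eq_of_beq_eq_true hh) hd0
      rw [hb, cond_false] at h
      simp only [Bool.and_eq_true] at h
      obtain ⟨h1, h2, h3, h4, h5⟩ := h
      have hpar : Q.par i < K.n 0 := TabCert.blt_lt h1
      have hclsp : Q.cls (Q.par i) = Q.cls i := Nat.eq_of_beq_eq_true h2
      have hdep : Q.dep (Q.par i) < Q.dep i := TabCert.blt_lt h3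
      have hlab : Q.lab i < (K.gens 1).length := TabCert.blt_lt h4
      have hω : K.ω 0 i = mv (C.E ((K.gens 1).getD (Q.lab i) 0)) (K.ω 0 (Q.par i)) :=
        Nat.eq_of_beq_eq_true h5
      obtain ⟨k, hk, hk2⟩ := ih (Q.dep (Q.par i)) (by omega) (Q.par i) hpar rfl
      have hg : (K.gens 1).getD (Q.lab i) 0 ∈ K.gens 1 := by
        rw [List.getD_eq_getElem _ _ hlab]
        exact List.getElem_mem hlab
      have hgm : (K.gens 1).getD (Q.lab i) 0 < C.m := K.hgensb 1 (by norm_num) _ hg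
      refine ⟨C.el ((K.gens 1).getD (Q.lab i) 0) * k, Subgroup.mul_mem _ (K.gen_mem hg) hk, ?_⟩
      rw [Units.val_mul, ← Matrix.mulVec_mulVec, ← hclsp, hk2, el_act hgm, ← hω]

/-- Transversal elements of the same class lie in the same double coset. -/
theorem conn : ∀ i < K.n 0, ∀ j < K.n 0, Q.cls i = Q.cls j →
    ∃ k ∈ K.G 1, ∃ h ∈ K.G 1, K.T 0 j = k * K.T 0 i * h := by
  intro i hi j hj hc
  have h4 : (0 : ℕ) < 4 := by norm_num
  obtain ⟨ki, hki, hki2⟩ := Q.reach (Q.dep i) i hi rfl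
  obtain ⟨kj, hkj, hkj2⟩ := Q.reach (Q.dep j) j hj rfl
  rw [← hc] at hkj2
  -- `k = kj * ki⁻¹` maps the point `i` to the point `j`
  have hk : kj * ki⁻¹ ∈ K.G 1 := Subgroup.mul_mem _ hkj (Subgroup.inv_mem _ hki)
  have hmap : Matrix.mulVec (kj * ki⁻¹).val (toVec (K.ω 0 i)) = toVec (K.ω 0 j) := by
    rw [Units.val_mul, ← Matrix.mulVec_mulVec, ← hki2, Matrix.mulVec_mulVec (toVec _) (ki⁻¹).val,
      ← Units.val_mul, inv_mul_cancel, Units.val_one, Matrix.one_mulVec, hkj2]
  have hx : Matrix.mulVec (kj * ki⁻¹ * K.T 0 i).val (toVec (K.β 0)) = toVec (K.ω 0 j) := by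
    rw [Units.val_mul, ← Matrix.mulVec_mulVec, K.T_act h4 hi, hmap]
  have hfix : (kj * ki⁻¹ * K.T 0 i)⁻¹ * K.T 0 j ∈ Stab (K.β 0) := by
    rw [mem_Stab, Units.val_mul, ← Matrix.mulVec_mulVec, K.T_act h4 hj, ← hx,
      Matrix.mulVec_mulVec, ← Units.val_mul, inv_mul_cancel, Units.val_one, Matrix.one_mulVec]
  have hG0 : (kj * ki⁻¹ * K.T 0 i)⁻¹ * K.T 0 j ∈ K.G 0 := by
    apply Subgroup.mul_mem _ (Subgroup.inv_mem _ _) (K.T_mem h4 j hj)
    exact Subgroup.mul_mem _ (K.G_succ_le h4 hk) (K.T_mem h4 i hi)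
  have hmem := K.mem_succ_of_fix h4 hG0 hfix
  refine ⟨kj * ki⁻¹, hk, _, hmem, ?_⟩
  rw [mul_inv_cancel_left]

/-- The second group of the chain is a maximal subgroup of the first. -/
theorem maximal (Q : ClassCert K) : ∀ L : Subgroup A, K.G 1 ≤ L → L ≤ K.G 0 → L = K.G 1 ∨ L = K.G 0 := by
  have h4 : (0 : ℕ) < 4 := by norm_num
  obtain ⟨hb1, hb2, hb3⟩ := K.hbound 0 h4
  have hcnt' : ∀ c < Q.m, ((range (K.n 0)).filter (fun i => Q.cls i = c)).card = Q.cnt c := by
    intro c hc
    rw [← Q.hcnt c hc, ← card_filter_eq_cntB]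
    congr 1
    ext i
    simp only [mem_filter, mem_range]
    constructor
    · rintro ⟨h1, h2⟩
      refine ⟨h1, ?_⟩
      rw [h2]
      exact Nat.beq_refl c
    · rintro ⟨h1, h2⟩
      exact ⟨h1, Nat.eq_of_beq_eq_true h2⟩
  exact RuAbs.maximal_of_classes (K.G 0) (K.G 1) (K.n 0) (K.T 0) (K.T_zero h4) hb3
    (K.level h4).1
    (fun i hi j hj h => K.T_inj h4 i hi j hj (K.G_succ_le_Stab h4 h))
    (K.level h4).2 Q.cls Q.m Q.hcls Q.h00 Q.hcls0 Q.conn Q.cnt hcnt' Q.hnum

end ClassCert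

end Cfsg.Agent.Helper26.RuTab
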