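import Mathlib
import Cfsg.Agent.Lib.Helper26.RuTabD

/-!
# Chains of stabilizers: trivial core of the stabilizer and simplicity of the group
-/

set_option autoImplicit false

namespace Cfsg.Agent.Helper26.RuTab

open Cfsg.Agent.Helper26 Cfsg.Agent.Helper26.BM28 Finset

/-- Powers of a packed matrix. -/
def powM (M : ℕ) (m : ℕ) : ℕ := Nat.rec one (fun _ acc => mul acc M) m

theorem powM_succ (M m : ℕ) : powM M (m + 1) = mul (powM M m) M := rfl

theorem toMat_powM (M m : ℕ) : toMat (powM M m) = toMat M ^ m := by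
  induction m with
  | zero => rw [pow_zero]; exact toMat_one
  | succ m ih => rw [powM_succ, toMat_mul, ih, pow_succ]

theorem TabCert.el_pow_eq_one (C : TabCert) {g : ℕ} (hg : g < C.m) {m : ℕ}
    (h : powM (C.E g) m = one) : C.el g ^ m = 1 := by
  apply Units.ext
  rw [Units.val_pow_eq_pow_val, C.el_val g hg, ← toMat_powM, h, toMat_one]
  rfl

/-- The column of a packed matrix as a vector. -/
theorem toVec_col (W c : ℕ) (hc : c < 28) :
    toVec (col W c) = fun i => toMat W i ⟨c, hc⟩ := by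
  funext i
  unfold toVec toMat
  rw [testBit_col]
  have : decide (i.val < 28) = true := by simp
  rw [this, Bool.and_true]

/-- Twenty-eight independent vectors in the first orbit. -/
structure CoreCert {C : TabCert} (K : ChainCert C) where
  /-- the matrix of the vectors -/
  W : ℕ
  /-- its inverse -/
  Winv : ℕ
  /-- the indices of the vectors in the orbit -/
  idx : ℕ → ℕ
  hidx : ∀ c < 28, idx c < K.n 0
  hcol : ∀ c < 28, col W c = K.ω 0 (idx c)
  hinv : mul W Winv = one

namespace CoreCert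

variable {C : TabCert} {K : ChainCert C}

/-- An element fixing all the vectors of the first orbit is trivial. -/
theorem eq_one_of_fix (R : CoreCert K) (x : A)
    (hx : ∀ i < K.n 0, Matrix.mulVec x.val (toVec (K.ω 0 i)) = toVec (K.ω 0 i)) : x = 1 := by
  have h1 : x.val * toMat R.W = toMat R.W := by
    ext i j
    have hj := j.isLt
    have h2 := hx (R.idx j.val) (R.hidx j.val hj)
    rw [← R.hcol j.val hj, toVec_col R.W j.val hj] at h2
    have h3 := congrFun h2 i
    rw [Matrix.mul_apply]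
    rw [Matrix.mulVec, dotProduct] at h3
    exact h3
  have h4 : toMat R.W * toMat R.Winv = 1 := by rw [← toMat_mul, R.hinv, toMat_one]
  apply Units.ext
  calc x.val = x.val * (toMat R.W * toMat R.Winv) := by rw [h4, mul_one]
    _ = toMat R.W * toMat R.Winv := by rw [← mul_assoc, h1]
    _ = 1 := h4

end CoreCert

/-- The test that a product of transversal elements moves a vector of the first orbit. -/
def coreOK (E : ℕ → ℕ) (lo : ℕ → ℕ) (β0 : ℕ) (wit : ℕ → ℕ → ℕ → ℕ) (n0 : ℕ) (j k r : ℕ) : Bool :=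
  (Nat.beq j 0 && (Nat.beq k 0 && Nat.beq r 0)) ||
    (Nat.blt (wit j k r) n0 &&
      !(Nat.beq (mv (E (lo 1 + j)) (mv (E (lo 2 + k)) (mv (E (lo 3 + r))
        (mv (E (lo 0 + wit j k r)) β0)))) (mv (E (lo 0 + wit j k r)) β0)))

/-- Every nontrivial element of the second group moves a vector of the first orbit. -/
structure CoreCert2 {C : TabCert} (K : ChainCert C) where
  /-- the index of a vector which is moved -/
  wit : ℕ → ℕ → ℕ → ℕ
  hwit : ∀ j < K.n 1, ∀ k < K.n 2, ∀ r < K.n 3,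
    coreOK C.E K.lo (K.β 0) wit (K.n 0) j k r = true

namespace CoreCert2

variable {C : TabCert} {K : ChainCert C}

/-- An element of the second group fixing all the vectors of the first orbit is trivial. -/
theorem eq_one_of_fix (R : CoreCert2 K) (x : A) (hx1 : x ∈ K.G 1)
    (hx : ∀ i < K.n 0, Matrix.mulVec x.val (toVec (K.ω 0 i)) = toVec (K.ω 0 i)) : x = 1 := by
  have l1 : (1 : ℕ) < 4 := by norm_num
  have l2 : (2 : ℕ) < 4 := by norm_num
  have l3 : (3 : ℕ) < 4 := by norm_num
  obtain ⟨j, hj, y1, hy1, rfl⟩ := (K.level l1).1 x hx1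
  obtain ⟨k, hk, y2, hy2, rfl⟩ := (K.level l2).1 y1 hy1
  obtain ⟨r, hr, y3, hy3, rfl⟩ := (K.level l3).1 y2 hy2
  have hy3' : y3 = 1 := by
    have : y3 ∈ K.G 4 := hy3
    rw [K.G_four, Subgroup.mem_bot] at this
    exact this
  subst hy3'
  have hc := R.hwit j hj k hk r hr
  unfold coreOK at hc
  rw [Bool.or_eq_true] at hc
  rcases hc with hc | hc
  · rw [Bool.and_eq_true, Bool.and_eq_true] at hc
    obtain ⟨e1, e2, e3⟩ := hc
    rw [Nat.eq_of_beq_eq_true e1, Nat.eq_of_beq_eq_true e2, Nat.eq_of_beq_eq_true e3,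
      K.T_zero l1, K.T_zero l2, K.T_zero l3]
    simp
  · exfalso
    rw [Bool.and_eq_true] at hc
    obtain ⟨e1, e2⟩ := hc
    have hw : R.wit j k r < K.n 0 := TabCert.blt_lt e1
    have h2 := hx _ hw
    obtain ⟨_, hb1, _⟩ := K.hbound 1 l1
    obtain ⟨_, hb2, _⟩ := K.hbound 2 l2
    obtain ⟨_, hb3, _⟩ := K.hbound 3 l3
    rw [mul_one, Units.val_mul, Units.val_mul, ← Matrix.mulVec_mulVec, ← Matrix.mulVec_mulVec] at h2
    unfold ChainCert.T at h2
    rw [ClassCert.el_act (by omega), ClassCert.el_act (by omega), ClassCert.el_act (by omega)] at h2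
    have h3 := toVec_inj (mv_lt _ _) (mv_lt _ _) h2
    unfold ChainCert.ω at h3
    rw [h3] at e2
    rw [Nat.beq_refl] at e2
    exact absurd e2 (by decide)

end CoreCert2

namespace ChainCert

variable {C : TabCert} (K : ChainCert C)

/-- The first group of the chain is simple. -/
theorem simple (Q : ClassCert K)
    (hR : ∀ x ∈ K.G 1, (∀ i < K.n 0,
      Matrix.mulVec x.val (toVec (K.ω 0 i)) = toVec (K.ω 0 i)) → x = 1)
    (h1 : 1 < K.n 0 * K.n 1 * K.n 2 * K.n 3)
    (hord : ∀ g ∈ K.gens 0, ∃ m : ℕ, powM (C.E g) m = one ∧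
      Nat.Coprime m (K.n 1 * K.n 2 * K.n 3)) : IsSimpleGroup (K.G 0) := by
  have h4 : (0 : ℕ) < 4 := by norm_num
  have : Nontrivial (K.G 0) := by
    rw [← Finite.one_lt_card_iff_nontrivial, K.card_G0]
    exact h1
  have hle : K.G 1 ≤ K.G 0 := K.G_succ_le h4
  have hcardH : Nat.card ((K.G 1).subgroupOf (K.G 0)) = K.n 1 * K.n 2 * K.n 3 := by
    rw [Nat.card_congr (Subgroup.subgroupOfEquivOfLe hle).toEquiv, K.card_G1]
  apply RuAbs.simple_of_maximal_corefree ((K.G 1).subgroupOf (K.G 0))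
  · intro L hL
    have hL1 : K.G 1 ≤ L.map (K.G 0).subtype := by
      intro x hx
      exact ⟨⟨x, hle hx⟩, hL (Subgroup.mem_subgroupOf.2 hx), rfl⟩
    have hL2 : L.map (K.G 0).subtype ≤ K.G 0 := by
      rintro x ⟨y, _, rfl⟩
      exact y.2
    have hcm : (L.map (K.G 0).subtype).comap (K.G 0).subtype = L :=
      Subgroup.comap_map_eq_self_of_injective (Subgroup.subtype_injective _) L
    rcases Q.maximal _ hL1 hL2 with h | h
    · left
      rw [← hcm, h]
      rfl
    · right
      rw [← hcm, h]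
      ext x
      simp
  · intro N hN hNH
    rw [eq_bot_iff]
    intro x hx
    rw [Subgroup.mem_bot]
    apply Subtype.ext
    apply hR x.val (Subgroup.mem_subgroupOf.1 (hNH hx))
    intro i hi
    let t : K.G 0 := ⟨K.T 0 i, K.T_mem h4 i hi⟩
    have h2 : t⁻¹ * x * t⁻¹⁻¹ ∈ N := hN.conj_mem x hx t⁻¹
    have h3 : (t⁻¹ * x * t⁻¹⁻¹ : K.G 0).val ∈ K.G 1 := Subgroup.mem_subgroupOf.1 (hNH h2)
    have h5 := K.G_succ_le_Stab h4 h3
    rw [mem_Stab] at h5
    have h6 : (t⁻¹ * x * t⁻¹⁻¹ : K.G 0).val = (K.T 0 i)⁻¹ * x.val * K.T 0 i := by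
      rw [inv_inv]
      rfl
    rw [h6] at h5
    rw [← K.T_act h4 hi]
    have h7 : Matrix.mulVec (K.T 0 i).val
        (Matrix.mulVec ((K.T 0 i)⁻¹ * x.val * K.T 0 i).val (toVec (K.β 0))) =
        Matrix.mulVec (K.T 0 i).val (toVec (K.β 0)) := by rw [h5]
    rw [Matrix.mulVec_mulVec, ← Units.val_mul, mul_assoc, mul_inv_cancel_left] at h7
    rw [Matrix.mulVec_mulVec, ← Units.val_mul]
    exact h7
  · exact Subgroup.closure_closure_coe_preimage
  · rintro ⟨s, hs0⟩ hs
    obtain ⟨g, hg, rfl⟩ : ∃ g ∈ K.gens 0, s = C.el g := hs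
    obtain ⟨m, hm, hcop⟩ := hord g hg
    refine ⟨m, ?_, ?_⟩
    · apply Subtype.ext
      rw [Subgroup.coe_pow]
      exact C.el_pow_eq_one (K.hgensb 0 h4 g hg) hm
    · rw [hcardH]
      exact hcop

end ChainCert

end Cfsg.Agent.Helper26.RuTab
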