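import Mathlib
import Cfsg.Prelude.Def_ClassificationK
import Cfsg.Agent.Lib.Helper27.SyDefs

/-!
# S1774 farm-out, piece SY-DIH (helper26): exponent 4 excludes dihedral, quaternion and quasi-dihedral
groups of order at least 16.
-/

set_option autoImplicit false

namespace Cfsg.Agent.Helper27.Sy

section DIH

theorem sydih_pow_four {T : Type*} [Group T] (h4 : ∀ q : T, q ^ 4 = 1) (R : Subgroup T) (x : ↥R) :
    x ^ 4 = 1 := by
  apply Subtype.ext
  simpa using h4 (x : T)

theorem no_big_dihedral {T : Type*} [Group T] (h4 : ∀ q : T, q ^ 4 = 1) (R : Subgroup T)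
    (h16 : 16 ≤ Nat.card ↥R) :
    ¬ ((∃ m : ℕ, Nonempty (↥R ≃* DihedralGroup m)) ∨ (∃ m : ℕ, Nonempty (↥R ≃* QuaternionGroup m)) ∨
      Cfsg.IsQuasiDihedral ↥R) := by
  rintro (⟨m, ⟨e⟩⟩ | ⟨m, ⟨e⟩⟩ | ⟨n, hn, -, x, y, hx, -, -⟩)
  · -- dihedral
    have hcard : Nat.card ↥R = 2 * m := by
      rw [Nat.card_congr e.toEquiv, DihedralGroup.nat_card]
    have h1 : (DihedralGroup.r (1 : ZMod m)) ^ 4 = 1 := by
      have h := sydih_pow_four h4 R (e.symm (DihedralGroup.r 1))
      have h' := congrArg e h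
      simpa using h'
    have h2 : orderOf (DihedralGroup.r (1 : ZMod m)) ∣ 4 := orderOf_dvd_of_pow_eq_one h1
    rw [DihedralGroup.orderOf_r_one] at h2
    have h3 : m ≤ 4 := Nat.le_of_dvd (by norm_num) h2
    omega
  · -- quaternion
    have h1 : (QuaternionGroup.a (1 : ZMod (2 * m))) ^ 4 = 1 := by
      have h := sydih_pow_four h4 R (e.symm (QuaternionGroup.a 1))
      have h' := congrArg e h
      simpa using h'
    have h2 : orderOf (QuaternionGroup.a (1 : ZMod (2 * m))) ∣ 4 := orderOf_dvd_of_pow_eq_one h1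
    rw [QuaternionGroup.orderOf_a_one] at h2
    have h3 : 2 * m ≤ 4 := Nat.le_of_dvd (by norm_num) h2
    have hm : m ≠ 0 := by
      rintro rfl
      simp at h2
    have : NeZero m := ⟨hm⟩
    have hcard : Nat.card ↥R = 4 * m := by
      rw [Nat.card_congr e.toEquiv, Nat.card_eq_fintype_card, QuaternionGroup.card]
    omega
  · -- quasi-dihedral
    have h1 := sydih_pow_four h4 R x
    have h2 : orderOf x ∣ 4 := orderOf_dvd_of_pow_eq_one h1
    rw [hx] at h2
    have h3 : 2 ^ n ≤ 4 := Nat.le_of_dvd (by norm_num) h2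
    have h5 : 2 ^ 3 ≤ 2 ^ n := Nat.pow_le_pow_right (by norm_num) hn
    omega

end DIH

end Cfsg.Agent.Helper27.Sy
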