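import Mathlib
import Cfsg.Agent.Lib.Helper26.TIDefs2
import Cfsg.Agent.Lib.Helper8.TIG5Defs
import Cfsg.Agent.Lib.Helper8.TIG5Main
import Cfsg.Agent.Lib.Helper1.TICALC
import Cfsg.Agent.Lib.Helper19.TILEMA
import Cfsg.Agent.Lib.Helper22.TIPHI1
import Cfsg.Agent.Lib.Helper27.TIPHI2
import Cfsg.Agent.Lib.Helper13.TIUNIF

/-!
# S1786: GOAL B (`V ≤ PA`) from helper8's abstract `G5Data` (bridge `Cfg1 → G5Data`), modulo TI-B1
-/

set_option autoImplicit false

namespace Cfsg.Agent.Helper26.TI

variable {G : Type*} [Group G] {V P A PA U : Subgroup G}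

theorem tigoalb_cj_eq_of_cent {K : Subgroup G} {t : G} (ht : ∀ k ∈ K, t * k = k * t) : cj t K = K := by
  ext z
  rw [mem_cj']
  constructor
  · intro hz
    have h1 := ht _ hz
    have : z = t⁻¹ * z * t := by
      have : t * (t⁻¹ * z * t) = (t⁻¹ * z * t) * t := h1
      have h2 : z * t = t⁻¹ * z * t * t := by
        rw [← this]; group
      exact mul_right_cancel h2
    rw [this]; exact hz
  · intro hz
    have h1 := ht _ hz
    have : t⁻¹ * z * t = z := by
      rw [mul_assoc, ← h1]; group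
    rw [this]; exact hz

theorem tigoalb_conj_mem {K : Subgroup G} {t x : G} (h : cj t K = K) (hx : x ∈ K) : t * x * t⁻¹ ∈ K := by
  rw [← h]; exact conj_mem_cj hx

theorem tigoalb_toG5Data [Finite G] (h : Cfg1 V P A PA U)
    (hnt : ¬ V ≤ PA → ∀ y ∈ PA, ∀ v ∈ V, y * v * y⁻¹ * v⁻¹ ∈ A → y * v = v * y) :
    G5Data V A P PA U := by
  obtain ⟨g, hAg, hPAg⟩ := h.conj
  obtain ⟨k, hUk⟩ := h.conjU
  have hbot : ∀ K : Subgroup G, K = ⊥ → cj g K = ⊥ := fun K hK => by rw [hK, cj_bot]
  have hVne : ∃ v ∈ V, v ≠ 1 := by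
    by_contra hcon
    push Not at hcon
    have hV : V = ⊥ := (Subgroup.eq_bot_iff_forall _).2 hcon
    apply h.ne
    rw [hAg, hV, cj_bot]
  have hUne : ∃ u ∈ U, u ≠ 1 := by
    obtain ⟨v, hv, hv1⟩ := hVne
    refine ⟨k * v * k⁻¹, by rw [hUk]; exact conj_mem_cj hv, ?_⟩
    intro hc
    apply hv1
    have : v = k⁻¹ * (k * v * k⁻¹) * k := by group
    rw [this, hc]; group
  have hUbase : Base U := by rw [hUk]; exact h.loc.base.conj k
  have hUV : U ⊓ V = ⊥ := by
    have := h.loc.base.inf_eq_bot (x := k) (y := 1) (by rw [cj_one, ← hUk]; exact h.U_ne)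
    rwa [cj_one, ← hUk] at this
  have hAV : A ⊓ V = ⊥ := h.toCfg.inf_eq_bot
  refine
    { V_ne := hVne
      U_ne := hUne
      V_sq := h.loc.base.sq
      A_sq := h.locA.base.sq
      U_sq := hUbase.sq
      VA_comm := fun v hv a ha => (h.loc.cent a (h.le ha) v hv).symm
      VA_inf := fun x hxV hxA => by
        have : x ∈ A ⊓ V := ⟨hxA, hxV⟩
        rw [hAV] at this
        exact (Subgroup.mem_bot).1 this
      UV_inf := fun x hxU hxV => by
        have : x ∈ U ⊓ V := ⟨hxU, hxV⟩
        rw [hUV] at this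
        exact (Subgroup.mem_bot).1 this
      V_le_P := h.loc.V_le
      A_le_P := h.le
      U_le_P := h.U_le
      V_central := fun v hv x hx => (h.loc.cent x hx v hv).symm
      comm_P := fun x hx y hy => h.loc.comm x hx y hy
      sq_P := h.loc.sq
      center_P := h.loc.center
      cent_P := h.loc.self
      norm_P := fun t ht x hx =>
        tigoalb_conj_mem (h.loc.norm t (tigoalb_cj_eq_of_cent ht)) hx
      A_le_PA := h.locA.V_le
      A_central := fun a ha y hy => (h.locA.cent y hy a ha).symm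
      comm_PA := fun x hx y hy => h.locA.comm x hx y hy
      sq_PA := h.locA.sq
      cent_PA := h.locA.self
      norm_PA := fun t ht y hy =>
        tigoalb_conj_mem (h.locA.norm t (tigoalb_cj_eq_of_cent ht)) hy
      g0_U := fun u hu hu1 c hc u' hu' => by
        have hn : cj c U = U := by
          subst hUk
          exact h.loc.base.cent_le_norm hu hu1 hc
        exact tigoalb_conj_mem hn hu'
      phi_surj := fun u hu hu1 v hv => by
        obtain ⟨a, ha, hav⟩ := h.surjA hu hu1 hv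
        refine ⟨a, ha, ?_⟩
        unfold cm
        rw [h.loc.comm_symm (h.U_le hu) (h.le ha)]
        exact hav
      phi_inj := fun x hx a ha ha1 hax a' ha' =>
        (h.toCfg.dich hx ha ha1 hax.symm a' ha').symm
      P_eq := fun x hx => by
        obtain ⟨u, hu, hud⟩ := h.decomp hx
        refine ⟨u, hu, u⁻¹ * x, P.mul_mem (P.inv_mem (h.U_le hu)) hx, hud, by group⟩
      g4 := h.unif
      twist := fun y hy v hv hcA hc1 => by
        by_contra hn
        apply hc1
        have := hnt hn y hy v hv hcA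
        unfold cm
        rw [this]; group }

/-- GOAL B, modulo step (1) of G5 (`Cfg1.noTwist`, TI-B1). -/
theorem tigoalb_goalB_of_noTwist [Finite G] (h : Cfg1 V P A PA U)
    (hnt : ¬ V ≤ PA → ∀ y ∈ PA, ∀ v ∈ V, y * v * y⁻¹ * v⁻¹ ∈ A → y * v = v * y) : V ≤ PA :=
  g5_main (tigoalb_toG5Data h hnt)

end Cfsg.Agent.Helper26.TI
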