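import Mathlib
import Cfsg.Prelude.Def_Local
import Cfsg.Prelude.Def_Transfer
import Cfsg.Agent.Lib.Helper26.TIDefs3
import Cfsg.Agent.Lib.Helper25.TILOCA
import Cfsg.Agent.Lib.Helper19.TILOCCore

/-!
# S1786, piece TI-LOCN: the normal closure in `M = N(V)` of a conjugate `B ≠ V` of `V` inside `P` is non-abelian
-/

set_option autoImplicit false

namespace Cfsg.Agent.Helper26.TI

variable {G : Type*} [Group G]

theorem tilocn_closure_comm (T : Set G) (hT : ∀ a ∈ T, ∀ b ∈ T, a * b = b * a) :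
    ∀ a ∈ Subgroup.closure T, ∀ b ∈ Subgroup.closure T, a * b = b * a := by
  have h1 : Subgroup.closure T ≤ Subgroup.centralizer T := by
    rw [Subgroup.closure_le]
    intro a ha
    rw [SetLike.mem_coe, Subgroup.mem_centralizer_iff]
    intro b hb
    exact hT b hb a ha
  have h2 : Subgroup.closure T ≤ Subgroup.centralizer (Subgroup.closure T : Set G) := by
    rw [Subgroup.closure_le]
    intro a ha
    rw [SetLike.mem_coe, Subgroup.mem_centralizer_iff]
    intro b hb
    have := h1 hb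
    rw [Subgroup.mem_centralizer_iff] at this
    exact (this a ha).symm
  intro a ha b hb
  have := h2 ha
  rw [Subgroup.mem_centralizer_iff] at this
  exact (this b hb).symm

/-- TI-LOCN: the normal closure in `M` of a conjugate `B ≠ V` of `V` inside `P` is non-abelian (h2). -/
theorem locN_nonab [Finite G] (V : Subgroup G) (hV : Cfsg.IsElementaryAbelian 2 V)
    (h2 : ∀ A : Subgroup G, V ≤ A → A ≤ Subgroup.normalizer (V : Set G) → IsMulCommutative ↥A →
      (∀ m ∈ Subgroup.normalizer (V : Set G), ∀ a ∈ A, m * a * m⁻¹ ∈ A) → A = V)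
    (hti : ∀ x : G, cj x V = V ∨ cj x V ⊓ V = ⊥) :
    ∀ x : G, cj x V ≠ V → cj x V ≤ Ps V →
      ∃ m : G, cj m V = V ∧ ∃ b ∈ cj x V, ∃ c ∈ cj m (cj x V), b * c ≠ c * b := by
  intro x hx hxP
  by_contra hcon
  have hcon' : ∀ m : G, cj m V = V → ∀ b ∈ cj x V, ∀ c ∈ cj m (cj x V), b * c = c * b := by
    intro m hm b hb c hc
    by_contra hne
    exact hcon ⟨m, hm, b, hb, c, hc, hne⟩
  obtain ⟨hVP, -, hPV, -, hPn⟩ := locA_easy V hV
  let T : Set G := {z | (∃ m : G, cj m V = V ∧ z ∈ cj m (cj x V)) ∨ z ∈ V}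
  have hTP : ∀ z ∈ T, z ∈ Ps V := by
    rintro z (⟨m, hm, hz⟩ | hz)
    · rw [← hPn m hm]; exact cj_mono hxP hz
    · exact hVP hz
  have hTcomm : ∀ a ∈ T, ∀ b ∈ T, a * b = b * a := by
    rintro a (⟨m1, hm1, ha⟩ | ha) b (⟨m2, hm2, hb⟩ | hb)
    · rw [mem_cj] at ha hb
      obtain ⟨b1, hb1, rfl⟩ := ha
      obtain ⟨b2, hb2, rfl⟩ := hb
      have hm1' : cj m1⁻¹ V = V := by
        have := cj_inv_cj m1 V
        rwa [hm1] at this
      have hm : cj (m1⁻¹ * m2) V = V := by
        rw [← cj_cj, hm2, hm1']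
      have := hcon' (m1⁻¹ * m2) hm b1 hb1 ((m1⁻¹ * m2) * b2 * (m1⁻¹ * m2)⁻¹) (conj_mem_cj hb2)
      have e1 : m1 * b1 * m1⁻¹ * (m2 * b2 * m2⁻¹) =
          m1 * (b1 * ((m1⁻¹ * m2) * b2 * (m1⁻¹ * m2)⁻¹)) * m1⁻¹ := by group
      have e2 : m2 * b2 * m2⁻¹ * (m1 * b1 * m1⁻¹) =
          m1 * (((m1⁻¹ * m2) * b2 * (m1⁻¹ * m2)⁻¹) * b1) * m1⁻¹ := by group
      rw [e1, e2, this]
    · exact hPV a (hTP a (Or.inl ⟨m1, hm1, ha⟩)) b hb
    · exact (hPV b (hTP b (Or.inl ⟨m2, hm2, hb⟩)) a ha).symm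
    · exact hPV a (hVP ha) b hb
  have hA1 : V ≤ Subgroup.closure T := fun v hv => Subgroup.subset_closure (Or.inr hv)
  have hA2 : Subgroup.closure T ≤ Subgroup.normalizer (V : Set G) := by
    rw [Subgroup.closure_le]
    intro z hz
    exact tiloc_Qs_le_normalizer V (inf_le_left (a := Qs V) (hTP z hz))
  have hA3 : IsMulCommutative ↥(Subgroup.closure T) :=
    ⟨⟨fun a b => Subtype.ext (tilocn_closure_comm T hTcomm a a.2 b b.2)⟩⟩
  have hA4 : ∀ m ∈ Subgroup.normalizer (V : Set G), ∀ a ∈ Subgroup.closure T,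
      m * a * m⁻¹ ∈ Subgroup.closure T := by
    intro m hm a ha
    have hmV : cj m V = V := tiloc_cj_eq_of_mem_normalizer V hm
    induction ha using Subgroup.closure_induction with
    | mem z hz =>
      apply Subgroup.subset_closure
      rcases hz with ⟨m', hm', hz⟩ | hz
      · left
        refine ⟨m * m', by rw [← cj_cj, hm', hmV], ?_⟩
        rw [← cj_cj]
        exact conj_mem_cj hz
      · right
        have := conj_mem_cj (x := m) hz
        rwa [hmV] at this
    | one => simp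
    | mul a b _ _ iha ihb =>
      have : m * (a * b) * m⁻¹ = (m * a * m⁻¹) * (m * b * m⁻¹) := by group
      rw [this]
      exact Subgroup.mul_mem _ iha ihb
    | inv a _ iha =>
      have : m * a⁻¹ * m⁻¹ = (m * a * m⁻¹)⁻¹ := by group
      rw [this]
      exact Subgroup.inv_mem _ iha
  have hAV : Subgroup.closure T = V := h2 _ hA1 hA2 hA3 hA4
  have hBV : cj x V ≤ V := by
    intro b hb
    rw [← hAV]
    apply Subgroup.subset_closure
    left
    exact ⟨1, cj_one V, by rw [cj_one]; exact hb⟩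
  rcases hti x with h | h
  · exact hx h
  · have hB : cj x V = ⊥ := by
      rw [← h]
      exact (inf_eq_left.2 hBV).symm
    have hV0 : V = ⊥ := by
      have := cj_inv_cj x V
      rw [hB, cj_bot] at this
      exact this.symm
    apply hx
    rw [hB, hV0]

end Cfsg.Agent.Helper26.TI
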