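import Mathlib
import Cfsg.Prelude.Def_Local
import Cfsg.Prelude.Def_Transfer
import Cfsg.Agent.Lib.Helper26.TIDefs3
import Cfsg.Agent.Lib.Helper19.TILOCCore
import Cfsg.Agent.Lib.Helper22.TIPHI1
import Cfsg.Agent.Lib.Helper14.TINORMW
import Cfsg.Agent.Lib.Helper28.TIQSTRUCT
import Cfsg.Agent.Lib.Helper11.TIQ
import Cfsg.Agent.Lib.Helper8.TIG5Bridge
import Cfsg.Agent.Lib.Helper25.TILOCA
import Cfsg.Agent.Lib.Helper8.TILOCZ
import Cfsg.Agent.Lib.Helper24.TILOCC2B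
import Cfsg.Agent.Lib.Helper28.TILOCS
import Cfsg.Agent.Lib.Helper26.TILOCN
import Cfsg.Agent.Lib.Helper27.TIPHI2
import Cfsg.Agent.Lib.Helper4.TISYMCore
import Cfsg.Agent.Lib.Helper4.TISYM
import Cfsg.Agent.Lib.Helper4.TIBRSL2Core
import Cfsg.Agent.Lib.Helper21.TIBRALG

/-!
# S1786: final assembly of Timmesfeld's TI lemma
-/

set_option autoImplicit false

namespace Cfsg.Agent.Helper26.TI

variable {G : Type*} [Group G]

theorem main [Finite G] (V : Subgroup G)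
    (hV : Cfsg.IsElementaryAbelian 2 V)
    (h1 : (Cfsg.generalizedFittingSubgroup ↥(Subgroup.normalizer (V : Set G))).map (Subgroup.normalizer (V : Set G)).subtype =
      (Cfsg.pCore 2 ↥(Subgroup.normalizer (V : Set G))).map (Subgroup.normalizer (V : Set G)).subtype)
    (h2 : ∀ A : Subgroup G, V ≤ A → A ≤ Subgroup.normalizer (V : Set G) → IsMulCommutative ↥A →
      (∀ m ∈ Subgroup.normalizer (V : Set G), ∀ a ∈ A, m * a * m⁻¹ ∈ A) → A = V)
    (hti : ∀ x : G, V.map (MulAut.conj x).toMonoidHom = V ∨ V.map (MulAut.conj x).toMonoidHom ⊓ V = ⊥)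
    (g : G) (hg : V.map (MulAut.conj g).toMonoidHom ≠ V)
    (hgQ : V.map (MulAut.conj g).toMonoidHom ≤ (Cfsg.pCore 2 ↥(Subgroup.normalizer (V : Set G))).map (Subgroup.normalizer (V : Set G)).subtype) :
    let Q : Subgroup G := (Cfsg.pCore 2 ↥(Subgroup.normalizer (V : Set G))).map (Subgroup.normalizer (V : Set G)).subtype
    let P : Subgroup G := Q ⊓ Subgroup.centralizer (V : Set G)
    let W : Subgroup G := V ⊔ V.map (MulAut.conj g).toMonoidHom
    let H : Subgroup G := P ⊔ P.map (MulAut.conj g).toMonoidHom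
    V ≤ Q.map (MulAut.conj g).toMonoidHom ∧
      (∀ w ∈ W, w ≠ 1 → ∃! U : Subgroup G, (∃ x : G, U = V.map (MulAut.conj x).toMonoidHom) ∧ U ≤ W ∧ w ∈ U) ∧
      H ≤ Subgroup.normalizer (W : Set G) ∧
      (∀ hN : ((Subgroup.centralizer (W : Set G)).subgroupOf H).Normal, ∃ (F : Type) (_ : Field F) (_ : Fintype F), Fintype.card F = Nat.card ↥V ∧
        Nonempty (↥H ⧸ (Subgroup.centralizer (W : Set G)).subgroupOf H ≃* Matrix.SpecialLinearGroup (Fin 2) F)) ∧
      P = Q ∧ (frattini ↥Q).map Q.subtype = V ∧ (Subgroup.center ↥Q).map Q.subtype = V ∧ (commutator ↥Q).map Q.subtype = V := by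
  intro Q P W H
  have hL : Loc V (Ps V) :=
    tiloc_loc_core V hV hti (locA_easy V hV) (locZ_center V hV h2) (locC2 V hV h2)
      (locS_self V hV h1 (locZ_center V hV h2)) (locN_nonab V hV h2 hti)
  have hC : Cfg V (Ps V) (cj g V) (cj g (Ps V)) := cfg_of_hyp V hL g hg hgQ
  obtain ⟨U, hC1⟩ := hC.exists_cfg1
  obtain ⟨U', hC8⟩ := tisym_cfg8_core hC1 hC1.goalB (fun hC' => hC'.exists_cfg1)
  have hQP : Ps V = Qs V := Q_eq_P V hV hC8
  obtain ⟨hf, hz, hc⟩ := Q_struct V hV hC8 hQP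
  have hC8' : Cfg8 (cj g V) (cj g (Ps V)) V (Ps V) U' U := ⟨hC8.right, hC8.left⟩
  have hsl2 : ∀ hN : ((Subgroup.centralizer ((V ⊔ cj g V : Subgroup G) : Set G)).subgroupOf
        (Ps V ⊔ cj g (Ps V))).Normal,
      ∃ (F : Type) (_ : Field F) (_ : Fintype F), Fintype.card F = Nat.card ↥V ∧
        Nonempty (↥(Ps V ⊔ cj g (Ps V)) ⧸
          (Subgroup.centralizer ((V ⊔ cj g V : Subgroup G) : Set G)).subgroupOf (Ps V ⊔ cj g (Ps V)) ≃*
            Matrix.SpecialLinearGroup (Fin 2) F) := by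
    intro hN
    obtain ⟨F, iF, iFt, eU, eA, eV, hfield⟩ := hC8.field
    refine ⟨F, iF, iFt, ?_, ?_⟩
    · rw [← Nat.card_eq_fintype_card]
      exact (Nat.card_congr (eV.toEquiv.trans Multiplicative.toAdd)).symm
    · exact tibrsl2_core hC8 F eU eA eV hfield (fun x hx => hC1.decomp hx)
        (fun x hx hxA => hC8.match1 hx hxA) (fun x hx hxV => hC8'.match1 hx hxV) hN
  refine ⟨?_, hC1.existsUnique_component, hC8.H_le_norm, hsl2, hQP, hf, hz, hc⟩
  exact le_trans hC1.goalB (cj_mono inf_le_left)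

end Cfsg.Agent.Helper26.TI
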