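import Mathlib
import Cfsg.Prelude.Def_SporadicCombinatorics

/-!
# The ternary code of length 12: explicit parametrization

The 729 words are `word k` for `k` a 6-tuple over `ZMod 3`; the coordinates at the positions
`(1,2), (2,1), (2,2), (3,0), (3,1), (3,2)` recover `k`.
-/

set_option autoImplicit false

namespace Cfsg.Agent.Helper26.TGolay

open Cfsg

/-- Parameter tuples. -/
abbrev K6 : Type := ZMod 3 × ZMod 3 × ZMod 3 × ZMod 3 × ZMod 3 × ZMod 3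

/-- A residue mod 3 seen as an index. -/
def r3 (r : ZMod 3) : Fin 3 := r

/-- The table of linear forms giving the word of a parameter tuple. -/
def wordT (k : K6) : Fin 4 → Fin 3 → ZMod 3 :=
  match k with
  | (k0, k1, k2, k3, k4, k5) =>
    ![![2 * k0 + 2 * k2 + 2 * k3 + 2 * k4 + k5, 2 * k0 + k1 + k2 + k3 + k5,
        2 * k0 + 2 * k1 + k3 + 2 * k4 + 2 * k5],
      ![k0 + k1 + 2 * k2 + k3 + 2 * k4, k0 + 2 * k1 + k2 + 2 * k4 + k5, k0],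
      ![2 * k1 + 2 * k2 + k3 + k4 + k5, k1, k2],
      ![k3, k4, k5]]

/-- The word of a parameter tuple. -/
def word (k : K6) : ArrayPt → ZMod 3 := fun p => wordT k p.1 (r3 p.2)

/-- The scalar `s` of the word of a parameter tuple. -/
def sForm (k : K6) : ZMod 3 := 2 * k.2.2.2.1 + 2 * k.2.2.2.2.1 + 2 * k.2.2.2.2.2

/-- The information coordinates of a word. -/
def infoK (x : ArrayPt → ZMod 3) : K6 :=
  (x (1, 2), x (2, 1), x (2, 2), x (3, 0), x (3, 1), x (3, 2))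

theorem word_col : ∀ (k : K6) (i : Fin 4), ∑ r : ZMod 3, word k (i, r) = - sForm k := by
  decide +kernel

theorem word_tet : ∀ (k : K6) (a b : ZMod 3),
    ∑ j : Fin 4, word k (j, (a • ![0, 1, 1, 1] + b • ![1, 0, 1, 2] : Fin 4 → ZMod 3) j)
      = sForm k := by
  decide +kernel

theorem infoK_word : ∀ k : K6, infoK (word k) = k := by
  decide +kernel

theorem word_mem (k : K6) : word k ∈ ternaryGolayCode := by
  refine ⟨sForm k, word_col k, fun t ht => ?_⟩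
  obtain ⟨a, b, rfl⟩ := Submodule.mem_span_pair.1 ht
  exact word_tet k a b

theorem word_injective : Function.Injective word := fun k l h => by
  rw [← infoK_word k, ← infoK_word l, h]

theorem sum_zmod3 {M : Type*} [AddCommMonoid M] (f : ZMod 3 → M) :
    ∑ r : ZMod 3, f r = f 0 + f 1 + f 2 :=
  Fin.sum_univ_three f

theorem forall_zmod3 {P : ZMod 3 → Prop} : (∀ r, P r) ↔ P 0 ∧ P 1 ∧ P 2 := by
  constructor
  · intro h; exact ⟨h 0, h 1, h 2⟩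
  · rintro ⟨h0, h1, h2⟩ r
    have : r = 0 ∨ r = 1 ∨ r = 2 := by revert r; decide
    rcases this with rfl | rfl | rfl <;> assumption

theorem forall_fin4 {P : Fin 4 → Prop} : (∀ r, P r) ↔ P 0 ∧ P 1 ∧ P 2 ∧ P 3 := by
  constructor
  · intro h; exact ⟨h 0, h 1, h 2, h 3⟩
  · rintro ⟨h0, h1, h2, h3⟩ r
    have : r = 0 ∨ r = 1 ∨ r = 2 ∨ r = 3 := by revert r; decide
    rcases this with rfl | rfl | rfl | rfl <;> assumption

theorem forall_arrayPt {P : ArrayPt → Prop} : (∀ p, P p) ↔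
    (P (0, 0) ∧ P (0, 1) ∧ P (0, 2)) ∧ (P (1, 0) ∧ P (1, 1) ∧ P (1, 2)) ∧
    (P (2, 0) ∧ P (2, 1) ∧ P (2, 2)) ∧ (P (3, 0) ∧ P (3, 1) ∧ P (3, 2)) := by
  rw [Prod.forall, forall_fin4]
  simp only [forall_zmod3]

theorem key3 : (3 : ZMod 3) = 0 := by decide

theorem key_tuple (x00 x01 x02 x10 x11 x12 x20 x21 x22 x30 x31 x32 s : ZMod 3)
    (hc0 : x00 + x01 + x02 = -s) (hc1 : x10 + x11 + x12 = -s) (hc2 : x20 + x21 + x22 = -s)
    (hc3 : x30 + x31 + x32 = -s) (ht0000 : x00 + x10 + x20 + x30 = s)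
    (ht1012 : x01 + x10 + x21 + x32 = s) (ht0111 : x00 + x11 + x21 + x31 = s) :
    x00 = 2 * x12 + 2 * x22 + 2 * x30 + 2 * x31 + x32 ∧
    x01 = 2 * x12 + x21 + x22 + x30 + x32 ∧
    x02 = 2 * x12 + 2 * x21 + x30 + 2 * x31 + 2 * x32 ∧
    x10 = x12 + x21 + 2 * x22 + x30 + 2 * x31 ∧
    x11 = x12 + 2 * x21 + x22 + 2 * x31 + x32 ∧
    x20 = 2 * x21 + 2 * x22 + x30 + x31 + x32 := by
  have h3 := key3
  refine ⟨?_, ?_, ?_, ?_, ?_, ?_⟩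
  · linear_combination (1) * hc1 + (1) * hc2 + (-1) * hc3 + (-1) * ht0000 + (-1) * ht0111 + ((1) * x00 + (-1) * x12 + (-1) * x22 + (-1) * s) * h3
  · linear_combination (1) * hc1 + (-1) * hc2 + (1) * hc3 + (1) * ht0000 + (1) * ht1012 + (-1) * ht0111 + ((-1) * x10 + (-1) * x12 + (-1) * x30 + (-1) * x32) * h3
  · linear_combination (1) * hc0 + (1) * hc1 + (-1) * hc3 + (-1) * ht1012 + (-1) * ht0111 + ((-1) * x12 + (-1) * s) * h3
  · linear_combination (-1) * hc1 + (1) * hc2 + (-1) * ht0000 + (1) * ht0111 + ((1) * x10 + (-1) * x21 + (-1) * x22 + (-1) * x31) * h3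
  · linear_combination (-1) * hc1 + (-1) * hc2 + (-1) * hc3 + (1) * ht0000 + (-1) * ht0111 + ((1) * x11 + (1) * s) * h3
  · linear_combination (1) * hc2 + (-1) * hc3 + ((-1) * x21 + (-1) * x22) * h3

theorem word_apply (k0 k1 k2 k3 k4 k5 : ZMod 3) :
    (word (k0, k1, k2, k3, k4, k5) (0, 0) = 2 * k0 + 2 * k2 + 2 * k3 + 2 * k4 + k5 ∧
     word (k0, k1, k2, k3, k4, k5) (0, 1) = 2 * k0 + k1 + k2 + k3 + k5 ∧
     word (k0, k1, k2, k3, k4, k5) (0, 2) = 2 * k0 + 2 * k1 + k3 + 2 * k4 + 2 * k5) ∧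
    (word (k0, k1, k2, k3, k4, k5) (1, 0) = k0 + k1 + 2 * k2 + k3 + 2 * k4 ∧
     word (k0, k1, k2, k3, k4, k5) (1, 1) = k0 + 2 * k1 + k2 + 2 * k4 + k5 ∧
     word (k0, k1, k2, k3, k4, k5) (1, 2) = k0) ∧
    (word (k0, k1, k2, k3, k4, k5) (2, 0) = 2 * k1 + 2 * k2 + k3 + k4 + k5 ∧
     word (k0, k1, k2, k3, k4, k5) (2, 1) = k1 ∧
     word (k0, k1, k2, k3, k4, k5) (2, 2) = k2) ∧
    (word (k0, k1, k2, k3, k4, k5) (3, 0) = k3 ∧
     word (k0, k1, k2, k3, k4, k5) (3, 1) = k4 ∧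
     word (k0, k1, k2, k3, k4, k5) (3, 2) = k5) :=
  ⟨⟨rfl, rfl, rfl⟩, ⟨rfl, rfl, rfl⟩, ⟨rfl, rfl, rfl⟩, ⟨rfl, rfl, rfl⟩⟩

theorem eq_word_of_mem {x : ArrayPt → ZMod 3} (hx : x ∈ ternaryGolayCode) :
    x = word (infoK x) := by
  obtain ⟨s, hcol, htet⟩ := hx
  have hc0 := hcol 0
  have hc1 := hcol 1
  have hc2 := hcol 2
  have hc3 := hcol 3
  rw [sum_zmod3] at hc0 hc1 hc2 hc3
  have ht0 := htet 0 (zero_mem _)
  have ht1 := htet ![1, 0, 1, 2] (Submodule.subset_span (by simp))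
  have ht2 := htet ![0, 1, 1, 1] (Submodule.subset_span (by simp))
  rw [Fin.sum_univ_four] at ht0 ht1 ht2
  simp only [Pi.zero_apply, Matrix.cons_val_zero, Matrix.cons_val_one, Matrix.cons_val] at ht0 ht1 ht2
  obtain ⟨e00, e01, e02, e10, e11, e20⟩ :=
    key_tuple _ _ _ _ _ _ _ _ _ _ _ _ s hc0 hc1 hc2 hc3 ht0 ht1 ht2
  obtain ⟨⟨w00, w01, w02⟩, ⟨w10, w11, w12⟩, ⟨w20, w21, w22⟩, ⟨w30, w31, w32⟩⟩ :=
    word_apply (x (1, 2)) (x (2, 1)) (x (2, 2)) (x (3, 0)) (x (3, 1)) (x (3, 2))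
  funext p
  revert p
  rw [forall_arrayPt]
  unfold infoK
  refine ⟨⟨?_, ?_, ?_⟩, ⟨?_, ?_, ?_⟩, ⟨?_, ?_, ?_⟩, ⟨?_, ?_, ?_⟩⟩
  · rw [w00]; exact e00
  · rw [w01]; exact e01
  · rw [w02]; exact e02
  · rw [w10]; exact e10
  · rw [w11]; exact e11
  · rw [w12]
  · rw [w20]; exact e20
  · rw [w21]
  · rw [w22]
  · rw [w30]
  · rw [w31]
  · rw [w32]

theorem mem_iff {x : ArrayPt → ZMod 3} : x ∈ ternaryGolayCode ↔ ∃ k : K6, x = word k :=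
  ⟨fun h => ⟨_, eq_word_of_mem h⟩, fun ⟨k, hk⟩ => hk ▸ word_mem k⟩

theorem sum_arrayPt {M : Type*} [AddCommMonoid M] (f : ArrayPt → M) :
    ∑ p, f p = (f (0, 0) + f (0, 1) + f (0, 2)) + (f (1, 0) + f (1, 1) + f (1, 2)) +
      (f (2, 0) + f (2, 1) + f (2, 2)) + (f (3, 0) + f (3, 1) + f (3, 2)) := by
  rw [Fintype.sum_prod_type, Fin.sum_univ_four]
  simp only [sum_zmod3]

theorem dot_word (k0 k1 k2 k3 k4 k5 l0 l1 l2 l3 l4 l5 : ZMod 3) :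
    ∑ p, word (k0, k1, k2, k3, k4, k5) p * word (l0, l1, l2, l3, l4, l5) p = 0 := by
  obtain ⟨⟨w00, w01, w02⟩, ⟨w10, w11, w12⟩, ⟨w20, w21, w22⟩, ⟨w30, w31, w32⟩⟩ :=
    word_apply k0 k1 k2 k3 k4 k5
  obtain ⟨⟨v00, v01, v02⟩, ⟨v10, v11, v12⟩, ⟨v20, v21, v22⟩, ⟨v30, v31, v32⟩⟩ :=
    word_apply l0 l1 l2 l3 l4 l5
  rw [sum_arrayPt, w00, w01, w02, w10, w11, w12, w20, w21, w22, w30, w31, w32,
    v00, v01, v02, v10, v11, v12, v20, v21, v22, v30, v31, v32]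
  have h3 := key3
  linear_combination (5 * k0 * l0 + 3 * k0 * l1 + 3 * k0 * l2 + 3 * k0 * l3 + 4 * k0 * l4 + 3 * k0 * l5 + 3 * k1 * l0 + 5 * k1 * l1 + 3 * k1 * l2 + 2 * k1 * l3 + 4 * k1 * l4 + 3 * k1 * l5 + 3 * k2 * l0 + 3 * k2 * l1 + 5 * k2 * l2 + 3 * k2 * l3 + 4 * k2 * l4 + 2 * k2 * l5 + 3 * k3 * l0 + 2 * k3 * l1 + 3 * k3 * l2 + 3 * k3 * l3 + 3 * k3 * l4 + 2 * k3 * l5 + 4 * k4 * l0 + 4 * k4 * l1 + 4 * k4 * l2 + 3 * k4 * l3 + 6 * k4 * l4 + 3 * k4 * l5 + 3 * k5 * l0 + 3 * k5 * l1 + 2 * k5 * l2 + 2 * k5 * l3 + 3 * k5 * l4 + 3 * k5 * l5) * h3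

theorem dot_eq_zero {x y : ArrayPt → ZMod 3} (hx : x ∈ ternaryGolayCode)
    (hy : y ∈ ternaryGolayCode) : ∑ p, x p * y p = 0 := by
  obtain ⟨⟨k0, k1, k2, k3, k4, k5⟩, rfl⟩ := mem_iff.1 hx
  obtain ⟨⟨l0, l1, l2, l3, l4, l5⟩, rfl⟩ := mem_iff.1 hy
  exact dot_word _ _ _ _ _ _ _ _ _ _ _ _

end Cfsg.Agent.Helper26.TGolay
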