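import Mathlib
import Cfsg.Prelude.Def_SporadicCombinatorics
import Cfsg.Agent.Lib.Helper26.TernaryGolay

/-!
# The ternary code of length 12: diagonal automorphisms are scalars
-/

set_option autoImplicit false

namespace Cfsg.Agent.Helper26.TGolay

open Cfsg

/-- The information positions. -/
def infoPt : Fin 6 → ArrayPt := ![(1, 2), (2, 1), (2, 2), (3, 0), (3, 1), (3, 2)]

/-- The unit parameter tuples. -/
def unitK : Fin 6 → K6 :=
  ![(1, 0, 0, 0, 0, 0), (0, 1, 0, 0, 0, 0), (0, 0, 1, 0, 0, 0), (0, 0, 0, 1, 0, 0),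
    (0, 0, 0, 0, 1, 0), (0, 0, 0, 0, 0, 1)]

theorem infoK_eq (x : ArrayPt → ZMod 3) :
    infoK x = (x (infoPt 0), x (infoPt 1), x (infoPt 2), x (infoPt 3), x (infoPt 4),
      x (infoPt 5)) := rfl

theorem eq_of_info {x x' : ArrayPt → ZMod 3} (hx : x ∈ ternaryGolayCode)
    (hx' : x' ∈ ternaryGolayCode) (h : ∀ i : Fin 6, x (infoPt i) = x' (infoPt i)) : x = x' := by
  rw [eq_word_of_mem hx, eq_word_of_mem hx', infoK_eq, infoK_eq, h 0, h 1, h 2, h 3, h 4, h 5]

theorem unit_info : ∀ j i : Fin 6, word (unitK j) (infoPt i) = if i = j then 1 else 0 := by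
  decide +kernel

theorem connected : ∀ p : ArrayPt, ∃ (j : Fin 6) (q : ArrayPt),
    word (unitK j) p ≠ 0 ∧ word (unitK j) q ≠ 0 ∧ word (unitK 0) q ≠ 0 := by
  decide +kernel

theorem units_zmod3 : ∀ u : (ZMod 3)ˣ, u = 1 ∨ u = -1 := by
  decide

theorem diag_const (c : ArrayPt → (ZMod 3)ˣ)
    (h : ∀ x ∈ ternaryGolayCode, monomialMap 1 c x ∈ ternaryGolayCode) (j : Fin 6)
    (p : ArrayPt) (hp : word (unitK j) p ≠ 0) : c p = c (infoPt j) := by
  have hy := h _ (word_mem (unitK j))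
  have hy' : ((c (infoPt j) : (ZMod 3)ˣ) : ZMod 3) • word (unitK j) ∈ ternaryGolayCode :=
    Submodule.smul_mem _ _ (word_mem (unitK j))
  have hmm : ∀ q, monomialMap 1 c (word (unitK j)) q = (c q : ZMod 3) * word (unitK j) q :=
    fun q => rfl
  have heq := eq_of_info hy hy' (fun i => by
    rw [hmm, Pi.smul_apply, smul_eq_mul, unit_info]
    split_ifs with hij
    · rw [hij]
    · simp)
  have := congrFun heq p
  rw [hmm, Pi.smul_apply, smul_eq_mul] at this
  exact Units.ext (mul_right_cancel₀ hp this)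

theorem diag_scalar (c : ArrayPt → (ZMod 3)ˣ)
    (h : ∀ x ∈ ternaryGolayCode, monomialMap 1 c x ∈ ternaryGolayCode) :
    (∀ p, c p = 1) ∨ (∀ p, c p = -1) := by
  have hall : ∀ p, c p = c (infoPt 0) := by
    intro p
    obtain ⟨j, q, h1, h2, h3⟩ := connected p
    rw [diag_const c h j p h1, ← diag_const c h j q h2, diag_const c h 0 q h3]
  rcases units_zmod3 (c (infoPt 0)) with h1 | h1
  · left; intro p; rw [hall p, h1]
  · right; intro p; rw [hall p, h1]

end Cfsg.Agent.Helper26.TGolay
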