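import Mathlib
import Cfsg.Prelude.Def_SporadicCombinatorics
import Cfsg.Agent.Lib.Helper26.TernaryGolay

/-!
# The ternary code of length 12: cardinality and weight distribution
-/

set_option autoImplicit false

namespace Cfsg.Agent.Helper26.TGolay

open Cfsg

/-- The weight of the word of a parameter tuple. -/
def wt (k : K6) : ℕ := (ternarySupport (word k)).card

theorem wt_cases : ∀ k : K6, k ≠ 0 → wt k = 6 ∨ wt k = 9 ∨ wt k = 12 := by
  decide +kernel

theorem wt_count6 : (Finset.univ.filter fun k : K6 => wt k = 6).card = 264 := by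
  decide +kernel

theorem wt_count9 : (Finset.univ.filter fun k : K6 => wt k = 9).card = 440 := by
  decide +kernel

theorem wt_count12 : (Finset.univ.filter fun k : K6 => wt k = 12).card = 24 := by
  decide +kernel

theorem word_zero : word 0 = 0 := by
  decide +kernel

/-- The parametrization as an equivalence. -/
noncomputable def wordEquiv : K6 ≃ ↥ternaryGolayCode :=
  Equiv.ofBijective (fun k => ⟨word k, word_mem k⟩)
    ⟨fun k l h => word_injective (congrArg Subtype.val h),
     fun x => by
      obtain ⟨k, hk⟩ := mem_iff.1 x.2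
      exact ⟨k, Subtype.ext hk.symm⟩⟩

theorem card_code : Nat.card ↥ternaryGolayCode = 729 := by
  rw [← Nat.card_congr wordEquiv, Nat.card_eq_fintype_card]
  simp only [Fintype.card_prod, ZMod.card]

theorem weight_cases {x : ArrayPt → ZMod 3} (hx : x ∈ ternaryGolayCode) (h0 : x ≠ 0) :
    (ternarySupport x).card = 6 ∨ (ternarySupport x).card = 9 ∨ (ternarySupport x).card = 12 := by
  obtain ⟨k, rfl⟩ := mem_iff.1 hx
  have hk : k ≠ 0 := by
    rintro rfl
    exact h0 word_zero
  exact wt_cases k hk

theorem weight_set_eq (n : ℕ) :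
    {x : ArrayPt → ZMod 3 | x ∈ ternaryGolayCode ∧ (ternarySupport x).card = n} =
      word '' ((Finset.univ.filter fun k : K6 => wt k = n : Finset K6) : Set K6) := by
  ext x
  simp only [Set.mem_ofPred_eq, Set.mem_image, Finset.coe_filter, Finset.mem_univ, true_and]
  constructor
  · rintro ⟨hx, hn⟩
    obtain ⟨k, rfl⟩ := mem_iff.1 hx
    exact ⟨k, hn, rfl⟩
  · rintro ⟨k, hk, rfl⟩
    exact ⟨word_mem k, hk⟩

theorem weight_ncard (n : ℕ) :
    {x : ArrayPt → ZMod 3 | x ∈ ternaryGolayCode ∧ (ternarySupport x).card = n}.ncard =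
      (Finset.univ.filter fun k : K6 => wt k = n).card := by
  rw [weight_set_eq, Set.ncard_image_of_injective _ word_injective, Set.ncard_coe_finset]

end Cfsg.Agent.Helper26.TGolay
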