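import Mathlib
import Cfsg.Prelude.Def_SporadicCombinatorics
import Cfsg.Agent.Lib.Helper26.TernaryGolayWt

/-!
# The ternary code of length 12: the hexads form a Steiner system S(5,6,12)
-/

set_option autoImplicit false

namespace Cfsg.Agent.Helper26.TGolay

open Cfsg

theorem mem_supp {x : ArrayPt → ZMod 3} {p : ArrayPt} : p ∈ ternarySupport x ↔ x p ≠ 0 := by
  simp [ternarySupport]

theorem eq_zero_of_weight_lt {z : ArrayPt → ZMod 3} (hz : z ∈ ternaryGolayCode)
    (h : (ternarySupport z).card < 6) : z = 0 := by
  by_contra h0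
  rcases weight_cases hz h0 with h1 | h1 | h1 <;> omega

theorem zmod3_pm : ∀ a b : ZMod 3, a ≠ 0 → b ≠ 0 → a ≠ b → a = -b := by decide

/-- If a codeword `z` vanishes on at least three points of a set of at most seven points
containing its support, it is zero. -/
theorem eq_zero_of_vanish {z : ArrayPt → ZMod 3} (hz : z ∈ ternaryGolayCode)
    (U J : Finset ArrayPt) (hU : ternarySupport z ⊆ U) (hJU : J ⊆ U) (hJ : ∀ p ∈ J, z p = 0)
    (hcard : U.card < J.card + 6) : z = 0 := by
  apply eq_zero_of_weight_lt hz
  have hsub : ternarySupport z ⊆ U \ J := by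
    intro p hp
    rw [Finset.mem_sdiff]
    refine ⟨hU hp, fun hpJ => ?_⟩
    exact (mem_supp.1 hp) (hJ p hpJ)
  have h1 := Finset.card_le_card hsub
  rw [Finset.card_sdiff_of_subset hJU] at h1
  omega

/-- Two weight-6 codewords whose supports share at least five points are equal or opposite. -/
theorem pm_of_inter {x y : ArrayPt → ZMod 3} (hx : x ∈ ternaryGolayCode)
    (hy : y ∈ ternaryGolayCode) (hwx : (ternarySupport x).card = 6)
    (hwy : (ternarySupport y).card = 6)
    (hI : 5 ≤ (ternarySupport x ∩ ternarySupport y).card) : y = x ∨ y = -x := by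
  classical
  set I := ternarySupport x ∩ ternarySupport y with hIdef
  have hsplit := Finset.card_filter_add_card_filter_not (s := I) (fun p => x p = y p)
  have hunion : (ternarySupport x ∪ ternarySupport y).card + I.card = 12 := by
    rw [hIdef, Finset.card_union_add_card_inter, hwx, hwy]
  have hIU : I ⊆ ternarySupport x ∪ ternarySupport y :=
    fun p hp => Finset.mem_union_left _ (Finset.mem_inter.1 hp).1
  by_cases h3 : 3 ≤ (I.filter fun p => x p = y p).card
  · left
    have hz : x - y ∈ ternaryGolayCode := Submodule.sub_mem _ hx hy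
    have := eq_zero_of_vanish hz (ternarySupport x ∪ ternarySupport y)
      (I.filter fun p => x p = y p)
      (by
        intro p hp
        rw [mem_supp, Pi.sub_apply] at hp
        rw [Finset.mem_union, mem_supp, mem_supp]
        by_contra hcon
        rw [not_or, not_not, not_not] at hcon
        exact hp (by rw [hcon.1, hcon.2, sub_zero]))
      ((Finset.filter_subset _ _).trans hIU)
      (by
        intro p hp
        rw [Finset.mem_filter] at hp
        rw [Pi.sub_apply, hp.2, sub_self])
      (by omega)
    exact (sub_eq_zero.1 this).symm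
  · right
    have h3' : 3 ≤ (I.filter fun p => ¬ x p = y p).card := by omega
    have hz : x + y ∈ ternaryGolayCode := Submodule.add_mem _ hx hy
    have := eq_zero_of_vanish hz (ternarySupport x ∪ ternarySupport y)
      (I.filter fun p => ¬ x p = y p)
      (by
        intro p hp
        rw [mem_supp, Pi.add_apply] at hp
        rw [Finset.mem_union, mem_supp, mem_supp]
        by_contra hcon
        rw [not_or, not_not, not_not] at hcon
        exact hp (by rw [hcon.1, hcon.2, add_zero]))
      ((Finset.filter_subset _ _).trans hIU)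
      (by
        intro p hp
        rw [Finset.mem_filter, hIdef, Finset.mem_inter, mem_supp, mem_supp] at hp
        rw [Pi.add_apply, zmod3_pm _ _ hp.1.1 hp.1.2 hp.2, neg_add_cancel])
      (by omega)
    exact eq_neg_of_add_eq_zero_right this

theorem supp_neg (x : ArrayPt → ZMod 3) : ternarySupport (-x) = ternarySupport x := by
  ext p
  rw [mem_supp, mem_supp, Pi.neg_apply, neg_ne_zero]

/-- The hexads: supports of the weight-6 codewords. -/
def hexads : Set (Finset ArrayPt) :=
  {h | ∃ x ∈ ternaryGolayCode, ternarySupport x = h ∧ h.card = 6}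

theorem hexads_unique {s b b' : Finset ArrayPt} (hs : s.card = 5) (hb : b ∈ hexads)
    (hb' : b' ∈ hexads) (hsb : s ⊆ b) (hsb' : s ⊆ b') : b = b' := by
  obtain ⟨x, hx, rfl, hwx⟩ := hb
  obtain ⟨y, hy, rfl, hwy⟩ := hb'
  have hI : 5 ≤ (ternarySupport x ∩ ternarySupport y).card := by
    rw [← hs]
    exact Finset.card_le_card (Finset.subset_inter hsb hsb')
  rcases pm_of_inter hx hy hwx hwy hI with rfl | rfl
  · rfl
  · rw [supp_neg]

/-- The weight-6 parameter tuples. -/
def W6 : Finset K6 := Finset.univ.filter fun k : K6 => wt k = 6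

/-- The hexads as a finset. -/
def hexadsF : Finset (Finset ArrayPt) := W6.image fun k => ternarySupport (word k)

theorem coe_hexadsF : (hexadsF : Set (Finset ArrayPt)) = hexads := by
  ext h
  simp only [hexadsF, W6, Finset.coe_image, Finset.coe_filter, Finset.mem_univ, true_and,
    Set.mem_image, hexads]
  constructor
  · rintro ⟨k, hk, rfl⟩
    exact ⟨word k, word_mem k, rfl, hk⟩
  · rintro ⟨x, hx, rfl, hw⟩
    obtain ⟨k, rfl⟩ := mem_iff.1 hx
    exact ⟨k, hw, rfl⟩

theorem mem_W6 {k : K6} : k ∈ W6 ↔ wt k = 6 := by
  simp only [W6, Finset.mem_filter, Finset.mem_univ, true_and]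

theorem card_W6 : W6.card = 264 := wt_count6

theorem mem_hexadsF {b : Finset ArrayPt} :
    b ∈ hexadsF ↔ ∃ k ∈ W6, ternarySupport (word k) = b := by
  simp only [hexadsF, Finset.mem_image]

theorem hexadsF_eq_image : hexadsF = W6.image fun k => ternarySupport (word k) := rfl

attribute [irreducible] W6 hexadsF

theorem word_neg : ∀ k : K6, word (-k) = - word k := by
  decide +kernel

/-- Decidable equality of parameter tuples, recorded to keep instance search short. -/
instance decEqK6 : DecidableEq K6 := inferInstance

theorem neg_eq_self : ∀ k : K6, -k ≠ k ∨ k = 0 := by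
  decide +kernel

theorem neg_ne_self (k : K6) (hk : k ≠ 0) : -k ≠ k :=
  (neg_eq_self k).resolve_right hk

theorem wt_zero : wt (0 : K6) = 0 := by
  decide +kernel

theorem fiber_card {k : K6} (hk : k ∈ W6) :
    (W6.filter fun l => ternarySupport (word l) = ternarySupport (word k)).card = 2 := by
  have hk6 : wt k = 6 := mem_W6.1 hk
  have hk0 : k ≠ 0 := by
    rintro rfl
    rw [wt_zero] at hk6
    omega
  have : (W6.filter fun l => ternarySupport (word l) = ternarySupport (word k)) = {k, -k} := by
    ext l
    rw [Finset.mem_filter, Finset.mem_insert, Finset.mem_singleton]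
    constructor
    · rintro ⟨hl, hsupp⟩
      have hl6 : wt l = 6 := mem_W6.1 hl
      have hI : 5 ≤ (ternarySupport (word k) ∩ ternarySupport (word l)).card := by
        rw [hsupp, Finset.inter_self]
        have : (ternarySupport (word k)).card = 6 := hk6
        omega
      rcases pm_of_inter (word_mem k) (word_mem l) hk6 hl6 hI with h | h
      · left; exact word_injective h
      · right
        rw [← word_neg] at h
        exact word_injective h
    · rintro (rfl | rfl)
      · exact ⟨hk, rfl⟩
      · refine ⟨?_, ?_⟩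
        · rw [mem_W6]
          show (ternarySupport (word (-k))).card = 6
          rw [word_neg, supp_neg]
          exact hk6
        · rw [word_neg, supp_neg]
  rw [this, Finset.card_pair (neg_ne_self k hk0).symm]

theorem card_hexadsF : hexadsF.card = 132 := by
  have h1 : W6.card = ∑ b ∈ hexadsF,
      (W6.filter fun l => ternarySupport (word l) = b).card := by
    rw [hexadsF_eq_image]
    exact Finset.card_eq_sum_card_image _ _
  have h2 : ∑ b ∈ hexadsF, (W6.filter fun l => ternarySupport (word l) = b).card
      = ∑ _b ∈ hexadsF, 2 := by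
    apply Finset.sum_congr rfl
    intro b hb
    obtain ⟨k, hk, rfl⟩ := mem_hexadsF.1 hb
    exact fiber_card hk
  rw [h2, Finset.sum_const, smul_eq_mul] at h1
  have h3 : W6.card = 264 := card_W6
  omega

theorem card_of_mem_hexadsF {b : Finset ArrayPt} (hb : b ∈ hexadsF) : b.card = 6 := by
  have : b ∈ (hexadsF : Set (Finset ArrayPt)) := hb
  rw [coe_hexadsF] at this
  obtain ⟨x, -, -, h⟩ := this
  exact h

theorem hexadsF_disj : (hexadsF : Set (Finset ArrayPt)).PairwiseDisjoint
    (fun b => b.powersetCard 5) := by
  intro b hb b' hb' hne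
  rw [Function.onFun, Finset.disjoint_left]
  intro t ht ht'
  rw [Finset.mem_powersetCard] at ht ht'
  rw [coe_hexadsF] at hb hb'
  exact hne (hexads_unique ht.2 hb hb' ht.1 ht'.1)

theorem choose_6_5 : Nat.choose 6 5 = 6 := by decide

theorem choose_12_5 : Nat.choose 12 5 = 792 := by decide

theorem card_biUnion_hexadsF :
    (hexadsF.biUnion fun b => b.powersetCard 5).card = 792 := by
  rw [Finset.card_biUnion hexadsF_disj]
  have : ∀ b ∈ hexadsF, (b.powersetCard 5).card = 6 := by
    intro b hb
    rw [Finset.card_powersetCard, card_of_mem_hexadsF hb, choose_6_5]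
  rw [Finset.sum_congr rfl this, Finset.sum_const, card_hexadsF, smul_eq_mul]

theorem biUnion_hexadsF_subset : (hexadsF.biUnion fun b => b.powersetCard 5) ⊆
    (Finset.univ : Finset ArrayPt).powersetCard 5 := by
  intro t ht
  rw [Finset.mem_biUnion] at ht
  obtain ⟨b, -, htb⟩ := ht
  rw [Finset.mem_powersetCard] at htb ⊢
  exact ⟨Finset.subset_univ _, htb.2⟩

theorem card_powersetCard_univ :
    ((Finset.univ : Finset ArrayPt).powersetCard 5).card = 792 := by
  rw [Finset.card_powersetCard, Finset.card_univ]
  simp only [Fintype.card_prod, Fintype.card_fin, ZMod.card]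
  exact choose_12_5

theorem hexads_exists {s : Finset ArrayPt} (hs : s.card = 5) : ∃ b ∈ hexadsF, s ⊆ b := by
  have heq := Finset.eq_of_subset_of_card_le biUnion_hexadsF_subset
    (le_of_eq (card_powersetCard_univ.trans card_biUnion_hexadsF.symm))
  have hmem : s ∈ (Finset.univ : Finset ArrayPt).powersetCard 5 :=
    Finset.mem_powersetCard.2 ⟨Finset.subset_univ _, hs⟩
  rw [← heq, Finset.mem_biUnion] at hmem
  obtain ⟨b, hb, hsb⟩ := hmem
  exact ⟨b, hb, (Finset.mem_powersetCard.1 hsb).1⟩

theorem hexads_steiner : IsSteinerSystem 5 6 hexads ∧ hexads.ncard = 132 := by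
  refine ⟨⟨?_, ?_⟩, ?_⟩
  · rintro b ⟨x, -, -, h⟩
    exact h
  · intro s hs
    obtain ⟨b, hb, hsb⟩ := hexads_exists hs
    have hb' : b ∈ hexads := by rw [← coe_hexadsF]; exact hb
    refine ⟨b, ⟨hb', hsb⟩, ?_⟩
    rintro b' ⟨hb'', hsb'⟩
    exact hexads_unique hs hb'' hb' hsb' hsb
  · rw [← coe_hexadsF, Set.ncard_coe_finset, card_hexadsF]

end Cfsg.Agent.Helper26.TGolay
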