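import Mathlib
import Cfsg.Prelude.Def_SporadicCombinatorics
import Cfsg.Agent.Lib.Helper26.TernaryGolayDiag
import Cfsg.Agent.Lib.Helper26.TernaryGolaySteiner

/-!
# The ternary code of length 12: monomial automorphisms (general theory)
-/

set_option autoImplicit false

namespace Cfsg.Agent.Helper26.TGolay

open Cfsg
open scoped Pointwise

/-- The monomial map of `σ`, `c` preserves the code. -/
def Pres (σ : Equiv.Perm ArrayPt) (c : ArrayPt → (ZMod 3)ˣ) : Prop :=
  ∀ x ∈ ternaryGolayCode, monomialMap σ c x ∈ ternaryGolayCode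

theorem mono_apply (σ : Equiv.Perm ArrayPt) (c : ArrayPt → (ZMod 3)ˣ) (x : ArrayPt → ZMod 3)
    (i : ArrayPt) : monomialMap σ c x i = (c i : ZMod 3) * x (σ.symm i) := rfl

theorem mono_add (σ : Equiv.Perm ArrayPt) (c : ArrayPt → (ZMod 3)ˣ) (x y : ArrayPt → ZMod 3) :
    monomialMap σ c (x + y) = monomialMap σ c x + monomialMap σ c y := by
  funext i
  simp only [mono_apply, Pi.add_apply, mul_add]

theorem mono_smul (σ : Equiv.Perm ArrayPt) (c : ArrayPt → (ZMod 3)ˣ) (a : ZMod 3)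
    (x : ArrayPt → ZMod 3) : monomialMap σ c (a • x) = a • monomialMap σ c x := by
  funext i
  simp only [mono_apply, Pi.smul_apply, smul_eq_mul]
  ring

theorem mono_comp (σ τ : Equiv.Perm ArrayPt) (c d : ArrayPt → (ZMod 3)ˣ)
    (x : ArrayPt → ZMod 3) :
    monomialMap σ c (monomialMap τ d x) =
      monomialMap (σ * τ) (fun i => c i * d (σ.symm i)) x := by
  funext i
  simp only [mono_apply, Units.val_mul, mul_assoc]
  rfl

theorem mono_one (x : ArrayPt → ZMod 3) : monomialMap 1 (fun _ => (1 : (ZMod 3)ˣ)) x = x := by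
  funext i
  simp only [mono_apply, Units.val_one, one_mul]
  rfl

theorem mono_injective (σ : Equiv.Perm ArrayPt) (c : ArrayPt → (ZMod 3)ˣ) :
    Function.Injective (monomialMap σ c) := by
  intro x y h
  funext j
  have := congrFun h (σ j)
  simp only [mono_apply, Equiv.symm_apply_apply] at this
  exact (c (σ j)).isUnit.mul_left_cancel this

theorem pres_mul {σ τ : Equiv.Perm ArrayPt} {c d : ArrayPt → (ZMod 3)ˣ} (h : Pres σ c)
    (h' : Pres τ d) : Pres (σ * τ) (fun i => c i * d (σ.symm i)) := by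
  intro x hx
  rw [← mono_comp]
  exact h _ (h' x hx)

theorem pres_one : Pres 1 (fun _ => (1 : (ZMod 3)ˣ)) := by
  intro x hx
  rw [mono_one]
  exact hx

theorem pres_surj {σ : Equiv.Perm ArrayPt} {c : ArrayPt → (ZMod 3)ˣ} (h : Pres σ c)
    {x : ArrayPt → ZMod 3} (hx : x ∈ ternaryGolayCode) :
    ∃ y ∈ ternaryGolayCode, monomialMap σ c y = x := by
  have hinj : Function.Injective
      (fun y : ↥ternaryGolayCode => (⟨monomialMap σ c y.1, h y.1 y.2⟩ : ↥ternaryGolayCode)) := by
    intro y y' hyy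
    exact Subtype.ext (mono_injective σ c (congrArg Subtype.val hyy))
  obtain ⟨y, hy⟩ := (Finite.injective_iff_surjective.1 hinj) ⟨x, hx⟩
  exact ⟨y.1, y.2, congrArg Subtype.val hy⟩

theorem pres_inv {σ : Equiv.Perm ArrayPt} {c : ArrayPt → (ZMod 3)ˣ} (h : Pres σ c) :
    Pres σ⁻¹ (fun j => (c (σ j))⁻¹) := by
  intro x hx
  obtain ⟨y, hy, rfl⟩ := pres_surj h hx
  rw [mono_comp]
  have : monomialMap (σ⁻¹ * σ) (fun i => (c (σ i))⁻¹ * c ((σ⁻¹).symm i)) y = y := by
    funext i
    simp only [mono_apply, inv_mul_cancel]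
    have h1 : (σ⁻¹ : Equiv.Perm ArrayPt).symm i = σ i := rfl
    rw [h1, inv_mul_cancel, Units.val_one, one_mul]
    rfl
  rw [this]
  exact hy

theorem pres_scalar {σ : Equiv.Perm ArrayPt} {c : ArrayPt → (ZMod 3)ˣ} (h : Pres σ c)
    (ε : (ZMod 3)ˣ) : Pres σ (fun p => ε * c p) := by
  intro x hx
  have : monomialMap σ (fun p => ε * c p) x = (ε : ZMod 3) • monomialMap σ c x := by
    funext i
    simp only [mono_apply, Pi.smul_apply, smul_eq_mul, Units.val_mul, mul_assoc]
  rw [this]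
  exact Submodule.smul_mem _ _ (h x hx)

theorem pres_sign_unique {σ : Equiv.Perm ArrayPt} {c c' : ArrayPt → (ZMod 3)ˣ} (h : Pres σ c)
    (h' : Pres σ c') : (∀ p, c' p = c p) ∨ (∀ p, c' p = - c p) := by
  have hd : ∀ x ∈ ternaryGolayCode,
      monomialMap 1 (fun p => c' p * (c p)⁻¹) x ∈ ternaryGolayCode := by
    intro x hx
    obtain ⟨y, hy, rfl⟩ := pres_surj h hx
    have : monomialMap 1 (fun p => c' p * (c p)⁻¹) (monomialMap σ c y) = monomialMap σ c' y := by
      funext i
      simp only [mono_apply]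
      have h1 : (1 : Equiv.Perm ArrayPt).symm i = i := rfl
      rw [h1, ← mul_assoc, ← Units.val_mul, inv_mul_cancel_right]
    rw [this]
    exact h' y hy
  rcases diag_scalar _ hd with h1 | h1
  · left
    intro p
    have := h1 p
    rwa [mul_inv_eq_one] at this
  · right
    intro p
    have := h1 p
    rw [mul_inv_eq_iff_eq_mul] at this
    rw [this, neg_one_mul]

/-- The permutation parts of the monomial automorphisms. -/
def monoPerms : Subgroup (Equiv.Perm ArrayPt) where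
  carrier := {σ | ∃ c, Pres σ c}
  mul_mem' := by
    rintro σ τ ⟨c, hc⟩ ⟨d, hd⟩
    exact ⟨_, pres_mul hc hd⟩
  one_mem' := ⟨_, pres_one⟩
  inv_mem' := by
    rintro σ ⟨c, hc⟩
    exact ⟨_, pres_inv hc⟩

theorem mem_monoPerms {σ : Equiv.Perm ArrayPt} : σ ∈ monoPerms ↔ ∃ c, Pres σ c := Iff.rfl

theorem supp_mono (σ : Equiv.Perm ArrayPt) (c : ArrayPt → (ZMod 3)ˣ) (x : ArrayPt → ZMod 3) :
    ternarySupport (monomialMap σ c x) = (ternarySupport x).image σ := by
  ext p
  rw [mem_supp, Finset.mem_image, mono_apply]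
  constructor
  · intro hp
    refine ⟨σ.symm p, ?_, σ.apply_symm_apply p⟩
    rw [mem_supp]
    exact right_ne_zero_of_mul hp
  · rintro ⟨q, hq, rfl⟩
    rw [mem_supp] at hq
    rw [Equiv.symm_apply_apply]
    exact mul_ne_zero (c (σ q)).ne_zero hq

theorem image_mem_hexads_of_pres {σ : Equiv.Perm ArrayPt} {c : ArrayPt → (ZMod 3)ˣ}
    (h : Pres σ c) {b : Finset ArrayPt} (hb : b ∈ hexads) : b.image σ ∈ hexads := by
  obtain ⟨x, hx, rfl, hcard⟩ := hb
  refine ⟨monomialMap σ c x, h x hx, supp_mono σ c x, ?_⟩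
  rw [Finset.card_image_of_injective _ σ.injective]
  exact hcard

theorem smul_finset_eq_image (σ : Equiv.Perm ArrayPt) (b : Finset ArrayPt) :
    σ • b = b.image σ := rfl

theorem monoPerms_le : monoPerms ≤ setSystemAut hexads := by
  intro σ hσ
  rw [MulAction.mem_stabilizer_iff]
  ext b
  rw [Set.mem_smul_set_iff_inv_smul_mem]
  constructor
  · intro hb
    obtain ⟨c, hc⟩ := hσ
    have := image_mem_hexads_of_pres hc hb
    rw [← smul_finset_eq_image, smul_inv_smul] at this
    exact this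
  · intro hb
    obtain ⟨c, hc⟩ := monoPerms.inv_mem hσ
    exact image_mem_hexads_of_pres hc hb

theorem image_mem_hexads {σ : Equiv.Perm ArrayPt} (hσ : σ ∈ setSystemAut hexads)
    {b : Finset ArrayPt} (hb : b ∈ hexads) : b.image σ ∈ hexads := by
  rw [MulAction.mem_stabilizer_iff] at hσ
  rw [← hσ, ← smul_finset_eq_image]
  exact Set.smul_mem_smul_set hb

/-- A chosen sign vector for a permutation part. -/
noncomputable def signOf (σ : monoPerms) : ArrayPt → (ZMod 3)ˣ := Classical.choose σ.2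

theorem signOf_pres (σ : monoPerms) : Pres σ.1 (signOf σ) := Classical.choose_spec σ.2

/-- The monomial automorphisms correspond to permutation parts together with a global sign. -/
noncomputable def monoEquiv :
    {f : Equiv.Perm ArrayPt × (ArrayPt → (ZMod 3)ˣ) // Pres f.1 f.2} ≃ monoPerms × (ZMod 3)ˣ where
  toFun f := (⟨f.1.1, ⟨f.1.2, f.2⟩⟩, f.1.2 (0, 0) * (signOf ⟨f.1.1, ⟨f.1.2, f.2⟩⟩ (0, 0))⁻¹)
  invFun g := ⟨(g.1.1, fun p => g.2 * signOf g.1 p), pres_scalar (signOf_pres g.1) g.2⟩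
  left_inv := by
    rintro ⟨⟨σ, c⟩, hc⟩
    have hc' : Pres σ c := hc
    apply Subtype.ext
    refine Prod.ext rfl ?_
    funext p
    have hmem : σ ∈ monoPerms := mem_monoPerms.2 ⟨c, hc'⟩
    show c (0, 0) * (signOf ⟨σ, hmem⟩ (0, 0))⁻¹ * signOf ⟨σ, hmem⟩ p = c p
    have hs : Pres σ (signOf ⟨σ, hmem⟩) := signOf_pres ⟨σ, hmem⟩
    rcases pres_sign_unique hs hc' with h | h
    · rw [h (0, 0), h p, mul_inv_cancel, one_mul]
    · rw [h (0, 0), h p, neg_mul, mul_inv_cancel, neg_one_mul]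
  right_inv := by
    rintro ⟨σ, ε⟩
    refine Prod.ext rfl ?_
    show ε * signOf σ (0, 0) * (signOf σ (0, 0))⁻¹ = ε
    rw [mul_inv_cancel_right]

theorem card_units_zmod3 : Nat.card (ZMod 3)ˣ = 2 := by
  rw [Nat.card_eq_fintype_card]
  decide

theorem card_mono :
    Nat.card {f : Equiv.Perm ArrayPt × (ArrayPt → (ZMod 3)ˣ) // Pres f.1 f.2} =
      Nat.card monoPerms * 2 := by
  rw [Nat.card_congr monoEquiv, Nat.card_prod, card_units_zmod3]

end Cfsg.Agent.Helper26.TGolay
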