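import Mathlib
import Cfsg.Prelude.Def_SporadicCombinatorics
import Cfsg.Agent.Lib.Helper26.TernaryGolayMono

/-!
# The Steiner system of hexads: an automorphism fixing five points of a hexad is trivial
-/

set_option autoImplicit false

namespace Cfsg.Agent.Helper26.TGolay

open Cfsg
open scoped Pointwise

/-- The twelve positions, numbered. -/
def q : Fin 12 → ArrayPt :=
  ![(0, 0), (0, 1), (0, 2), (1, 0), (1, 1), (1, 2), (2, 0), (2, 1), (2, 2), (3, 0), (3, 1),
    (3, 2)]

theorem sixth_fixed {σ : Equiv.Perm ArrayPt} (hσ : σ ∈ setSystemAut hexads)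
    {b : Finset ArrayPt} (hb : b ∈ hexads) {z : ArrayPt} (hz : z ∈ b)
    (hfix : ∀ t ∈ b, t ≠ z → σ t = t) : σ z = z := by
  have hb6 : b.card = 6 := by
    obtain ⟨x, -, -, h⟩ := hb
    exact h
  have hs5 : (b.erase z).card = 5 := by rw [Finset.card_erase_of_mem hz, hb6]
  have himg : (b.erase z).image σ = b.erase z := by
    ext t
    rw [Finset.mem_image]
    constructor
    · rintro ⟨t', ht', rfl⟩
      rw [hfix t' (Finset.mem_of_mem_erase ht') (Finset.ne_of_mem_erase ht')]
      exact ht'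
    · intro ht
      exact ⟨t, ht, hfix t (Finset.mem_of_mem_erase ht) (Finset.ne_of_mem_erase ht)⟩
  have heq : b.image σ = b := by
    apply hexads_unique hs5 (image_mem_hexads hσ hb) hb
    · rw [← himg]
      exact Finset.image_subset_image (Finset.erase_subset _ _)
    · exact Finset.erase_subset _ _
  have hσz : σ z ∈ b := by
    rw [← heq]
    exact Finset.mem_image_of_mem _ hz
  by_contra hne
  have := hfix (σ z) hσz hne
  exact hne (σ.injective this)

theorem sixth_move {σ : Equiv.Perm ArrayPt} (hσ : σ ∈ setSystemAut hexads)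
    {T : Finset ArrayPt} {x z y u : ArrayPt} (hT4 : T.card = 4)
    (h1 : insert x (insert z T) ∈ hexads) (h2 : insert y (insert u T) ∈ hexads)
    (hT : ∀ t ∈ T, σ t = t) (hx : σ x = y) : σ z = u := by
  have h16 : (insert x (insert z T)).card = 6 := by
    obtain ⟨w, -, -, h⟩ := h1
    exact h
  have hzT : z ∉ T := by
    intro hz
    rw [Finset.insert_eq_of_mem hz] at h16
    have := Finset.card_insert_le x T
    omega
  have hxzT : x ∉ insert z T := by
    intro hxx
    rw [Finset.insert_eq_of_mem hxx] at h16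
    have := Finset.card_insert_le z T
    omega
  have hxT : x ∉ T := fun h => hxzT (Finset.mem_insert_of_mem h)
  have hxz : x ≠ z := fun h => hxzT (h ▸ Finset.mem_insert_self _ _)
  have hs5 : ((insert x T).image σ).card = 5 := by
    rw [Finset.card_image_of_injective _ σ.injective, Finset.card_insert_of_notMem hxT, hT4]
  have himgT : T.image σ = T := by
    ext t
    rw [Finset.mem_image]
    constructor
    · rintro ⟨t', ht', rfl⟩
      rw [hT t' ht']
      exact ht'
    · intro ht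
      exact ⟨t, ht, hT t ht⟩
  have himg : (insert x T).image σ = insert y T := by
    rw [Finset.image_insert, hx, himgT]
  have heq : (insert x (insert z T)).image σ = insert y (insert u T) := by
    apply hexads_unique hs5 (image_mem_hexads hσ h1) h2
    · apply Finset.image_subset_image
      intro t ht
      rcases Finset.mem_insert.1 ht with rfl | ht
      · exact Finset.mem_insert_self _ _
      · exact Finset.mem_insert_of_mem (Finset.mem_insert_of_mem ht)
    · rw [himg]
      intro t ht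
      rcases Finset.mem_insert.1 ht with rfl | ht
      · exact Finset.mem_insert_self _ _
      · exact Finset.mem_insert_of_mem (Finset.mem_insert_of_mem ht)
  have hσz : σ z ∈ insert y (insert u T) := by
    rw [← heq]
    exact Finset.mem_image_of_mem _ (Finset.mem_insert_of_mem (Finset.mem_insert_self _ _))
  rcases Finset.mem_insert.1 hσz with h | h
  · exact absurd (σ.injective (h.trans hx.symm)) (Ne.symm hxz)
  · rcases Finset.mem_insert.1 h with h | h
    · exact h
    · exact absurd (σ.injective (hT _ h).symm ▸ h) hzT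

theorem hex_of_word (k : K6) (s : Finset ArrayPt) (h : ternarySupport (word k) = s)
    (hc : s.card = 6) : s ∈ hexads :=
  ⟨word k, word_mem k, h, hc⟩

theorem hex_6_9_0_1_2_3 : ({q 6, q 9, q 0, q 1, q 2, q 3} : Finset ArrayPt) ∈ hexads :=
  hex_of_word (0, 0, 0, 2, 0, 0) _ (by decide +kernel) (by decide +kernel)

theorem hex_7_11_0_1_2_3 : ({q 7, q 11, q 0, q 1, q 2, q 3} : Finset ArrayPt) ∈ hexads :=
  hex_of_word (0, 2, 0, 0, 0, 2) _ (by decide +kernel) (by decide +kernel)

theorem hex_6_9_0_3_4_5 : ({q 6, q 9, q 0, q 3, q 4, q 5} : Finset ArrayPt) ∈ hexads :=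
  hex_of_word (2, 0, 0, 2, 0, 0) _ (by decide +kernel) (by decide +kernel)

theorem hex_7_10_0_3_4_5 : ({q 7, q 10, q 0, q 3, q 4, q 5} : Finset ArrayPt) ∈ hexads :=
  hex_of_word (2, 2, 0, 0, 2, 0) _ (by decide +kernel) (by decide +kernel)

theorem hex_8_10_0_1_2_3 : ({q 8, q 10, q 0, q 1, q 2, q 3} : Finset ArrayPt) ∈ hexads :=
  hex_of_word (0, 0, 1, 0, 1, 0) _ (by decide +kernel) (by decide +kernel)

theorem hex_8_11_0_3_4_5 : ({q 8, q 11, q 0, q 3, q 4, q 5} : Finset ArrayPt) ∈ hexads :=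
  hex_of_word (2, 0, 1, 0, 0, 1) _ (by decide +kernel) (by decide +kernel)

theorem hex_6_11_0_1_2_4 : ({q 6, q 11, q 0, q 1, q 2, q 4} : Finset ArrayPt) ∈ hexads :=
  hex_of_word (0, 0, 0, 0, 0, 2) _ (by decide +kernel) (by decide +kernel)

theorem hex_9_8_0_1_2_4 : ({q 9, q 8, q 0, q 1, q 2, q 4} : Finset ArrayPt) ∈ hexads :=
  hex_of_word (0, 0, 1, 1, 0, 0) _ (by decide +kernel) (by decide +kernel)

theorem hex_6_11_0_1_3_5 : ({q 6, q 11, q 0, q 1, q 3, q 5} : Finset ArrayPt) ∈ hexads :=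
  hex_of_word (1, 0, 0, 0, 0, 2) _ (by decide +kernel) (by decide +kernel)

theorem hex_9_10_0_1_3_5 : ({q 9, q 10, q 0, q 1, q 3, q 5} : Finset ArrayPt) ∈ hexads :=
  hex_of_word (1, 0, 0, 2, 1, 0) _ (by decide +kernel) (by decide +kernel)

theorem hex_10_8_0_1_2_3 : ({q 10, q 8, q 0, q 1, q 2, q 3} : Finset ArrayPt) ∈ hexads :=
  hex_of_word (0, 0, 1, 0, 1, 0) _ (by decide +kernel) (by decide +kernel)

theorem hex_10_7_0_3_4_5 : ({q 10, q 7, q 0, q 3, q 4, q 5} : Finset ArrayPt) ∈ hexads :=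
  hex_of_word (2, 2, 0, 0, 2, 0) _ (by decide +kernel) (by decide +kernel)

theorem hex_11_7_0_1_2_3 : ({q 11, q 7, q 0, q 1, q 2, q 3} : Finset ArrayPt) ∈ hexads :=
  hex_of_word (0, 2, 0, 0, 0, 2) _ (by decide +kernel) (by decide +kernel)

theorem hex_11_8_0_3_4_5 : ({q 11, q 8, q 0, q 3, q 4, q 5} : Finset ArrayPt) ∈ hexads :=
  hex_of_word (2, 0, 1, 0, 0, 1) _ (by decide +kernel) (by decide +kernel)

theorem hex_7_6_0_1_4_5 : ({q 7, q 6, q 0, q 1, q 4, q 5} : Finset ArrayPt) ∈ hexads :=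
  hex_of_word (2, 1, 0, 0, 0, 0) _ (by decide +kernel) (by decide +kernel)

theorem hex_8_6_0_1_3_4 : ({q 8, q 6, q 0, q 1, q 3, q 4} : Finset ArrayPt) ∈ hexads :=
  hex_of_word (0, 0, 1, 0, 0, 0) _ (by decide +kernel) (by decide +kernel)

theorem hex_9_6_0_1_2_3 : ({q 9, q 6, q 0, q 1, q 2, q 3} : Finset ArrayPt) ∈ hexads :=
  hex_of_word (0, 0, 0, 2, 0, 0) _ (by decide +kernel) (by decide +kernel)

theorem hex_10_6_0_1_2_5 : ({q 10, q 6, q 0, q 1, q 2, q 5} : Finset ArrayPt) ∈ hexads :=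
  hex_of_word (1, 0, 0, 0, 1, 0) _ (by decide +kernel) (by decide +kernel)

theorem hex_11_6_0_1_2_4 : ({q 11, q 6, q 0, q 1, q 2, q 4} : Finset ArrayPt) ∈ hexads :=
  hex_of_word (0, 0, 0, 0, 0, 2) _ (by decide +kernel) (by decide +kernel)

theorem hex_5_0_1_2_3_4 : ({q 5, q 0, q 1, q 2, q 3, q 4} : Finset ArrayPt) ∈ hexads :=
  hex_of_word (2, 0, 0, 0, 0, 0) _ (by decide +kernel) (by decide +kernel)

theorem q6_ne : ∀ m : Fin 12, m.val < 6 → q 6 = q m → False := by decide

theorem ge6_cases : ∀ m : Fin 12, ¬ m.val < 6 →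
    m = 6 ∨ m = 7 ∨ m = 8 ∨ m = 9 ∨ m = 10 ∨ m = 11 := by decide

theorem stab_trivial {σ : Equiv.Perm ArrayPt} (hσ : σ ∈ setSystemAut hexads)
    (h0 : σ (q 0) = q 0) (h1 : σ (q 1) = q 1) (h2 : σ (q 2) = q 2) (h3 : σ (q 3) = q 3)
    (h4 : σ (q 4) = q 4) : σ = 1 := by
  have h5 : σ (q 5) = q 5 := by
    apply sixth_fixed hσ hex_5_0_1_2_3_4 (Finset.mem_insert_self _ _)
    intro t ht hne
    simp only [Finset.mem_insert, Finset.mem_singleton] at ht
    rcases ht with rfl | rfl | rfl | rfl | rfl | rfl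
    · exact absurd rfl hne
    · exact h0
    · exact h1
    · exact h2
    · exact h3
    · exact h4
  have hfix : ∀ n : Fin 12, n.val < 6 → σ (q n) = q n := by
    intro n hn
    have : n = 0 ∨ n = 1 ∨ n = 2 ∨ n = 3 ∨ n = 4 ∨ n = 5 := by
      revert n; decide
    rcases this with rfl | rfl | rfl | rfl | rfl | rfl <;> assumption
  have hfixT : ∀ T : Finset ArrayPt, (∀ t ∈ T, ∃ n : Fin 12, n.val < 6 ∧ t = q n) →
      ∀ t ∈ T, σ t = t := by
    intro T hT t ht
    obtain ⟨n, hn, rfl⟩ := hT t ht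
    exact hfix n hn
  have h6 : σ (q 6) = q 6 := by
    obtain ⟨m, hm⟩ : ∃ m : Fin 12, σ (q 6) = q m := by
      have : ∀ p : ArrayPt, ∃ m : Fin 12, p = q m := by decide
      exact this _
    have hm6 : ¬ m.val < 6 := by
      intro hlt
      have := σ.injective (hm.trans (hfix m hlt).symm)
      exact q6_ne m hlt this
    have : m = 6 ∨ m = 7 ∨ m = 8 ∨ m = 9 ∨ m = 10 ∨ m = 11 := ge6_cases m hm6
    rcases this with rfl | rfl | rfl | rfl | rfl | rfl
    · exact hm
    · exfalso
      have e1 : σ (q 9) = q 11 := sixth_move hσ (by decide) hex_6_9_0_1_2_3 hex_7_11_0_1_2_3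
        (hfixT _ (by decide)) hm
      have e2 : σ (q 9) = q 10 := sixth_move hσ (by decide) hex_6_9_0_3_4_5 hex_7_10_0_3_4_5
        (hfixT _ (by decide)) hm
      exact absurd (e1.symm.trans e2) (by decide)
    · exfalso
      have e1 : σ (q 9) = q 10 := sixth_move hσ (by decide) hex_6_9_0_1_2_3 hex_8_10_0_1_2_3
        (hfixT _ (by decide)) hm
      have e2 : σ (q 9) = q 11 := sixth_move hσ (by decide) hex_6_9_0_3_4_5 hex_8_11_0_3_4_5
        (hfixT _ (by decide)) hm
      exact absurd (e1.symm.trans e2) (by decide)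
    · exfalso
      have e1 : σ (q 11) = q 8 := sixth_move hσ (by decide) hex_6_11_0_1_2_4 hex_9_8_0_1_2_4
        (hfixT _ (by decide)) hm
      have e2 : σ (q 11) = q 10 := sixth_move hσ (by decide) hex_6_11_0_1_3_5 hex_9_10_0_1_3_5
        (hfixT _ (by decide)) hm
      exact absurd (e1.symm.trans e2) (by decide)
    · exfalso
      have e1 : σ (q 9) = q 8 := sixth_move hσ (by decide) hex_6_9_0_1_2_3 hex_10_8_0_1_2_3
        (hfixT _ (by decide)) hm
      have e2 : σ (q 9) = q 7 := sixth_move hσ (by decide) hex_6_9_0_3_4_5 hex_10_7_0_3_4_5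
        (hfixT _ (by decide)) hm
      exact absurd (e1.symm.trans e2) (by decide)
    · exfalso
      have e1 : σ (q 9) = q 7 := sixth_move hσ (by decide) hex_6_9_0_1_2_3 hex_11_7_0_1_2_3
        (hfixT _ (by decide)) hm
      have e2 : σ (q 9) = q 8 := sixth_move hσ (by decide) hex_6_9_0_3_4_5 hex_11_8_0_3_4_5
        (hfixT _ (by decide)) hm
      exact absurd (e1.symm.trans e2) (by decide)
  have hfix' : ∀ n : Fin 12, n.val < 7 → σ (q n) = q n := by
    intro n hn
    by_cases h : n.val < 6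
    · exact hfix n h
    · have : n = 6 := by
        revert n; decide
      rw [this]; exact h6
  have hrest : ∀ b : Finset ArrayPt, b ∈ hexads → ∀ z ∈ b,
      (∀ t ∈ b, t ≠ z → ∃ n : Fin 12, n.val < 7 ∧ t = q n) → σ z = z := by
    intro b hb z hz hall
    apply sixth_fixed hσ hb hz
    intro t ht hne
    obtain ⟨n, hn, rfl⟩ := hall t ht hne
    exact hfix' n hn
  have h7 : σ (q 7) = q 7 :=
    hrest _ hex_7_6_0_1_4_5 _ (Finset.mem_insert_self _ _) (by decide)
  have h8 : σ (q 8) = q 8 :=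
    hrest _ hex_8_6_0_1_3_4 _ (Finset.mem_insert_self _ _) (by decide)
  have h9 : σ (q 9) = q 9 :=
    hrest _ hex_9_6_0_1_2_3 _ (Finset.mem_insert_self _ _) (by decide)
  have h10 : σ (q 10) = q 10 :=
    hrest _ hex_10_6_0_1_2_5 _ (Finset.mem_insert_self _ _) (by decide)
  have h11 : σ (q 11) = q 11 :=
    hrest _ hex_11_6_0_1_2_4 _ (Finset.mem_insert_self _ _) (by decide)
  ext p : 1
  revert p
  rw [forall_arrayPt]
  exact ⟨⟨h0, h1, h2⟩, ⟨h3, h4, h5⟩, ⟨h6, h7, h8⟩, ⟨h9, h10, h11⟩⟩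

end Cfsg.Agent.Helper26.TGolay
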