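import Mathlib
import Cfsg.Prelude.Def_SporadicCombinatorics
import Cfsg.Agent.Lib.Helper26.TernaryGolayStab

/-!
# The monomial group of the ternary code of length 12 is transitive on ordered 5-tuples
-/

set_option autoImplicit false

namespace Cfsg.Agent.Helper26.TGolay

open Cfsg

/-- The number of a position. -/
def idxOf (p : ArrayPt) : Fin 12 :=
  ⟨3 * p.1.val + ZMod.val p.2, by
    have h1 := p.1.isLt
    have h2 : ZMod.val p.2 < 3 := ZMod.val_lt p.2
    omega⟩

theorem q_idxOf : ∀ p : ArrayPt, q (idxOf p) = p := by decide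

theorem idxOf_q : ∀ n : Fin 12, idxOf (q n) = n := by decide

def fwT : Fin 5 → Fin 12 → Fin 12 → Fin 12 :=
  ![![![0, 1, 2, 3, 4, 5, 6, 7, 8, 9, 10, 11],
     ![1, 0, 2, 3, 4, 5, 11, 9, 10, 7, 8, 6],
     ![2, 0, 1, 3, 4, 5, 8, 6, 7, 10, 11, 9],
     ![3, 0, 1, 2, 4, 5, 10, 7, 6, 8, 9, 11],
     ![4, 0, 1, 2, 3, 5, 6, 9, 10, 11, 7, 8],
     ![5, 0, 1, 2, 3, 4, 9, 6, 8, 7, 11, 10],
     ![6, 0, 1, 2, 3, 9, 5, 4, 7, 10, 8, 11],
     ![7, 0, 1, 2, 3, 11, 10, 8, 9, 4, 5, 6],
     ![8, 0, 1, 2, 3, 10, 7, 11, 4, 6, 9, 5],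
     ![9, 0, 1, 2, 3, 6, 4, 5, 11, 8, 10, 7],
     ![10, 0, 1, 2, 3, 8, 11, 7, 5, 9, 6, 4],
     ![11, 0, 1, 2, 3, 7, 8, 10, 6, 5, 4, 9]],
    ![![0, 1, 2, 3, 4, 5, 6, 7, 8, 9, 10, 11],
     ![0, 1, 2, 3, 4, 5, 6, 7, 8, 9, 10, 11],
     ![0, 2, 1, 3, 4, 5, 9, 10, 11, 6, 7, 8],
     ![0, 3, 1, 2, 4, 5, 11, 8, 9, 7, 6, 10],
     ![0, 4, 1, 2, 3, 5, 8, 11, 7, 9, 10, 6],
     ![0, 5, 1, 2, 3, 4, 10, 7, 11, 6, 8, 9],
     ![0, 6, 1, 2, 3, 9, 11, 10, 8, 4, 7, 5],
     ![0, 7, 1, 2, 3, 11, 6, 4, 5, 8, 9, 10],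
     ![0, 8, 1, 2, 3, 10, 5, 6, 9, 11, 4, 7],
     ![0, 9, 1, 2, 3, 6, 7, 8, 10, 5, 11, 4],
     ![0, 10, 1, 2, 3, 8, 4, 9, 6, 7, 5, 11],
     ![0, 11, 1, 2, 3, 7, 9, 5, 4, 10, 6, 8]],
    ![![0, 1, 2, 3, 4, 5, 6, 7, 8, 9, 10, 11],
     ![0, 1, 2, 3, 4, 5, 6, 7, 8, 9, 10, 11],
     ![0, 1, 2, 3, 4, 5, 6, 7, 8, 9, 10, 11],
     ![0, 1, 3, 2, 4, 5, 7, 6, 10, 11, 8, 9],
     ![0, 1, 4, 2, 3, 5, 9, 10, 6, 8, 11, 7],
     ![0, 1, 5, 2, 3, 4, 6, 8, 9, 10, 7, 11],
     ![0, 1, 6, 2, 3, 9, 4, 7, 5, 11, 10, 8],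
     ![0, 1, 7, 2, 3, 11, 8, 9, 10, 6, 4, 5],
     ![0, 1, 8, 2, 3, 10, 11, 4, 7, 5, 6, 9],
     ![0, 1, 9, 2, 3, 6, 5, 11, 4, 7, 8, 10],
     ![0, 1, 10, 2, 3, 8, 7, 5, 11, 4, 9, 6],
     ![0, 1, 11, 2, 3, 7, 10, 6, 8, 9, 5, 4]],
    ![![0, 1, 2, 3, 4, 5, 6, 7, 8, 9, 10, 11],
     ![0, 1, 2, 3, 4, 5, 6, 7, 8, 9, 10, 11],
     ![0, 1, 2, 3, 4, 5, 6, 7, 8, 9, 10, 11],
     ![0, 1, 2, 3, 4, 5, 6, 7, 8, 9, 10, 11],
     ![0, 1, 2, 4, 3, 5, 10, 9, 11, 7, 6, 8],
     ![0, 1, 2, 5, 3, 4, 8, 6, 7, 11, 9, 10],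
     ![0, 1, 2, 6, 3, 9, 7, 4, 10, 8, 5, 11],
     ![0, 1, 2, 7, 3, 11, 9, 8, 4, 5, 10, 6],
     ![0, 1, 2, 8, 3, 10, 4, 11, 6, 9, 7, 5],
     ![0, 1, 2, 9, 3, 6, 11, 5, 8, 10, 4, 7],
     ![0, 1, 2, 10, 3, 8, 5, 7, 9, 6, 11, 4],
     ![0, 1, 2, 11, 3, 7, 6, 10, 5, 4, 8, 9]],
    ![![0, 1, 2, 3, 4, 5, 6, 7, 8, 9, 10, 11],
     ![0, 1, 2, 3, 4, 5, 6, 7, 8, 9, 10, 11],
     ![0, 1, 2, 3, 4, 5, 6, 7, 8, 9, 10, 11],
     ![0, 1, 2, 3, 4, 5, 6, 7, 8, 9, 10, 11],
     ![0, 1, 2, 3, 4, 5, 6, 7, 8, 9, 10, 11],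
     ![0, 1, 2, 3, 5, 4, 9, 11, 10, 6, 8, 7],
     ![0, 1, 2, 3, 6, 9, 5, 8, 11, 4, 7, 10],
     ![0, 1, 2, 3, 7, 11, 10, 5, 6, 8, 9, 4],
     ![0, 1, 2, 3, 8, 10, 7, 9, 5, 11, 4, 6],
     ![0, 1, 2, 3, 9, 6, 4, 10, 7, 5, 11, 8],
     ![0, 1, 2, 3, 10, 8, 11, 6, 4, 7, 5, 9],
     ![0, 1, 2, 3, 11, 7, 8, 4, 9, 10, 6, 5]]]

def bwT : Fin 5 → Fin 12 → Fin 12 → Fin 12 :=
  ![![![0, 1, 2, 3, 4, 5, 6, 7, 8, 9, 10, 11],
     ![1, 0, 2, 3, 4, 5, 11, 9, 10, 7, 8, 6],
     ![1, 2, 0, 3, 4, 5, 7, 8, 6, 11, 9, 10],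
     ![1, 2, 3, 0, 4, 5, 8, 7, 9, 10, 6, 11],
     ![1, 2, 3, 4, 0, 5, 6, 10, 11, 7, 8, 9],
     ![1, 2, 3, 4, 5, 0, 7, 9, 8, 6, 11, 10],
     ![1, 2, 3, 4, 7, 6, 0, 8, 10, 5, 9, 11],
     ![1, 2, 3, 4, 9, 10, 11, 0, 7, 8, 6, 5],
     ![1, 2, 3, 4, 8, 11, 9, 6, 0, 10, 5, 7],
     ![1, 2, 3, 4, 6, 7, 5, 11, 9, 0, 10, 8],
     ![1, 2, 3, 4, 11, 8, 10, 7, 5, 9, 0, 6],
     ![1, 2, 3, 4, 10, 9, 8, 5, 6, 11, 7, 0]],
    ![![0, 1, 2, 3, 4, 5, 6, 7, 8, 9, 10, 11],
     ![0, 1, 2, 3, 4, 5, 6, 7, 8, 9, 10, 11],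
     ![0, 2, 1, 3, 4, 5, 9, 10, 11, 6, 7, 8],
     ![0, 2, 3, 1, 4, 5, 10, 9, 7, 8, 11, 6],
     ![0, 2, 3, 4, 1, 5, 11, 8, 6, 9, 10, 7],
     ![0, 2, 3, 4, 5, 1, 9, 7, 10, 11, 6, 8],
     ![0, 2, 3, 4, 9, 11, 1, 10, 8, 5, 7, 6],
     ![0, 2, 3, 4, 7, 8, 6, 1, 9, 10, 11, 5],
     ![0, 2, 3, 4, 10, 6, 7, 11, 1, 8, 5, 9],
     ![0, 2, 3, 4, 11, 9, 5, 6, 7, 1, 8, 10],
     ![0, 2, 3, 4, 6, 10, 8, 9, 5, 7, 1, 11],
     ![0, 2, 3, 4, 8, 7, 10, 5, 11, 6, 9, 1]],
    ![![0, 1, 2, 3, 4, 5, 6, 7, 8, 9, 10, 11],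
     ![0, 1, 2, 3, 4, 5, 6, 7, 8, 9, 10, 11],
     ![0, 1, 2, 3, 4, 5, 6, 7, 8, 9, 10, 11],
     ![0, 1, 3, 2, 4, 5, 7, 6, 10, 11, 8, 9],
     ![0, 1, 3, 4, 2, 5, 8, 11, 9, 6, 7, 10],
     ![0, 1, 3, 4, 5, 2, 6, 10, 7, 8, 9, 11],
     ![0, 1, 3, 4, 6, 8, 2, 7, 11, 5, 10, 9],
     ![0, 1, 3, 4, 10, 11, 9, 2, 6, 7, 8, 5],
     ![0, 1, 3, 4, 7, 9, 10, 8, 2, 11, 5, 6],
     ![0, 1, 3, 4, 8, 6, 5, 9, 10, 2, 11, 7],
     ![0, 1, 3, 4, 9, 7, 11, 6, 5, 10, 2, 8],
     ![0, 1, 3, 4, 11, 10, 7, 5, 8, 9, 6, 2]],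
    ![![0, 1, 2, 3, 4, 5, 6, 7, 8, 9, 10, 11],
     ![0, 1, 2, 3, 4, 5, 6, 7, 8, 9, 10, 11],
     ![0, 1, 2, 3, 4, 5, 6, 7, 8, 9, 10, 11],
     ![0, 1, 2, 3, 4, 5, 6, 7, 8, 9, 10, 11],
     ![0, 1, 2, 4, 3, 5, 10, 9, 11, 7, 6, 8],
     ![0, 1, 2, 4, 5, 3, 7, 8, 6, 10, 11, 9],
     ![0, 1, 2, 4, 7, 10, 3, 6, 9, 5, 8, 11],
     ![0, 1, 2, 4, 8, 9, 11, 3, 7, 6, 10, 5],
     ![0, 1, 2, 4, 6, 11, 8, 10, 3, 9, 5, 7],
     ![0, 1, 2, 4, 10, 7, 5, 11, 8, 3, 9, 6],
     ![0, 1, 2, 4, 11, 6, 9, 7, 5, 8, 3, 10],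
     ![0, 1, 2, 4, 9, 8, 6, 5, 10, 11, 7, 3]],
    ![![0, 1, 2, 3, 4, 5, 6, 7, 8, 9, 10, 11],
     ![0, 1, 2, 3, 4, 5, 6, 7, 8, 9, 10, 11],
     ![0, 1, 2, 3, 4, 5, 6, 7, 8, 9, 10, 11],
     ![0, 1, 2, 3, 4, 5, 6, 7, 8, 9, 10, 11],
     ![0, 1, 2, 3, 4, 5, 6, 7, 8, 9, 10, 11],
     ![0, 1, 2, 3, 5, 4, 9, 11, 10, 6, 8, 7],
     ![0, 1, 2, 3, 9, 6, 4, 10, 7, 5, 11, 8],
     ![0, 1, 2, 3, 11, 7, 8, 4, 9, 10, 6, 5],
     ![0, 1, 2, 3, 10, 8, 11, 6, 4, 7, 5, 9],
     ![0, 1, 2, 3, 6, 9, 5, 8, 11, 4, 7, 10],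
     ![0, 1, 2, 3, 8, 10, 7, 9, 5, 11, 4, 6],
     ![0, 1, 2, 3, 7, 11, 10, 5, 6, 8, 9, 4]]]

def sgT : Fin 5 → Fin 12 → Fin 12 → Bool :=
  ![![![false, false, false, false, false, false, false, false, false, false, false, false],
     ![false, false, false, false, false, false, false, false, false, false, false, false],
     ![false, false, false, false, false, false, false, false, false, false, false, false],
     ![true, true, false, false, true, true, false, false, true, false, true, false],
     ![false, false, true, false, true, false, false, true, true, true, true, false],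
     ![true, true, false, true, true, false, false, true, false, true, false, false],
     ![true, false, true, true, false, true, false, false, false, true, true, false],
     ![true, false, false, false, false, true, true, true, true, true, false, false],
     ![false, false, false, true, false, false, true, true, false, false, true, false],
     ![true, false, true, true, true, false, true, false, true, false, false, false],
     ![true, true, true, false, true, true, true, true, false, false, true, false],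
     ![false, true, true, true, false, true, false, true, true, false, false, false]],
    ![![false, false, false, false, false, false, false, false, false, false, false, false],
     ![false, false, false, false, false, false, false, false, false, false, false, false],
     ![false, false, false, false, false, false, false, false, false, false, false, false],
     ![true, true, false, false, true, true, false, false, true, false, true, false],
     ![false, false, true, false, true, false, false, true, true, true, true, false],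
     ![true, true, false, true, true, false, false, true, false, true, false, false],
     ![true, false, true, true, false, true, false, false, false, true, true, false],
     ![true, false, false, false, false, true, true, true, true, true, false, false],
     ![false, false, false, true, false, false, true, true, false, false, true, false],
     ![true, false, true, true, true, false, true, false, true, false, false, false],
     ![true, true, true, false, true, true, true, true, false, false, true, false],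
     ![false, true, true, true, false, true, false, true, true, false, false, false]],
    ![![false, false, false, false, false, false, false, false, false, false, false, false],
     ![false, false, false, false, false, false, false, false, false, false, false, false],
     ![false, false, false, false, false, false, false, false, false, false, false, false],
     ![true, true, false, false, true, true, false, false, true, false, true, false],
     ![false, false, true, false, true, false, false, true, true, true, true, false],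
     ![true, true, false, true, true, false, false, true, false, true, false, false],
     ![true, false, true, true, false, true, false, false, false, true, true, false],
     ![true, false, false, false, false, true, true, true, true, true, false, false],
     ![false, false, false, true, false, false, true, true, false, false, true, false],
     ![true, false, true, true, true, false, true, false, true, false, false, false],
     ![true, true, true, false, true, true, true, true, false, false, true, false],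
     ![false, true, true, true, false, true, false, true, true, false, false, false]],
    ![![false, false, false, false, false, false, false, false, false, false, false, false],
     ![false, false, false, false, false, false, false, false, false, false, false, false],
     ![false, false, false, false, false, false, false, false, false, false, false, false],
     ![false, false, false, false, false, false, false, false, false, false, false, false],
     ![false, false, false, false, false, false, false, false, false, false, false, false],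
     ![false, false, false, false, false, false, false, false, false, false, false, false],
     ![false, true, true, false, false, false, false, false, false, false, false, false],
     ![true, false, true, false, false, false, false, false, false, false, false, false],
     ![true, true, false, false, false, false, false, false, false, false, false, false],
     ![false, true, true, false, false, false, false, false, false, false, false, false],
     ![true, true, false, false, false, false, false, false, false, false, false, false],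
     ![true, false, true, false, false, false, false, false, false, false, false, false]],
    ![![false, false, false, false, false, false, false, false, false, false, false, false],
     ![false, false, false, false, false, false, false, false, false, false, false, false],
     ![false, false, false, false, false, false, false, false, false, false, false, false],
     ![false, false, false, false, false, false, false, false, false, false, false, false],
     ![false, false, false, false, false, false, false, false, false, false, false, false],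
     ![false, false, false, false, false, false, false, false, false, false, false, false],
     ![false, true, true, false, false, false, false, false, false, false, false, false],
     ![true, false, true, false, false, false, false, false, false, false, false, false],
     ![true, true, false, false, false, false, false, false, false, false, false, false],
     ![false, true, true, false, false, false, false, false, false, false, false, false],
     ![true, true, false, false, false, false, false, false, false, false, false, false],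
     ![true, false, true, false, false, false, false, false, false, false, false, false]]]

theorem bw_fw : ∀ (l : Fin 5) (t n : Fin 12), bwT l t (fwT l t n) = n := by decide +kernel

theorem fw_bw : ∀ (l : Fin 5) (t n : Fin 12), fwT l t (bwT l t n) = n := by decide +kernel

/-- The transversal permutations. -/
def trPerm (l : Fin 5) (t : Fin 12) : Equiv.Perm ArrayPt where
  toFun p := q (fwT l t (idxOf p))
  invFun p := q (bwT l t (idxOf p))
  left_inv p := by
    show q (bwT l t (idxOf (q (fwT l t (idxOf p))))) = p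
    rw [idxOf_q, bw_fw, q_idxOf]
  right_inv p := by
    show q (fwT l t (idxOf (q (bwT l t (idxOf p))))) = p
    rw [idxOf_q, fw_bw, q_idxOf]

/-- The transversal signs. -/
def trSign (l : Fin 5) (t : Fin 12) : ArrayPt → (ZMod 3)ˣ :=
  fun p => if sgT l t (idxOf p) then -1 else 1

theorem word_decomp : ∀ k : K6, word k = k.1 • word (unitK 0) + k.2.1 • word (unitK 1) +
    k.2.2.1 • word (unitK 2) + k.2.2.2.1 • word (unitK 3) + k.2.2.2.2.1 • word (unitK 4) +
    k.2.2.2.2.2 • word (unitK 5) := by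
  decide +kernel

theorem pres_of_gens {σ : Equiv.Perm ArrayPt} {c : ArrayPt → (ZMod 3)ˣ}
    (h : ∀ j : Fin 6, monomialMap σ c (word (unitK j)) ∈ ternaryGolayCode) : Pres σ c := by
  intro x hx
  obtain ⟨k, rfl⟩ := mem_iff.1 hx
  rw [word_decomp k]
  simp only [mono_add, mono_smul]
  exact Submodule.add_mem _ (Submodule.add_mem _ (Submodule.add_mem _ (Submodule.add_mem _
    (Submodule.add_mem _ (Submodule.smul_mem _ _ (h 0)) (Submodule.smul_mem _ _ (h 1)))
    (Submodule.smul_mem _ _ (h 2))) (Submodule.smul_mem _ _ (h 3)))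
    (Submodule.smul_mem _ _ (h 4))) (Submodule.smul_mem _ _ (h 5))

theorem tr_check : ∀ (l : Fin 5) (t : Fin 12) (j : Fin 6),
    monomialMap (trPerm l t) (trSign l t) (word (unitK j)) =
      word (infoK (monomialMap (trPerm l t) (trSign l t) (word (unitK j)))) := by
  decide +kernel

theorem tr_pres (l : Fin 5) (t : Fin 12) : Pres (trPerm l t) (trSign l t) :=
  pres_of_gens fun j => by
    rw [tr_check l t j]
    exact word_mem _

/-- The base points. -/
def qb (i : Fin 5) : ArrayPt := q (Fin.castLE (by decide) i)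

theorem tr_action : ∀ (l : Fin 5) (t : Fin 12), (∀ i : Fin 5, i < l → q t ≠ qb i) →
    (∀ i : Fin 5, i < l → trPerm l t (qb i) = qb i) ∧ trPerm l t (qb l) = q t := by
  decide +kernel

theorem trPerm_mem (l : Fin 5) (t : Fin 12) : trPerm l t ∈ monoPerms :=
  mem_monoPerms.2 ⟨_, tr_pres l t⟩

theorem trans_aux (e : Fin 5 ↪ ArrayPt) (l : ℕ) (hl : l ≤ 5) :
    ∃ σ ∈ monoPerms, ∀ i : Fin 5, i.val < l → σ (qb i) = e i := by
  induction l with
  | zero => exact ⟨1, monoPerms.one_mem, fun i hi => absurd hi (Nat.not_lt_zero _)⟩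
  | succ l ih =>
    obtain ⟨σ, hσ, hfix⟩ := ih (by omega)
    have hl5 : l < 5 := by omega
    have hcond : ∀ i : Fin 5, i < (⟨l, hl5⟩ : Fin 5) →
        q (idxOf (σ⁻¹ (e ⟨l, hl5⟩))) ≠ qb i := by
      intro i hi hcon
      rw [q_idxOf] at hcon
      have h1 : σ (qb i) = e ⟨l, hl5⟩ := by
        rw [← hcon]
        exact σ.apply_symm_apply _
      rw [hfix i hi] at h1
      have := e.injective h1
      rw [this] at hi
      exact lt_irrefl _ hi
    obtain ⟨hu1, hu2⟩ := tr_action ⟨l, hl5⟩ (idxOf (σ⁻¹ (e ⟨l, hl5⟩))) hcond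
    refine ⟨σ * trPerm ⟨l, hl5⟩ (idxOf (σ⁻¹ (e ⟨l, hl5⟩))), monoPerms.mul_mem hσ (trPerm_mem _ _),
      ?_⟩
    intro i hi
    rw [Equiv.Perm.mul_apply]
    by_cases hil : i.val < l
    · rw [hu1 i hil, hfix i hil]
    · have : i = ⟨l, hl5⟩ := Fin.ext (show i.val = l by omega)
      rw [this, hu2, q_idxOf]
      exact σ.apply_symm_apply _

theorem monoPerms_transitive (e : Fin 5 ↪ ArrayPt) :
    ∃ σ ∈ monoPerms, ∀ i : Fin 5, σ (qb i) = e i := by
  obtain ⟨σ, hσ, h⟩ := trans_aux e 5 le_rfl
  exact ⟨σ, hσ, fun i => h i i.isLt⟩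

end Cfsg.Agent.Helper26.TGolay
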