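import Mathlib
import Cfsg.Agent.Lib.Helper9.TitsMat
import Cfsg.Agent.Lib.Helper26.TitsTTData

/-!
# Identities in the matrix model of the Tits group, checked by evaluation
-/

set_option autoImplicit false
set_option maxRecDepth 1000000

namespace Cfsg.Agent.Helper26.TitsTT

open Cfsg.Agent.Helper9.TitsBM Cfsg.Agent.Helper9.TitsMat

/-- Words in the generators. -/
abbrev Wd : Type := List (Fin 4 × Bool)

/-- Powers of a word. -/
def pw (L : Wd) : ℕ → Wd
  | 0 => []
  | k + 1 => L ++ pw L k

/-- Decoding of the letters. -/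
def dc (l : List ℕ) : Wd :=
  l.map fun d => if d = 0 then ((0 : Fin 4), true) else
    if d = 1 then ((1 : Fin 4), true) else
    if d = 2 then ((1 : Fin 4), false) else
    if d = 3 then ((2 : Fin 4), true) else
    if d = 4 then ((2 : Fin 4), false) else ((3 : Fin 4), true)

/-- The conjugate of a word by a word. -/
def cj (R L : Wd) : Wd := R ++ L ++ FreeGroup.invRev R

/-- Powers of a matrix. -/
def mpow (M : BM) : ℕ → BM
  | 0 => one
  | k + 1 => mul M (mpow M k)

/-- the generator of order three -/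
def LB : Wd := dc [1]
/-- first generator of the group of order 27 -/
def LU : Wd := cj (dc RU) LB
/-- second generator of the group of order 27 -/
def LV : Wd := cj (dc RV) LB
/-- first generator of the group of order 25 -/
def LX : Wd := dc WX
/-- second generator of the group of order 25 -/
def LY : Wd := cj (dc RY) LX
/-- the element of order 13 -/
def LG : Wd := dc [3]
/-- the element of order 3 normalizing it -/
def LZ : Wd := cj (dc RZ) LB

/-- entries of the first table of words -/
def T3 (i j k : ℕ) : Wd := dc (TAB3.getD (9 * i + 3 * j + k) [])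
/-- entries of the second table of words -/
def T5 (i j : ℕ) : Wd := dc (TAB5.getD (5 * i + j) [])
/-- entries of the first table of matrices -/
def N3 (i j k : ℕ) : BM := MT3.getD (9 * i + 3 * j + k) []
/-- entries of the second table of matrices -/
def N5 (i j : ℕ) : BM := MT5.getD (5 * i + j) []

theorem ev_X : FT.ev LX = MX := by decide +kernel
theorem ev_Y : FT.ev LY = MY := by decide +kernel
theorem ev_U : FT.ev LU = MU := by decide +kernel
theorem ev_V : FT.ev LV = MV := by decide +kernel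
theorem ev_W : FT.ev LB = MW := by decide +kernel

theorem ev_T5_0 : ∀ j < 5, FT.ev (T5 0 j) = N5 0 j := by decide +kernel
theorem ev_T5_1 : ∀ j < 5, FT.ev (T5 1 j) = N5 1 j := by decide +kernel
theorem ev_T5_2 : ∀ j < 5, FT.ev (T5 2 j) = N5 2 j := by decide +kernel
theorem ev_T5_3 : ∀ j < 5, FT.ev (T5 3 j) = N5 3 j := by decide +kernel
theorem ev_T5_4 : ∀ j < 5, FT.ev (T5 4 j) = N5 4 j := by decide +kernel

theorem ev_T5 (i : ℕ) (hi : i < 5) (j : ℕ) (hj : j < 5) : FT.ev (T5 i j) = N5 i j := by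
  interval_cases i
  · exact ev_T5_0 j hj
  · exact ev_T5_1 j hj
  · exact ev_T5_2 j hj
  · exact ev_T5_3 j hj
  · exact ev_T5_4 j hj

theorem ev_T3_0 : ∀ j < 3, ∀ k < 3, FT.ev (T3 0 j k) = N3 0 j k := by decide +kernel
theorem ev_T3_1 : ∀ j < 3, ∀ k < 3, FT.ev (T3 1 j k) = N3 1 j k := by decide +kernel
theorem ev_T3_2 : ∀ j < 3, ∀ k < 3, FT.ev (T3 2 j k) = N3 2 j k := by decide +kernel

theorem ev_T3 (i : ℕ) (hi : i < 3) (j : ℕ) (hj : j < 3) (k : ℕ) (hk : k < 3) :
    FT.ev (T3 i j k) = N3 i j k := by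
  interval_cases i
  · exact ev_T3_0 j hj k hk
  · exact ev_T3_1 j hj k hk
  · exact ev_T3_2 j hj k hk

theorem chk_x5 : mpow MX 5 = one := by decide +kernel
theorem chk_y5 : mpow MY 5 = one := by decide +kernel
theorem chk_x1 : neqB MX one = true := by decide +kernel
theorem chk_xy : mul MX MY = mul MY MX := by decide +kernel

theorem chk_A : ∀ i < 5, ∀ j < 5, (i ≠ 0 ∨ j ≠ 0) →
    mul (mul (mpow MX i) (mpow MY j)) (N5 i j) = mul (N5 i j) MX := by decide +kernel

theorem chk_u3 : mpow MU 3 = one := by decide +kernel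
theorem chk_v3 : mpow MV 3 = one := by decide +kernel
theorem chk_w3 : mpow MW 3 = one := by decide +kernel
theorem chk_w1 : neqB MW one = true := by decide +kernel
theorem chk_wu : mul MW MU = mul MU MW := by decide +kernel
theorem chk_wv : mul MW MV = mul MV MW := by decide +kernel
theorem chk_vu : mul MV MU = mul (mul MU MV) MW := by decide +kernel

theorem chk_C0 : ∀ j < 3, ∀ k < 3, (j ≠ 0 ∨ k ≠ 0) →
    mul (mul (mul (mpow MU 0) (mpow MV j)) (mpow MW k)) (N3 0 j k) = mul (N3 0 j k) MW := by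
  decide +kernel

theorem chk_C1 : ∀ j < 3, ∀ k < 3,
    mul (mul (mul (mpow MU 1) (mpow MV j)) (mpow MW k)) (N3 1 j k) = mul (N3 1 j k) MW := by
  decide +kernel

theorem chk_C2 : ∀ j < 3, ∀ k < 3,
    mul (mul (mul (mpow MU 2) (mpow MV j)) (mpow MW k)) (N3 2 j k) = mul (N3 2 j k) MW := by
  decide +kernel

theorem chk_C (i : ℕ) (hi : i < 3) (j : ℕ) (hj : j < 3) (k : ℕ) (hk : k < 3)
    (h : i ≠ 0 ∨ j ≠ 0 ∨ k ≠ 0) :
    mul (mul (mul (mpow MU i) (mpow MV j)) (mpow MW k)) (N3 i j k) = mul (N3 i j k) MW := by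
  interval_cases i
  · exact chk_C0 j hj k hk (h.resolve_left (fun h' => h' rfl))
  · exact chk_C1 j hj k hk
  · exact chk_C2 j hj k hk

theorem chk_g13 : FT.ev (pw LG 13) = FT.ev [] := by decide +kernel
theorem chk_g1 : neqB (FT.ev LG) (FT.ev []) = true := by decide +kernel
theorem chk_z3 : FT.ev (pw LZ 3) = FT.ev [] := by decide +kernel
theorem chk_z1 : neqB (FT.ev LZ) (FT.ev []) = true := by decide +kernel
theorem chk_zg : FT.ev (cj LZ LG) = FT.ev (pw LG KZ) := by decide +kernel

end Cfsg.Agent.Helper26.TitsTT
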