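import Mathlib
import Cfsg.Agent.Lib.Helper9.TitsDerived
import Cfsg.Agent.Lib.Helper26.TitsTTChk

/-!
# Elements of the Tits group given by words, and the fusion of its elements of orders 3 and 5
-/

set_option autoImplicit false
set_option maxRecDepth 1000000

namespace Cfsg.Agent.Helper26.TitsTT

open Cfsg Cfsg.Lie Cfsg.Agent.Helper9.TitsBM Cfsg.Agent.Helper9.TitsMat
  Cfsg.Agent.Helper9.TitsSimple Cfsg.Agent.Helper9.TitsDerived Cfsg.Agent.Helper9.TC2

/-- The homomorphism from the presented group onto the Tits group. -/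
noncomputable def toTits : PT →* Cfsg.Lie.TitsGroup :=
  theta.codRestrict (commutator G2) (fun p => by
    rw [commutator_eq]
    exact ⟨p, rfl⟩)

/-- The element of the Tits group given by a word. -/
noncomputable def el (L : Wd) : Cfsg.Lie.TitsGroup :=
  toTits (PresentedGroup.mk _ (FreeGroup.mk L))

theorem el_val (L : Wd) :
    (((el L : Cfsg.Lie.TitsGroup) : G2) : GL Idx (ZMod 2)).val = toMat (FT.ev L) := by
  rw [← Fam.lift_mk]
  rfl

theorem el_eq {L₁ L₂ : Wd} (h : FT.ev L₁ = FT.ev L₂) : el L₁ = el L₂ := by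
  apply Subtype.ext
  apply Subtype.ext
  apply Units.ext
  rw [el_val, el_val, h]

theorem el_ne {L₁ L₂ : Wd} (h : neqB (FT.ev L₁) (FT.ev L₂) = true) : el L₁ ≠ el L₂ := by
  intro e
  apply toMat_ne_of_neqB _ _ h
  rw [← el_val, ← el_val, e]

theorem el_append (L₁ L₂ : Wd) : el (L₁ ++ L₂) = el L₁ * el L₂ := by
  unfold el
  rw [← map_mul, ← map_mul]
  rfl

theorem el_nil : el [] = 1 := by
  unfold el
  have : (FreeGroup.mk [] : FreeGroup (Fin 4)) = 1 := rfl
  rw [this, map_one, map_one]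

theorem el_inv (L : Wd) : el (FreeGroup.invRev L) = (el L)⁻¹ := by
  unfold el
  rw [← map_inv, ← map_inv]
  rfl

theorem el_pw (L : Wd) (k : ℕ) : el (pw L k) = el L ^ k := by
  induction k with
  | zero => rw [pw, el_nil, pow_zero]
  | succ k ih => rw [pw, el_append, ih, pow_succ']

theorem el_cj (R L : Wd) : el (cj R L) = el R * el L * (el R)⁻¹ := by
  unfold cj
  rw [el_append, el_append, el_inv]

/-- The element `g` of the Tits group is given by the matrix `M`. -/
def HasMat (g : Cfsg.Lie.TitsGroup) (M : BM) : Prop :=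
  (((g : Cfsg.Lie.TitsGroup) : G2) : GL Idx (ZMod 2)).val = toMat M ∧ M.length = 52

theorem hasMat_el (L : Wd) : HasMat (el L) (FT.ev L) := ⟨el_val L, FT.length_ev L⟩

theorem hasMat_one : HasMat 1 one := by
  refine ⟨?_, length_one⟩
  rw [toMat_one]
  rfl

theorem HasMat.mul {g h : Cfsg.Lie.TitsGroup} {M N : BM} (hg : HasMat g M) (hh : HasMat h N) :
    HasMat (g * h) (mul M N) := by
  refine ⟨?_, by rw [length_mul, hh.2]⟩
  rw [toMat_mul _ _ hg.2, ← hg.1, ← hh.1]
  rfl

theorem HasMat.pow {g : Cfsg.Lie.TitsGroup} {M : BM} (hg : HasMat g M) (k : ℕ) :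
    HasMat (g ^ k) (mpow M k) := by
  induction k with
  | zero =>
    rw [pow_zero]
    exact hasMat_one
  | succ k ih =>
    rw [pow_succ']
    exact hg.mul ih

theorem HasMat.congr {g : Cfsg.Lie.TitsGroup} {M N : BM} (hg : HasMat g M) (e : M = N) :
    HasMat g N := e ▸ hg

theorem HasMat.eq {g h : Cfsg.Lie.TitsGroup} {M : BM} (hg : HasMat g M) (hh : HasMat h M) :
    g = h :=
  Subtype.ext (Subtype.ext (Units.ext (hg.1.trans hh.1.symm)))

theorem HasMat.ne {g h : Cfsg.Lie.TitsGroup} {M N : BM} (hg : HasMat g M) (hh : HasMat h N)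
    (hne : neqB M N = true) : g ≠ h := by
  intro e
  apply toMat_ne_of_neqB _ _ hne
  rw [← hg.1, ← hh.1, e]

end Cfsg.Agent.Helper26.TitsTT
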