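import Mathlib

/-!
# Counting fixed points: tools for excluding doubly transitive actions
-/

set_option autoImplicit false

namespace Cfsg.Agent.Helper26.TT

open MulAction

section Basic

variable {G : Type*} [Group G] (Ω : Type*) [MulAction G Ω] [Fintype Ω]

/-- The number of fixed points of an element. -/
noncomputable def fx (g : G) : ℕ := Nat.card (fixedBy Ω g)

theorem fx_conj (t g : G) : fx Ω (t * g * t⁻¹) = fx Ω g := by
  unfold fx
  apply Nat.card_congr
  refine
    { toFun := fun ω => ⟨t⁻¹ • ω.1, ?_⟩
      invFun := fun ω => ⟨t • ω.1, ?_⟩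
      left_inv := ?_
      right_inv := ?_ }
  · have h := ω.2
    rw [mem_fixedBy] at h ⊢
    have h2 : g • t⁻¹ • ω.1 = t⁻¹ • (t * g * t⁻¹) • ω.1 := by
      simp only [← mul_smul]
      congr 1
      group
    rw [h2, h]
  · have h := ω.2
    rw [mem_fixedBy] at h ⊢
    have h2 : (t * g * t⁻¹) • t • ω.1 = t • g • ω.1 := by
      simp only [← mul_smul]
      congr 1
      group
    rw [h2, h]
  · intro ω
    apply Subtype.ext
    simp
  · intro ω
    apply Subtype.ext
    simp

theorem fx_eq_card_filter [DecidableEq Ω] (g : G) :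
    fx Ω g = (Finset.univ.filter (fun ω : Ω => g • ω = ω)).card := by
  unfold fx
  rw [Nat.card_eq_fintype_card, ← Fintype.card_subtype]
  rfl

theorem fx_one : fx Ω (1 : G) = Fintype.card Ω := by
  classical
  rw [fx_eq_card_filter]
  have : Finset.univ.filter (fun ω : Ω => (1 : G) • ω = ω) = Finset.univ := by
    ext ω
    simp
  rw [this]
  rfl

theorem fx_le (g : G) : fx Ω g ≤ Fintype.card Ω := by
  classical
  rw [fx_eq_card_filter]
  exact Finset.card_le_univ _

theorem eq_one_of_fx_eq_card [FaithfulSMul G Ω] (g : G) (h : fx Ω g = Fintype.card Ω) : g = 1 := by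
  classical
  rw [fx_eq_card_filter] at h
  have h2 : Finset.univ.filter (fun ω : Ω => g • ω = ω) = Finset.univ := by
    apply Finset.eq_univ_of_card
    exact h
  apply FaithfulSMul.eq_of_smul_eq_smul (α := Ω)
  intro ω
  have : ω ∈ Finset.univ.filter (fun ω : Ω => g • ω = ω) := by
    rw [h2]
    exact Finset.mem_univ _
  rw [Finset.mem_filter] at this
  rw [this.2, one_smul]

variable {A : Type*} [Group A] [Fintype A]

/-- Burnside's lemma, for a group acting through a homomorphism. -/
theorem burnside_dvd (φ : A →* G) : Fintype.card A ∣ ∑ a : A, fx Ω (φ a) := by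
  classical
  let _ : MulAction A Ω := MulAction.compHom Ω φ
  have h := MulAction.sum_card_fixedBy_eq_card_orbits_mul_card_group A Ω
  have e : ∀ a : A, Fintype.card (fixedBy Ω a) = fx Ω (φ a) := by
    intro a
    unfold fx
    rw [Nat.card_eq_fintype_card]
    rfl
  simp only [e] at h
  rw [h]
  exact Dvd.intro_left _ rfl

/-- The fixed points counted by the points. -/
theorem sum_fx_eq (φ : A →* G) :
    ∑ a : A, fx Ω (φ a) = ∑ ω : Ω, Nat.card {a : A // φ a • ω = ω} := by
  classical
  have h1 : ∀ a : A, fx Ω (φ a) = ∑ ω : Ω, if φ a • ω = ω then 1 else 0 := by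
    intro a
    rw [fx_eq_card_filter, Finset.card_filter]
  have h2 : ∀ ω : Ω, Nat.card {a : A // φ a • ω = ω} = ∑ a : A, if φ a • ω = ω then 1 else 0 := by
    intro ω
    rw [Nat.card_eq_fintype_card, Fintype.card_subtype, Finset.card_filter]
  simp only [h1, h2]
  exact Finset.sum_comm

/-- The stabilizer of a point in a group of order the square of a prime. -/
theorem stab_card_le (φ : A →* G) (ω : Ω) {p : ℕ} (hp : p.Prime) (hA : Fintype.card A = p ^ 2) :
    (∀ a : A, φ a • ω = ω) ∨ Nat.card {a : A // φ a • ω = ω} ≤ p := by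
  classical
  let S : Subgroup A := (stabilizer G ω).comap φ
  have hS : Nat.card S = Nat.card {a : A // φ a • ω = ω} := rfl
  have hdvd : Nat.card S ∣ p ^ 2 := by
    rw [← hA, ← Nat.card_eq_fintype_card]
    exact Subgroup.card_subgroup_dvd_card S
  obtain ⟨k, hk, hk2⟩ := (Nat.dvd_prime_pow hp).1 hdvd
  by_cases h2 : k = 2
  · left
    have htop : S = ⊤ := by
      apply Subgroup.eq_top_of_card_eq
      rw [hk2, h2, Nat.card_eq_fintype_card, hA]
    intro a
    have : a ∈ S := by rw [htop]; exact Subgroup.mem_top a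
    exact this
  · right
    rw [← hS, hk2]
    have hk1 : k ≤ 1 := by omega
    calc p ^ k ≤ p ^ 1 := Nat.pow_le_pow_right hp.pos hk1
      _ = p := pow_one p

end Basic

end Cfsg.Agent.Helper26.TT
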