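import Mathlib
import Cfsg.Agent.Lib.Helper26.TwoTransA

/-!
# Counting fixed points: the group of order twenty-seven, abelian groups of order twenty-five
-/

set_option autoImplicit false

namespace Cfsg.Agent.Helper26.TT

open MulAction

/-- The group of exponent three and order twenty-seven. -/
@[ext] structure H27 where
  /-- first coordinate -/
  a : ZMod 3
  /-- second coordinate -/
  b : ZMod 3
  /-- central coordinate -/
  c : ZMod 3
deriving DecidableEq, Fintype

namespace H27

instance : Mul H27 := ⟨fun x y => ⟨x.a + y.a, x.b + y.b, x.c + y.c + y.a * x.b⟩⟩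
instance : One H27 := ⟨⟨0, 0, 0⟩⟩
instance : Inv H27 := ⟨fun x => ⟨-x.a, -x.b, -x.c + x.a * x.b⟩⟩

@[simp] theorem mul_a (x y : H27) : (x * y).a = x.a + y.a := rfl
@[simp] theorem mul_b (x y : H27) : (x * y).b = x.b + y.b := rfl
@[simp] theorem mul_c (x y : H27) : (x * y).c = x.c + y.c + y.a * x.b := rfl
@[simp] theorem one_a : (1 : H27).a = 0 := rfl
@[simp] theorem one_b : (1 : H27).b = 0 := rfl
@[simp] theorem one_c : (1 : H27).c = 0 := rfl
@[simp] theorem inv_a (x : H27) : (x⁻¹).a = -x.a := rfl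
@[simp] theorem inv_b (x : H27) : (x⁻¹).b = -x.b := rfl
@[simp] theorem inv_c (x : H27) : (x⁻¹).c = -x.c + x.a * x.b := rfl

instance : Group H27 where
  mul_assoc x y z := by
    ext
    · simp only [mul_a]; ring
    · simp only [mul_b]; ring
    · simp only [mul_c, mul_a, mul_b]; ring
  one_mul x := by
    ext
    · simp
    · simp
    · simp
  mul_one x := by
    ext
    · simp
    · simp
    · simp
  inv_mul_cancel x := by
    ext
    · simp
    · simp
    · simp only [mul_c, inv_c, inv_b, one_c]; ring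

set_option maxHeartbeats 400000 in
theorem card_eq : Fintype.card H27 = 27 := by decide

end H27

section Heis

variable {G : Type*} [Group G] (u v w : G)

theorem heis_one {u v w : G} (hwu : w * u = u * w) (hvu : v * u = u * v * w) (k : ℕ) :
    v * u ^ k = u ^ k * v * w ^ k := by
  induction k with
  | zero => simp
  | succ k ih =>
    have hc : Commute w u := hwu
    calc v * u ^ (k + 1) = (v * u ^ k) * u := by rw [pow_succ, mul_assoc]
      _ = u ^ k * v * w ^ k * u := by rw [ih]
      _ = u ^ k * (v * u) * w ^ k := by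
        rw [mul_assoc (u ^ k * v), (hc.pow_left k).eq, ← mul_assoc, mul_assoc (u ^ k) v u]
      _ = u ^ k * (u * v * w) * w ^ k := by rw [hvu]
      _ = u ^ (k + 1) * v * w ^ (k + 1) := by
        rw [pow_succ, pow_succ' w k]
        simp only [mul_assoc]

theorem heis_two {u v w : G} (hwu : w * u = u * w) (hwv : w * v = v * w)
    (hvu : v * u = u * v * w) (m k : ℕ) :
    v ^ m * u ^ k = u ^ k * v ^ m * w ^ (k * m) := by
  induction m with
  | zero => simp
  | succ m ih =>
    have hcv : Commute w v := hwv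
    calc v ^ (m + 1) * u ^ k = v ^ m * (v * u ^ k) := by rw [pow_succ, mul_assoc]
      _ = v ^ m * (u ^ k * v * w ^ k) := by rw [heis_one hwu hvu]
      _ = (v ^ m * u ^ k) * v * w ^ k := by simp only [mul_assoc]
      _ = u ^ k * v ^ m * w ^ (k * m) * v * w ^ k := by rw [ih]
      _ = u ^ k * v ^ m * (w ^ (k * m) * v) * w ^ k := by simp only [mul_assoc]
      _ = u ^ k * v ^ m * (v * w ^ (k * m)) * w ^ k := by rw [(hcv.pow_left (k * m)).eq]
      _ = u ^ k * v ^ (m + 1) * w ^ (k * (m + 1)) := by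
        rw [pow_succ v m, Nat.mul_succ, pow_add]
        simp only [mul_assoc]

theorem heis_mul {u v w : G} (hwu : w * u = u * w) (hwv : w * v = v * w)
    (hvu : v * u = u * v * w) (a b c a' b' c' : ℕ) :
    u ^ a * v ^ b * w ^ c * (u ^ a' * v ^ b' * w ^ c') =
      u ^ (a + a') * v ^ (b + b') * w ^ (c + c' + a' * b) := by
  have hcu : Commute w u := hwu
  have hcv : Commute w v := hwv
  calc u ^ a * v ^ b * w ^ c * (u ^ a' * v ^ b' * w ^ c')
      = u ^ a * v ^ b * (w ^ c * u ^ a') * v ^ b' * w ^ c' := by simp only [mul_assoc]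
    _ = u ^ a * v ^ b * (u ^ a' * w ^ c) * v ^ b' * w ^ c' := by rw [(hcu.pow_pow c a').eq]
    _ = u ^ a * (v ^ b * u ^ a') * w ^ c * v ^ b' * w ^ c' := by simp only [mul_assoc]
    _ = u ^ a * (u ^ a' * v ^ b * w ^ (a' * b)) * w ^ c * v ^ b' * w ^ c' := by
      rw [heis_two hwu hwv hvu]
    _ = u ^ a * u ^ a' * v ^ b * (w ^ (a' * b) * w ^ c * v ^ b') * w ^ c' := by
      simp only [mul_assoc]
    _ = u ^ a * u ^ a' * v ^ b * (v ^ b' * (w ^ (a' * b) * w ^ c)) * w ^ c' := by
      have hc2 : Commute (w ^ (a' * b) * w ^ c) (v ^ b') :=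
        (hcv.pow_pow _ _).mul_left (hcv.pow_pow _ _)
      rw [hc2.eq]
    _ = u ^ (a + a') * v ^ (b + b') * w ^ (c + c' + a' * b) := by
      rw [pow_add u, pow_add v, show c + c' + a' * b = a' * b + c + c' by ring, pow_add w,
        pow_add w]
      simp only [mul_assoc]

theorem pow_congr_mod {z : G} {n : ℕ} (hz : z ^ n = 1) {i j : ℕ} (h : i % n = j % n) :
    z ^ i = z ^ j := by
  rw [pow_eq_pow_mod i hz, pow_eq_pow_mod j hz, h]

/-- The homomorphism from the group of order twenty-seven. -/
def heisHom {u v w : G} (hu : u ^ 3 = 1) (hv : v ^ 3 = 1) (hw : w ^ 3 = 1)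
    (hwu : w * u = u * w) (hwv : w * v = v * w) (hvu : v * u = u * v * w) : H27 →* G where
  toFun x := u ^ x.a.val * v ^ x.b.val * w ^ x.c.val
  map_one' := by
    rw [H27.one_a, H27.one_b, H27.one_c, ZMod.val_zero, pow_zero, pow_zero, pow_zero, one_mul,
      one_mul]
  map_mul' x y := by
    have e1 : (x * y).a.val % 3 = (x.a.val + y.a.val) % 3 := by
      rw [H27.mul_a, ZMod.val_add, Nat.mod_mod]
    have e2 : (x * y).b.val % 3 = (x.b.val + y.b.val) % 3 := by
      rw [H27.mul_b, ZMod.val_add, Nat.mod_mod]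
    have e3 : (x * y).c.val % 3 = (x.c.val + y.c.val + y.a.val * x.b.val) % 3 := by
      rw [H27.mul_c, ZMod.val_add, Nat.mod_mod, ZMod.val_add, ZMod.val_mul]
      omega
    have h := heis_mul hwu hwv hvu x.a.val x.b.val x.c.val y.a.val y.b.val y.c.val
    rw [pow_congr_mod hu e1, pow_congr_mod hv e2, pow_congr_mod hw e3]
    exact h.symm

theorem heisHom_apply {u v w : G} (hu : u ^ 3 = 1) (hv : v ^ 3 = 1) (hw : w ^ 3 = 1)
    (hwu : w * u = u * w) (hwv : w * v = v * w) (hvu : v * u = u * v * w) (x : H27) :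
    heisHom hu hv hw hwu hwv hvu x = u ^ x.a.val * v ^ x.b.val * w ^ x.c.val := rfl

variable (Ω : Type*) [MulAction G Ω] [Fintype Ω]

/-- Burnside's lemma for the group of order twenty-seven all of whose nontrivial elements have the
same number of fixed points. -/
theorem heis_dvd {u v w : G} (hu : u ^ 3 = 1) (hv : v ^ 3 = 1) (hw : w ^ 3 = 1)
    (hwu : w * u = u * w) (hwv : w * v = v * w) (hvu : v * u = u * v * w) (f : ℕ)
    (hf : ∀ a b c : ZMod 3, (a ≠ 0 ∨ b ≠ 0 ∨ c ≠ 0) →
      fx Ω (u ^ a.val * v ^ b.val * w ^ c.val) = f) :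
    27 ∣ Fintype.card Ω + 26 * f := by
  classical
  have h := burnside_dvd Ω (heisHom hu hv hw hwu hwv hvu)
  rw [H27.card_eq] at h
  have hsum : ∑ x : H27, fx Ω (heisHom hu hv hw hwu hwv hvu x) = Fintype.card Ω + 26 * f := by
    have : ∀ x ∈ Finset.univ.erase (1 : H27), fx Ω (heisHom hu hv hw hwu hwv hvu x) = f := by
      intro x hx
      rw [Finset.mem_erase] at hx
      rw [heisHom_apply]
      apply hf
      by_contra hcon
      push Not at hcon
      apply hx.1
      ext
      · exact hcon.1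
      · exact hcon.2.1
      · exact hcon.2.2
    have hs : ∑ x ∈ Finset.univ.erase (1 : H27), fx Ω (heisHom hu hv hw hwu hwv hvu x) = 26 * f := by
      rw [Finset.sum_congr rfl this, Finset.sum_const,
        Finset.card_erase_of_mem (Finset.mem_univ _), Finset.card_univ, H27.card_eq, smul_eq_mul]
    rw [← Finset.add_sum_erase Finset.univ _ (Finset.mem_univ (1 : H27)), map_one, fx_one, hs]
  rw [hsum] at h
  exact h

end Heis

section Abelian

variable {G : Type*} [Group G]

/-- The homomorphism from the elementary abelian group of order twenty-five. -/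
def abHom {x y : G} (hx : x ^ 5 = 1) (hy : y ^ 5 = 1) (hxy : x * y = y * x) :
    Multiplicative (ZMod 5 × ZMod 5) →* G where
  toFun s := x ^ (Multiplicative.toAdd s).1.val * y ^ (Multiplicative.toAdd s).2.val
  map_one' := by simp
  map_mul' s t := by
    have hc : Commute x y := hxy
    have e1 : (Multiplicative.toAdd (s * t)).1.val % 5 =
        ((Multiplicative.toAdd s).1.val + (Multiplicative.toAdd t).1.val) % 5 := by
      rw [toAdd_mul, Prod.fst_add, ZMod.val_add, Nat.mod_mod]
    have e2 : (Multiplicative.toAdd (s * t)).2.val % 5 =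
        ((Multiplicative.toAdd s).2.val + (Multiplicative.toAdd t).2.val) % 5 := by
      rw [toAdd_mul, Prod.snd_add, ZMod.val_add, Nat.mod_mod]
    rw [pow_congr_mod hx e1, pow_congr_mod hy e2, pow_add, pow_add]
    calc x ^ (Multiplicative.toAdd s).1.val * x ^ (Multiplicative.toAdd t).1.val *
          (y ^ (Multiplicative.toAdd s).2.val * y ^ (Multiplicative.toAdd t).2.val)
        = x ^ (Multiplicative.toAdd s).1.val * (x ^ (Multiplicative.toAdd t).1.val *
          y ^ (Multiplicative.toAdd s).2.val) * y ^ (Multiplicative.toAdd t).2.val := by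
          simp only [mul_assoc]
      _ = x ^ (Multiplicative.toAdd s).1.val * (y ^ (Multiplicative.toAdd s).2.val *
          x ^ (Multiplicative.toAdd t).1.val) * y ^ (Multiplicative.toAdd t).2.val := by
          rw [(hc.pow_pow _ _).eq]
      _ = _ := by simp only [mul_assoc]

theorem abHom_apply {x y : G} (hx : x ^ 5 = 1) (hy : y ^ 5 = 1) (hxy : x * y = y * x)
    (s : Multiplicative (ZMod 5 × ZMod 5)) :
    abHom hx hy hxy s =
      x ^ (Multiplicative.toAdd s).1.val * y ^ (Multiplicative.toAdd s).2.val := rfl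

theorem card_ab : Fintype.card (Multiplicative (ZMod 5 × ZMod 5)) = 5 ^ 2 := by
  rw [Fintype.card_multiplicative, Fintype.card_prod, ZMod.card]
  norm_num

variable (Ω : Type*) [MulAction G Ω] [Fintype Ω]

theorem ab_sum {x y : G} (hx : x ^ 5 = 1) (hy : y ^ 5 = 1) (hxy : x * y = y * x) (f : ℕ)
    (hf : ∀ i j : ZMod 5, (i ≠ 0 ∨ j ≠ 0) → fx Ω (x ^ i.val * y ^ j.val) = f) :
    ∑ s : Multiplicative (ZMod 5 × ZMod 5), fx Ω (abHom hx hy hxy s) =
      Fintype.card Ω + 24 * f := by
  classical
  have : ∀ s ∈ Finset.univ.erase (1 : Multiplicative (ZMod 5 × ZMod 5)),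
      fx Ω (abHom hx hy hxy s) = f := by
    intro s hs
    rw [Finset.mem_erase] at hs
    rw [abHom_apply]
    apply hf
    by_contra hcon
    push Not at hcon
    apply hs.1
    have : Multiplicative.toAdd s = 0 := Prod.ext hcon.1 hcon.2
    exact this
  have hs : ∑ s ∈ Finset.univ.erase (1 : Multiplicative (ZMod 5 × ZMod 5)),
      fx Ω (abHom hx hy hxy s) = 24 * f := by
    rw [Finset.sum_congr rfl this, Finset.sum_const,
      Finset.card_erase_of_mem (Finset.mem_univ _), Finset.card_univ, card_ab, smul_eq_mul]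
    norm_num
  rw [← Finset.add_sum_erase Finset.univ _
    (Finset.mem_univ (1 : Multiplicative (ZMod 5 × ZMod 5))), map_one, fx_one, hs]

/-- Burnside's lemma for the elementary abelian group of order twenty-five. -/
theorem ab_dvd {x y : G} (hx : x ^ 5 = 1) (hy : y ^ 5 = 1) (hxy : x * y = y * x) (f : ℕ)
    (hf : ∀ i j : ZMod 5, (i ≠ 0 ∨ j ≠ 0) → fx Ω (x ^ i.val * y ^ j.val) = f) :
    25 ∣ Fintype.card Ω + 24 * f := by
  have h := burnside_dvd Ω (abHom hx hy hxy)
  rw [ab_sum Ω hx hy hxy f hf, card_ab] at h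
  exact h

/-- If no point is fixed by the whole group, there are few fixed points. -/
theorem ab_le {x y : G} (hx : x ^ 5 = 1) (hy : y ^ 5 = 1) (hxy : x * y = y * x) (f : ℕ)
    (hf : ∀ i j : ZMod 5, (i ≠ 0 ∨ j ≠ 0) → fx Ω (x ^ i.val * y ^ j.val) = f)
    (hno : ∀ ω : Ω, ¬ (x • ω = ω ∧ y • ω = ω)) :
    Fintype.card Ω + 24 * f ≤ 5 * Fintype.card Ω := by
  rw [← ab_sum Ω hx hy hxy f hf, sum_fx_eq]
  have hb : ∀ ω : Ω, Nat.card {a : Multiplicative (ZMod 5 × ZMod 5) // abHom hx hy hxy a • ω = ω}
      ≤ 5 := by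
    intro ω
    rcases stab_card_le Ω (abHom hx hy hxy) ω Nat.prime_five card_ab with h | h
    · exfalso
      apply hno ω
      constructor
      · have := h (Multiplicative.ofAdd ((1 : ZMod 5), (0 : ZMod 5)))
        rw [abHom_apply, toAdd_ofAdd] at this
        have e1 : ((1 : ZMod 5)).val = 1 := rfl
        have e0 : ((0 : ZMod 5)).val = 0 := rfl
        rw [e1, e0, pow_one, pow_zero, mul_one] at this
        exact this
      · have := h (Multiplicative.ofAdd ((0 : ZMod 5), (1 : ZMod 5)))
        rw [abHom_apply, toAdd_ofAdd] at this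
        have e1 : ((1 : ZMod 5)).val = 1 := rfl
        have e0 : ((0 : ZMod 5)).val = 0 := rfl
        rw [e1, e0, pow_one, pow_zero, one_mul] at this
        exact this
    · exact h
  calc ∑ ω : Ω, Nat.card {a : Multiplicative (ZMod 5 × ZMod 5) // abHom hx hy hxy a • ω = ω}
      ≤ ∑ _ω : Ω, 5 := Finset.sum_le_sum (fun ω _ => hb ω)
    _ = 5 * Fintype.card Ω := by
      rw [Finset.sum_const, Finset.card_univ, smul_eq_mul, mul_comm]

end Abelian

end Cfsg.Agent.Helper26.TT
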