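import Mathlib
import Cfsg.Agent.Lib.Helper26.TwoTransB

/-!
# A criterion excluding doubly transitive actions of a group of order 17971200
-/

set_option autoImplicit false

namespace Cfsg.Agent.Helper26.TT

open MulAction

section Frob

variable {G : Type*} [Group G] (Ω : Type*) [MulAction G Ω] [Fintype Ω]

/-- The number of fixed points of an element of prime order. -/
theorem fx_modEq {p : ℕ} [Fact p.Prime] (g : G) (hg : g ^ p = 1) :
    fx Ω g ≡ Fintype.card Ω [MOD p] := by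
  classical
  have hσ : (MulAction.toPermHom G Ω g) ^ p ^ 1 = 1 := by
    rw [pow_one, ← map_pow, hg, map_one]
  have h := Equiv.Perm.card_compl_support_modEq hσ
  have e : fx Ω g = (MulAction.toPermHom G Ω g).supportᶜ.card := by
    rw [fx_eq_card_filter]
    congr 1
    ext ω
    simp [Equiv.Perm.mem_support]
  rw [e]
  exact h

theorem pow_smul_eq {g : G} {ω : Ω} (h : g • ω = ω) (k : ℕ) : g ^ k • ω = ω := by
  induction k with
  | zero => simp
  | succ k ih => rw [pow_succ, mul_smul, h, ih]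

/-- An element of order three normalizing a group of order thirteen fixes a point among
twenty-seven. -/
theorem exists_fixed_of_normalizes [FaithfulSMul G Ω] (g z : G) (hg : g ^ 13 = 1) (hg1 : g ≠ 1)
    (hz : z ^ 3 = 1) (k : ℕ) (hzg : z * g * z⁻¹ = g ^ k) (hn : Fintype.card Ω = 27) :
    ∃ ω : Ω, z • ω = ω := by
  classical
  have : Fact (Nat.Prime 13) := ⟨by norm_num⟩
  have : Fact (Nat.Prime 3) := ⟨by norm_num⟩
  have h13 := fx_modEq Ω g hg
  have hle := fx_le Ω g
  have hne : fx Ω g ≠ Fintype.card Ω := fun h => hg1 (eq_one_of_fx_eq_card Ω g h)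
  rw [hn] at h13 hle hne
  unfold Nat.ModEq at h13
  have h3 : ¬ 3 ∣ fx Ω g := by omega
  have hpres : ∀ ω : Ω, g • ω = ω → g • z⁻¹ • ω = z⁻¹ • ω := by
    intro ω hω
    have e : g * z⁻¹ = z⁻¹ * (z * g * z⁻¹) := by group
    rw [← mul_smul, e, hzg, mul_smul, pow_smul_eq Ω hω]
  have hz3 : ∀ ω : Ω, z⁻¹ • z⁻¹ • z⁻¹ • ω = ω := by
    intro ω
    rw [← mul_smul, ← mul_smul]
    have : z⁻¹ * z⁻¹ * z⁻¹ = 1 := by
      have : z⁻¹ * z⁻¹ * z⁻¹ = (z ^ 3)⁻¹ := by group
      rw [this, hz, inv_one]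
    rw [this, one_smul]
  let S := {ω : Ω // g • ω = ω}
  let σ : Equiv.Perm S :=
    { toFun := fun ω => ⟨z⁻¹ • ω.1, hpres _ ω.2⟩
      invFun := fun ω => ⟨z⁻¹ • z⁻¹ • ω.1, hpres _ (hpres _ ω.2)⟩
      left_inv := fun ω => Subtype.ext (hz3 ω.1)
      right_inv := fun ω => Subtype.ext (hz3 ω.1) }
  have hσ : σ ^ 3 ^ 1 = 1 := by
    ext ω
    rw [pow_one]
    show (σ (σ (σ ω))).1 = ω.1
    exact hz3 ω.1
  have hcard : Fintype.card S = fx Ω g := by
    rw [fx_eq_card_filter, Fintype.card_subtype]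
  have hS : ¬ 3 ∣ Fintype.card S := by rw [hcard]; exact h3
  obtain ⟨a, ha⟩ := Equiv.Perm.exists_fixed_point_of_prime hS hσ
  refine ⟨a.1, ?_⟩
  have h1 : z⁻¹ • a.1 = a.1 := congrArg Subtype.val ha
  calc z • a.1 = z • z⁻¹ • a.1 := by rw [h1]
    _ = a.1 := by rw [smul_inv_smul]

end Frob

set_option maxRecDepth 100000 in
theorem cand_aux : ∀ n < 4241, 3 ≤ n → n * (n - 1) ∣ 17971200 →
    n < 27 ∨ n = 27 ∨ n = 40 ∨ n = 65 := by decide +kernel

theorem cand (n : ℕ) (h3 : 3 ≤ n) (hd : n * (n - 1) ∣ 17971200) :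
    n < 27 ∨ n = 27 ∨ n = 40 ∨ n = 65 := by
  have hle : n * (n - 1) ≤ 17971200 := Nat.le_of_dvd (by norm_num) hd
  have hn : n < 4241 := by
    by_contra hcon
    push Not at hcon
    have h1 : 4241 * 4240 ≤ n * (n - 1) := Nat.mul_le_mul hcon (by omega)
    omega
  exact cand_aux n hn h3 hd

/-- The criterion. -/
theorem no_two_trans {G : Type*} [Group G] [Finite G] (hN : Nat.card G = 17971200)
    {x y : G} (hx : x ^ 5 = 1) (hy : y ^ 5 = 1) (hxy : x * y = y * x) (hx1 : x ≠ 1)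
    (hA : ∀ i j : ZMod 5, (i ≠ 0 ∨ j ≠ 0) → ∃ t : G, x ^ i.val * y ^ j.val = t * x * t⁻¹)
    {u v w : G} (hu : u ^ 3 = 1) (hv : v ^ 3 = 1) (hw : w ^ 3 = 1) (hw1 : w ≠ 1)
    (hwu : w * u = u * w) (hwv : w * v = v * w) (hvu : v * u = u * v * w)
    (hC : ∀ a b c : ZMod 3, (a ≠ 0 ∨ b ≠ 0 ∨ c ≠ 0) →
      ∃ t : G, u ^ a.val * v ^ b.val * w ^ c.val = t * w * t⁻¹)
    {g z : G} (hg : g ^ 13 = 1) (hg1 : g ≠ 1) (hz : z ^ 3 = 1) (hz1 : z ≠ 1) (k : ℕ)
    (hzg : z * g * z⁻¹ = g ^ k)
    {Ω : Type*} [Fintype Ω] [MulAction G Ω] [FaithfulSMul G Ω] (h3 : 3 ≤ Fintype.card Ω) :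
    ¬ IsMultiplyPretransitive G Ω 2 := by
  classical
  intro h2
  have : IsPretransitive G Ω := isPretransitive_of_is_two_pretransitive (h2 := h2)
  have hcardΩ : Nat.card Ω = Fintype.card Ω := Nat.card_eq_fintype_card
  -- the order of a stabilizer
  have hstab : ∀ ω : Ω, Nat.card (stabilizer G ω) * Fintype.card Ω = 17971200 := by
    intro ω
    rw [← hN, ← hcardΩ, ← MulAction.index_stabilizer_of_transitive G ω]
    exact Subgroup.card_mul_index _
  -- the degree
  have hdiv : Fintype.card Ω * (Fintype.card Ω - 1) ∣ 17971200 := by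
    have : Nontrivial Ω := Fintype.one_lt_card_iff_nontrivial.1 (by omega)
    obtain ⟨α, β, hne⟩ := exists_pair_ne Ω
    have hs : ({α, β} : Set Ω).ncard = 2 := Set.ncard_pair hne
    have h := h2.index_of_fixingSubgroup_mul hs
    rw [hcardΩ] at h
    have hfac : (Fintype.card Ω).factorial =
        Fintype.card Ω * (Fintype.card Ω - 1) * (Fintype.card Ω - 2).factorial := by
      obtain ⟨m, hm⟩ : ∃ m, Fintype.card Ω = m + 2 := ⟨Fintype.card Ω - 2, by omega⟩
      rw [hm]
      simp only [Nat.add_sub_cancel, Nat.factorial_succ]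
      have : m + 2 - 1 = m + 1 := by omega
      rw [this]
      ring
    rw [hfac] at h
    have hidx := Nat.eq_of_mul_eq_mul_right (Nat.factorial_pos _) h
    rw [← hidx, ← hN]
    exact Subgroup.index_dvd_card _
  rcases cand _ h3 hdiv with hlt | h27 | h40 | h65
  · -- small degrees
    have hfC : ∀ a b c : ZMod 3, (a ≠ 0 ∨ b ≠ 0 ∨ c ≠ 0) →
        fx Ω (u ^ a.val * v ^ b.val * w ^ c.val) = fx Ω w := by
      intro a b c h
      obtain ⟨t, ht⟩ := hC a b c h
      rw [ht, fx_conj]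
    have h1 := heis_dvd Ω hu hv hw hwu hwv hvu (fx Ω w) hfC
    have h2' := fx_le Ω w
    have h3' : fx Ω w = Fintype.card Ω := by omega
    exact hw1 (eq_one_of_fx_eq_card Ω w h3')
  · -- degree twenty-seven
    obtain ⟨ω, hω⟩ := exists_fixed_of_normalizes Ω g z hg hg1 hz k hzg h27
    have hmem : z ∈ stabilizer G ω := hω
    have hord : orderOf z = 3 := orderOf_eq_prime hz hz1
    have hdvd := Subgroup.orderOf_dvd_natCard (stabilizer G ω) hmem
    have hs := hstab ω
    rw [hord] at hdvd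
    rw [h27] at hs
    omega
  all_goals
    have hfA : ∀ i j : ZMod 5, (i ≠ 0 ∨ j ≠ 0) → fx Ω (x ^ i.val * y ^ j.val) = fx Ω x := by
      intro i j h
      obtain ⟨t, ht⟩ := hA i j h
      rw [ht, fx_conj]
    have h1 := ab_dvd Ω hx hy hxy (fx Ω x) hfA
    have hinj : Function.Injective (abHom hx hy hxy) := by
      rw [injective_iff_map_eq_one]
      intro s hs
      by_contra hcon
      have hne : (Multiplicative.toAdd s).1 ≠ 0 ∨ (Multiplicative.toAdd s).2 ≠ 0 := by
        by_contra hc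
        push Not at hc
        apply hcon
        have : Multiplicative.toAdd s = 0 := Prod.ext hc.1 hc.2
        exact this
      obtain ⟨t, ht⟩ := hA _ _ hne
      rw [abHom_apply, ht] at hs
      apply hx1
      have : x = t⁻¹ * (t * x * t⁻¹) * t := by group
      rw [this, hs]
      group
    have hno : ∀ ω : Ω, ¬ (x • ω = ω ∧ y • ω = ω) := by
      intro ω hω
      have hle : (abHom hx hy hxy).range ≤ stabilizer G ω := by
        rintro _ ⟨s, rfl⟩
        rw [abHom_apply, mem_stabilizer_iff, mul_smul, pow_smul_eq Ω hω.2, pow_smul_eq Ω hω.1]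
      have hc : Nat.card (abHom hx hy hxy).range = 25 := by
        rw [Nat.card_congr (MonoidHom.ofInjective hinj).symm.toEquiv, Nat.card_eq_fintype_card,
          card_ab]
        norm_num
      have hdvd := Subgroup.card_dvd_of_le hle
      rw [hc] at hdvd
      have hs := hstab ω
      first
        | rw [h40] at hs; omega
        | rw [h65] at hs; omega
    have h2' := ab_le Ω hx hy hxy (fx Ω x) hfA hno
    first
      | rw [h40] at h1 h2'; omega
      | rw [h65] at h1 h2'; omega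

end Cfsg.Agent.Helper26.TT
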