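import Mathlib
import Cfsg.Agent.Lib.Helper26.TitsTTFacts
import Cfsg.Agent.Lib.Helper26.TwoTransC

/-!
# The Tits group has no doubly transitive action
-/

set_option autoImplicit false

namespace Cfsg.Agent.Helper26.TitsTT

open Cfsg Cfsg.Lie Cfsg.Agent.Helper9.TitsDerived Cfsg.Agent.Helper9.TitsBM

theorem val_ne_zero_of {n : ℕ} [NeZero n] {a : ZMod n} (h : a ≠ 0) : a.val ≠ 0 := by
  intro e
  exact h ((ZMod.val_eq_zero a).1 e)

theorem hasMat_X : HasMat (el LX) MX := (hasMat_el LX).congr ev_X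
theorem hasMat_Y : HasMat (el LY) MY := (hasMat_el LY).congr ev_Y
theorem hasMat_U : HasMat (el LU) MU := (hasMat_el LU).congr ev_U
theorem hasMat_V : HasMat (el LV) MV := (hasMat_el LV).congr ev_V
theorem hasMat_W : HasMat (el LB) MW := (hasMat_el LB).congr ev_W

/-- The Tits group has no faithful doubly transitive action on at least three points. -/
theorem tits_no_two_trans {Ω : Type*} [Fintype Ω] [MulAction Cfsg.Lie.TitsGroup Ω]
    [FaithfulSMul Cfsg.Lie.TitsGroup Ω] (hΩ : 3 ≤ Fintype.card Ω) :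
    ¬ MulAction.IsMultiplyPretransitive Cfsg.Lie.TitsGroup Ω 2 := by
  have hN : Nat.card Cfsg.Lie.TitsGroup = 17971200 := card_commutator
  have hfin : Finite Cfsg.Lie.TitsGroup := Nat.finite_of_card_ne_zero (by rw [hN]; norm_num)
  have hx : el LX ^ 5 = 1 := ((hasMat_X.pow 5).congr chk_x5).eq hasMat_one
  have hy : el LY ^ 5 = 1 := ((hasMat_Y.pow 5).congr chk_y5).eq hasMat_one
  have hxy : el LX * el LY = el LY * el LX :=
    ((hasMat_X.mul hasMat_Y).congr chk_xy).eq (hasMat_Y.mul hasMat_X)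
  have hx1 : el LX ≠ 1 := hasMat_X.ne hasMat_one chk_x1
  have hA : ∀ i j : ZMod 5, (i ≠ 0 ∨ j ≠ 0) →
      ∃ t : Cfsg.Lie.TitsGroup, el LX ^ i.val * el LY ^ j.val = t * el LX * t⁻¹ := by
    intro i j h
    have ht : HasMat (el (T5 i.val j.val)) (N5 i.val j.val) :=
      (hasMat_el _).congr (ev_T5 i.val (ZMod.val_lt i) j.val (ZMod.val_lt j))
    refine ⟨el (T5 i.val j.val), eq_mul_inv_of_mul_eq ?_⟩
    exact ((((hasMat_X.pow i.val).mul (hasMat_Y.pow j.val)).mul ht).congr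
      (chk_A i.val (ZMod.val_lt i) j.val (ZMod.val_lt j)
        (h.imp val_ne_zero_of val_ne_zero_of))).eq (ht.mul hasMat_X)
  have hu : el LU ^ 3 = 1 := ((hasMat_U.pow 3).congr chk_u3).eq hasMat_one
  have hv : el LV ^ 3 = 1 := ((hasMat_V.pow 3).congr chk_v3).eq hasMat_one
  have hw : el LB ^ 3 = 1 := ((hasMat_W.pow 3).congr chk_w3).eq hasMat_one
  have hw1 : el LB ≠ 1 := hasMat_W.ne hasMat_one chk_w1
  have hwu : el LB * el LU = el LU * el LB :=
    ((hasMat_W.mul hasMat_U).congr chk_wu).eq (hasMat_U.mul hasMat_W)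
  have hwv : el LB * el LV = el LV * el LB :=
    ((hasMat_W.mul hasMat_V).congr chk_wv).eq (hasMat_V.mul hasMat_W)
  have hvu : el LV * el LU = el LU * el LV * el LB :=
    ((hasMat_V.mul hasMat_U).congr chk_vu).eq ((hasMat_U.mul hasMat_V).mul hasMat_W)
  have hC : ∀ a b c : ZMod 3, (a ≠ 0 ∨ b ≠ 0 ∨ c ≠ 0) →
      ∃ t : Cfsg.Lie.TitsGroup,
        el LU ^ a.val * el LV ^ b.val * el LB ^ c.val = t * el LB * t⁻¹ := by
    intro a b c h
    have ht : HasMat (el (T3 a.val b.val c.val)) (N3 a.val b.val c.val) :=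
      (hasMat_el _).congr (ev_T3 a.val (ZMod.val_lt a) b.val (ZMod.val_lt b) c.val (ZMod.val_lt c))
    refine ⟨el (T3 a.val b.val c.val), eq_mul_inv_of_mul_eq ?_⟩
    exact (((((hasMat_U.pow a.val).mul (hasMat_V.pow b.val)).mul (hasMat_W.pow c.val)).mul ht).congr
      (chk_C a.val (ZMod.val_lt a) b.val (ZMod.val_lt b) c.val (ZMod.val_lt c)
        (h.imp val_ne_zero_of (fun h' => h'.imp val_ne_zero_of val_ne_zero_of)))).eq
      (ht.mul hasMat_W)
  have hg : el LG ^ 13 = 1 := by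
    rw [← el_pw, ← el_nil]
    exact el_eq chk_g13
  have hg1 : el LG ≠ 1 := by
    rw [← el_nil]
    exact el_ne chk_g1
  have hz : el LZ ^ 3 = 1 := by
    rw [← el_pw, ← el_nil]
    exact el_eq chk_z3
  have hz1 : el LZ ≠ 1 := by
    rw [← el_nil]
    exact el_ne chk_z1
  have hzg : el LZ * el LG * (el LZ)⁻¹ = el LG ^ KZ := by
    rw [← el_cj, ← el_pw]
    exact el_eq chk_zg
  exact TT.no_two_trans hN hx hy hxy hx1 hA hu hv hw hw1 hwu hwv hvu hC hg hg1 hz hz1 KZ hzg hΩ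

end Cfsg.Agent.Helper26.TitsTT
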