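import Mathlib

set_option autoImplicit false

/-!
Averaging over cosets: for a group `G` acting on a commutative group `V` of exponent `p ^ e` and a
subgroup `H` of index prime to `p`, the fixed points of `G` are a direct factor of the fixed points of `H`.
-/

namespace Cfsg.Agent.Helper26

variable {G V : Type*} [Group G] [CommGroup V]

/-- the elements of `V` fixed by the subgroup `H` -/
def fixedBy (ρ : G →* MulAut V) (H : Subgroup G) : Subgroup V where
  carrier := {v | ∀ h ∈ H, ρ h v = v}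
  one_mem' := fun h _ => map_one _
  mul_mem' := fun {a b} ha hb h hh => by
    have h1 : ρ h a = a := ha h hh
    have h2 : ρ h b = b := hb h hh
    show ρ h (a * b) = a * b
    rw [map_mul, h1, h2]
  inv_mem' := fun {a} ha h hh => by
    have h1 : ρ h a = a := ha h hh
    show ρ h a⁻¹ = a⁻¹
    rw [map_inv, h1]

lemma mem_fixedBy (ρ : G →* MulAut V) (H : Subgroup G) (v : V) :
    v ∈ fixedBy ρ H ↔ ∀ h ∈ H, ρ h v = v := Iff.rfl

/-- the product of the translates of `v` over a set of coset representatives -/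
noncomputable def cosetNorm (ρ : G →* MulAut V) (H : Subgroup G) [Fintype (G ⧸ H)] : V →* V where
  toFun v := ∏ q : G ⧸ H, ρ (Quotient.out q) v
  map_one' := by simp
  map_mul' a b := by simp [Finset.prod_mul_distrib]

lemma cosetNorm_apply (ρ : G →* MulAut V) (H : Subgroup G) [Fintype (G ⧸ H)] (v : V) :
    cosetNorm ρ H v = ∏ q : G ⧸ H, ρ (Quotient.out q) v := rfl

lemma cosetNorm_fixed (ρ : G →* MulAut V) (H : Subgroup G) [Fintype (G ⧸ H)] {v : V}
    (hv : v ∈ fixedBy ρ H) (g : G) : ρ g (cosetNorm ρ H v) = cosetNorm ρ H v := by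
  rw [cosetNorm_apply, map_prod]
  have h1 : ∀ q : G ⧸ H, ρ g (ρ (Quotient.out q) v) = ρ (Quotient.out (g • q)) v := by
    intro q
    have hq : (g • q : G ⧸ H) = ((g * Quotient.out q : G) : G ⧸ H) := by
      conv_lhs => rw [← QuotientGroup.out_eq' q]
      rfl
    have h2 : ((Quotient.out (g • q) : G) : G ⧸ H) = ((g * Quotient.out q : G) : G ⧸ H) := by
      rw [QuotientGroup.out_eq', hq]
    rw [QuotientGroup.eq] at h2
    have h3 : g * Quotient.out q = Quotient.out (g • q) * ((Quotient.out (g • q))⁻¹ * (g * Quotient.out q)) := by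
      group
    have h4 : ρ g (ρ (Quotient.out q) v) = ρ (g * Quotient.out q) v := by
      rw [map_mul]; rfl
    rw [h4, h3, map_mul, MulAut.mul_apply, hv _ h2]
  rw [Finset.prod_congr rfl (fun q _ => h1 q)]
  exact Equiv.prod_comp (MulAction.toPerm g) (fun q : G ⧸ H => ρ (Quotient.out q) v)

lemma cosetNorm_of_fixed (ρ : G →* MulAut V) (H : Subgroup G) [Fintype (G ⧸ H)] {v : V}
    (hv : v ∈ fixedBy ρ ⊤) : cosetNorm ρ H v = v ^ Fintype.card (G ⧸ H) := by
  rw [cosetNorm_apply]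
  have h1 : ∀ q ∈ (Finset.univ : Finset (G ⧸ H)), ρ (Quotient.out q) v = v :=
    fun q _ => hv (Quotient.out q) trivial
  rw [Finset.prod_congr rfl h1, Finset.prod_const, Finset.card_univ]

/-- the fixed points of `G` are a direct factor of the fixed points of a subgroup of index prime to `p` -/
theorem exists_fixed_complement (ρ : G →* MulAut V) (H : Subgroup G) [Fintype (G ⧸ H)] (p e : ℕ)
    (hp : p ≠ 0) (hcop : (Fintype.card (G ⧸ H)).Coprime p) (hV : ∀ v : V, v ^ (p ^ e) = 1) :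
    ∃ K : Subgroup V, K ≤ fixedBy ρ H ∧ fixedBy ρ ⊤ ⊓ K = ⊥ ∧ fixedBy ρ ⊤ ⊔ K = fixedBy ρ H := by
  set m := Fintype.card (G ⧸ H) with hm
  have hcop' : m.Coprime (p ^ e) := Nat.Coprime.pow_right e hcop
  have hle : fixedBy ρ ⊤ ≤ fixedBy ρ H := fun v hv h _ => hv h trivial
  refine ⟨fixedBy ρ H ⊓ (cosetNorm ρ H).ker, inf_le_left, ?_, ?_⟩
  · rw [eq_bot_iff]
    rintro v ⟨hvG, -, hvK⟩
    have hvK' : cosetNorm ρ H v = 1 := hvK
    rw [cosetNorm_of_fixed ρ H hvG] at hvK'
    have hvK := hvK'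
    have h1 := pow_gcd_eq_one.mpr ⟨hvK, hV v⟩
    rw [Nat.Coprime.gcd_eq_one hcop', pow_one] at h1
    exact Subgroup.mem_bot.mpr h1
  · apply le_antisymm (sup_le hle inf_le_left)
    intro v hv
    obtain ⟨m', -, hm'⟩ := Nat.exists_mul_mod_eq_of_coprime 1 hcop' (pow_ne_zero e hp)
    set w := (cosetNorm ρ H v) ^ m' with hw
    have hNfix : cosetNorm ρ H v ∈ fixedBy ρ ⊤ := fun g _ => cosetNorm_fixed ρ H hv g
    have hwG : w ∈ fixedBy ρ ⊤ := Subgroup.pow_mem _ hNfix m'
    have hwm : w ^ m = cosetNorm ρ H v := by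
      rw [hw, ← pow_mul, mul_comm, pow_eq_pow_mod (m * m') (hV _), hm',
        ← pow_eq_pow_mod 1 (hV _), pow_one]
    have hK : w⁻¹ * v ∈ fixedBy ρ H ⊓ (cosetNorm ρ H).ker := by
      refine ⟨Subgroup.mul_mem _ (Subgroup.inv_mem _ (hle hwG)) hv, ?_⟩
      show cosetNorm ρ H (w⁻¹ * v) = 1
      rw [map_mul, map_inv, cosetNorm_of_fixed ρ H hwG, hwm, inv_mul_cancel]
    have : v = w * (w⁻¹ * v) := by group
    rw [this]
    exact Subgroup.mul_mem _ (Subgroup.mem_sup_left hwG) (Subgroup.mem_sup_right hK)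

end Cfsg.Agent.Helper26
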