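import Mathlib
import Cfsg.Agent.Lib.Helper6.UniDefs

/-!
# S2314 farm-out, piece UNI-STSUM, core (helper26): the sum of the relative Steinberg function over the
elements of `p`-power order of `P_A`, with UNI-STU, UNI-CLASSA, UNI-SYLCONJ as hypotheses.
-/

set_option autoImplicit false
set_option linter.unusedSectionVars false
set_option linter.unusedVariables false

namespace Cfsg.Agent.Helper6.Uni

open Cfsg Cfsg.Agent.Helper2.WordLen Cfsg.Agent.Helper2.BN Cfsg.Agent.Helper17.BNCox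

variable {G : Type*} [Group G] {P : Cfsg.BNPair G} {p : ℕ}

/-- elements of a `p`-group are `p`-elements -/
theorem uni_stsum_isPE_of_mem (D : SplitData P p) [Fact p.Prime] {u : G} (hu : u ∈ D.U) : IsPE p u := by
  obtain ⟨k, hk⟩ := (IsPGroup.iff_orderOf.mp D.U_pgroup) ⟨u, hu⟩
  exact ⟨k, by rw [← hk]; exact (Subgroup.orderOf_mk u hu).symm⟩

theorem uni_stsum_R_le_U (D : SplitData P p) (A : Finset P.S) : D.R A ≤ D.U :=
  fun x hx => ((D.R_mem A x).mp hx).1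

theorem uni_stsum_R_le_par (D : SplitData P p) (A : Finset P.S) :
    D.R A ≤ par P (↑A : Set P.S) :=
  fun x hx => B_le_par P _ (D.U_le (uni_stsum_R_le_U D A hx))

/-- core of UNI-STSUM -/
theorem uni_stsum_core [Finite G] [Fact p.Prime] (D : SplitData P p) (A : Finset P.S)
    (hSTU : ∀ (u : G) (hu : u ∈ D.U),
      (u ∈ D.R A → StA P A ⟨u, B_le_par P _ (D.U_le hu)⟩ * (Nat.card (Hn P (D.n A)) : ℂ)
        = (Nat.card P.B : ℂ)) ∧
      (u ∉ D.R A → StA P A ⟨u, B_le_par P _ (D.U_le hu)⟩ * (Nat.card (Hn P (D.n A)) : ℂ) = 0))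
    (hCL : ∀ x g : ↥(par P (↑A : Set P.S)), StA P A (x * g * x⁻¹) = StA P A g)
    (hSYL : ∀ g : G, g ∈ par P (↑A : Set P.S) → IsPE p g →
      ∃ x ∈ par P (↑A : Set P.S), x * g * x⁻¹ ∈ D.U) :
    (∑ᶠ g : {g : ↥(par P (↑A : Set P.S)) // IsPE p g}, StA P A (g : ↥(par P (↑A : Set P.S)))) *
      (Nat.card (Hn P (D.n A)) : ℂ) = (Nat.card (D.R A) : ℂ) * (Nat.card P.B : ℂ) := by
  classical
  have : Fintype {g : ↥(par P (↑A : Set P.S)) // IsPE p g} := Fintype.ofFinite _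
  -- pointwise evaluation
  have step1 : ∀ g : {g : ↥(par P (↑A : Set P.S)) // IsPE p g},
      StA P A (g : ↥(par P (↑A : Set P.S))) * (Nat.card (Hn P (D.n A)) : ℂ) =
        if (((g : ↥(par P (↑A : Set P.S))) : G) ∈ D.R A) then (Nat.card P.B : ℂ) else 0 := by
    rintro ⟨⟨g0, hg0⟩, hpe⟩
    have hpe0 : IsPE p g0 := by
      obtain ⟨k, hk⟩ := hpe
      exact ⟨k, by rw [← hk]; exact (Subgroup.orderOf_mk g0 hg0).symm⟩
    obtain ⟨x, hx, hxu⟩ := hSYL g0 hg0 hpe0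
    have hconj := hCL ⟨x, hx⟩ ⟨g0, hg0⟩
    have heq : (⟨x, hx⟩ * ⟨g0, hg0⟩ * (⟨x, hx⟩ : ↥(par P (↑A : Set P.S)))⁻¹) =
        (⟨x * g0 * x⁻¹, B_le_par P _ (D.U_le hxu)⟩ : ↥(par P (↑A : Set P.S))) := by
      apply Subtype.ext
      simp
    rw [heq] at hconj
    have hiff : x * g0 * x⁻¹ ∈ D.R A ↔ g0 ∈ D.R A := by
      constructor
      · intro h
        have h' := D.R_norm A x⁻¹ (inv_mem hx) _ h
        have : x⁻¹ * (x * g0 * x⁻¹) * x⁻¹⁻¹ = g0 := by group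
        rwa [this] at h'
      · intro h
        exact D.R_norm A x hx _ h
    show StA P A ⟨g0, hg0⟩ * _ = if g0 ∈ D.R A then _ else _
    rw [← hconj]
    by_cases hR : g0 ∈ D.R A
    · rw [if_pos hR]
      exact (hSTU _ hxu).1 (hiff.mpr hR)
    · rw [if_neg hR]
      exact (hSTU _ hxu).2 (fun h => hR (hiff.mp h))
  rw [finsum_eq_sum_of_fintype, Finset.sum_mul, Finset.sum_congr rfl (fun g _ => step1 g),
    ← Finset.sum_filter, Finset.sum_const, nsmul_eq_mul]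
  congr 1
  norm_cast
  rw [← Fintype.card_subtype, ← Nat.card_eq_fintype_card]
  refine Nat.card_congr ?_
  refine
    { toFun := fun g => ⟨((g.1 : {g : ↥(par P (↑A : Set P.S)) // IsPE p g}) : ↥(par P (↑A : Set P.S))).1, g.2⟩
      invFun := fun r => ⟨⟨⟨r.1, uni_stsum_R_le_par D A r.2⟩, ?_⟩, r.2⟩
      left_inv := fun g => by rfl
      right_inv := fun r => by rfl }
  obtain ⟨k, hk⟩ := uni_stsum_isPE_of_mem D (uni_stsum_R_le_U D A r.2)
  exact ⟨k, by rw [← hk]; exact Subgroup.orderOf_mk r.1 _⟩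

end Cfsg.Agent.Helper6.Uni
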