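import Mathlib
import Cfsg.Agent.Lib.Helper6.UniDefs
import Cfsg.Agent.Lib.Helper26.UniSTSUMCore
import Cfsg.Agent.Lib.Helper23.UNICLASS
import Cfsg.Agent.Lib.Helper13.UNISYLCONJ

/-!
# S2314 farm-out, piece UNI-STSUM (helper26): `finsum_StA_eq` with only UNI-STU left as a hypothesis
(UNI-CLASSA = helper23, UNI-SYLCONJ = helper13 are imported).
-/

set_option autoImplicit false
set_option linter.unusedSectionVars false
set_option linter.unusedVariables false

namespace Cfsg.Agent.Helper6.Uni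

open Cfsg Cfsg.Agent.Helper2.WordLen Cfsg.Agent.Helper2.BN Cfsg.Agent.Helper17.BNCox

variable {G : Type*} [Group G] {P : Cfsg.BNPair G} {p : ℕ}

open Classical in
/-- UNI-STSUM given UNI-STU (in the skeleton's form) -/
theorem uni_stsum_of_stu [Finite G] [Fact p.Prime] (D : SplitData P p) (A : Finset P.S)
    (hSTU : ∀ (u : G) (hu : u ∈ D.U),
      StA P A ⟨u, B_le_par P _ (D.U_le hu)⟩ * (Nat.card (Hn P (D.n A)) : ℂ) =
        if u ∈ D.R A then (Nat.card P.B : ℂ) else 0) :
    (∑ᶠ g : {g : ↥(par P (↑A : Set P.S)) // IsPE p g}, StA P A (g : ↥(par P (↑A : Set P.S)))) *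
      (Nat.card (Hn P (D.n A)) : ℂ) = (Nat.card (D.R A) : ℂ) * (Nat.card P.B : ℂ) := by
  apply uni_stsum_core D A
  · intro u hu
    have h := hSTU u hu
    constructor
    · intro hR
      rw [h, if_pos hR]
    · intro hR
      rw [h, if_neg hR]
  · exact StA_conj P A
  · intro g hg hpe
    exact exists_conj_mem_of_isPE p (par P (↑A : Set P.S)) D.U
      (le_trans D.U_le (B_le_par P _)) D.U_pgroup D.U_index g hg hpe

end Cfsg.Agent.Helper6.Uni
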